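import Groth.Agent.AlgSpFin.QsDecent
import Groth.Agent.AlgSpLib.FpqcLocalRep
import Groth.Agent.AlgSpPts.Basic
import Groth.Prelude.Def_AlgSpCov

/-!
Decency is Zariski local; decency of quasi-separated morphisms and of fibre products.
-/

set_option autoImplicit false
set_option backward.isDefEq.respectTransparency.types false

universe u

open CategoryTheory CategoryTheory.Limits AlgebraicGeometry Opposite AlgSp

namespace Groth.Agent.AlgSpFin

open Groth.Agent.AlgSpLib

variable {S : Scheme.{u}}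

/-- A quasi-compact monomorphic representative stays quasi-compact through open immersions covering the target. -/
theorem isDecent_of_open_cover {ι : Type u} {X : Sp S} (hX : IsAlgSpace X) {Xi : ι → Sp S} (j : ∀ i, Xi i ⟶ X)
    (hj : ∀ i, RepWith @IsOpenImmersion (j i)) (hcov : ∀ x : Points X, ∃ i, x ∈ Set.range (Points.map (j i)))
    (hd : ∀ i, IsDecent (Xi i)) : IsDecent X := by
  have hm : ∀ i, Mono (j i) := fun i => mono_of_repWith (hj i) fun _ _ k hk => by
    have : IsOpenImmersion k := hk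
    infer_instance
  intro x
  obtain ⟨i, y, hy⟩ := hcov x
  obtain ⟨p, hp, hpm, -⟩ := hd i y
  have hpx : Points.mk (p.map (j i)) = x := by rw [← Points.map_mk, hp, hy]
  have : Mono (p.map (j i)).toHom := by rw [FieldPt.toHom_map]; exact @mono_comp _ _ _ _ _ _ hpm _ (hm i)
  refine ⟨p.map (j i), hpx, this, ?_⟩
  refine repWith_of_exists fun T g => ?_
  obtain ⟨V, v₁, v₂, sV⟩ := exists_isPullback (hX.representable_from_yon (p.map (j i)).toHom) g
  refine ⟨V, (yon S).map v₁, v₂, sV, ?_⟩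
  choose Tk t gk sT using fun k => (hj k).1 g
  have hto : ∀ k, IsOpenImmersion (t k).left := fun k => (hj k).2 g (gk k) (t k) (sT k)
  let 𝒰 : T.left.OpenCover :=
    { I₀ := ι
      X := fun k => (Tk k).left
      f := fun k => (t k).left
      mem₀ := by
        rw [Scheme.presieve₀_mem_precoverage_iff]
        refine ⟨fun z => ?_, hto⟩
        obtain ⟨k, w, hw⟩ := hcov (Points.ofPt g z)
        obtain ⟨P, hP, hP'⟩ := exists_point_of_isPullback (sT k) w (Points.ofPt (𝟙 _) z)
          (by rw [hw, Points.map_ofPt, Category.id_comp])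
        obtain ⟨s, rfl⟩ := exists_ofScheme P
        refine ⟨k, s, (Points.schemeEquiv T).injective ?_⟩
        refine Eq.trans ?_ hP'
        change Points.ofPt (𝟙 _) ((t k).left s) = _
        rw [← ofPt_comp, Category.comp_id, Points.map_ofPt, Category.id_comp] }
  refine IsZariskiLocalAtTarget.of_openCover 𝒰 fun k => ?_
  obtain ⟨V', u₁, u₂, sV'⟩ : ∃ (V' : Over S) (u₁ : V' ⟶ V) (u₂ : V' ⟶ Tk k), IsPullback u₁ u₂ v₂ (t k) :=
    ⟨_, _, _, IsPullback.of_hasPullback v₂ (t k)⟩
  have sl := left_isPullback sV'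
  suffices QuasiCompact u₂.left by
    refine (MorphismProperty.cancel_left_of_respectsIso @QuasiCompact sl.isoPullback.hom _).1 ?_
    rw [show sl.isoPullback.hom ≫ 𝒰.pullbackHom v₂.left k = u₂.left from sl.isoPullback_hom_snd]
    exact this
  rcases isEmpty_or_nonempty ↥V'.left with hV | ⟨⟨v⟩⟩
  · exact ⟨fun U _ _ => by
      rw [Set.eq_empty_of_isEmpty (u₂.left ⁻¹' U)]
      exact isCompact_empty⟩
  have big := (yon_isPullback sV').paste_horiz sV
  rw [← (sT k).w] at big
  -- the point lies in the `k`-th piece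
  have hx : x = Points.map (j k) (Points.ofPt (gk k) (u₂.left v)) := by
    have h₁ : Points.ofPt ((yon S).map u₁ ≫ (yon S).map v₁ ≫ (p.map (j i)).toHom) v = x := by
      rw [ofPt_comp, ofPt_comp, Points.ofPt_toHom, hpx]
    rw [Points.map_ofPt, ← ofPt_comp, ← h₁, ← big.w, Category.assoc]
  obtain ⟨q, hq, hqm, hqc⟩ := hd k (Points.ofPt (gk k) (u₂.left v))
  have hqx : Points.mk (q.map (j k)) = Points.mk (p.map (j i)) := by rw [← Points.map_mk, hq, ← hx, hpx]
  have : Mono (q.map (j k)).toHom := by rw [FieldPt.toHom_map]; exact @mono_comp _ _ _ _ _ _ hqm _ (hm k)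
  obtain ⟨c, hc, hcd⟩ : ∃ c : (p.map (j i)).pt ⟶ q.pt,
      (yon S).map c ≫ q.toHom ≫ j k = (p.map (j i)).toHom ∧ IsIso ((yon S).map c) := by
    obtain ⟨c, hc, -⟩ := existsUnique_factor_of_mono hX (q.map (j k)) (p.map (j i)) hqx
    obtain ⟨d, hd', -⟩ := existsUnique_factor_of_mono hX (p.map (j i)) (q.map (j k)) hqx.symm
    refine ⟨c, (congrArg ((yon S).map c ≫ ·) (FieldPt.toHom_map (j k) q).symm).trans hc, (yon S).map d, ?_, ?_⟩
    · refine (cancel_mono (p.map (j i)).toHom).1 ?_
      exact (Category.assoc _ _ _).trans ((congrArg ((yon S).map c ≫ ·) hd').trans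
        (hc.trans (Category.id_comp _).symm))
    · refine (cancel_mono (q.map (j k)).toHom).1 ?_
      exact (Category.assoc _ _ _).trans ((congrArg ((yon S).map d ≫ ·) hc).trans
        (hd'.trans (Category.id_comp _).symm))
  have e : ((yon S).map (u₁ ≫ v₁ ≫ c) ≫ q.toHom) ≫ j k = ((yon S).map u₂ ≫ gk k) ≫ j k := by
    rw [Functor.map_comp, Functor.map_comp, Category.assoc, Category.assoc, Category.assoc, Category.assoc,
      hc, ← big.w, Category.assoc]
  have s' : IsPullback ((yon S).map (u₁ ≫ v₁ ≫ c)) ((yon S).map u₂) q.toHom (gk k) := by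
    have hi : IsPullback ((yon S).map (u₁ ≫ v₁ ≫ c)) ((yon S).map u₂) (q.toHom ≫ j k) (gk k ≫ j k) := by
      refine IsPullback.of_iso big (Iso.refl _) (@asIso _ _ _ _ _ hcd) (Iso.refl _) (Iso.refl _) ?_ ?_ ?_ ?_
      · simp [Functor.map_comp]
      · simp
      · rw [asIso_hom, Iso.refl_hom, Category.comp_id]
        exact hc.symm
      · simp
    have w : (yon S).map (u₁ ≫ v₁ ≫ c) ≫ q.toHom = (yon S).map u₂ ≫ gk k := (cancel_mono (j k)).1 e
    exact IsPullback.of_isLimit' ⟨w⟩ (PullbackCone.IsLimit.mk w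
      (fun s => hi.lift s.fst s.snd (by rw [reassoc_of% s.condition]))
      (fun s => hi.lift_fst _ _ _) (fun s => hi.lift_snd _ _ _)
      (fun s m h₁ h₂ => hi.hom_ext (by rw [hi.lift_fst]; exact h₁) (by rw [hi.lift_snd]; exact h₂)))
  exact hqc.2 _ _ u₂ s'

theorem isDecent_of_isPullback {X Y Z P : Sp S} {fst : P ⟶ X} {snd : P ⟶ Z} {f : X ⟶ Y} {g : Z ⟶ Y}
    (hY : IsAlgSpace Y) (sq : IsPullback fst snd f g) (hX : IsDecent X) (hZ : IsDecent Z) : IsDecent P :=
  isDecent_of_fibres fst hX fun p _ a _ sq' =>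
    isDecent_of_representable (a ≫ snd) (MorphismProperty.of_isPullback (P := Representable)
      (sq'.paste_horiz sq.flip).flip (hY.representable_from_yon (p.toHom ≫ f))) hZ

theorem isDecent_of_isQuasiSeparatedSp {X : Sp S} (hX : IsAlgSpace X) (h : IsQuasiSeparatedSp X) : IsDecent X :=
  isDecent_of_isQuasiSeparatedMor hX (AlgSpPts.toBase X) ((AlgSpPts.repWith_diag_iff_toBase X).2 h)

theorem isDecentMor_of_isQuasiSeparatedMor {X Y : Sp S} (hX : IsAlgSpace X) (hY : IsAlgSpace Y) {f : X ⟶ Y}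
    (hf : IsQuasiSeparatedMor f) : IsDecentMor f := fun _ _ g fst snd sq =>
  isDecent_of_isQuasiSeparatedMor (isAlgSpace_of_isPullback sq hX (IsAlgSpace.yon_obj _) hY) snd
    (repWith_diagonal_baseChange sq hf)

theorem exists_point_over {P P' : Sp S} {T T' : Over S} (t : T' ⟶ T) {a : P' ⟶ P} {b : P' ⟶ (yon S).obj T'}
    {snd : P ⟶ (yon S).obj T} (sk : IsPullback a b snd ((yon S).map t)) (x : Points P) (w : ↥T'.left)
    (hw : Points.map snd x = Points.ofPt (𝟙 _) (t.left w)) : x ∈ Set.range (Points.map a) := by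
  obtain ⟨y, hy, -⟩ := exists_point_of_isPullback sk x (Points.ofPt (𝟙 _) w) (by
    rw [hw, Points.map_ofPt, Category.id_comp, ← ofPt_comp, Category.comp_id])
  exact ⟨y, hy⟩

theorem isDecentMor_of_affine {X Y : Sp S} (hX : IsAlgSpace X) (hY : IsAlgSpace Y) (f : X ⟶ Y)
    (h : ∀ (Z : Over S) (g : (yon S).obj Z ⟶ Y) (P : Sp S) (fst : P ⟶ X) (snd : P ⟶ (yon S).obj Z),
      IsAffine Z.left → IsPullback fst snd f g → IsDecent P) : IsDecentMor f := by
  intro T P g fst snd sq
  let Tk : T.left.AffineZariskiSite → Over S := fun O => openOver T O.1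
  let t : ∀ O, Tk O ⟶ T := fun O => openOverι T O.1
  have sk := fun O => IsPullback.of_hasPullback snd ((yon S).map (t O))
  refine isDecent_of_open_cover (isAlgSpace_of_isPullback sq hX (IsAlgSpace.yon_obj T) hY)
    (fun O => pullback.fst snd ((yon S).map (t O))) (fun O => repWith_baseChange (sk O).flip
      ((repWith_yon_map_iff _ _).2 (inferInstanceAs (IsOpenImmersion O.1.ι)))) (fun x => ?_)
    fun O => h (Tk O) _ _ _ _ O.2 ((sk O).paste_horiz sq)
  obtain ⟨z, hz⟩ := exists_ofScheme (Points.map snd x)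
  obtain ⟨W, hW, hzW, -⟩ := exists_isAffineOpen_mem_and_subset (X := T.left) (U := ⊤) (x := z) trivial
  exact ⟨⟨W, hW⟩, exists_point_over (t ⟨W, hW⟩) (sk ⟨W, hW⟩) x ⟨z, hzW⟩ hz.symm⟩

end Groth.Agent.AlgSpFin
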