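import Groth.Agent.AlgSpFin.CodimZero
import Groth.Agent.AlgSpLib.FibreProduct

/-!
Fibres over points of codimension zero.
-/

set_option autoImplicit false
set_option backward.isDefEq.respectTransparency.types false

universe u

open CategoryTheory CategoryTheory.Limits AlgebraicGeometry Opposite AlgSp TopologicalSpace

namespace Groth.Agent.AlgSpFin

open Groth.Agent.AlgSpLib

variable {S : Scheme.{u}}

/-- A fibre of a quasi-compact finite type morphism with only generic points is finite. -/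
theorem finite_fibre_of_forall_eq {U V : Scheme.{u}} (h : U ⟶ V) [QuasiCompact h] [LocallyOfFiniteType h] (v : V)
    (hmax : ∀ u : U, h u = v → ∀ a : U, a ⤳ u → a = u) : (h ⁻¹' {v}).Finite := by
  have : LocallyOfFiniteType (h.fiberToSpecResidueField v) := MorphismProperty.pullback_snd _ _ ‹_›
  have : IsLocallyNoetherian (h.fiber v) := LocallyOfFiniteType.isLocallyNoetherian (h.fiberToSpecResidueField v)
  have : IsNoetherian (h.fiber v) := { }
  have hall : ∀ p : h.fiber v, closure {p} ∈ irreducibleComponents (h.fiber v) := fun p =>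
    GenericFinite.mem_components_of_forall fun a ha => (h.fiberι v).isEmbedding.injective
      (hmax _ (show h (h.fiberι v p) = v from (h.range_fiberι v).le ⟨p, rfl⟩) _ (ha.map (h.fiberι v).continuous))
  have : Finite (h.fiber v) := by
    have := (NoetherianSpace.finite_irreducibleComponents (α := h.fiber v)).to_subtype
    exact Finite.of_injective (fun p => (⟨closure {p}, hall p⟩ : irreducibleComponents (h.fiber v)))
      fun p q e => (inseparable_iff_closure_eq.2 (congrArg Subtype.val e)).eq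
  rw [← Scheme.Hom.range_fiberι h v]
  exact Set.finite_range _

/-- Over a point without proper generalisations: quasi-finite if and only if the fibre has only generic points. -/
theorem quasiFinite_conditions {U V : Scheme.{u}} (h : U ⟶ V) [LocallyOfFiniteType h] {v : V}
    (hv : ∀ a : V, a ⤳ v → a = v) :
    ((∀ u : U, h u = v → ∀ a : U, a ⤳ u → a = u) → ∀ u : U, h u = v →
      ∃ W : U.Opens, u ∈ W ∧ LocallyQuasiFinite (W.ι ≫ h) ∧ LocallyOfFiniteType (W.ι ≫ h)) ∧
    (∀ u : U, h u = v → (∃ W : U.Opens, u ∈ W ∧ LocallyQuasiFinite (W.ι ≫ h)) → ∀ a : U, a ⤳ u → a = u) ∧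
    ((∀ u : U, h u = v → (∀ a : U, a ⤳ u → a = u) →
      ∃ W : U.Opens, u ∈ W ∧ LocallyQuasiFinite (W.ι ≫ h) ∧ LocallyOfFiniteType (W.ι ≫ h)) →
      ∀ u : U, h u = v → ∀ a : U, a ⤳ u → a = u) := by
  refine ⟨fun H u hu => ?_, fun u hu ⟨W, huW, hW⟩ a ha => ?_, fun H u hu => ?_⟩
  · obtain ⟨A, hA, hvA, -⟩ := exists_isAffineOpen_mem_and_subset (X := V) (x := v) (U := ⊤) trivial
    obtain ⟨C, hC, huC, hCA⟩ := exists_isAffineOpen_mem_and_subset (show u ∈ h ⁻¹ᵁ A from by
      show h u ∈ A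
      rwa [hu])
    let g : C.toScheme ⟶ A.toScheme := IsOpenImmersion.lift A.ι (C.ι ≫ h) (by
      rintro _ ⟨y, rfl⟩
      rw [Scheme.Opens.range_ι]
      exact hCA y.2)
    have hg : g ≫ A.ι = C.ι ≫ h := IsOpenImmersion.lift_fac _ _ _
    have : IsAffine C.toScheme := hC
    have : IsAffine A.toScheme := hA
    have : LocallyOfFiniteType (g ≫ A.ι) := by rw [hg]; infer_instance
    have : LocallyOfFiniteType g := locallyOfFiniteType_of_comp g A.ι
    have hfin := finite_fibre_of_forall_eq g (⟨v, hvA⟩ : A.toScheme) fun w hw a ha => by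
      have : h w.1 = v := by
        rw [show h w.1 = (g ≫ A.ι) w by rw [hg]; rfl, Scheme.Hom.comp_apply, hw]
        rfl
      exact Subtype.ext (H w.1 this a.1 (ha.map continuous_subtype_val))
    let w : C.toScheme := ⟨u, huC⟩
    have hgw : g w = (⟨v, hvA⟩ : A.toScheme) := A.ι.isOpenEmbedding.injective (by
      rw [← Scheme.Hom.comp_apply, hg]; exact hu)
    have hq : g.QuasiFiniteAt w := GenericFinite.quasiFiniteAt_of_finite g (by rw [hgw]; exact hfin)
    let W₀ : C.toScheme.Opens := g.quasiFiniteLocus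
    refine ⟨C.ι ''ᵁ W₀, ⟨w, Scheme.Hom.mem_quasiFiniteLocus.2 hq, rfl⟩, ?_, inferInstance⟩
    have hqf : LocallyQuasiFinite (W₀.ι ≫ g) := by
      rw [← Scheme.Hom.quasiFiniteLocus_eq_top_iff]
      ext x
      have : g.QuasiFiniteAt (W₀.ι x) := Scheme.Hom.mem_quasiFiniteLocus.1 x.2
      rw [← Scheme.Hom.quasiFiniteAt_comp_iff_of_isOpenImmersion] at this
      simpa
    have he : (C.ι.isoImage W₀).hom ≫ (C.ι ''ᵁ W₀).ι = W₀.ι ≫ C.ι := Scheme.Hom.isoImage_hom_ι _ _
    rw [← MorphismProperty.cancel_left_of_respectsIso @LocallyQuasiFinite (C.ι.isoImage W₀).hom,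
      reassoc_of% he, ← hg, ← Category.assoc]
    infer_instance
  · have : LocallyQuasiFinite (W.ι ≫ h) := hW
    by_contra hne
    have haW : a ∈ W := ha.mem_open W.2 huW
    exact hne (congrArg Subtype.val (GenericFinite.forall_eq_of_quasiFinite (W.ι ≫ h) hv
      (z := (⟨u, huW⟩ : W.toScheme)) hu ⟨a, haW⟩ ((subtype_specializes_iff _ _).2 ha)))
  · obtain ⟨η, hη⟩ := QuasiSober.sober (irreducibleComponent_mem_irreducibleComponents u).1
      isClosed_irreducibleComponent
    have hηu : η ⤳ u := hη.specializes mem_irreducibleComponent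
    have hηv : h η = v := hv _ (hu ▸ hηu.map h.continuous)
    have hηm : ∀ a : U, a ⤳ η → a = η := fun a => GenericFinite.eq_of_specializes
      (hη.def.symm ▸ irreducibleComponent_mem_irreducibleComponents u)
    obtain ⟨W, hηW, hW, -⟩ := H η hηv hηm
    have hq : h.QuasiFiniteAt η := by
      have := hW
      have hq' : (W.ι ≫ h).QuasiFiniteAt (⟨η, hηW⟩ : W.toScheme) :=
        Scheme.Hom.mem_quasiFiniteLocus.1 (by rw [(Scheme.Hom.quasiFiniteLocus_eq_top_iff (W.ι ≫ h)).2 hW]; trivial)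
      rwa [Scheme.Hom.quasiFiniteAt_comp_iff_of_isOpenImmersion] at hq'
    have hcl : IsClosed ({⟨η, rfl⟩} : Set (h ⁻¹' {h η})) := by
      have := (h.fiberHomeo (h η)).isClosedMap _ hq.isClopen_singleton_asFiber.isClosed
      rwa [Set.image_singleton, show h.fiberHomeo (h η) (h.asFiber η) = ⟨η, rfl⟩ from
        (h.fiberHomeo (h η)).apply_symm_apply _] at this
    have he : (⟨u, hu.trans hηv.symm⟩ : h ⁻¹' {h η}) = ⟨η, rfl⟩ :=
      ((subtype_specializes_iff _ _).2 hηu : (⟨η, rfl⟩ : h ⁻¹' {h η}) ⤳ ⟨u, hu.trans hηv.symm⟩).mem_closed hcl rfl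
    obtain rfl : u = η := congrArg Subtype.val he
    exact hηm

/-- Over a point of codimension zero: quasi-finite if and only if the fibre has codimension zero. -/
theorem fibre_codimZero_iff {X Y : Space S} (f : X ⟶ Y) (hf : LocP @LocallyOfFiniteType f.hom) (y : Points Y.obj)
    (hy : HasAt (fun U u => ringKrullDim ↥(U.presheaf.stalk u) = 0) Y.obj y) :
    ((∀ x : Points X.obj, Points.map f.hom x = y → HasAt (fun U u => ringKrullDim ↥(U.presheaf.stalk u) = 0) X.obj x) ↔
      ∀ x : Points X.obj, Points.map f.hom x = y → HasAtMor (fun U _ h u => ∃ W : U.Opens, u ∈ W ∧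
        LocallyQuasiFinite (W.ι ≫ h) ∧ LocallyOfFiniteType (W.ι ≫ h)) f.hom x) ∧
    ((∀ x : Points X.obj, Points.map f.hom x = y → HasAt (fun U u => ringKrullDim ↥(U.presheaf.stalk u) = 0) X.obj x →
        HasAtMor (fun U _ h u => ∃ W : U.Opens, u ∈ W ∧
          LocallyQuasiFinite (W.ι ≫ h) ∧ LocallyOfFiniteType (W.ι ≫ h)) f.hom x) →
      ∀ x : Points X.obj, Points.map f.hom x = y → HasAt (fun U u => ringKrullDim ↥(U.presheaf.stalk u) = 0) X.obj x) := by
  obtain ⟨V, b, hb, hbs⟩ := Y.property.atlas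
  obtain ⟨U, a, h, ha, has, w⟩ := exists_chart_lift X.property Y.property f.hom b hb hbs
  have : LocallyOfFiniteType h.left := hf a b h ha hb w
  obtain ⟨v₀, hv₀⟩ := surjective_ofPt hbs y
  have hmax : ∀ v : V.left, Points.ofPt b v = y → ∀ z : V.left, z ⤳ v → z = v := fun v hv =>
    (hasAt_dim_zero_iff hb v).1 (hv.symm ▸ hy)
  have hmap : ∀ u : U.left, Points.map f.hom (Points.ofPt a u) = Points.ofPt b (h.left u) := fun u => by
    rw [Points.map_ofPt, w, ofPt_comp]
  refine ⟨⟨fun H x hx => ?_, fun H x hx => ?_⟩, fun H x hx => ?_⟩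
  all_goals
    obtain ⟨u, rfl⟩ := surjective_ofPt has x
    rw [hmap] at hx
  · obtain ⟨W, hW⟩ := (quasiFinite_conditions h.left (hmax _ hx)).1 (fun u' hu' =>
      (hasAt_dim_zero_iff ha u').1 (H _ (by rw [hmap, hu']; exact hx))) u rfl
    exact ⟨U, V, a, b, h, u, ha, hb, w, rfl, W, hW⟩
  · obtain ⟨O, hO, hq, -⟩ := exists_open_quasiFinite ha hb w u (H _ (by rw [hmap]; exact hx))
    exact (hasAt_dim_zero_iff ha u).2
      ((quasiFinite_conditions h.left (hmax _ hx)).2.1 u rfl ⟨O, hO, hq⟩)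
  · refine (hasAt_dim_zero_iff ha u).2 ((quasiFinite_conditions h.left (hmax _ hx)).2.2 (fun u' hu' hm => ?_) u rfl)
    obtain ⟨O, hO, hq, hl⟩ := exists_open_quasiFinite ha hb w u' (H _ (by rw [hmap, hu']; exact hx)
      ((hasAt_dim_zero_iff ha u').2 hm))
    exact ⟨O, hO, hq, hl⟩

end Groth.Agent.AlgSpFin
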