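import Groth.Agent.AlgSpFin.DecentLocal
import Mathlib.Topology.Spectral.ConstructibleTopology
import Mathlib.Topology.Sober

/-!
Fibres of etale charts of decent spaces; the space of points is sober.
-/

set_option autoImplicit false
set_option backward.isDefEq.respectTransparency.types false

universe u

open CategoryTheory CategoryTheory.Limits AlgebraicGeometry Opposite AlgSp

namespace Groth.Agent.AlgSpFin

open Groth.Agent.AlgSpLib

variable {S : Scheme.{u}}

/-- Compact opens and a closed set with the finite intersection property meet. -/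
theorem exists_mem_iInter_of_fip {W : Type*} [TopologicalSpace W] [CompactSpace W] [QuasiSober W] [PrespectralSpace W]
    [QuasiSeparatedSpace W] {A : Set W} (hA : IsClosed A) {ι : Type*} (O : ι → Set W) (ho : ∀ i, IsOpen (O i))
    (hc : ∀ i, IsCompact (O i)) (h : ∀ F : Finset ι, (A ∩ ⋂ i ∈ F, O i).Nonempty) :
    ∃ w ∈ A, ∀ i, w ∈ O i := by
  classical
  let p : WithConstructibleTopology W → W := WithTopology.ofTopology
  have hop : ∀ s : Set W, IsOpen s → IsOpen (p ⁻¹' s) := fun s hs => by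
    obtain ⟨B, hB, rfl⟩ := PrespectralSpace.isTopologicalBasis.open_eq_sUnion hs
    rw [Set.sUnion_eq_biUnion, Set.preimage_iUnion₂]
    refine isOpen_iUnion fun b => isOpen_iUnion fun hb => ?_
    rw [WithConstructibleTopology.isOpen_iff]
    exact (hB hb).2.isOpen_constructibleTopology_of_isOpen (hB hb).1
  have hclA : IsClosed (p ⁻¹' A) := ⟨by rw [← Set.preimage_compl]; exact hop _ hA.isOpen_compl⟩
  have hclO : ∀ i, IsClosed (p ⁻¹' O i) := fun i => ⟨by
    rw [← Set.preimage_compl, WithConstructibleTopology.isOpen_iff]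
    exact IsCompact.isOpen_constructibleTopology_of_isClosed
      (show IsCompact (O i)ᶜᶜ by rw [compl_compl]; exact hc i) (show IsClosed (O i)ᶜ from (ho i).isClosed_compl)⟩
  obtain ⟨w, hw, hw'⟩ := hclA.isCompact.inter_iInter_nonempty (fun i => p ⁻¹' O i) hclO fun F => by
    obtain ⟨w, hw, hw'⟩ := h F
    obtain ⟨w', rfl⟩ := WithTopology.ofTopology_surjective (constructibleTopology W) w
    exact ⟨w', hw, by simpa [Set.mem_iInter, p] using hw'⟩
  exact ⟨p w, hw, fun i => Set.mem_iInter.1 hw' i⟩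

/-- Two minimal points of a closed set have disjoint neighbourhoods in it. -/
theorem exists_disjoint_nhds_of_minimal {W : Type*} [TopologicalSpace W] [CompactSpace W] [QuasiSober W]
    [PrespectralSpace W] [QuasiSeparatedSpace W] [T0Space W] {A : Set W} (hA : IsClosed A) {u v : W}
    (hu : ∀ w ∈ A, w ⤳ u → w = u) (hv : ∀ w ∈ A, w ⤳ v → w = v) (hne : u ≠ v) :
    ∃ N₁ N₂ : Set W, IsOpen N₁ ∧ IsOpen N₂ ∧ u ∈ N₁ ∧ v ∈ N₂ ∧ A ∩ N₁ ∩ N₂ = ∅ := by
  by_contra hcon
  push Not at hcon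
  let I := {s : Set W // IsOpen s ∧ IsCompact s ∧ (u ∈ s ∨ v ∈ s)}
  have hsmall : ∀ (x : W) (F : Finset I), ∃ N : Set W, IsOpen N ∧ x ∈ N ∧ ∀ i ∈ F, x ∈ i.1 → N ⊆ i.1 := by
    intro x F
    let J := {i : I // i ∈ F ∧ x ∈ i.1}
    have : Finite J := Finite.of_injective (fun j : J => (⟨j.1, j.2.1⟩ : {i // i ∈ F}))
      fun a b e => Subtype.ext (congrArg (fun k : {i // i ∈ F} => k.1) e)
    exact ⟨⋂ j : J, j.1.1, isOpen_iInter_of_finite fun j => j.1.2.1, Set.mem_iInter.2 fun j => j.2.2,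
      fun i hi hx z hz => Set.mem_iInter.1 hz ⟨i, hi, hx⟩⟩
  obtain ⟨w, hwA, hw⟩ := exists_mem_iInter_of_fip hA (fun i : I => i.1) (fun i => i.2.1) (fun i => i.2.2.1) fun F => by
    obtain ⟨N₁, h₁, hu₁, hN₁⟩ := hsmall u F
    obtain ⟨N₂, h₂, hv₂, hN₂⟩ := hsmall v F
    obtain ⟨w, hw⟩ := hcon N₁ N₂ h₁ h₂ hu₁ hv₂
    refine ⟨w, hw.1.1, Set.mem_iInter₂.2 fun i hi => ?_⟩
    rcases i.2.2.2 with h | h
    · exact hN₁ i hi h hw.1.2
    · exact hN₂ i hi h hw.2
  have key : ∀ x, x = u ∨ x = v → w ⤳ x := fun x hx => by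
    refine PrespectralSpace.isTopologicalBasis.nhds_hasBasis.specializes_iff.2 fun s hs => ?_
    exact hw ⟨s, hs.1.1, hs.1.2, by rcases hx with rfl | rfl; exacts [.inl hs.2, .inr hs.2]⟩
  exact hne ((hu w hwA (key u (.inl rfl))).symm.trans (hv w hwA (key v (.inr rfl))))

/-- An open map with a finite fibre lifts generalisations. -/
theorem exists_generalization_of_isOpenMap {α β : Type*} [TopologicalSpace α] [TopologicalSpace β] {f : α → β}
    (hf : IsOpenMap f) {x : α} {y : β} (h : y ⤳ f x) (hfin : (f ⁻¹' {y}).Finite) : ∃ z, z ⤳ x ∧ f z = y := by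
  by_contra hcon
  push Not at hcon
  have : ∀ z ∈ f ⁻¹' {y}, ∃ N, IsOpen N ∧ x ∈ N ∧ z ∉ N := fun z hz => by
    by_contra hN
    push Not at hN
    exact hcon z (specializes_iff_forall_open.2 hN) hz
  choose N hN hxN hzN using this
  have : Finite (f ⁻¹' {y}) := hfin
  let M := ⋂ z : f ⁻¹' {y}, N z.1 z.2
  have hM : IsOpen M := isOpen_iInter_of_finite fun z => hN z.1 z.2
  obtain ⟨z, hz, hzy⟩ := h.mem_open (hf M hM) ⟨x, Set.mem_iInter.2 fun z => hxN z.1 z.2, rfl⟩
  exact hzN z hzy (Set.mem_iInter.1 hz ⟨z, hzy⟩)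

section

variable {X : Sp S} {U : Over S} {a : (yon S).obj U ⟶ X}

/-- A decent point has finitely many preimages in a quasi-compact etale chart. -/
theorem finite_fibre_of_isDecent (hX : IsAlgSpace X) (hd : IsDecent X) (ha : RepWith @Etale a)
    [CompactSpace U.left] (x : Points X) : {t : U.left | Points.ofPt a t = x}.Finite := by
  obtain ⟨p, hp, -, hq⟩ := hd x
  obtain ⟨W, w₁, w₂, sW⟩ := exists_isPullback ha.1 p.toHom
  have : QuasiCompact w₁.left := prop_snd sW.flip hq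
  have : CompactSpace W.left := QuasiCompact.compactSpace_of_compactSpace w₁.left
  have : Etale w₂.left := prop_snd sW ha
  have : LocallyQuasiFinite w₂.left := locallyQuasiFinite_of_formallyUnramified _
  have : IsLocallyArtinian p.pt.left := inferInstanceAs (IsLocallyArtinian (Spec (CommRingCat.of p.K)))
  have : IsLocallyArtinian W.left := IsLocallyArtinian.of_locallyQuasiFinite w₂.left
  have : IsArtinianScheme W.left := { }
  refine (Set.finite_range w₁.left).subset fun t (ht : Points.ofPt a t = x) => ?_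
  let s : p.pt.left := (IsLocalRing.closedPoint p.K : PrimeSpectrum p.K)
  obtain ⟨w, hw, -⟩ := (ofPt_eq_iff sW t s).1 (ht.trans ((Points.ofPt_toHom p s).trans hp).symm)
  exact ⟨w, hw⟩

/-- Points of a finite fibre of an etale chart have no specialisations among them. -/
theorem eq_of_specializes_of_finite_fibre (hX : IsAlgSpace X) (ha : RepWith @Etale a) {u u' : U.left}
    (he : Points.ofPt a u = Points.ofPt a u') (hs : u ⤳ u')
    (hfin : {t : U.left | Points.ofPt a t = Points.ofPt a u}.Finite) : u = u' := by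
  by_contra hne
  obtain ⟨R, s, t, sR⟩ := exists_isPullback ha.1 a
  have hse : Etale s.left := prop_snd sR.flip ha
  have hte : Etale t.left := prop_snd sR ha
  let Φ := {w : U.left | Points.ofPt a w = Points.ofPt a u}
  have key : ∀ x ∈ Φ, ∃ y ∈ Φ, y ⤳ x ∧ y ≠ x := by
    intro x hx
    obtain ⟨r, hr, hr'⟩ := (ofPt_eq_iff sR u' x).1 (he.symm.trans hx.symm)
    obtain ⟨r', hr'1, hr'2⟩ := Flat.generalizingMap s.left (hr.symm ▸ hs : u ⤳ s.left r)
    refine ⟨t.left r', ?_, hr' ▸ hr'1.map t.left.continuous, fun e => hne ?_⟩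
    · exact ((ofPt_eq_iff sR (s.left r') (t.left r')).2 ⟨r', rfl, rfl⟩).symm.trans (by rw [hr'2])
    · have : LocallyQuasiFinite t.left := locallyQuasiFinite_of_formallyUnramified _
      have hd : DiscreteTopology (t.left ⁻¹' {x}) := (t.left.isDiscrete_preimage_singleton x).to_subtype
      have h' : (⟨r', e⟩ : t.left ⁻¹' {x}) ⤳ ⟨r, hr'⟩ := (subtype_specializes_iff _ _).2 hr'1
      rw [specializes_iff_eq] at h'
      rw [← hr'2, ← hr]
      exact congrArg (fun z : t.left ⁻¹' {x} => s.left z.1) h'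
  obtain ⟨m, hm⟩ := Set.Finite.exists_maximalFor (fun w : U.left => closure ({w} : Set U.left)) Φ hfin ⟨u, rfl⟩
  obtain ⟨y, hy, hyx, hyne⟩ := key m hm.1
  refine hyne (hyx.antisymm ?_).eq
  exact specializes_iff_closure_subset.2 (hm.2 hy (specializes_iff_closure_subset.1 hyx))

end

/-- Irreducible closed sets of points have generic points when etale affine charts have finite fibres. -/
theorem quasiSober_of_finite_fibres {X : Sp S} (hX : IsAlgSpace X)
    (hfin : ∀ (U : Over S) (a : (yon S).obj U ⟶ X), IsAffine U.left → RepWith @Etale a →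
      ∀ x, {t : U.left | Points.ofPt a t = x}.Finite) : QuasiSober (Points X) := by
  refine ⟨fun {T} hT hTc => ?_⟩
  obtain ⟨x₀, hx₀⟩ := hT.nonempty
  obtain ⟨U₀, a₀, ha₀, ha₀s⟩ := hX.atlas
  obtain ⟨u₀, hu₀⟩ := surjective_ofPt ha₀s x₀
  obtain ⟨O, hO, huO, -⟩ := exists_isAffineOpen_mem_and_subset (X := U₀.left) (U := ⊤) (x := u₀) trivial
  let U : Over S := Over.mk (O.ι ≫ U₀.hom)
  let ι₀ : U ⟶ U₀ := Over.homMk O.ι rfl
  let a : (yon S).obj U ⟶ X := (yon S).map ι₀ ≫ a₀
  have hι₀ : Etale ι₀.left := inferInstanceAs (Etale O.ι)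
  have ha : RepWith @Etale a := repWith_yon_comp (P := @Etale) ι₀ hι₀ ha₀
  have : IsAffine U.left := hO
  have hf := hfin U a hO ha
  let f : U.left → Points X := Points.ofPt a
  have hfc : Continuous f := Points.continuous_ofPt a
  have hfo : IsOpenMap f := isOpenMap_ofPt_of_etale ha
  let A : Set U.left := f ⁻¹' T
  have hA : IsClosed A := hTc.preimage hfc
  have hx₁ : (⟨u₀, huO⟩ : U.left) ∈ A := by
    show Points.ofPt ((yon S).map ι₀ ≫ a₀) (⟨u₀, huO⟩ : U.left) ∈ T
    rw [ofPt_comp]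
    exact hu₀.symm ▸ hx₀
  -- saturation of the class of minimal points
  have hmin : ∀ u v, (∀ w ∈ A, w ⤳ u → w = u) → u ∈ A → f v = f u → ∀ w ∈ A, w ⤳ v → w = v := by
    intro u v hu huA hv w hwA hwv
    obtain ⟨w', hw'1, hw'2⟩ := exists_generalization_of_isOpenMap hfo (hv ▸ hwv.map hfc : f w ⤳ f u) (hf _)
    have : w' = u := hu w' (show f w' ∈ T from hw'2.symm ▸ hwA) hw'1
    subst this
    exact eq_of_specializes_of_finite_fibre hX ha (hw'2.symm.trans hv.symm) hwv (hf _)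
  by_cases hgood : ∃ N : Set U.left, IsOpen N ∧ (A ∩ N).Nonempty ∧ IsPreirreducible (A ∩ N)
  · obtain ⟨N, hN, hne, hirr⟩ := hgood
    have hi : IsIrreducible (closure (A ∩ N)) := (show IsIrreducible (A ∩ N) from ⟨hne, hirr⟩).closure
    obtain ⟨η, hη⟩ := QuasiSober.sober hi isClosed_closure
    have hηA : η ∈ A := (closure_minimal Set.inter_subset_left hA) hη.mem
    refine ⟨f η, ?_⟩
    rw [isGenericPoint_def]
    refine (closure_minimal (Set.singleton_subset_iff.2 (show f η ∈ T from hηA)) hTc).antisymm fun y hy => ?_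
    have h₁ : f '' (A ∩ N) ⊆ closure {f η} := by
      rintro _ ⟨z, hz, rfl⟩
      exact specializes_iff_mem_closure.1 ((hη.specializes (subset_closure hz)).map hfc)
    have h₂ : (T ∩ f '' N).Nonempty := by
      obtain ⟨z, hz, hz'⟩ := hne
      exact ⟨f z, hz, z, hz', rfl⟩
    have h₃ : T ⊆ closure (T ∩ f '' N) := subset_closure_inter_of_isPreirreducible_of_isOpen hT.2 (hfo N hN) h₂
    refine (closure_minimal ?_ isClosed_closure) (h₃ hy)
    rintro _ ⟨hT', z, hz, rfl⟩
    exact h₁ ⟨z, ⟨hT', hz⟩, rfl⟩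
  exfalso
  push Not at hgood
  -- every open piece of `A` contains two disjoint opens whose images meet
  have split : ∀ N : Set U.left, IsOpen N → (A ∩ N).Nonempty → ∃ N₁ N₂ : Set U.left, IsOpen N₁ ∧ IsOpen N₂ ∧
      N₁ ⊆ N ∧ N₂ ⊆ N ∧ A ∩ N₁ ∩ N₂ = ∅ ∧ ∃ z ∈ A, z ∈ N₁ ∧ f z ∈ f '' N₂ := by
    intro N hN hne
    by_contra hcon
    refine hgood N hN hne fun P Q hP hQ ⟨p, hp, hp'⟩ ⟨q, hq, hq'⟩ => ?_
    by_contra hPQ
    have h₁ : (T ∩ f '' (N ∩ P)).Nonempty := ⟨f p, hp.1, p, ⟨hp.2, hp'⟩, rfl⟩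
    have h₂ : (T ∩ f '' (N ∩ Q)).Nonempty := ⟨f q, hq.1, q, ⟨hq.2, hq'⟩, rfl⟩
    obtain ⟨y, hy, ⟨z, hz, hzy⟩, hy'⟩ := hT.2 _ _ (hfo _ (hN.inter hP)) (hfo _ (hN.inter hQ)) h₁ h₂
    refine hcon ⟨N ∩ P, N ∩ Q, hN.inter hP, hN.inter hQ, Set.inter_subset_left, Set.inter_subset_left, ?_,
      z, show f z ∈ T from hzy.symm ▸ hy, hz, hzy.symm ▸ hy'⟩
    refine Set.eq_empty_of_forall_notMem fun w hw => hPQ ⟨w, ⟨hw.1.1, hw.1.2.1⟩, hw.1.2.2, hw.2.2⟩
  -- iterate
  have step : ∀ n : ℕ, ∀ N : Set U.left, IsOpen N → (A ∩ N).Nonempty →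
      ∃ (M : Set U.left) (P : Fin (n + 1) → Set U.left), IsOpen M ∧ (A ∩ M).Nonempty ∧ M ⊆ N ∧
        (∀ i, IsOpen (P i)) ∧ (∀ i j, i ≠ j → A ∩ P i ∩ P j = ∅) ∧ (∀ i, P i ⊆ N) ∧
        (∀ i, ∀ m ∈ A ∩ M, f m ∈ f '' P i) := by
    intro n
    induction n with
    | zero =>
      intro N hN hne
      exact ⟨N, fun _ => N, hN, hne, subset_rfl, fun _ => hN, fun i j h => absurd (Fin.ext (by omega)) h,
        fun _ => subset_rfl, fun _ m hm => ⟨m, hm.2, rfl⟩⟩
    | succ n ih =>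
      intro N hN hne
      obtain ⟨N₁, N₂, h₁, h₂, hs₁, hs₂, hdis, z, hzA, hz₁, hz₂⟩ := split N hN hne
      obtain ⟨M, P, hM, hMne, hMs, hP, hPd, hPs, hPf⟩ :=
        ih (N₁ ∩ f ⁻¹' (f '' N₂)) (h₁.inter ((hfo _ h₂).preimage hfc)) ⟨z, hzA, hz₁, hz₂⟩
      refine ⟨M, Fin.cons N₂ P, hM, hMne, hMs.trans (Set.inter_subset_left.trans hs₁), ?_, ?_, ?_, ?_⟩
      · exact fun i => Fin.cases h₂ hP i
      · have hb : ∀ j, A ∩ N₂ ∩ P j = ∅ := fun j => Set.eq_empty_of_forall_notMem fun w hw =>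
          (Set.eq_empty_iff_forall_notMem.1 hdis w) ⟨⟨hw.1.1, (hPs j hw.2).1⟩, hw.1.2⟩
        intro i j hij
        induction i using Fin.cases with
        | zero =>
          induction j using Fin.cases with
          | zero => exact absurd rfl hij
          | succ j => simpa using hb j
        | succ i =>
          induction j using Fin.cases with
          | zero => simp only [Fin.cons_succ, Fin.cons_zero]; rw [Set.inter_right_comm]; exact hb i
          | succ j => simpa using hPd i j fun e => hij (e ▸ rfl)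
      · exact fun i => Fin.cases hs₂ (fun j => (hPs j).trans (Set.inter_subset_left.trans hs₁)) i
      · intro i m hm
        induction i using Fin.cases with
        | zero => simpa using (hMs hm.2).2
        | succ j => simpa using hPf j m hm
  -- shrink to compact opens and take the limit
  let GM : Type u := {N : Set U.left // IsOpen N ∧ IsCompact N ∧ (A ∩ N).Nonempty}
  have next : ∀ (n : ℕ) (N : GM), ∃ M : GM, M.1 ⊆ N.1 ∧ ∃ P : Fin (n + 1) → Set U.left,
      (∀ i j, i ≠ j → A ∩ P i ∩ P j = ∅) ∧ ∀ i, ∀ m ∈ A ∩ M.1, f m ∈ f '' P i := by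
    intro n N
    obtain ⟨M, P, hM, ⟨m, hmA, hmM⟩, hMs, -, hPd, -, hPf⟩ := step n N.1 N.2.1 N.2.2.2
    obtain ⟨B, ⟨hBo, hBc⟩, hmB, hBM⟩ := PrespectralSpace.isTopologicalBasis.exists_subset_of_mem_open hmM hM
    exact ⟨⟨B, hBo, hBc, m, hmA, hmB⟩, hBM.trans hMs, P, hPd, fun i w hw => hPf i w ⟨hw.1, hBM hw.2⟩⟩
  choose nx hnx P hPd hPf using next
  let G : ℕ → GM := fun n => Nat.rec ⟨Set.univ, isOpen_univ, isCompact_univ, _, hx₁, trivial⟩ (fun k N => nx k N) n
  have hmono : Antitone fun n => (G n).1 := antitone_nat_of_succ_le fun n => hnx n (G n)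
  obtain ⟨w, hwA, hw⟩ := exists_mem_iInter_of_fip hA (fun n => (G n).1) (fun n => (G n).2.1) (fun n => (G n).2.2.1)
    fun F => by
      obtain ⟨z, hz⟩ := (G (F.sup id)).2.2.2
      exact ⟨z, hz.1, Set.mem_iInter₂.2 fun i hi => hmono (Finset.le_sup (f := id) hi) hz.2⟩
  have hsub : ∀ n : ℕ, n + 1 ≤ (hf (f w)).toFinset.card := fun n => by
    choose g hg hgf using fun i => hPf n (G n) i w ⟨hwA, hw (n + 1)⟩
    have hgA : ∀ i, g i ∈ A := fun i => show f (g i) ∈ T from (hgf i).symm ▸ hwA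
    have ginj : Function.Injective g := fun i j e => by
      by_contra hne
      exact Set.eq_empty_iff_forall_notMem.1 (hPd n (G n) i j hne) (g i) ⟨⟨hgA i, hg i⟩, e ▸ hg j⟩
    calc n + 1 = (Finset.univ.map ⟨g, ginj⟩).card := by simp
      _ ≤ _ := Finset.card_le_card fun y hy => by
          obtain ⟨i, -, rfl⟩ := Finset.mem_map.1 hy
          exact (hf (f w)).mem_toFinset.2 (hgf i)
  have := hsub (hf (f w)).toFinset.card
  omega

theorem quasiSober_points_of_isDecent {X : Sp S} (hX : IsAlgSpace X) (hd : IsDecent X) : QuasiSober (Points X) :=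
  quasiSober_of_finite_fibres hX fun U a hU ha x => by
    have := hU
    exact finite_fibre_of_isDecent hX hd ha x

theorem eq_of_specializes_of_isDecent {X : Sp S} (hX : IsAlgSpace X) (hd : IsDecent X) {U : Over S}
    {a : (yon S).obj U ⟶ X} (ha : RepWith @Etale a) {u u' : U.left} (he : Points.ofPt a u = Points.ofPt a u')
    (hs : u ⤳ u') : u = u' := by
  obtain ⟨O, hO, huO, -⟩ := exists_isAffineOpen_mem_and_subset (X := U.left) (U := ⊤) (x := u') trivial
  let V : Over S := Over.mk (O.ι ≫ U.hom)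
  let ι₀ : V ⟶ U := Over.homMk O.ι rfl
  have hι₀ : Etale ι₀.left := inferInstanceAs (Etale O.ι)
  have hb : RepWith @Etale ((yon S).map ι₀ ≫ a) := repWith_yon_comp (P := @Etale) ι₀ hι₀ ha
  have : IsAffine V.left := hO
  have huO' : u ∈ O := hs.mem_open O.2 huO
  let v : V.left := ⟨u, huO'⟩
  let v' : V.left := ⟨u', huO⟩
  have h := eq_of_specializes_of_finite_fibre (u := v) (u' := v') hX hb
    ((ofPt_comp ι₀ a v).trans (he.trans (ofPt_comp ι₀ a v').symm)) ((subtype_specializes_iff _ _).2 hs)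
    (finite_fibre_of_isDecent hX hd hb _)
  exact congrArg Subtype.val h

theorem t0Space_points_of_isDecent {X : Sp S} (hX : IsAlgSpace X) (hd : IsDecent X) : T0Space (Points X) := by
  refine ⟨fun x y hxy => ?_⟩
  obtain ⟨U₀, a₀, ha₀, has⟩ := hX.atlas
  obtain ⟨u₀, rfl⟩ := surjective_ofPt has x
  obtain ⟨O, hO, huO, -⟩ := exists_isAffineOpen_mem_and_subset (X := U₀.left) (U := ⊤) (x := u₀) trivial
  let U : Over S := Over.mk (O.ι ≫ U₀.hom)
  let ι₀ : U ⟶ U₀ := Over.homMk O.ι rfl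
  let a : (yon S).obj U ⟶ X := (yon S).map ι₀ ≫ a₀
  have hι₀ : Etale ι₀.left := inferInstanceAs (Etale O.ι)
  have ha : RepWith @Etale a := repWith_yon_comp (P := @Etale) ι₀ hι₀ ha₀
  have : IsAffine U.left := hO
  let u : U.left := ⟨u₀, huO⟩
  have hu : Points.ofPt a₀ u₀ = Points.ofPt a u := (ofPt_comp ι₀ a₀ u).symm
  rw [hu] at hxy ⊢
  clear hu
  have hfo : IsOpenMap (Points.ofPt a) := isOpenMap_ofPt_of_etale ha
  obtain ⟨u', hu'1, hu'2⟩ := exists_generalization_of_isOpenMap hfo hxy.specializes' (finite_fibre_of_isDecent hX hd ha _)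
  obtain ⟨u'', hu''1, hu''2⟩ := exists_generalization_of_isOpenMap hfo
    (hu'2.symm ▸ hxy.specializes : Points.ofPt a u ⤳ Points.ofPt a u') (finite_fibre_of_isDecent hX hd ha _)
  have : u'' = u := eq_of_specializes_of_isDecent hX hd ha hu''2 (hu''1.trans hu'1)
  subst this
  rw [← hu'2, (hu'1.antisymm hu''1).eq]

end Groth.Agent.AlgSpFin
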