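import Groth.Agent.AlgSpLib.DiagMor
import Groth.Agent.AlgSpLib.Points
import Groth.Agent.AlgSpLib.FibreProduct
import Groth.Prelude.Def_AlgSpDec

/-!
Decent algebraic spaces: schemes are decent; decency is read on fibres.
-/

set_option autoImplicit false
set_option backward.isDefEq.respectTransparency.types false

universe u

open CategoryTheory CategoryTheory.Limits AlgebraicGeometry Opposite AlgSp

namespace Groth.Agent.AlgSpFin

open Groth.Agent.AlgSpLib

variable {S : Scheme.{u}}

/-- A morphism from the spectrum of a field is quasi-compact. -/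
theorem quasiCompact_of_field {K : Type u} [Field K] {W : Scheme.{u}} (f : Spec (CommRingCat.of K) ⟶ W) :
    QuasiCompact f := by
  refine ⟨fun U _ _ => ?_⟩
  have : Subsingleton ↥(Spec (CommRingCat.of K)) := inferInstanceAs (Subsingleton (PrimeSpectrum K))
  exact (Set.subsingleton_of_subsingleton).isCompact

/-- Schemes are decent. -/
theorem isDecent_yon (T : Over S) : IsDecent ((yon S).obj T) := by
  intro x
  obtain ⟨t, rfl⟩ := exists_ofScheme x
  let q : Over.mk (T.left.fromSpecResidueField t ≫ T.hom) ⟶ T := Over.homMk (T.left.fromSpecResidueField t) rfl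
  refine ⟨FieldPt.ofPt (𝟙 _) t, rfl, ?_, ?_⟩
  · rw [FieldPt.toHom_ofPt, Category.comp_id]
    change Mono ((yon S).map q)
    refine ⟨fun {Z} a b e => hom_ext_yon fun W w => ?_⟩
    obtain ⟨a', ha⟩ := (yon S).map_surjective (w ≫ a)
    obtain ⟨b', hb⟩ := (yon S).map_surjective (w ≫ b)
    have : Mono ((Over.forget S).map q) := inferInstanceAs (Mono (T.left.fromSpecResidueField t))
    have : Mono q := (Over.forget S).mono_of_mono_map this
    obtain rfl : a' = b' := (cancel_mono q).1 ((yon S).map_injective (by
      rw [Functor.map_comp, Functor.map_comp, ha, hb, Category.assoc, Category.assoc, e]))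
    rw [← ha, hb]
  · rw [FieldPt.toHom_ofPt, Category.comp_id]
    exact (repWith_yon_map_iff @QuasiCompact q).2 (quasiCompact_of_field _)

/-- Decency from the fibres over a decent target. -/
theorem isDecent_of_fibres {X Y : Sp S} (f : X ⟶ Y) (hY : IsDecent Y)
    (h : ∀ (p : FieldPt Y) (P : Sp S) (fst : P ⟶ X) (snd : P ⟶ (yon S).obj p.pt),
      IsPullback fst snd f p.toHom → IsDecent P) : IsDecent X := by
  intro x
  obtain ⟨p, hp, hm, hq⟩ := hY (Points.map f x)
  have sq := IsPullback.of_hasPullback f p.toHom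
  let z₀ : ↥p.pt.left := (IsLocalRing.closedPoint p.K : PrimeSpectrum p.K)
  obtain ⟨z, hz, -⟩ := exists_point_of_isPullback sq x (Points.ofPt (𝟙 _) z₀)
    (by rw [Points.map_ofPt, Category.id_comp, ← hp]; exact (Points.ofPt_toHom p z₀).symm)
  obtain ⟨r, hr, hrm, hrq⟩ := h p _ _ _ sq z
  have : Mono (pullback.fst f p.toHom) := pullback.fst_of_mono
  refine ⟨r.map (pullback.fst f p.toHom), by rw [← Points.map_mk, hr, hz], ?_, ?_⟩
  · rw [FieldPt.toHom_map]; exact @mono_comp _ _ _ _ _ _ hrm _ this
  · rw [FieldPt.toHom_map]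
    exact repWith_comp hrq (repWith_baseChange sq.flip hq)

theorem isDecent_of_representable {X Y : Sp S} (f : X ⟶ Y) (hf : Representable f) (hY : IsDecent Y) :
    IsDecent X :=
  isDecent_of_fibres f hY fun p P fst snd sq => by
    obtain ⟨W, w, a, sW⟩ := hf p.toHom
    exact (isDecent_yon W).of_iso (sW.isoIsPullback _ _ sq)

theorem isDecentMor_of_isDecent {X Y : Sp S} (hY : IsAlgSpace Y) (f : X ⟶ Y) (hX : IsDecent X) : IsDecentMor f :=
  fun _ _ g fst _ sq => isDecent_of_representable fst
    (MorphismProperty.of_isPullback (P := Representable) sq.flip (Functor.relativelyRepresentable.of_diag hY.diag g)) hX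

theorem isDecent_of_isDecentMor {X Y : Sp S} (f : X ⟶ Y) (hf : IsDecentMor f) (hY : IsDecent Y) : IsDecent X :=
  isDecent_of_fibres f hY fun p _ fst snd sq => hf p.toHom fst snd sq

end Groth.Agent.AlgSpFin
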