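import Groth.Agent.AlgStLib.SpDiagProps
import Groth.Agent.AlgSpLib.AffineRep
import Groth.Agent.AlgSpPts.Qc
import Groth.Agent.AlgSpFin.Decent
import Groth.Prelude.Def_AlgSp4
import Groth.Prelude.Def_AlgSpDec

/-!
Base change and cancellation rules for morphisms of algebraic spaces.
-/

set_option autoImplicit false
set_option backward.isDefEq.respectTransparency.types false

universe u

open CategoryTheory CategoryTheory.Limits AlgebraicGeometry Opposite AlgSp

namespace Groth.Agent.AlgSpFin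

open Groth.Agent.AlgSpLib Groth.Agent.AlgStLib

variable {S : Scheme.{u}} {X Y Z B : Sp S}

/-- A morphism is its graph followed by a base change of the composite. -/
theorem exists_graph (f : X ⟶ Y) (g : Y ⟶ Z) :
    ∃ (P : Sp S) (γ : X ⟶ P) (p : P ⟶ X) (s : P ⟶ Y) (m : P ⟶ pullback g g),
      IsPullback p s (f ≫ g) g ∧ γ ≫ s = f ∧ IsPullback f γ (pullback.diagonal g) m :=
  ⟨_, _, _, _, _, IsPullback.of_hasPullback (f ≫ g) g, pullback.lift_snd _ _ _,
    pullback_lift_diagonal_isPullback f g⟩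

theorem isQuasiCompactMor_baseChange {P : Sp S} {fst : P ⟶ X} {snd : P ⟶ Z} {f : X ⟶ Y} {g : Z ⟶ Y}
    (sq : IsPullback fst snd f g) (h : IsQuasiCompactMor f) : IsQuasiCompactMor snd :=
  fun _ _ hZ hq k _ _ sq' => h hZ hq (k ≫ g) _ _ (sq'.paste_horiz sq)

theorem isAffineMor_baseChange {P : Sp S} {fst : P ⟶ X} {snd : P ⟶ Z} {f : X ⟶ Y} {g : Z ⟶ Y}
    (sq : IsPullback fst snd f g) (h : IsAffineMor f) : IsAffineMor snd := by
  intro T hT k
  obtain ⟨W, i, a, sW, hW⟩ := h hT (k ≫ g)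
  exact ⟨W, i, _, IsPullback.of_right (by rw [sq.lift_fst a ((yon S).map i ≫ k) (by rw [sW.w, Category.assoc])]; exact sW)
    (sq.lift_snd _ _ _) sq, hW⟩

theorem isAffineMor_comp {f : X ⟶ Y} {g : Y ⟶ Z} (hf : IsAffineMor f) (hg : IsAffineMor g) : IsAffineMor (f ≫ g) :=
  affRep_top_iff.2 (affRep_comp (affRep_top_iff.1 hf) (affRep_top_iff.1 hg))

theorem isQuasiCompactMor_of_comp (hX : IsAlgSpace X) (hY : IsAlgSpace Y) (hZ : IsAlgSpace Z) (f : X ⟶ Y)
    (g : Y ⟶ Z) (hfg : IsQuasiCompactMor (f ≫ g)) (hg : IsQuasiSeparatedMor g) : IsQuasiCompactMor f := by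
  obtain ⟨P, γ, p, s, m, sP, e, sG⟩ := exists_graph f g
  have hP : IsAlgSpace P := isAlgSpace_of_isPullback sP hX hY hZ
  rw [← e]
  exact isQuasiCompactMor_comp hP hY
    (isQuasiCompactMor_of_repWith hX hP (repWith_baseChange sG hg)) (isQuasiCompactMor_baseChange sP hfg)

theorem isAffineMor_of_comp (f : X ⟶ Y) (g : Y ⟶ Z) (hfg : IsAffineMor (f ≫ g))
    (hg : IsAffineMor (pullback.diagonal g)) : IsAffineMor f := by
  obtain ⟨P, γ, p, s, m, sP, e, sG⟩ := exists_graph f g
  rw [← e]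
  exact isAffineMor_comp (isAffineMor_baseChange sG hg) (isAffineMor_baseChange sP hfg)

theorem isAffineMor_of_repWith {f : X ⟶ Y} (hf : RepWith @IsAffineHom f) : IsAffineMor f := by
  intro T hT k
  obtain ⟨W, i, a, sW⟩ := hf.1 k
  have : IsAffineHom i.left := hf.2 k a i sW
  have := hT
  exact ⟨W, i, a, sW, isAffine_of_isAffineHom i.left⟩

theorem isAffineMor_diagonal_of_isSeparatedMor {f : X ⟶ Y} (hf : IsSeparatedMor f) :
    IsAffineMor (pullback.diagonal f) :=
  isAffineMor_of_repWith (repWith_mono (fun _ _ k hk => by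
    have : IsClosedImmersion k := hk
    infer_instance) hf)

theorem isQuasiCompactMor_of_surjective_comp (hY : IsAlgSpace Y) (hB : IsAlgSpace B) (f : X ⟶ Y) (q : Y ⟶ B)
    (hf : Function.Surjective (Points.map f)) (hp : IsQuasiCompactMor (f ≫ q)) : IsQuasiCompactMor q := by
  intro T T' hT hq k a b sq
  have s₁ := IsPullback.of_hasPullback f a
  exact isQuasiCompactSp_of_surjective (isAlgSpace_of_isPullback sq hY hT hB) (pullback.snd f a)
    (surjective_snd s₁ hf) (hp hT hq k _ _ (s₁.paste_vert sq))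

theorem isUnivClosedMor_of_surjective_comp (f : X ⟶ Y) (q : Y ⟶ B)
    (hf : Function.Surjective (Points.map f)) (hp : IsUnivClosedMor (f ≫ q)) : IsUnivClosedMor q := by
  intro T T' hT k a b sq C hC
  have s₁ := IsPullback.of_hasPullback f a
  have h' := hp hT k _ _ (s₁.paste_vert sq) _ (hC.preimage (Points.continuous_map (pullback.snd f a)))
  convert h' using 1
  conv_lhs => rw [← Set.image_preimage_eq C (surjective_snd s₁ hf), Set.image_image]
  exact Set.image_congr fun x _ => (Points.map_comp _ _ _).symm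

theorem isDecentMor_comp {f : X ⟶ Y} {g : Y ⟶ Z} (hf : IsDecentMor f) (hg : IsDecentMor g) :
    IsDecentMor (f ≫ g) := by
  intro T F' k a b sq
  have s₂ := IsPullback.of_hasPullback g k
  have s₁ : IsPullback a (s₂.lift (a ≫ f) b (by rw [Category.assoc]; exact sq.w)) f (pullback.fst g k) :=
    IsPullback.of_bot (by rw [s₂.lift_snd]; exact sq) (s₂.lift_fst _ _ _).symm s₂
  exact isDecent_of_fibres _ (hg k _ _ s₂) fun p _ fst snd sq' => hf (p.toHom ≫ pullback.fst g k) _ _ (sq'.paste_horiz s₁)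

theorem isEtaleMor_of_comp (hX : IsAlgSpace X) (hY : IsAlgSpace Y) (hZ : IsAlgSpace Z) {f : X ⟶ Y} {g : Y ⟶ Z}
    (hfg : IsEtaleMor (f ≫ g)) (hg : IsEtaleMor g) : IsEtaleMor f :=
  (isEtaleMor_iff_locP hY).2 (locP_of_comp hX hY hZ ((isEtaleMor_iff_locP hZ).1 hfg)
    ((isEtaleMor_iff_locP hZ).1 hg) fun _ _ _ k m h hm => by
      have : Etale m := hm
      have : Etale (k ≫ m) := h
      exact Etale.of_comp k m)

theorem isEtaleMor_baseChange {P : Sp S} {fst : P ⟶ X} {snd : P ⟶ Z} {f : X ⟶ Y} {g : Z ⟶ Y}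
    (hX : IsAlgSpace X) (hY : IsAlgSpace Y) (hZ : IsAlgSpace Z)
    (sq : IsPullback fst snd f g) (h : IsEtaleMor f) : IsEtaleMor snd :=
  (isEtaleMor_iff_locP hZ).2 (locP_baseChange hX hY hZ sq ((isEtaleMor_iff_locP hY).1 h))

end Groth.Agent.AlgSpFin
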