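import Groth.Agent.AlgSpFin.OpenNear
import Groth.Agent.AlgSpFin.MorCalc
import Groth.Agent.AlgSpFin.DecentFibre
import Groth.Agent.AlgSpFin.CodimZeroFibre
import Groth.Agent.AlgSpPts.Qc

/-!
Properties of a morphism at a point.
-/

set_option autoImplicit false
set_option backward.isDefEq.respectTransparency.types false

universe u

open CategoryTheory CategoryTheory.Limits AlgebraicGeometry Opposite AlgSp TopologicalSpace

namespace Groth.Agent.AlgSpFin

open Groth.Agent.AlgSpLib

variable {S : Scheme.{u}}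

/-- The predicate "`P` on a neighbourhood of a point". -/
abbrev nearBy (P : MorphismProperty Scheme.{u}) : ∀ (U V : Scheme.{u}), (U ⟶ V) → ↥U → Prop :=
  fun U _ h u => ∃ W : U.Opens, u ∈ W ∧ P (W.ι ≫ h)

/-- A property at a point is seen in every chart. -/
theorem exists_open_of_hasAtMor (P : MorphismProperty Scheme.{u}) [EtLocal P] {X Y : Sp S} {f : X ⟶ Y}
    {U V : Over S} {a : (yon S).obj U ⟶ X} {b : (yon S).obj V ⟶ Y} {h : U ⟶ V} (ha : RepWith @Etale a)
    (hb : RepWith @Etale b) (w : a ≫ f = (yon S).map h ≫ b) (u : U.left)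
    (hQ : HasAtMor (nearBy P) f (Points.ofPt a u)) :
    ∃ O : U.left.Opens, u ∈ O ∧ P (O.ι ≫ h.left) := by
  obtain ⟨U₁, V₁, a₁, b₁, h₁, u₁, ha₁, hb₁, w₁, he, W₀, hu₁, hW₀⟩ := hQ
  obtain ⟨U₂, p₁, p, sU⟩ := exists_isPullback ha₁.1 a
  obtain ⟨V₂, q₁, q, sV⟩ := exists_isPullback hb₁.1 b
  obtain ⟨z, hz₁, hz₂⟩ := (ofPt_eq_iff sU u₁ u).1 he
  have : Etale p₁.left := prop_snd sU.flip ha
  have : Etale p.left := prop_snd sU ha₁
  have hq₁ : Etale q₁.left := prop_snd sV.flip hb
  have : Etale q.left := prop_snd sV hb₁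
  obtain ⟨k, hk₁, hk₂⟩ := exists_lift sV ((yon S).map (p₁ ≫ h₁)) (p ≫ h) (by
    rw [Functor.map_comp, Functor.map_comp, Category.assoc, Category.assoc, ← w₁, ← w, reassoc_of% sU.w])
  have hk₁' : k ≫ q₁ = p₁ ≫ h₁ := (yon S).map_injective (by rw [Functor.map_comp]; exact hk₁)
  let O₂ : U₂.left.Opens := p₁.left ⁻¹ᵁ W₀
  have hk : P ((O₂.ι ≫ k.left) ≫ q₁.left) := by
    have e : (O₂.ι ≫ k.left) ≫ q₁.left = (p₁.left ∣_ W₀) ≫ W₀.ι ≫ h₁.left := by
      rw [Category.assoc, ← Over.comp_left, hk₁', Over.comp_left, morphismRestrict_ι_assoc]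
    rw [e]
    exact EtLocal.comp_etale _ _ (IsZariskiLocalAtTarget.restrict ‹Etale p₁.left› W₀) hW₀
  have h₂ : P ((O₂.ι ≫ k.left) ≫ q.left) :=
    MorphismProperty.comp_mem _ _ _ (EtLocal.cancel _ _ hq₁ hk) (EtLocal.of_etale _ ‹Etale q.left›)
  let O : U.left.Opens := ⟨p.left '' (O₂ : Set U₂.left), p.left.isOpenMap _ O₂.2⟩
  let e : O₂.toScheme ⟶ O.toScheme := IsOpenImmersion.lift O.ι (O₂.ι ≫ p.left) (by
    rintro _ ⟨y, rfl⟩
    rw [Scheme.Opens.range_ι]
    exact ⟨y.1, y.2, rfl⟩)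
  have he' : e ≫ O.ι = O₂.ι ≫ p.left := IsOpenImmersion.lift_fac _ _ _
  have hee : Etale e := by
    have : Etale (e ≫ O.ι) := by rw [he']; infer_instance
    exact Etale.of_comp e O.ι
  have hes : Surjective e := ⟨fun y => by
    obtain ⟨x, hx, hxy⟩ := y.2
    refine ⟨⟨x, hx⟩, O.ι.isOpenEmbedding.injective ?_⟩
    rw [← Scheme.Hom.comp_apply, he']
    exact hxy⟩
  refine ⟨O, ⟨z, ?_, hz₂⟩, ?_⟩
  · show p₁.left z ∈ W₀
    rwa [hz₁]
  · refine EtLocal.desc (P := P) e (O.ι ≫ h.left) hee hes ?_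
    rwa [reassoc_of% he', ← Over.comp_left, ← hk₂, Over.comp_left, ← Category.assoc]

/-- Locality at the source passes to intersections. -/
theorem isZariskiLocalAtSource_inf (P Q : MorphismProperty Scheme.{u}) [IsZariskiLocalAtSource P]
    [IsZariskiLocalAtSource Q] : IsZariskiLocalAtSource (P ⊓ Q) :=
  IsZariskiLocalAtSource.mk' (fun {_ _} f U h => ⟨IsZariskiLocalAtSource.comp h.1 U.ι,
      IsZariskiLocalAtSource.comp h.2 U.ι⟩)
    fun {_ _} f {_} U hU h => ⟨IsZariskiLocalAtSource.of_iSup_eq_top U hU fun i => (h i).1,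
      IsZariskiLocalAtSource.of_iSup_eq_top U hU fun i => (h i).2⟩

/-- The seven local properties are local at the source. -/
theorem isZariskiLocalAtSource_of_seven {P : MorphismProperty Scheme.{u}}
    (hP : P = @LocallyOfFiniteType ∨ P = @LocallyOfFinitePresentation ∨ P = @Flat ∨ P = @Smooth ∨ P = @Etale ∨
      (∀ ⦃A B : Scheme.{u}⦄ (g : A ⟶ B), P g ↔ (LocallyQuasiFinite g ∧ LocallyOfFiniteType g)) ∨
      (∀ ⦃A B : Scheme.{u}⦄ (g : A ⟶ B), P g ↔ (LocallyOfFiniteType g ∧ FormallyUnramified g))) :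
    IsZariskiLocalAtSource P := by
  have i₁ : IsZariskiLocalAtSource (@LocallyOfFiniteType : MorphismProperty Scheme.{u}) :=
    HasRingHomProperty.instIsZariskiLocalAtSource
  obtain rfl | rfl | rfl | rfl | rfl | h | h := hP
  · exact i₁
  iterate 4 exact HasRingHomProperty.instIsZariskiLocalAtSource
  · obtain rfl : P = (@LocallyQuasiFinite ⊓ @LocallyOfFiniteType : MorphismProperty Scheme.{u}) := by
      funext A B g; exact propext (h g)
    have : IsZariskiLocalAtSource (@LocallyQuasiFinite : MorphismProperty Scheme.{u}) :=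
      HasRingHomProperty.instIsZariskiLocalAtSource
    exact isZariskiLocalAtSource_inf _ _
  · obtain rfl : P = (@LocallyOfFiniteType ⊓ @FormallyUnramified : MorphismProperty Scheme.{u}) := by
      funext A B g; exact propext (h g)
    have : IsZariskiLocalAtSource (@FormallyUnramified : MorphismProperty Scheme.{u}) :=
      HasRingHomProperty.instIsZariskiLocalAtSource
    exact isZariskiLocalAtSource_inf _ _

/-- A local property holds iff it holds at every point. -/
theorem locP_iff_forall_hasAtMor (P : MorphismProperty Scheme.{u}) [EtLocal P] [IsZariskiLocalAtSource P]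
    {X Y : Space S} (f : X ⟶ Y) : LocP P f.hom ↔ ∀ x : Points X.obj, HasAtMor (nearBy P) f.hom x := by
  refine ⟨fun hP x => ?_, fun hP U V a b h ha hb w => ?_⟩
  · obtain ⟨U, V, a, b, h, ha, has, hb, -, w⟩ := exists_chart X.property Y.property f.hom
    obtain ⟨u, rfl⟩ := surjective_ofPt has x
    exact ⟨U, V, a, b, h, u, ha, hb, w, rfl, ⊤, trivial,
      EtLocal.comp_etale _ _ (inferInstanceAs (Etale (⊤ : U.left.Opens).ι)) (hP a b h ha hb w)⟩
  · choose O hO hPO using fun u : U.left => exists_open_of_hasAtMor P ha hb w u (hP _)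
    rw [IsZariskiLocalAtSource.iff_of_iSup_eq_top (P := P) O
      (top_le_iff.1 fun u _ => TopologicalSpace.Opens.mem_iSup.2 ⟨u, hO u⟩)]
    exact hPO

/-- A property at a point is inherited by base change. -/
theorem hasAtMor_baseChange (P : MorphismProperty Scheme.{u}) [EtLocal P] {X Y Y' X' : Space S} (f : X ⟶ Y)
    {g : Y'.obj ⟶ Y.obj} {fst : X'.obj ⟶ X.obj} (f' : X' ⟶ Y') (sq : IsPullback fst f'.hom f.hom g)
    (p : Points X'.obj) (h : HasAtMor (nearBy P) f.hom (Points.map fst p)) : HasAtMor (nearBy P) f'.hom p := by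
  obtain ⟨X₁, j, hj, ⟨x₁, hx₁⟩, hP⟩ := (hasAtMor_iff_exists_open_subspace P f _).1 h
  have sj := IsPullback.of_hasPullback j.hom fst
  obtain ⟨p₁, -, hp₁⟩ := exists_point_of_isPullback sj x₁ p hx₁
  have hX₂ := isAlgSpace_of_isPullback sj X₁.property X'.property X.property
  refine (hasAtMor_iff_exists_open_subspace P f' p).2 ⟨⟨pullback j.hom fst, hX₂⟩,
    ObjectProperty.homMk (pullback.snd j.hom fst), repWith_baseChange sj hj, ⟨p₁, hp₁⟩, ?_⟩
  exact locP_baseChange X₁.property Y.property Y'.property (sj.paste_vert sq) hP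

/-- Quasi-finite points of a quasi-compact finite type morphism of schemes are finite in each fibre. -/
theorem finite_quasiFinite_in_fibre {U V : Scheme.{u}} (h : U ⟶ V) [QuasiCompact h] [LocallyOfFiniteType h] (v : V) :
    {u : U | h u = v ∧ ∃ O : U.Opens, u ∈ O ∧ LocallyQuasiFinite (O.ι ≫ h)}.Finite := by
  have : LocallyOfFiniteType (h.fiberToSpecResidueField v) := MorphismProperty.pullback_snd _ _ ‹_›
  have : IsLocallyNoetherian (h.fiber v) := LocallyOfFiniteType.isLocallyNoetherian (h.fiberToSpecResidueField v)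
  have : IsNoetherian (h.fiber v) := { }
  let T : Set (h.fiber v) := {p | IsOpen ({p} : Set (h.fiber v))}
  have hT : T.Finite := by
    have hc : IsCompact T := NoetherianSpace.isCompact _
    have : DiscreteTopology T := discreteTopology_iff_isOpen_singleton.2 fun p =>
      ⟨{p.1}, p.2, Set.ext fun q => Subtype.ext_iff.symm⟩
    exact hc.finite (isDiscrete_iff_discreteTopology.2 this)
  refine (hT.image (h.fiberι v)).subset ?_
  rintro u ⟨rfl, O, hu, hO⟩
  have hqf : h.QuasiFiniteAt u := by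
    have := (Scheme.Hom.quasiFiniteAt_comp_iff_of_isOpenImmersion (f := O.ι) (g := h) (x := ⟨u, hu⟩)).1
      ((O.ι ≫ h).quasiFiniteAt _)
    exact this
  exact ⟨h.asFiber u, hqf.isClopen_singleton_asFiber.isOpen, h.fiberι_asFiber u⟩

/-- A finite type morphism has finitely many quasi-finite points in each fibre. -/
theorem finite_quasiFinite_over_point {X Y : Space S} (f : X ⟶ Y) (hf : IsFiniteTypeMor f.hom)
    (y : Points Y.obj) :
    {x : Points X.obj | Points.map f.hom x = y ∧ HasAtMor (fun U _ h u => ∃ W : U.Opens, u ∈ W ∧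
      LocallyQuasiFinite (W.ι ≫ h) ∧ LocallyOfFiniteType (W.ι ≫ h)) f.hom x}.Finite := by
  obtain ⟨V₀, b₀, hb₀, hb₀s⟩ := Y.property.atlas
  obtain ⟨v₀, rfl⟩ := surjective_ofPt hb₀s y
  obtain ⟨B, hB, hvB, -⟩ := exists_isAffineOpen_mem_and_subset (X := V₀.left) (U := ⊤) (x := v₀) trivial
  let V : Over S := Over.mk (B.ι ≫ V₀.hom)
  let b : (yon S).obj V ⟶ Y.obj := (yon S).map (Over.homMk B.ι rfl : V ⟶ V₀) ≫ b₀
  have hb : RepWith @Etale b := repWith_yon_comp (P := @Etale) _ (inferInstanceAs (Etale B.ι)) hb₀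
  have : IsAffine V.left := hB
  let v : V.left := ⟨v₀, hvB⟩
  have hbv : Points.ofPt b v = Points.ofPt b₀ v₀ := ofPt_comp _ b₀ v
  have sP := IsPullback.of_hasPullback f.hom b
  let P : Space S := ⟨pullback f.hom b,
    isAlgSpace_of_isPullback sP X.property (IsAlgSpace.yon_obj V) Y.property⟩
  let π : P ⟶ ⟨(yon S).obj V, IsAlgSpace.yon_obj V⟩ := ObjectProperty.homMk (pullback.snd f.hom b)
  have hPc : IsQuasiCompactSp P.obj := hf.2 (IsAlgSpace.yon_obj V)
    ⟨V, 𝟙 _, repWith_id _ V, repWith_id _ V, inferInstance⟩ b (pullback.fst f.hom b) (pullback.snd f.hom b) sP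
  obtain ⟨U, a, hU, ha, has⟩ := (isQuasiCompactSp_iff_affine P.property).1 hPc
  have := hU
  obtain ⟨h, hh⟩ := (yon S).map_surjective (a ≫ pullback.snd f.hom b)
  have : LocallyOfFiniteType h.left := locP_baseChange X.property Y.property (IsAlgSpace.yon_obj V) sP hf.1
    a (𝟙 _) h ha (repWith_id _ V) (by rw [Category.comp_id, hh])
  refine ((finite_quasiFinite_in_fibre h.left v).image
    fun u => Points.map (pullback.fst f.hom b) (Points.ofPt a u)).subset ?_
  rintro x ⟨hx, hQ⟩
  obtain ⟨p, hp₁, hp₂⟩ := exists_point_of_isPullback sP x (Points.ofPt (𝟙 _) v)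
    (by rw [hx, Points.map_ofPt, Category.id_comp, hbv])
  obtain ⟨u, rfl⟩ := surjective_ofPt has p
  have hQ' : HasAtMor (nearBy (@LocallyQuasiFinite ⊓ @LocallyOfFiniteType)) f.hom
      (Points.map (pullback.fst f.hom b) (Points.ofPt a u)) := by rw [hp₁]; exact hQ
  obtain ⟨O, hO, hl⟩ := exists_open_of_hasAtMor _ ha (repWith_id _ V) (h := h)
    (by rw [Category.comp_id]; exact hh.symm) u
    (hasAtMor_baseChange _ (X' := P) f π sP _ hQ')
  refine ⟨u, ⟨(Points.schemeEquiv V).injective ?_, O, hO, hl.1⟩, hp₁⟩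
  show Points.ofPt (𝟙 _) (h.left u) = Points.ofPt (𝟙 _) v
  rw [← ofPt_comp, Category.comp_id, hh, ← hp₂, Points.map_ofPt]

/-- Finitely many points of a fibre product over a quasi-finite point and a given point. -/
theorem finite_points_over_quasiFinite {X Y Z W : Space S} (f : X ⟶ Y) (g : Z ⟶ Y) (p : W ⟶ X) (q : W ⟶ Z)
    (hW : IsPullback p.hom q.hom f.hom g.hom) (x : Points X.obj) (z : Points Z.obj) (hft : IsFiniteTypeMor f.hom)
    (hf : HasAtMor (fun U _ h u => ∃ W : U.Opens, u ∈ W ∧ LocallyQuasiFinite (W.ι ≫ h) ∧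
      LocallyOfFiniteType (W.ι ≫ h)) f.hom x) :
    {w : Points W.obj | Points.map p.hom w = x ∧ Points.map q.hom w = z}.Finite := by
  obtain ⟨r, rfl⟩ := Points.mk_surjective z
  let s : r.pt.left := (IsLocalRing.closedPoint r.K : PrimeSpectrum r.K)
  have sF := IsPullback.of_hasPullback q.hom r.toHom
  let F : Space S := ⟨pullback q.hom r.toHom,
    isAlgSpace_of_isPullback sF W.property (IsAlgSpace.yon_obj r.pt) Z.property⟩
  let π : F ⟶ ⟨(yon S).obj r.pt, IsAlgSpace.yon_obj r.pt⟩ := ObjectProperty.homMk (pullback.snd q.hom r.toHom)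
  have sT := sF.paste_horiz hW
  have hπ : IsFiniteTypeMor π.hom := ⟨locP_baseChange X.property Y.property (IsAlgSpace.yon_obj r.pt) sT hft.1,
    isQuasiCompactMor_baseChange sT hft.2⟩
  refine ((finite_quasiFinite_over_point π hπ (Points.ofPt (𝟙 _) s)).image
    (Points.map (pullback.fst q.hom r.toHom))).subset ?_
  rintro w ⟨hw₁, hw₂⟩
  have hs : Points.map r.toHom (Points.ofPt (𝟙 _) s) = Points.mk r := by
    rw [Points.map_ofPt, Category.id_comp]
    exact Points.ofPt_toHom r s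
  obtain ⟨t, ht₁, ht₂⟩ := exists_point_of_isPullback sF w (Points.ofPt (𝟙 _) s) (by rw [hw₂, hs])
  refine ⟨t, ⟨ht₂, ?_⟩, ht₁⟩
  exact hasAtMor_baseChange (@LocallyQuasiFinite ⊓ @LocallyOfFiniteType) (X' := F) f π sT t (by
    rw [Points.map_comp, ht₁, hw₁]
    exact hf)

/-- Points of a chart over a point with finite affine fibres do not specialise to each other. -/
theorem eq_of_specializes_of_affine_finite (X : Space S) (x : Points X.obj)
    (hx : ∀ (V : Over S) (b : (yon S).obj V ⟶ X.obj), IsAffine V.left → RepWith @Etale b →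
      (Points.ofPt b ⁻¹' {x}).Finite)
    {U : Over S} (a : (yon S).obj U ⟶ X.obj) (ha : RepWith @Etale a) (u u' : U.left)
    (hu : Points.ofPt a u = x) (hu' : Points.ofPt a u' = x) (hs : u' ⤳ u) : u = u' := by
  obtain ⟨B, hB, huB, -⟩ := exists_isAffineOpen_mem_and_subset (X := U.left) (U := ⊤) (x := u) trivial
  let V : Over S := Over.mk (B.ι ≫ U.hom)
  let j : V ⟶ U := Over.homMk B.ι rfl
  let b : (yon S).obj V ⟶ X.obj := (yon S).map j ≫ a
  have hb : RepWith @Etale b :=
    repWith_yon_comp (P := @Etale) j (inferInstanceAs (Etale B.ι)) ha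
  have hpt : ∀ t : V.left, Points.ofPt b t = Points.ofPt a t.1 := fun t => ofPt_comp j a t
  have hu'B : u' ∈ B := hs.mem_open B.2 huB
  have := eq_of_specializes_of_finite_fibre X.property hb (u := (⟨u', hu'B⟩ : B.toScheme))
    (u' := ⟨u, huB⟩) (by rw [hpt, hpt, hu, hu']) ((subtype_specializes_iff _ _).2 hs)
    ((hx V b hB hb).subset fun t (ht : Points.ofPt b t = _) => by
      show Points.ofPt b t = x
      rw [ht, hpt, hu'])
  exact (congrArg Subtype.val this).symm

end Groth.Agent.AlgSpFin
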