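import Groth.Agent.AlgSpPts.Basic
import Groth.Agent.AlgSpLib.RepGlue
import Groth.Agent.AlgSpLib.LocP
import Mathlib.Topology.LocallyClosed

/-!
Immersions of algebraic spaces on points.
-/

set_option autoImplicit false
set_option backward.isDefEq.respectTransparency.types false

universe u

open CategoryTheory CategoryTheory.Limits AlgebraicGeometry Opposite AlgSp Topology

namespace Groth.Agent.AlgSpFin

open Groth.Agent.AlgSpLib

variable {S : Scheme.{u}}

theorem injective_map_of_mono {X Y : Sp S} (i : X ⟶ Y) [Mono i] : Function.Injective (Points.map i) :=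
  fun x y e => by
    obtain ⟨z, h₁, h₂⟩ := exists_point_of_isPullback (IsKernelPair.id_of_mono i) x y e
    rw [← h₁, ← h₂]

/-- An open continuous surjection detects local closedness. -/
theorem isLocallyClosed_of_preimage {α β : Type*} [TopologicalSpace α] [TopologicalSpace β] {q : α → β}
    (hc : Continuous q) (ho : IsOpenMap q) (hs : Function.Surjective q) {L : Set β}
    (h : IsLocallyClosed (q ⁻¹' L)) : IsLocallyClosed L := by
  rw [isLocallyClosed_iff_isOpen_coborder] at h ⊢
  rw [coborder_preimage ho hc] at h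
  exact (ho.isQuotientMap hc hs).isOpen_preimage.1 h

variable {Z X : Sp S} {i : Z ⟶ X}

theorem exists_immersion_chart (hX : IsAlgSpace X) (hi : RepWith @IsImmersion i) :
    ∃ (U W : Over S) (a : (yon S).obj U ⟶ X) (w : (yon S).obj W ⟶ Z) (j : W ⟶ U),
      IsPullback w ((yon S).map j) i a ∧ IsImmersion j.left ∧ RepWith @Etale a ∧ RepWith @Surjective a ∧
        RepWith @Surjective w := by
  obtain ⟨U, a, ha, has⟩ := hX.atlas
  obtain ⟨W, j, w, sW⟩ := hi.1 a
  exact ⟨U, W, a, w, j, sW, hi.2 a w j sW, ha, has, repWith_baseChange sW.flip has⟩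

theorem preimage_range_map {U W : Over S} {a : (yon S).obj U ⟶ X} {w : (yon S).obj W ⟶ Z} {j : W ⟶ U}
    (sW : IsPullback w ((yon S).map j) i a) : Points.ofPt a ⁻¹' Set.range (Points.map i) = Set.range j.left := by
  ext t
  constructor
  · rintro ⟨z, hz⟩
    obtain ⟨y, -, hy⟩ := exists_point_of_isPullback sW z (Points.ofPt (𝟙 _) t)
      (by rw [hz, Points.map_ofPt, Category.id_comp])
    obtain ⟨y', rfl⟩ := exists_ofScheme y
    exact ⟨y', (Points.schemeEquiv U).injective (show Points.ofPt (𝟙 _) (j.left y') = Points.ofPt (𝟙 _) t by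
      rw [← hy, map_yon_ofPt_id])⟩
  · rintro ⟨y, rfl⟩
    refine ⟨Points.ofPt w y, ?_⟩
    rw [Points.map_ofPt, sW.w, ofPt_comp]

/-- An immersion of algebraic spaces is an embedding with locally closed image. -/
theorem isEmbedding_map_of_immersion (hX : IsAlgSpace X) (hi : RepWith @IsImmersion i) :
    IsEmbedding (Points.map i) ∧ IsLocallyClosed (Set.range (Points.map i)) := by
  have : Mono i := mono_of_repWith_isImmersion hi
  obtain ⟨U, W, a, w, j, sW, hj, ha, has, hws⟩ := exists_immersion_chart hX hi
  refine ⟨⟨isInducing_iff_nhds.2 ?_, injective_map_of_mono i⟩, ?_⟩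
  · have key : ∀ O : Set (Points Z), IsOpen O → ∃ O', IsOpen O' ∧ Points.map i ⁻¹' O' = O := fun O hO => by
      obtain ⟨O₂, hO₂, e⟩ := j.left.isEmbedding.toIsInducing.isOpen_iff.1 (hO.preimage (Points.continuous_ofPt w))
      refine ⟨Points.ofPt a '' O₂, isOpenMap_ofPt_of_etale ha _ hO₂, ?_⟩
      ext z
      obtain ⟨y, rfl⟩ := surjective_ofPt hws z
      have e₁ : Points.map i (Points.ofPt w y) = Points.ofPt a (j.left y) := by
        rw [Points.map_ofPt, sW.w, ofPt_comp]
      constructor
      · rintro ⟨t, ht, e'⟩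
        obtain ⟨y₁, hy₁, hy₂⟩ := exists_point_of_isPullback sW (Points.ofPt w y) (Points.ofPt (𝟙 _) t)
          (by rw [← e', Points.map_ofPt, Category.id_comp])
        obtain ⟨y', rfl⟩ := exists_ofScheme y₁
        have : j.left y' = t := (Points.schemeEquiv U).injective
          (show Points.ofPt (𝟙 _) (j.left y') = Points.ofPt (𝟙 _) t by rw [← hy₂, map_yon_ofPt_id])
        rw [map_ofPt_id] at hy₁
        rw [← hy₁]
        exact (Set.ext_iff.1 e y').1 (show j.left y' ∈ O₂ from this ▸ ht)
      · intro hz
        exact ⟨j.left y, (Set.ext_iff.1 e y).2 hz, e₁.symm⟩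
    have hind : IsInducing (Points.map i) := ⟨le_antisymm (Points.continuous_map i).le_induced fun O hO =>
      isOpen_induced_iff.2 (key O hO)⟩
    exact isInducing_iff_nhds.1 hind
  · refine isLocallyClosed_of_preimage (Points.continuous_ofPt a) (isOpenMap_ofPt_of_etale ha) (surjective_ofPt has) ?_
    rw [preimage_range_map sW]
    exact j.left.isLocallyClosed_range

/-- An immersion is a closed immersion exactly when its image is closed. -/
theorem repWith_isClosedImmersion_iff (hX : IsAlgSpace X) (hi : RepWith @IsImmersion i) :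
    RepWith @IsClosedImmersion i ↔ IsClosed (Set.range (Points.map i)) := by
  obtain ⟨U, W, a, w, j, sW, hj, ha, has, hws⟩ := exists_immersion_chart hX hi
  constructor
  · intro h
    have : IsClosedImmersion j.left := h.2 a w j sW
    rw [← (isQuotientMap_ofPt ha has).isClosed_preimage, preimage_range_map sW]
    exact j.left.isClosedEmbedding.isClosed_range
  · intro h
    have hj' : IsClosedImmersion j.left := IsClosedImmersion.of_isPreimmersion j.left
      (by rw [← preimage_range_map sW]; exact h.preimage (Points.continuous_ofPt a))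
    have := FpqcDescent.isClosedImmersion_descendsAlong.{u}
    refine repWith_of_fpqc (AlgSpPts.isFpqcCover_chart hX a ha has) (𝟙 _) hi.1 fun T ψ hT T' fst snd sd => ?_
    obtain ⟨-, k, l, hl⟩ := hT
    rw [Category.comp_id] at hl
    obtain ⟨r, hr⟩ := (yon S).map_surjective l
    subst hr hl
    obtain ⟨g, hg₁, hg₂⟩ := exists_lift sW fst (snd ≫ r) (by rw [Functor.map_comp, Category.assoc]; exact sd.w)
    have sl : IsPullback ((yon S).map g) ((yon S).map snd) ((yon S).map j) ((yon S).map r) :=
      IsPullback.of_right (by rw [hg₁]; exact sd) (by rw [← Functor.map_comp, hg₂, Functor.map_comp]) sW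
    exact MorphismProperty.of_isPullback (P := @IsClosedImmersion) (left_isPullback (isPullback_of_yon sl)) hj'

end Groth.Agent.AlgSpFin
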