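import Groth.Agent.AlgSpFin.MorCalc
import Groth.Agent.AlgSpLib.RepGlue
import Groth.Agent.AlgSpLib.LocP
import Groth.Agent.GrpdBasic.QuotGlobal
import Groth.Agent.HenselLib.EtaleNormal
import Groth.Agent.BddFibLib.Basic

/-!
Algebraic spaces with quasi-compact intersections over finite schemes are decent.
-/

set_option autoImplicit false
set_option backward.isDefEq.respectTransparency.types false

universe u

open CategoryTheory CategoryTheory.Limits AlgebraicGeometry Opposite AlgSp

namespace Groth.Agent.AlgSpFin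

open Groth.Agent.AlgSpLib

variable {S : Scheme.{u}}

theorem isReduced_scheme_of_etale {T T' : Scheme.{u}} (f : T' ⟶ T) [Etale f] [AlgebraicGeometry.IsReduced T] :
    AlgebraicGeometry.IsReduced T' := by
  have : ∀ x : T', _root_.IsReduced (T'.presheaf.stalk x) := fun x => by
    obtain ⟨A, hA, hxA, -⟩ := exists_isAffineOpen_mem_and_subset (x := f x) (U := ⊤) trivial
    obtain ⟨B, hB, hxB, hBA⟩ := exists_isAffineOpen_mem_and_subset (x := x) (U := f ⁻¹ᵁ A) hxA
    have he : (f.appLE A B hBA).hom.Etale := HasRingHomProperty.appLE @Etale f inferInstance ⟨A, hA⟩ ⟨B, hB⟩ hBA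
    algebraize [(f.appLE A B hBA).hom]
    have : _root_.IsReduced Γ(T', B) := HenselLib.isReduced_of_etale Γ(T, A) Γ(T', B)
    let _ := TopCat.Presheaf.algebra_section_stalk T'.presheaf ⟨x, hxB⟩
    have : IsLocalization.AtPrime (T'.presheaf.stalk x) (hB.primeIdealOf ⟨x, hxB⟩).asIdeal :=
      hB.isLocalization_stalk ⟨x, hxB⟩
    exact isReduced_localizationPreserves (hB.primeIdealOf ⟨x, hxB⟩).asIdeal.primeCompl _ inferInstance
  exact isReduced_of_isReduced_stalk T'

/-- Every morphism to a discrete reduced scheme is flat. -/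
theorem flat_of_discrete_reduced {R E : Scheme.{u}} (f : R ⟶ E) [DiscreteTopology E] [AlgebraicGeometry.IsReduced E] :
    Flat f := by
  let 𝒰 : E.OpenCover := E.openCoverOfIsOpenCover
    (fun x : E ↦ ⟨{x}, isOpen_discrete _⟩) (.mk (by ext; simp))
  refine IsZariskiLocalAtTarget.of_openCover 𝒰 fun i => ?_
  have : Subsingleton (𝒰.X i) := inferInstanceAs (Subsingleton ({i} : Set E))
  have : Nonempty (𝒰.X i) := inferInstanceAs (Nonempty ({i} : Set E))
  have : AlgebraicGeometry.IsReduced (𝒰.X i) := isReduced_of_isOpenImmersion (𝒰.f i)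
  have : IsIntegral (𝒰.X i) := (isIntegral_iff_irreducibleSpace_and_isReduced _).mpr
    ⟨⟨inferInstance⟩, inferInstance⟩
  let _ := (isField_of_isIntegral_of_subsingleton (𝒰.X i)).toField
  have : IsAffine (𝒰.X i) := by
    obtain ⟨z⟩ : Nonempty (𝒰.X i) := inferInstance
    obtain ⟨W, hW, hzW, -⟩ := exists_isAffineOpen_mem_and_subset (X := 𝒰.X i) (U := ⊤) (x := z) trivial
    obtain rfl : W = ⊤ := top_le_iff.1 fun y _ => Subsingleton.elim z y ▸ hzW
    exact IsAffine.of_isIso (h := hW) (𝒰.X i).topIso.inv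
  rw [← MorphismProperty.cancel_right_of_respectsIso @Flat _ (𝒰.X i).isoSpec.hom]
  exact BddFibLib.flat_to_field _

/-- The inclusion of the spectra of residue fields of distinct points is a monomorphism. -/
theorem mono_sigmaDesc_fromSpecResidueField {U : Scheme.{u}} {I : Type u} (pt : I → U)
    (h : Function.Injective pt) : Mono (Sigma.desc fun i => U.fromSpecResidueField (pt i)) := by
  let W : I → Scheme.{u} := fun i => Spec (U.residueField (pt i))
  let j : ∐ W ⟶ U := Sigma.desc fun i => U.fromSpecResidueField (pt i)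
  have hj : ∀ i y, j (Sigma.ι W i y) = pt i := fun i y => by
    rw [← Scheme.Hom.comp_apply, Sigma.ι_desc]
    exact Scheme.fromSpecResidueField_apply _ _
  refine ⟨fun {T} a b e => ?_⟩
  refine Scheme.Cover.hom_ext ((sigmaOpenCover W).pullback₁ a) _ _ fun i => ?_
  let c : pullback a (Sigma.ι W i) ⟶ T := pullback.fst _ _
  have hr : Set.range (c ≫ b) ⊆ Set.range (Sigma.ι W i) := by
    rintro _ ⟨z, rfl⟩
    obtain ⟨k, y, hy⟩ := (sigmaOpenCover W).exists_eq ((c ≫ b) z)
    have hy' : Sigma.ι W k y = (c ≫ b) z := hy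
    have e₁ : j ((c ≫ a) z) = pt i := by
      rw [show (c ≫ a) = pullback.snd a (Sigma.ι W i) ≫ Sigma.ι W i from pullback.condition, Scheme.Hom.comp_apply]
      exact hj i _
    have e₂ : j ((c ≫ b) z) = pt k := by rw [← hy']; exact hj k _
    have : pt k = pt i := by
      rw [← e₁, ← e₂, ← Scheme.Hom.comp_apply, ← Scheme.Hom.comp_apply, Category.assoc, Category.assoc, e]
    obtain rfl := h this
    exact ⟨y, hy'⟩
  let b' := IsOpenImmersion.lift (Sigma.ι W i) (c ≫ b) hr
  have hb : b' ≫ Sigma.ι W i = c ≫ b := IsOpenImmersion.lift_fac _ _ _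
  have ha : pullback.snd a (Sigma.ι W i) ≫ Sigma.ι W i = c ≫ a := pullback.condition.symm
  have hji : Sigma.ι W i ≫ j = U.fromSpecResidueField (pt i) := Sigma.ι_desc _ _
  have : pullback.snd a (Sigma.ι W i) = b' := by
    rw [← cancel_mono (U.fromSpecResidueField (pt i)), ← hji, reassoc_of% ha, reassoc_of% hb, e]
  show c ≫ a = c ≫ b
  rw [← ha, ← hb, this]

/-- Maps from a scheme descend along finite locally free surjections. -/
theorem exists_desc {X : Sp S} {Z M : Over S} (q : Z ⟶ M) [Flat q.left] [LocallyOfFinitePresentation q.left]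
    [Surjective q.left] (a : (yon S).obj Z ⟶ X)
    (h : ∀ {W : Over S} (p₁ p₂ : W ⟶ Z), p₁ ≫ q = p₂ ≫ q → (yon S).map p₁ ≫ a = (yon S).map p₂ ≫ a) :
    ∃ φ : (yon S).obj M ⟶ X, (yon S).map q ≫ φ = a := by
  have hc : Sieve.generate (Presieve.singleton q) ∈ (AlgSp.J S) M := by
    rw [GrothendieckTopology.mem_over_iff]
    refine GrothendieckTopology.superset_covering _ ?_
      (Precoverage.generate_mem_toGrothendieck (Scheme.Hom.singleton_mem_fppfPrecoverage q.left))
    rw [Sieve.generate_le_iff]
    rintro W _ ⟨⟩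
    rw [Sieve.overEquiv_iff]
    refine ⟨Z, Over.homMk (𝟙 _) (by simp), q, ⟨⟩, ?_⟩
    ext
    simp
  have hX : Presieve.IsSheafFor X.obj (Presieve.singleton q) := by
    rw [Presieve.isSheafFor_iff_generate]
    exact (isSheaf_iff_isSheaf_of_type _ _).1 X.property _ hc
  rw [Presieve.isSheafFor_singleton] at hX
  obtain ⟨x, hx, -⟩ := hX ((AlgSp.J S).uliftYonedaEquiv.{u + 1} a) fun {W} p₁ p₂ hp => by
    apply (AlgSp.J S).uliftYonedaEquiv.{u + 1}.symm.injective
    have key : ∀ p : W ⟶ Z,
        (AlgSp.J S).uliftYonedaEquiv.{u + 1}.symm (X.obj.map p.op ((AlgSp.J S).uliftYonedaEquiv.{u + 1} a)) =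
          (yon S).map p ≫ a := fun p => by
      rw [GrothendieckTopology.uliftYonedaEquiv_naturality, Equiv.symm_apply_apply]
    rw [key, key, h p₁ p₂ hp]
  refine ⟨(AlgSp.J S).uliftYonedaEquiv.{u + 1}.symm x, ?_⟩
  apply (AlgSp.J S).uliftYonedaEquiv.{u + 1}.injective
  rw [← GrothendieckTopology.uliftYonedaEquiv_naturality, Equiv.apply_symm_apply]
  exact hx

theorem isField_of_unique_prime {C : Type u} [CommRing C] [Nontrivial C] [_root_.IsReduced C]
    [Subsingleton (PrimeSpectrum C)] : IsField C := by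
  refine ⟨⟨0, 1, zero_ne_one⟩, mul_comm, fun {x} hx => ?_⟩
  have hu : IsUnit x := by
    by_contra h
    obtain ⟨m, hm, hxm⟩ := exists_max_ideal_of_mem_nonunits (show x ∈ nonunits C from h)
    refine hx (IsReduced.eq_zero x (mem_nilradical.1 ?_))
    rw [nilradical_eq_sInf, Submodule.mem_sInf]
    intro P hP
    have : (⟨P, hP⟩ : PrimeSpectrum C) = ⟨m, hm.isPrime⟩ := Subsingleton.elim _ _
    have e : P = m := congrArg PrimeSpectrum.asIdeal this
    rw [e]
    exact hxm
  obtain ⟨y, hy⟩ := hu.exists_right_inv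
  exact ⟨y, hy⟩

/-- The affine quotient by a finite etale kernel pair. -/
theorem exists_affine_quotient {X : Sp S} {Z R : Over S} (α : (yon S).obj Z ⟶ X) (s t : R ⟶ Z)
    (sq : IsPullback ((yon S).map s) ((yon S).map t) α α) [IsAffine Z.left]
    [Flat s.left] [LocallyOfFinitePresentation s.left] [IsFinite s.left] :
    ∃ (C : Type u) (_ : CommRing C) (str : Spec (CommRingCat.of C) ⟶ S) (q : Z ⟶ Over.mk str)
      (φ : (yon S).obj (Over.mk str) ⟶ X) (i : C →+* Γ(Z.left, ⊤)),
      (yon S).map q ≫ φ = α ∧ Surjective q.left ∧ Mono φ ∧ Function.Injective i ∧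
        IsFinite q.left ∧ Flat q.left ∧ LocallyOfFinitePresentation q.left ∧ s ≫ q = t ≫ q := by
  have hext : ∀ {T : Scheme.{u}} (a b : T ⟶ R.left), a ≫ t.left = b ≫ t.left → a ≫ s.left = b ≫ s.left → a = b := by
    intro T a b ht hs
    have hb : b ≫ R.hom = a ≫ R.hom := by rw [← Over.w s, ← Category.assoc, ← hs, Category.assoc]
    let a' : Over.mk (a ≫ R.hom) ⟶ R := Over.homMk a rfl
    let b' : Over.mk (a ≫ R.hom) ⟶ R := Over.homMk b hb
    have : a' = b' := (yon S).map_injective (sq.hom_ext
      (by rw [← Functor.map_comp, ← Functor.map_comp]; exact congrArg _ (Over.OverMorphism.ext hs))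
      (by rw [← Functor.map_comp, ← Functor.map_comp]; exact congrArg _ (Over.OverMorphism.ext ht)))
    exact congrArg CommaMorphism.left this
  have hlift : ∀ {T : Over S} (a b : T ⟶ Z), (yon S).map a ≫ α = (yon S).map b ≫ α →
      ∃ r : T ⟶ R, r ≫ s = a ∧ r ≫ t = b := by
    intro T a b h
    refine ⟨(yon S).preimage (sq.lift _ _ h), (yon S).map_injective ?_, (yon S).map_injective ?_⟩
    · rw [Functor.map_comp, (yon S).map_preimage, sq.lift_fst]
    · rw [Functor.map_comp, (yon S).map_preimage, sq.lift_snd]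
  obtain ⟨e, hes, het⟩ := hlift (𝟙 Z) (𝟙 Z) rfl
  obtain ⟨i, his, hit⟩ := hlift t s sq.w.symm
  let P : Over S := Over.mk (pullback.fst s.left t.left ≫ R.hom)
  let p₁ : P ⟶ R := Over.homMk (pullback.fst s.left t.left) rfl
  let p₂ : P ⟶ R := Over.homMk (pullback.snd s.left t.left) (by
    show pullback.snd s.left t.left ≫ R.hom = pullback.fst s.left t.left ≫ R.hom
    exact (congrArg (pullback.snd s.left t.left ≫ ·) (Over.w t)).symm.trans
      ((pullback.condition_assoc Z.hom).symm.trans (congrArg (pullback.fst s.left t.left ≫ ·) (Over.w s))))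
  have hp : p₁ ≫ s = p₂ ≫ t := Over.OverMorphism.ext pullback.condition
  obtain ⟨c, hcs, hct⟩ := hlift (p₂ ≫ s) (p₁ ≫ t) (by
    rw [Functor.map_comp, Category.assoc, sq.w, ← Category.assoc, ← Functor.map_comp, ← hp,
      Functor.map_comp, Category.assoc, sq.w, ← Category.assoc, ← Functor.map_comp])
  have hcs' : c.left ≫ s.left = pullback.snd s.left t.left ≫ s.left := congrArg CommaMorphism.left hcs
  have hct' : c.left ≫ t.left = pullback.fst s.left t.left ≫ t.left := congrArg CommaMorphism.left hct
  have hes' : e.left ≫ s.left = 𝟙 Z.left := congrArg CommaMorphism.left hes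
  have het' : e.left ≫ t.left = 𝟙 Z.left := congrArg CommaMorphism.left het
  have his' : i.left ≫ s.left = t.left := congrArg CommaMorphism.left his
  have hit' : i.left ≫ t.left = s.left := congrArg CommaMorphism.left hit
  let G : Grpd.GroupoidScheme S :=
    { U := Z.left
      R := R.left
      pU := Z.hom
      pR := R.hom
      s := s.left
      t := t.left
      e := e.left
      i := i.left
      c := c.left
      s_over := Over.w s
      t_over := Over.w t
      comp_s := fun α β h => by rw [Category.assoc, hcs', pullback.lift_snd_assoc]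
      comp_t := fun α β h => by rw [Category.assoc, hct', pullback.lift_fst_assoc]
      assoc := fun α β γ h₁ h₂ => hext _ _
        (by simp [hct', pullback.lift_fst_assoc]) (by simp [hcs', pullback.lift_snd_assoc])
      e_s := hes'
      e_t := het'
      comp_e := fun α => hext _ _ (by rw [Category.assoc, hct']; erw [pullback.lift_fst_assoc])
        (by rw [Category.assoc, hcs']; erw [pullback.lift_snd_assoc]; simp [hes'])
      e_comp := fun α => hext _ _ (by rw [Category.assoc, hct']; erw [pullback.lift_fst_assoc]; simp [het'])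
        (by rw [Category.assoc, hcs']; erw [pullback.lift_snd_assoc])
      i_s := his'
      i_t := hit'
      comp_i := fun α => hext _ _ (by rw [Category.assoc, hct']; erw [pullback.lift_fst_assoc]; simp [het'])
        (by rw [Category.assoc, hcs']; erw [pullback.lift_snd_assoc]; simp [hes', his'])
      i_comp := fun α => hext _ _ (by rw [Category.assoc, hct']; erw [pullback.lift_fst_assoc]; simp [het', hit'])
        (by rw [Category.assoc, hcs']; erw [pullback.lift_snd_assoc]; simp [hes']) }
  have : IsAffine R.left := isAffine_of_isAffineHom s.left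
  have hi : IsIso i.left := ⟨i.left, hext _ _ (by simp [hit', his']) (by simp [his', hit']),
    hext _ _ (by simp [hit', his']) (by simp [his', hit'])⟩
  have : Flat t.left := by rw [← his']; infer_instance
  have : LocallyOfFinitePresentation t.left := by rw [← his']; infer_instance
  have htf : IsFinite t.left := by rw [← his']; infer_instance
  have : IsAffine G.U := inferInstanceAs (IsAffine Z.left)
  have : IsAffine G.R := inferInstanceAs (IsAffine R.left)
  have : IsFinite G.s := inferInstanceAs (IsFinite s.left)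
  have : Flat G.s := inferInstanceAs (Flat s.left)
  have : LocallyOfFinitePresentation G.s := inferInstanceAs (LocallyOfFinitePresentation s.left)
  have : IsFinite G.t := htf
  have : Flat G.t := inferInstanceAs (Flat t.left)
  have : LocallyOfFinitePresentation G.t := inferInstanceAs (LocallyOfFinitePresentation t.left)
  have hj₁ : G.j ≫ pullback.fst G.pU G.pU = t.left := pullback.lift_fst _ _ _
  have hj₂ : G.j ≫ pullback.snd G.pU G.pU = s.left := pullback.lift_snd _ _ _
  have : Mono G.j := ⟨fun a b h => hext _ _ (by rw [← hj₁, reassoc_of% h]) (by rw [← hj₂, reassoc_of% h])⟩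
  obtain ⟨hqf, hqfl, hqlfp⟩ := GrpdBasic.finiteLocallyFree_toQuot G
  obtain ⟨ψ, hψ₁, hψ₂⟩ := GrpdBasic.exists_iso_pullback_toQuot G
  have hqt : t.left ≫ G.toQuot = s.left ≫ G.toQuot := by
    show G.t ≫ G.toQuot = G.s ≫ G.toQuot
    rw [← hψ₁, ← hψ₂, Category.assoc, Category.assoc, pullback.condition]
  have hinj : Function.Injective G.invariants.subtype := Subtype.val_injective
  have hfin : G.invariants.subtype.IsIntegral := by
    have := GrpdBasic.finite_invariants G
    exact Algebra.IsIntegral.isIntegral (R := G.invariants) (A := Γ(G.U, ⊤))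
  have hqs : Surjective G.toQuot := by
    have h₁ : Surjective (Spec.map (CommRingCat.ofHom G.invariants.subtype)) :=
      ⟨RingHom.IsIntegral.comap_surjective hfin hinj⟩
    rw [GrpdBasic.toQuot_eq]
    exact MorphismProperty.comp_mem @Surjective G.U.isoSpec.hom _ inferInstance h₁
  have := hqf
  have := hqfl
  have := hqlfp
  obtain ⟨⟨str, hstr⟩⟩ : Nonempty {m : Spec (CommRingCat.of G.invariants) ⟶ S // G.toQuot ≫ m = Z.hom} := by
    have : EffectiveEpi G.toQuot := inferInstance
    refine ⟨⟨EffectiveEpi.desc G.toQuot Z.hom fun {W} g₁ g₂ hg => ?_, EffectiveEpi.fac _ _ _⟩⟩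
    obtain ⟨r, hr₁, hr₂⟩ : ∃ r, r ≫ t.left = g₁ ∧ r ≫ s.left = g₂ :=
      ⟨pullback.lift g₁ g₂ hg ≫ ψ.inv, by
        show (_ ≫ _) ≫ G.t = _
        rw [← hψ₁, Category.assoc, Iso.inv_hom_id_assoc, pullback.lift_fst], by
        show (_ ≫ _) ≫ G.s = _
        rw [← hψ₂, Category.assoc, Iso.inv_hom_id_assoc, pullback.lift_snd]⟩
    rw [← hr₁, ← hr₂, Category.assoc, Category.assoc, Over.w t, Over.w s]
  let q : Z ⟶ Over.mk str := Over.homMk G.toQuot hstr
  have : Flat q.left := hqfl
  have : LocallyOfFinitePresentation q.left := hqlfp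
  have : IsFinite q.left := hqf
  have : Surjective q.left := hqs
  have hker : ∀ {W : Over S} (a b : W ⟶ Z), a ≫ q = b ≫ q → (yon S).map a ≫ α = (yon S).map b ≫ α := by
    intro W a b h
    have h' : a.left ≫ G.toQuot = b.left ≫ G.toQuot := congrArg CommaMorphism.left h
    let l : W.left ⟶ R.left := pullback.lift a.left b.left h' ≫ ψ.inv
    have hl₁ : l ≫ t.left = a.left := by
      show (_ ≫ _) ≫ G.t = _
      rw [← hψ₁, Category.assoc, Iso.inv_hom_id_assoc, pullback.lift_fst]
    have hl₂ : l ≫ s.left = b.left := by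
      show (_ ≫ _) ≫ G.s = _
      rw [← hψ₂, Category.assoc, Iso.inv_hom_id_assoc, pullback.lift_snd]
    let l' : W ⟶ R := Over.homMk l (by rw [← Over.w s, reassoc_of% hl₂, Over.w b])
    have e₁ : l' ≫ t = a := Over.OverMorphism.ext hl₁
    have e₂ : l' ≫ s = b := Over.OverMorphism.ext hl₂
    rw [← e₁, ← e₂, Functor.map_comp, Functor.map_comp, Category.assoc, Category.assoc, sq.w]
  obtain ⟨φ, hφ⟩ := exists_desc q α hker
  refine ⟨G.invariants, inferInstance, str, q, φ, G.invariants.subtype, hφ, hqs, ⟨fun {Y} u v huv => hom_ext_yon fun W w => ?_⟩,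
    hinj, hqf, hqfl, hqlfp, Over.OverMorphism.ext hqt.symm⟩
  obtain ⟨a, ha⟩ := (yon S).map_surjective (w ≫ u)
  obtain ⟨b, hb⟩ := (yon S).map_surjective (w ≫ v)
  suffices a = b by rw [← ha, ← hb, this]
  have hab : (yon S).map a ≫ φ = (yon S).map b ≫ φ := by rw [ha, hb, Category.assoc, Category.assoc, huv]
  obtain ⟨P₁, z₁, π₁, s₁⟩ : ∃ (P₁ : Over S) (z₁ : P₁ ⟶ Z) (π₁ : P₁ ⟶ W), IsPullback z₁ π₁ q a :=
    ⟨_, _, _, IsPullback.of_hasPullback q a⟩
  obtain ⟨P₂, z₂, π₂, s₂⟩ : ∃ (P₂ : Over S) (z₂ : P₂ ⟶ Z) (π₂ : P₂ ⟶ P₁), IsPullback z₂ π₂ q (π₁ ≫ b) :=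
    ⟨_, _, _, IsPullback.of_hasPullback q (π₁ ≫ b)⟩
  have l₁ := left_isPullback s₁
  have l₂ := left_isPullback s₂
  have : Flat π₁.left := MorphismProperty.of_isPullback (P := @Flat) l₁ inferInstance
  have : Flat π₂.left := MorphismProperty.of_isPullback (P := @Flat) l₂ inferInstance
  have : IsFinite π₁.left := MorphismProperty.of_isPullback (P := @IsFinite) l₁ inferInstance
  have : IsFinite π₂.left := MorphismProperty.of_isPullback (P := @IsFinite) l₂ inferInstance
  have : Surjective π₁.left := MorphismProperty.of_isPullback (P := @Surjective) l₁ inferInstance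
  have : Surjective π₂.left := MorphismProperty.of_isPullback (P := @Surjective) l₂ inferInstance
  have : Epi π₁.left := inferInstance
  have : Epi π₂.left := inferInstance
  have e₁ : π₂ ≫ z₁ ≫ q = (π₂ ≫ π₁) ≫ a := by rw [s₁.w, Category.assoc]
  have e₂ : z₂ ≫ q = (π₂ ≫ π₁) ≫ b := by rw [s₂.w, Category.assoc]
  obtain ⟨r, hr₁, hr₂⟩ := hlift (π₂ ≫ z₁) z₂ (by
    rw [← hφ, ← Category.assoc, ← Category.assoc, ← Functor.map_comp, ← Functor.map_comp, Category.assoc, e₁, e₂,
      Functor.map_comp, Functor.map_comp, Category.assoc, Category.assoc, hab, Functor.map_comp, Functor.map_comp,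
      Category.assoc, Category.assoc])
  have hst : s ≫ q = t ≫ q := Over.OverMorphism.ext hqt.symm
  have : (π₂ ≫ π₁) ≫ a = (π₂ ≫ π₁) ≫ b := by
    rw [← e₁, ← e₂, ← hr₂, ← Category.assoc, ← hr₁, Category.assoc, Category.assoc, hst]
  refine Over.OverMorphism.ext ?_
  have h' := congrArg CommaMorphism.left this
  simp only [Over.comp_left, Category.assoc] at h'
  exact (cancel_epi π₁.left).1 ((cancel_epi π₂.left).1 h')

/-- The groupoid of an etale finite kernel pair over one point. -/
theorem exists_residual_map {X : Sp S} {Z R : Over S} (α : (yon S).obj Z ⟶ X) (s t : R ⟶ Z)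
    (sq : IsPullback ((yon S).map s) ((yon S).map t) α α) [IsAffine Z.left] [AlgebraicGeometry.IsReduced Z.left]
    [Nonempty Z.left] [Etale s.left] [IsFinite s.left] (hpt : ∀ z z' : Z.left, Points.ofPt α z = Points.ofPt α z') :
    ∃ (K : Type u) (_ : Field K) (str : Spec (CommRingCat.of K) ⟶ S) (q : Z ⟶ Over.mk str)
      (φ : (yon S).obj (Over.mk str) ⟶ X),
      (yon S).map q ≫ φ = α ∧ Surjective q.left ∧ Mono φ := by
  obtain ⟨C, hC, str, q, φ, i, hφ, hqs, hmono, hinj, -, -, -, hqt⟩ := exists_affine_quotient α s t sq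
  have hsub : Subsingleton (PrimeSpectrum C) := ⟨fun m m' => by
    obtain ⟨z, rfl⟩ := hqs.surj m
    obtain ⟨z', rfl⟩ := hqs.surj m'
    obtain ⟨r, hr, hr'⟩ := (ofPt_eq_iff sq z z').1 (hpt z z')
    rw [← hr, ← hr', ← Scheme.Hom.comp_apply, ← Scheme.Hom.comp_apply]
    rw [show s.left ≫ q.left = t.left ≫ q.left from congrArg CommaMorphism.left hqt]⟩
  have : Nonempty (⊤ : Z.left.Opens) := ⟨⟨Classical.arbitrary _, trivial⟩⟩
  have : Nontrivial Γ(Z.left, ⊤) := Z.left.component_nontrivial ⊤
  have : Nontrivial C := RingHom.domain_nontrivial i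
  have : _root_.IsReduced C := isReduced_of_injective i hinj
  exact ⟨C, isField_of_unique_prime.toField, str, q, φ, hφ, hqs, hmono⟩

/-- A point is a quasi-compact monomorphism point if compact schemes pull back to compact ones along finite schemes over it. -/
theorem exists_qc_mono_point_of_finite_compact {X : Sp S} (hX : IsAlgSpace X) (x : Points X)
    (hq : ∀ ⦃U V W : Over S⦄ (a : (yon S).obj U ⟶ X) (b : (yon S).obj V ⟶ X) (fst : W ⟶ U) (snd : W ⟶ V),
      IsPullback ((yon S).map fst) ((yon S).map snd) a b → Finite U.left → (∀ u, Points.ofPt a u = x) →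
        CompactSpace V.left → CompactSpace W.left) :
    ∃ p : FieldPt X, Points.mk p = x ∧ Mono p.toHom ∧ RepWith @QuasiCompact p.toHom := by
  obtain ⟨U₀, a₀, ha₀, ha₀s⟩ := hX.atlas
  obtain ⟨u₀, hu₀⟩ := surjective_ofPt ha₀s x
  obtain ⟨O, hO, huO, -⟩ := exists_isAffineOpen_mem_and_subset (X := U₀.left) (U := ⊤) (x := u₀) trivial
  let U : Over S := Over.mk (O.ι ≫ U₀.hom)
  let ι₀ : U ⟶ U₀ := Over.homMk O.ι rfl
  let a : (yon S).obj U ⟶ X := (yon S).map ι₀ ≫ a₀
  have hι₀ : Etale ι₀.left := inferInstanceAs (Etale O.ι)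
  have ha : RepWith @Etale a := repWith_yon_comp (P := @Etale) ι₀ hι₀ ha₀
  have : IsAffine U.left := hO
  let u : U.left := ⟨u₀, huO⟩
  have hu : Points.ofPt a u = x := by
    show Points.ofPt ((yon S).map ι₀ ≫ a₀) u = x
    rw [ofPt_comp]
    exact hu₀
  -- the fibre over `x` in `U` is finite
  let K₁ : Over S := Over.mk (U.left.fromSpecResidueField u ≫ U.hom)
  let k₁ : K₁ ⟶ U := Over.homMk (U.left.fromSpecResidueField u) rfl
  have : Finite K₁.left := inferInstanceAs (Finite (PrimeSpectrum (U.left.residueField u)))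
  have : IsLocallyArtinian K₁.left := inferInstanceAs (IsLocallyArtinian (Spec (U.left.residueField u)))
  obtain ⟨W₀, w₁, w₂, sW₀⟩ := exists_isPullback ha.1 ((yon S).map k₁ ≫ a)
  have : CompactSpace W₀.left := hq _ _ w₂ w₁ sW₀.flip inferInstance (fun k => by
    rw [ofPt_comp, ← hu]
    exact congrArg (Points.ofPt a) (Scheme.fromSpecResidueField_apply _ _)) inferInstance
  have hw₂ : Etale w₂.left := prop_snd sW₀ ha
  have : LocallyQuasiFinite w₂.left := locallyQuasiFinite_of_formallyUnramified _
  have : IsLocallyArtinian W₀.left := IsLocallyArtinian.of_locallyQuasiFinite w₂.left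
  have : IsArtinianScheme W₀.left := { }
  let Sx : Set U.left := {t | Points.ofPt a t = x}
  have hSx : Sx.Finite := (Set.finite_range w₁.left).subset fun t (ht : Points.ofPt a t = x) => by
    obtain ⟨w, hw, -⟩ := (ofPt_eq_iff sW₀ t (IsLocalRing.closedPoint (U.left.residueField u))).1
      (ht.trans (hu.symm.trans ((congrArg (Points.ofPt a) (show k₁.left (IsLocalRing.closedPoint
        (U.left.residueField u)) = u from Scheme.fromSpecResidueField_apply _ _)).symm.trans
        (ofPt_comp k₁ a _).symm)))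
    exact ⟨w, hw⟩
  have : Finite Sx := hSx
  let P : Sx → Scheme.{u} := fun t => Spec (U.left.residueField t.1)
  let jm : ∐ P ⟶ U.left := Sigma.desc fun t : Sx => U.left.fromSpecResidueField t.1
  let Z : Over S := Over.mk (jm ≫ U.hom)
  let j : Z ⟶ U := Over.homMk jm rfl
  have : Mono jm := mono_sigmaDesc_fromSpecResidueField (fun t : Sx => t.1) Subtype.val_injective
  have : IsAffine Z.left := inferInstanceAs (IsAffine (∐ P))
  have : IsLocallyArtinian Z.left := by
    rw [show Z.left = ∐ P from rfl, isLocallyArtinian_iff_openCover (sigmaOpenCover P)]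
    intro t
    exact inferInstanceAs (IsLocallyArtinian (Spec (U.left.residueField t.1)))
  have : AlgebraicGeometry.IsReduced Z.left := by
    have : ∀ t, AlgebraicGeometry.IsReduced ((sigmaOpenCover P).X t) := fun t =>
      inferInstanceAs (AlgebraicGeometry.IsReduced (Spec (U.left.residueField t.1)))
    exact IsReduced.of_openCover _ (sigmaOpenCover P)
  have : IsArtinianScheme Z.left := { }
  have : Nonempty Z.left := ⟨Sigma.ι P ⟨u, hu⟩ (IsLocalRing.closedPoint (U.left.residueField u))⟩
  have hjpt : ∀ (t : Sx) (y : P t), j.left (Sigma.ι P t y) = t.1 := fun t y => by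
    show jm (Sigma.ι P t y) = t.1
    rw [← Scheme.Hom.comp_apply, Sigma.ι_desc]
    exact Scheme.fromSpecResidueField_apply _ _
  let α : (yon S).obj Z ⟶ X := (yon S).map j ≫ a
  have hα : ∀ z, Points.ofPt α z = x := fun z => by
    obtain ⟨t, y, hy⟩ := (sigmaOpenCover P).exists_eq z
    show Points.ofPt ((yon S).map j ≫ a) z = x
    rw [ofPt_comp, ← show Sigma.ι P t y = z from hy, hjpt]
    exact t.2
  obtain ⟨E, e₁, e₂, sE⟩ := exists_isPullback ha.1 α
  have : CompactSpace E.left := hq _ _ e₂ e₁ sE.flip inferInstance hα inferInstance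
  have : Etale e₂.left := prop_snd sE ha
  have : LocallyQuasiFinite e₂.left := locallyQuasiFinite_of_formallyUnramified _
  have : IsLocallyArtinian E.left := IsLocallyArtinian.of_locallyQuasiFinite e₂.left
  have : QuasiCompact e₂.left := (quasiCompact_iff_compactSpace (f := e₂.left)).2 inferInstance
  have : IsFinite e₂.left := IsFinite.of_locallyQuasiFinite e₂.left
  have : AlgebraicGeometry.IsReduced E.left := isReduced_scheme_of_etale e₂.left
  obtain ⟨R, r₁, r₂, sR⟩ : ∃ (R : Over S) (r₁ : R ⟶ Z) (r₂ : R ⟶ E), IsPullback r₁ r₂ j e₁ :=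
    ⟨_, _, _, IsPullback.of_hasPullback j e₁⟩
  have sl := left_isPullback sR
  have : Mono r₂.left := MorphismProperty.of_isPullback (P := MorphismProperty.monomorphisms Scheme) sl
    (inferInstanceAs (Mono jm))
  have : QuasiCompact j.left := by
    refine ⟨fun V _ _ => ?_⟩
    have : Finite Z.left := inferInstance
    exact (Set.toFinite _).isCompact
  have : QuasiCompact r₂.left := MorphismProperty.of_isPullback (P := @QuasiCompact) sl inferInstance
  have : Surjective r₂.left := ⟨fun e => by
    have ht : Points.ofPt a (e₁.left e) = x :=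
      ((ofPt_eq_iff sE (e₁.left e) (e₂.left e)).2 ⟨e, rfl, rfl⟩).trans (hα _)
    let y : P ⟨e₁.left e, ht⟩ := IsLocalRing.closedPoint (U.left.residueField (e₁.left e))
    obtain ⟨r, -, hr⟩ := Scheme.exists_preimage_of_isPullback sl (Sigma.ι P ⟨e₁.left e, ht⟩ y) e
      (hjpt ⟨e₁.left e, ht⟩ y)
    exact ⟨r, hr⟩⟩
  have : Flat r₂.left := flat_of_discrete_reduced r₂.left
  have : IsIso r₂.left := Flat.isIso_of_surjective_of_mono r₂.left
  let s : R ⟶ Z := r₂ ≫ e₂
  have : Etale s.left := inferInstanceAs (Etale (r₂.left ≫ e₂.left))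
  have : IsFinite s.left := inferInstanceAs (IsFinite (r₂.left ≫ e₂.left))
  have sq : IsPullback ((yon S).map s) ((yon S).map r₁) α α := by
    rw [Functor.map_comp]
    exact (yon_isPullback sR).flip.paste_horiz sE.flip
  obtain ⟨K, hK, str, q, φ, hφ, hqs, hmono⟩ := exists_residual_map α s r₁ sq fun z z' => (hα z).trans (hα z').symm
  refine ⟨ptOfHom φ, ?_, by rw [ptOfHom_toHom]; exact hmono, ?_⟩
  · obtain ⟨z⟩ : Nonempty Z.left := inferInstance
    rw [← Points.ofPt_toHom (ptOfHom φ) (q.left z), ptOfHom_toHom]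
    exact (ofPt_comp q φ z).symm.trans ((congrArg (fun m => Points.ofPt m z) hφ).trans (hα z))
  · rw [ptOfHom_toHom]
    refine repWith_of_affine_targets fun T hT g => ?_
    obtain ⟨W, fst, w, sW⟩ := exists_isPullback (hX.representable_from_yon φ) g
    refine ⟨W, w, (yon S).map fst, sW, ?_⟩
    obtain ⟨V, v₁, v₂, sV⟩ := exists_isPullback (hX.representable_from_yon α) g
    have : CompactSpace V.left := hq _ _ v₁ v₂ sV inferInstance hα inferInstance
    obtain ⟨l, hl₁, hl₂⟩ := exists_lift sW ((yon S).map (v₁ ≫ q)) v₂ (by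
      rw [Functor.map_comp, Category.assoc, hφ, sV.w])
    have sl' : IsPullback ((yon S).map v₁) ((yon S).map l) ((yon S).map q) ((yon S).map fst) :=
      IsPullback.of_bot (by rw [← Functor.map_comp, hl₂, hφ]; exact sV)
        (by rw [hl₁, Functor.map_comp]) sW
    have : Surjective l.left := MorphismProperty.of_isPullback (P := @Surjective)
      (left_isPullback (isPullback_of_yon sl')) hqs
    have : CompactSpace W.left := l.left.surjective.compactSpace l.left.continuous
    exact (quasiCompact_iff_compactSpace (f := w.left)).2 inferInstance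

/-- A space is decent if compact schemes pull back to compact ones along maps from finite schemes. -/
theorem isDecent_of_finite_compact {X : Sp S} (hX : IsAlgSpace X)
    (hq : ∀ ⦃U V W : Over S⦄ (a : (yon S).obj U ⟶ X) (b : (yon S).obj V ⟶ X) (fst : W ⟶ U) (snd : W ⟶ V),
      IsPullback ((yon S).map fst) ((yon S).map snd) a b → Finite U.left → CompactSpace V.left →
        CompactSpace W.left) : IsDecent X :=
  fun x => exists_qc_mono_point_of_finite_compact hX x fun _ _ _ a b fst snd sq hU _ hV => hq a b fst snd sq hU hV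

/-- Spaces quasi-separated over the base are decent. -/
theorem isDecent_of_isQuasiSeparatedMor {X : Sp S} {T : Over S} (hX : IsAlgSpace X) (f : X ⟶ (yon S).obj T)
    (hf : IsQuasiSeparatedMor f) : IsDecent X := by
  refine isDecent_of_finite_compact hX fun {U V W} a b fst snd sq _ _ => ?_
  obtain ⟨fa, hfa⟩ := (yon S).map_surjective (a ≫ f)
  obtain ⟨fb, hfb⟩ := (yon S).map_surjective (b ≫ f)
  have sT := IsPullback.of_hasPullback fa fb
  have : QuasiCompact fa.left := ⟨fun O _ _ => (Set.toFinite _).isCompact⟩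
  have : QuasiCompact (pullback.snd fa fb).left :=
    MorphismProperty.of_isPullback (P := @QuasiCompact) (left_isPullback sT) inferInstance
  have : CompactSpace (pullback fa fb).left := QuasiCompact.compactSpace_of_compactSpace (pullback.snd fa fb).left
  have sY := yon_isPullback sT
  let m : (yon S).obj (pullback fa fb) ⟶ pullback f f :=
    pullback.lift ((yon S).map (pullback.fst fa fb) ≫ a) ((yon S).map (pullback.snd fa fb) ≫ b)
      (by rw [Category.assoc, ← hfa, Category.assoc, ← hfb, sY.w])
  obtain ⟨l, hl₁, hl₂⟩ := exists_lift sY ((yon S).map fst) snd (by rw [hfa, reassoc_of% sq.w, hfb])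
  have sD : IsPullback ((yon S).map fst ≫ a) ((yon S).map l) (pullback.diagonal f) m := by
    have w : ((yon S).map fst ≫ a) ≫ pullback.diagonal f = (yon S).map l ≫ m := by
      apply pullback.hom_ext
      · simp only [Category.assoc, pullback.diagonal_fst, Category.comp_id, m, pullback.lift_fst]
        rw [← Category.assoc, hl₁]
      · simp only [Category.assoc, pullback.diagonal_snd, Category.comp_id, m, pullback.lift_snd]
        rw [← Category.assoc, ← Functor.map_comp, hl₂, sq.w]
    have key : ∀ c : PullbackCone (pullback.diagonal f) m,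
        (c.snd ≫ (yon S).map (pullback.fst fa fb)) ≫ a = c.fst ∧
          (c.snd ≫ (yon S).map (pullback.snd fa fb)) ≫ b = c.fst := fun c => by
      have h₁ := congrArg (· ≫ pullback.fst f f) c.condition
      have h₂ := congrArg (· ≫ pullback.snd f f) c.condition
      simp only [Category.assoc, pullback.diagonal_fst, pullback.diagonal_snd, Category.comp_id, m,
        pullback.lift_fst, pullback.lift_snd] at h₁ h₂
      exact ⟨(Category.assoc _ _ _).trans h₁.symm, (Category.assoc _ _ _).trans h₂.symm⟩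
    refine IsPullback.of_isLimit' ⟨w⟩ (PullbackCone.IsLimit.mk w
      (fun c => sq.lift (c.snd ≫ (yon S).map (pullback.fst fa fb)) (c.snd ≫ (yon S).map (pullback.snd fa fb))
        ((key c).1.trans (key c).2.symm))
      (fun c => by rw [sq.lift_fst_assoc]; exact (key c).1) (fun c => ?_) (fun c k _ hk => ?_))
    · apply sY.hom_ext
      · rw [Category.assoc, hl₁, sq.lift_fst]
      · rw [Category.assoc, ← Functor.map_comp, hl₂, sq.lift_snd]
    · apply sq.hom_ext
      · rw [sq.lift_fst, ← hk, Category.assoc, hl₁]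
      · rw [sq.lift_snd, ← hk, Category.assoc, ← Functor.map_comp, hl₂]
  have : QuasiCompact l.left := hf.2 _ _ l sD
  exact QuasiCompact.compactSpace_of_compactSpace l.left

end Groth.Agent.AlgSpFin
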