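import Groth.Agent.AlgSpFin.OpenSubspace
import Groth.Agent.AlgSpFin.ImmersionTop
import Groth.Agent.AlgSpFin.QsDecent
import Groth.Agent.FlatDescent.Point
import Groth.Agent.AlgSpPts.Generic
import Groth.Agent.AlgSpPts.Qc
import Groth.Agent.AlgSpPts.RepTop
import Groth.Agent.AlgSpLib.DiagMor
import Groth.Prelude.Def_AlgSpCov

/-!
Open images of charts, separatedness and quasi-separatedness, reducedness at points.
-/

set_option autoImplicit false
set_option backward.isDefEq.respectTransparency.types false

universe u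

open CategoryTheory CategoryTheory.Limits AlgebraicGeometry Opposite AlgSp

namespace Groth.Agent.AlgSpFin

open Groth.Agent.AlgSpLib

variable {S : Scheme.{u}}

/-- A chart factors through its open image. -/
theorem exists_factor_open_image {X X' : Space S} {U : Over S} (a : (yon S).obj U ⟶ X.obj) (ha : RepWith @Etale a)
    (j : X' ⟶ X) (hj : RepWith @IsOpenImmersion j.hom)
    (himage : Set.range (Points.map j.hom) = Set.range (Points.ofPt a)) :
    ∃ a' : (yon S).obj U ⟶ X'.obj, a' ≫ j.hom = a ∧ RepWith @Etale a' ∧ RepWith @Surjective a' ∧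
      ∀ (R : Over S) (s t : R ⟶ U), IsPullback ((yon S).map t) ((yon S).map s) a a → IsPresentation s t a' := by
  obtain ⟨a', ha'⟩ := (AlgSpPts.factor_open_iff hj a).2 (by
    rintro _ ⟨z, rfl⟩
    obtain ⟨t, rfl⟩ := exists_ofScheme z
    rw [himage, map_ofPt_id]
    exact ⟨t, rfl⟩)
  have : Mono j.hom := mono_of_repWith hj fun _ _ k hk => by
    have : IsOpenImmersion k := hk
    infer_instance
  have sq : IsPullback (𝟙 _) a' a j.hom := by
    rw [← ha']
    exact IsPullback.of_isLimit' ⟨by simp⟩ (PullbackCone.IsLimit.mk _ (fun s => s.fst)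
      (fun s => Category.comp_id _) (fun s => by
        rw [← cancel_mono j.hom, Category.assoc]
        exact s.condition)
      fun s l h₁ _ => by rw [← h₁]; exact (Category.comp_id l).symm)
  have he : RepWith @Etale a' := repWith_baseChange sq ha
  have hs : RepWith @Surjective a' := repWith_surjective_of_map he.1 fun x => by
    obtain ⟨t, ht⟩ := himage.le ⟨x, rfl⟩
    refine ⟨Points.ofPt (𝟙 _) t, injective_map_of_mono j.hom ?_⟩
    rw [map_ofPt_id, Points.map_ofPt, ha', ht]
  refine ⟨a', ha', he, hs, fun R s t hR => ?_⟩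
  have hR' : IsPullback ((yon S).map t) ((yon S).map s) a' a' := by
    have w : (yon S).map t ≫ a' = (yon S).map s ≫ a' := by
      rw [← cancel_mono j.hom, Category.assoc, Category.assoc, ha', hR.w]
    refine IsPullback.of_isLimit' ⟨w⟩ (PullbackCone.IsLimit.mk w
      (fun c => hR.lift c.fst c.snd (by rw [← ha', reassoc_of% c.condition]))
      (fun c => hR.lift_fst _ _ _) (fun c => hR.lift_snd _ _ _)
      fun c l h₁ h₂ => hR.hom_ext (by rw [hR.lift_fst]; exact h₁) (by rw [hR.lift_snd]; exact h₂))
  refine ⟨{ injective := fun T r r' h₁ h₂ => (yon S).map_injective (hR.hom_ext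
        (by rw [← Functor.map_comp, h₁, Functor.map_comp]) (by rw [← Functor.map_comp, h₂, Functor.map_comp]))
            equivalence := fun T => ?_
            etale_left := prop_snd hR ha
            etale_right := prop_snd hR.flip ha }, he, hs, hR'⟩
  have key : ∀ x y : T ⟶ U, (∃ r : T ⟶ R, r ≫ t = x ∧ r ≫ s = y) ↔ (yon S).map x ≫ a = (yon S).map y ≫ a := by
    refine fun x y => ⟨?_, fun h => ?_⟩
    · rintro ⟨r, rfl, rfl⟩
      rw [Functor.map_comp, Functor.map_comp, Category.assoc, Category.assoc, hR.w]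
    · obtain ⟨r, hr₁, hr₂⟩ := exists_lift hR ((yon S).map x) y h
      exact ⟨r, (yon S).map_injective (by rw [Functor.map_comp, hr₁]), hr₂⟩
  exact ⟨fun x => (key x x).2 rfl, fun h => (key _ _).2 ((key _ _).1 h).symm,
    fun h h' => (key _ _).2 (((key _ _).1 h).trans ((key _ _).1 h'))⟩

/-- Fibre products of schemes over a space map monomorphically to those over the base. -/
theorem mono_pullback_lift {X : Sp S} {U V R : Over S} {a : (yon S).obj U ⟶ X} {b : (yon S).obj V ⟶ X}
    {s : R ⟶ U} {t : R ⟶ V} (sq : IsPullback ((yon S).map s) ((yon S).map t) a b) :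
    Mono (pullback.lift (f := U.hom) (g := V.hom) s.left t.left ((Over.w s).trans (Over.w t).symm)) :=
  ⟨fun {T} p q e => by
    have hs : p ≫ s.left = q ≫ s.left := by
      have := congrArg (· ≫ pullback.fst U.hom V.hom) e
      simpa only [Category.assoc, pullback.lift_fst] using this
    have ht : p ≫ t.left = q ≫ t.left := by
      have := congrArg (· ≫ pullback.snd U.hom V.hom) e
      simpa only [Category.assoc, pullback.lift_snd] using this
    have hq : q ≫ R.hom = p ≫ R.hom := by rw [← Over.w s, ← Category.assoc, ← hs, Category.assoc]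
    let p' : Over.mk (p ≫ R.hom) ⟶ R := Over.homMk p rfl
    let q' : Over.mk (p ≫ R.hom) ⟶ R := Over.homMk q hq
    have : p' = q' := (yon S).map_injective (sq.hom_ext
      (by rw [← Functor.map_comp, ← Functor.map_comp]; exact congrArg _ (Over.OverMorphism.ext hs))
      (by rw [← Functor.map_comp, ← Functor.map_comp]; exact congrArg _ (Over.OverMorphism.ext ht)))
    exact congrArg CommaMorphism.left this⟩

/-- Charts from separated schemes are separated. -/
theorem separated_chart {X : Sp S} {U : Over S} (a : (yon S).obj U ⟶ X) (ha : Representable a)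
    [U.left.IsSeparated] :
    RepWith @IsSeparated a ∧
      ∀ (R : Over S) (s t : R ⟶ U), IsPullback ((yon S).map t) ((yon S).map s) a a → R.left.IsSeparated := by
  have : IsSeparated (U.hom ≫ terminal.from S) := by
    rw [Subsingleton.elim (U.hom ≫ terminal.from S) (terminal.from U.left)]
    exact Scheme.IsSeparated.isSeparated_terminal_from
  have : IsSeparated U.hom := IsSeparated.of_comp U.hom (terminal.from S)
  refine ⟨repWith_of_exists fun V g => ?_, fun R s t hR => ?_⟩
  · obtain ⟨W, p, q, sq⟩ := exists_isPullback ha g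
    refine ⟨W, (yon S).map p, q, sq, ?_⟩
    have := mono_pullback_lift sq
    rw [← pullback.lift_snd (f := U.hom) (g := V.hom) p.left q.left ((Over.w p).trans (Over.w q).symm)]
    infer_instance
  · have := mono_pullback_lift hR
    have : IsSeparated t.left := by
      rw [← pullback.lift_fst (f := U.hom) (g := U.hom) t.left s.left ((Over.w t).trans (Over.w s).symm)]
      infer_instance
    have : IsSeparated (terminal.from U.left) := Scheme.IsSeparated.isSeparated_terminal_from
    refine ⟨?_⟩
    rw [Subsingleton.elim (terminal.from R.left) (t.left ≫ terminal.from U.left)]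
    infer_instance

/-- Quasi-separatedness from compactness of affine fibre products. -/
theorem isQuasiSeparatedSp_of_compact {X : Sp S} (hX : IsAlgSpace X)
    (h : ∀ (U V P : Over S) (a : (yon S).obj U ⟶ X) (b : (yon S).obj V ⟶ X) (fst : P ⟶ U) (snd : P ⟶ V),
      IsAffine U.left → IsAffine V.left → IsPullback ((yon S).map fst) ((yon S).map snd) a b → CompactSpace ↥P.left) :
    IsQuasiSeparatedSp X := by
  refine repWith_diag_of_pairwise X @QuasiCompact
    (fun U V a b => exists_isPullback (hX.representable_from_yon a) b) fun U V W a b fst snd sW => ?_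
  refine ⟨fun K hKo hK => ?_⟩
  let φ := (prod.lift fst snd).left
  choose B hB hzB _ using fun z : (prod U V).left =>
    exists_isAffineOpen_mem_and_subset (X := S) (U := ⊤) (x := (prod U V).hom z) trivial
  choose N hN hzN hNK using fun z : K =>
    exists_isAffineOpen_mem_and_subset (X := (prod U V).left)
      (U := ⟨K, hKo⟩ ⊓ (prod U V).hom ⁻¹ᵁ B z.1) (x := z.1) ⟨z.2, hzB z.1⟩
  obtain ⟨T, hT⟩ := hK.elim_finite_subcover (fun z : K => (N z : Set (prod U V).left)) (fun z => (N z).2)
    fun z hz => Set.mem_iUnion.2 ⟨⟨z, hz⟩, hzN ⟨z, hz⟩⟩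
  have key : ∀ z : K, IsCompact (φ ⁻¹' (N z : Set (prod U V).left)) := by
    intro z
    let N' : Over S := Over.mk ((N z).ι ≫ (prod U V).hom)
    let n : N' ⟶ prod U V := Over.homMk (N z).ι rfl
    have : IsAffine N'.left := hN z
    have : IsAffine (B z.1).toScheme := hB z.1
    have : IsSeparated N'.hom := by
      have hr : Set.range N'.hom ⊆ Set.range (B z.1).ι := by
        rw [Scheme.Opens.range_ι]
        rintro _ ⟨w, rfl⟩
        exact (hNK z w.2).2
      rw [← IsOpenImmersion.lift_fac (B z.1).ι N'.hom hr]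
      infer_instance
    let a' := (yon S).map (n ≫ prod.fst) ≫ a
    let b' := (yon S).map (n ≫ prod.snd) ≫ b
    obtain ⟨P, p₁, p₂, sP⟩ := exists_isPullback (hX.representable_from_yon a') b'
    have := h N' N' P a' b' p₁ p₂ (hN z) (hN z) sP
    -- the equalizer of the two legs
    let e := pullback.lift (f := N'.hom) (g := N'.hom) p₁.left p₂.left ((Over.w p₁).trans (Over.w p₂).symm)
    let Δ := pullback.diagonal N'.hom
    have : IsClosedImmersion (pullback.fst e Δ) := MorphismProperty.pullback_fst _ _ inferInstance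
    have : CompactSpace ↥(pullback e Δ) := QuasiCompact.compactSpace_of_compactSpace (pullback.fst e Δ)
    have hc : pullback.fst e Δ ≫ p₁.left = pullback.fst e Δ ≫ p₂.left := by
      have h₀ := pullback.condition (f := e) (g := Δ)
      have h₁ := congrArg (· ≫ pullback.fst N'.hom N'.hom) h₀
      have h₂ := congrArg (· ≫ pullback.snd N'.hom N'.hom) h₀
      simp only [Category.assoc, e, Δ, pullback.lift_fst, pullback.lift_snd, pullback.diagonal_fst,
        pullback.diagonal_snd, Category.comp_id] at h₁ h₂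
      rw [h₁, h₂]
    let Z : Over S := Over.mk (pullback.fst e Δ ≫ P.hom)
    let z₁ : Z ⟶ P := Over.homMk (pullback.fst e Δ) rfl
    have hz : z₁ ≫ p₁ = z₁ ≫ p₂ := Over.OverMorphism.ext hc
    obtain ⟨m, hm₁, hm₂⟩ := exists_lift sW ((yon S).map (z₁ ≫ p₁ ≫ n ≫ prod.fst)) (z₁ ≫ p₁ ≫ n ≫ prod.snd) (by
      calc _ = (yon S).map z₁ ≫ (yon S).map p₁ ≫ a' := by simp only [a', Functor.map_comp, Category.assoc]
        _ = (yon S).map z₁ ≫ (yon S).map p₂ ≫ b' := by rw [sP.w]
        _ = _ := by
          rw [← Category.assoc, ← Functor.map_comp, ← hz]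
          simp only [b', Functor.map_comp, Category.assoc])
    have hm : m ≫ prod.lift fst snd = z₁ ≫ p₁ ≫ n := by
      apply Limits.prod.hom_ext
      · rw [Category.assoc, Limits.prod.lift_fst]
        exact (yon S).map_injective (by rw [Functor.map_comp, hm₁]; simp only [Functor.map_comp, Category.assoc])
      · rw [Category.assoc, Limits.prod.lift_snd, hm₂]
        simp only [Category.assoc]
    have : CompactSpace Z.left := ‹CompactSpace ↥(pullback e Δ)›
    have := isCompact_range m.left.continuous (f := m.left)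
    convert this using 1
    refine Set.Subset.antisymm ?_ ?_
    · intro w hw
      let O : W.left.Opens := φ ⁻¹ᵁ N z
      let WO : Over S := Over.mk (O.ι ≫ W.hom)
      let o : WO ⟶ W := Over.homMk O.ι rfl
      let g : WO ⟶ N' := Over.homMk (IsOpenImmersion.lift (N z).ι (O.ι ≫ φ) (by
        rw [Scheme.Opens.range_ι]
        rintro _ ⟨x, rfl⟩
        exact x.2)) (by
          show _ ≫ (N z).ι ≫ _ = O.ι ≫ W.hom
          rw [IsOpenImmersion.lift_fac_assoc, Category.assoc, Over.w (prod.lift fst snd)])
      have hg : g ≫ n = o ≫ prod.lift fst snd := Over.OverMorphism.ext (IsOpenImmersion.lift_fac _ _ _)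
      obtain ⟨l, hl₁, hl₂⟩ := exists_lift sP ((yon S).map g) g (by
        simp only [a', b', ← Functor.map_comp_assoc]
        rw [← Category.assoc, hg, ← Category.assoc, hg, Category.assoc, Category.assoc, Limits.prod.lift_fst,
          Limits.prod.lift_snd, Functor.map_comp_assoc, Functor.map_comp_assoc, sW.w])
      have hl₁' : l ≫ p₁ = g := (yon S).map_injective (by rw [Functor.map_comp, hl₁])
      let k : WO.left ⟶ pullback e Δ := pullback.lift l.left g.left (by
        apply pullback.hom_ext
        · simp only [Category.assoc, e, Δ, pullback.lift_fst, pullback.diagonal_fst, Category.comp_id]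
          exact congrArg CommaMorphism.left hl₁'
        · simp only [Category.assoc, e, Δ, pullback.lift_snd, pullback.diagonal_snd, Category.comp_id]
          exact congrArg CommaMorphism.left hl₂)
      let k' : WO ⟶ Z := Over.homMk k (by
        show k ≫ pullback.fst e Δ ≫ P.hom = _
        rw [pullback.lift_fst_assoc, Over.w l])
      have hk' : k' ≫ z₁ = l := Over.OverMorphism.ext (pullback.lift_fst _ _ _)
      have hkm : k' ≫ m = o := by
        apply (yon S).map_injective
        apply sW.hom_ext
        · rw [← Functor.map_comp, ← Functor.map_comp]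
          congr 1
          rw [Category.assoc, show m ≫ fst = z₁ ≫ p₁ ≫ n ≫ prod.fst from (yon S).map_injective (by
              rw [Functor.map_comp, hm₁]),
            reassoc_of% hk', reassoc_of% hl₁', reassoc_of% hg, Limits.prod.lift_fst]
        · rw [← Functor.map_comp, ← Functor.map_comp]
          congr 1
          rw [Category.assoc, hm₂, reassoc_of% hk', reassoc_of% hl₁', reassoc_of% hg, Limits.prod.lift_snd]
      refine ⟨k'.left ⟨w, hw⟩, ?_⟩
      rw [← Scheme.Hom.comp_apply, ← Over.comp_left, hkm]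
      rfl
    · rintro _ ⟨y, rfl⟩
      show φ (m.left y) ∈ N z
      have e₁ := congrArg (fun k => k.left y) hm
      exact e₁ ▸ ((p₁.left (z₁.left y) : (N z).toScheme)).2
  have hc := T.isCompact_biUnion fun z _ => key z
  convert hc using 1
  ext w
  refine ⟨fun hw => ?_, fun hw => ?_⟩
  · obtain ⟨z, hzT, hz⟩ := Set.mem_iUnion₂.1 (hT hw)
    exact Set.mem_biUnion hzT hz
  · obtain ⟨z, -, hz⟩ := Set.mem_iUnion₂.1 hw
    exact (hNK z hz).1

/-- Affine charts cover by open subspaces. -/
theorem exists_affine_zariski_cover (X : Space S) :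
    ∃ (ι : Type u) (Xi : ι → Space S) (j : ∀ i, Xi i ⟶ X),
      IsZarCover (fun i => (Xi i).obj) (fun i => (j i).hom) ∧
        ∀ i, ∃ (U : Over S) (p : (yon S).obj U ⟶ (Xi i).obj), IsAffine U.left ∧
          RepWith @Etale p ∧ RepWith @Surjective p ∧
          ∃ W : S.Opens, IsAffineOpen W ∧ ∀ v : ↥U.left, U.hom v ∈ W := by
  obtain ⟨U₀, a₀, ha₀, has⟩ := X.property.atlas
  let ι := {A : U₀.left.affineOpens // ∃ B : S.Opens, IsAffineOpen B ∧ A.1 ≤ U₀.hom ⁻¹ᵁ B}
  let V : ι → Over S := fun A => Over.mk (A.1.1.ι ≫ U₀.hom)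
  let e : ∀ A, V A ⟶ U₀ := fun A => Over.homMk A.1.1.ι rfl
  have hge : ∀ A, RepWith @Etale ((yon S).map (e A) ≫ a₀) := fun A =>
    repWith_yon_comp (e A) (inferInstanceAs (Etale A.1.1.ι)) ha₀
  choose Xi j hj hr using fun A => exists_open_subspace X _ (isOpenMap_ofPt_of_etale (hge A)).isOpen_range
  refine ⟨ι, Xi, j, ⟨hj, fun x => ?_⟩, fun A => ?_⟩
  · obtain ⟨t, rfl⟩ := surjective_ofPt has x
    obtain ⟨B, hB, htB, -⟩ := exists_isAffineOpen_mem_and_subset (X := S) (U := ⊤) (x := U₀.hom t) trivial
    obtain ⟨A, hA, htA, hAB⟩ := exists_isAffineOpen_mem_and_subset (X := U₀.left) (x := t) (U := U₀.hom ⁻¹ᵁ B) htB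
    refine ⟨⟨⟨A, hA⟩, B, hB, hAB⟩, ?_⟩
    rw [hr]
    exact ⟨⟨t, htA⟩, ofPt_comp _ _ _⟩
  · obtain ⟨p, -, hp, hps, -⟩ := exists_factor_open_image ((yon S).map (e A) ≫ a₀) (hge A) (j A) (hj A) (hr A)
    obtain ⟨B, hB, hAB⟩ := A.2
    exact ⟨V A, p, A.1.2, hp, hps, B, hB, fun v => hAB v.2⟩

/-- Morphisms to fields are universally open. -/
theorem isUnivOpenMor_to_field {X : Sp S} (hX : IsAlgSpace X) {k : Type u} [Field k]
    {str : Spec (CommRingCat.of k) ⟶ S} (p : X ⟶ (yon S).obj (Over.mk str)) : IsUnivOpenMor p := by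
  obtain ⟨U, a, ha, has⟩ := hX.atlas
  refine (isUnivOpenMor_iff_of_cover (g := fun _ : PUnit.{u + 1} => a) hX (IsAlgSpace.yon_obj _)
    (fun _ => IsAlgSpace.yon_obj U) (fun x => ⟨⟨⟩, ?_⟩) (fun _ => locP_of_repWith ha fun _ _ _ m m' hm hm' =>
      EtLocal.comp_etale m m' hm (EtLocal.of_etale (P := @Flat ⊓ @LocallyOfFinitePresentation) m' hm')) p).2
    fun _ => ?_
  · obtain ⟨t, rfl⟩ := surjective_ofPt has x
    exact ⟨_, map_ofPt_id a t⟩
  · obtain ⟨h, hh⟩ := (yon S).map_surjective (a ≫ p)
    refine (AlgSpPts.repWith_univOpen_iff (IsAlgSpace.yon_obj U) (IsAlgSpace.yon_obj _)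
      ((IsAlgSpace.yon_obj (Over.mk str)).representable_from_yon _)).1 ?_
    have hu : UniversallyOpen h.left :=
      inferInstanceAs (UniversallyOpen (show U.left ⟶ Spec (CommRingCat.of k) from h.left))
    show RepWith @UniversallyOpen (a ≫ p)
    rw [← hh]
    exact (repWith_yon_map_iff (P := @UniversallyOpen) _).2 hu

/-- Stalks descend reducedness along flat maps. -/
theorem isReduced_stalk_of_flat {A B : Scheme.{u}} (f : A ⟶ B) [Flat f] (x : A)
    [_root_.IsReduced (A.presheaf.stalk x)] : _root_.IsReduced (B.presheaf.stalk (f x)) := by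
  have hflat := Flat.stalkMap f x
  algebraize [(f.stalkMap x).hom]
  have : IsLocalHom (algebraMap (B.presheaf.stalk (f x)) (A.presheaf.stalk x)) :=
    inferInstanceAs (IsLocalHom (f.stalkMap x).hom)
  have : Module.FaithfullyFlat (B.presheaf.stalk (f x)) (A.presheaf.stalk x) := Module.FaithfullyFlat.of_flat_of_isLocalHom
  exact isReduced_of_injective (algebraMap (B.presheaf.stalk (f x)) (A.presheaf.stalk x))
    (FaithfulSMul.algebraMap_injective _ _)

/-- Etale maps preserve reducedness of local rings. -/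
theorem isReduced_stalk_of_etale {A B : Scheme.{u}} (f : A ⟶ B) [Etale f] (x : A)
    [_root_.IsReduced (B.presheaf.stalk (f x))] : _root_.IsReduced (A.presheaf.stalk x) := by
  let g := B.fromSpecStalk (f x)
  have : AlgebraicGeometry.IsReduced (Spec (B.presheaf.stalk (f x))) := inferInstance
  have : Etale (pullback.snd f g) := MorphismProperty.pullback_snd _ _ ‹_›
  have : AlgebraicGeometry.IsReduced (pullback f g) := isReduced_scheme_of_etale (pullback.snd f g)
  have : Flat (pullback.fst f g) := MorphismProperty.pullback_fst _ _ (Groth.FlatDescent.flat_fromSpecStalk _)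
  obtain ⟨z, hz, -⟩ := Scheme.Pullback.exists_preimage_pullback (f := f) (g := g) x
    (IsLocalRing.closedPoint (B.presheaf.stalk (f x))) Scheme.fromSpecStalk_closedPoint.symm
  rw [← hz]
  exact isReduced_stalk_of_flat (pullback.fst f g) z

/-- Reducedness is checked at points. -/
theorem isReducedSp_iff_hasAt (X : Space S) :
    IsReducedSp X.obj ↔
      ∀ x : Points X.obj, HasAt (fun U u => _root_.IsReduced ↥(U.presheaf.stalk u)) X.obj x := by
  refine ⟨fun ⟨U, a, ha, has, hU⟩ x => ?_, fun h => ?_⟩
  · obtain ⟨u, rfl⟩ := surjective_ofPt has x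
    have : AlgebraicGeometry.IsReduced U.left := hU
    exact ⟨U, a, u, ha, rfl, inferInstance⟩
  · obtain ⟨U, a, ha, has⟩ := X.property.atlas
    have hred : ∀ u : U.left, _root_.IsReduced (U.left.presheaf.stalk u) := fun u => by
      obtain ⟨U', a', u', ha', hu', hr⟩ := h (Points.ofPt a u)
      obtain ⟨W, p, q, sq⟩ := exists_isPullback ha.1 a'
      have : Etale p.left := prop_snd sq.flip ha'
      have : Etale q.left := prop_snd sq ha
      obtain ⟨w, hw₁, hw₂⟩ := (ofPt_eq_iff sq u u').1 hu'.symm
      have : _root_.IsReduced (U'.left.presheaf.stalk (q.left w)) := hw₂ ▸ hr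
      have := isReduced_stalk_of_etale q.left w
      exact hw₁ ▸ isReduced_stalk_of_flat p.left w
    exact ⟨U, a, ha, has, @isReduced_of_isReduced_stalk _ hred⟩

end Groth.Agent.AlgSpFin
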