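import Groth.Agent.AlgSpFin.SchemePoint
import Groth.Agent.AlgSpFin.DecentLocal
import Groth.Agent.AlgSpPts.Constructible
import Mathlib.RingTheory.Spectrum.Prime.ConstructibleSet
import Mathlib.AlgebraicGeometry.ValuativeCriterion
import Groth.Prelude.Def_AlgSpDec

/-!
Quasi-separated spaces of dimension zero.
-/

set_option autoImplicit false
set_option backward.isDefEq.respectTransparency.types false

universe u

open CategoryTheory CategoryTheory.Limits AlgebraicGeometry Opposite AlgSp Topology TopologicalSpace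

namespace Groth.Agent.AlgSpFin

open Groth.Agent.AlgSpLib

/-- In a space of dimension at most zero every point is maximal for generalisation. -/
theorem eq_of_specializes_of_dim_le_zero {X : Type u} [TopologicalSpace X] [T0Space X]
    (h : topologicalKrullDim X ≤ 0) {x y : X} (hxy : y ⤳ x) : y = x := by
  let cx : IrreducibleCloseds X := ⟨closure {x}, isIrreducible_singleton.closure, isClosed_closure⟩
  let cy : IrreducibleCloseds X := ⟨closure {y}, isIrreducible_singleton.closure, isClosed_closure⟩
  have hle : cx ≤ cy := show closure {x} ⊆ closure {y} from hxy.closure_subset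
  have hmax : IsMax cx := Order.krullDim_nonpos_iff_forall_isMax.1 h cx
  exact (hxy.antisymm (specializes_iff_closure_subset.2 (hmax hle : closure {y} ⊆ closure {x}))).eq

/-- In a quasi-separated scheme with all points closed, compact opens are closed in affine opens. -/
theorem isClosed_preimage_fromSpec {U : Scheme.{u}} [QuasiSeparatedSpace U] (hT : ∀ ⦃x y : U⦄, y ⤳ x → y = x)
    {W : U.Opens} (hW : IsAffineOpen W) (V : U.Opens) (hV : IsCompact (V : Set U)) :
    IsClosed (hW.fromSpec ⁻¹' (V : Set U)) := by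
  have hc : IsCompact (hW.fromSpec ⁻¹' (V : Set U)) := by
    rw [hW.fromSpec.isOpenEmbedding.isInducing.isCompact_iff, Set.image_preimage_eq_inter_range,
      IsAffineOpen.range_fromSpec]
    exact QuasiSeparatedSpace.inter_isCompact _ _ V.2 hV W.2 hW.isCompact
  refine PrimeSpectrum.isClosed_of_stableUnderSpecialization_of_isConstructible ?_
    (hc.isConstructible (V.2.preimage hW.fromSpec.continuous))
  intro a b hab ha
  have e := hT (hab.map hW.fromSpec.continuous)
  rw [hW.fromSpec.isOpenEmbedding.injective e] at ha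
  exact ha

/-- Compact opens of a quasi-separated scheme with all points closed are affine. -/
theorem isAffineOpen_of_isCompact {U : Scheme.{u}} [QuasiSeparatedSpace U]
    (hT : ∀ ⦃x y : U⦄, y ⤳ x → y = x) (V : U.Opens) (hV : IsCompact (V : Set U)) : IsAffineOpen V := by
  obtain ⟨s, hs, e⟩ := isCompact_iff_finite_and_eq_biUnion_affineOpens.1 hV
  have key : ∀ t : Set U.affineOpens, t.Finite → IsAffineOpen (⨆ i ∈ t, (i : U.Opens)) := by
    intro t ht
    induction t, ht using Set.Finite.induction_on with
    | empty => simpa using isAffineOpen_bot U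
    | @insert W t hWt ht ih =>
      rw [iSup_insert]
      have hc := isClosed_preimage_fromSpec hT W.2 _ ih.isCompact
      obtain ⟨r, -, hr⟩ := PrimeSpectrum.isClopen_iff.1
        (show IsClopen (W.2.fromSpec ⁻¹' (⨆ i ∈ t, (i : U.Opens)).1)ᶜ from
          IsClopen.compl ⟨hc, (⨆ i ∈ t, (i : U.Opens)).2.preimage W.2.fromSpec.continuous⟩)
      have hD := W.2.fromSpec_image_basicOpen r
      have hD' : (U.basicOpen r : Set U) = (W.1 : Set U) \ (⨆ i ∈ t, (i : U.Opens)).1 := by
        rw [← hD, ← W.2.range_fromSpec, ← Set.image_compl_preimage]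
        exact congrArg (Set.image W.2.fromSpec) hr.symm
      have e : W.1 ⊔ ⨆ i ∈ t, (i : U.Opens) = U.basicOpen r ⊔ ⨆ i ∈ t, (i : U.Opens) := by
        refine Opens.ext ?_
        rw [Opens.coe_sup, Opens.coe_sup, hD']
        exact Set.sdiff_union_self.symm
      rw [e]
      refine (W.2.basicOpen r).sup_of_disjoint ih ?_
      rw [← Opens.coe_disjoint, hD']
      exact Set.disjoint_sdiff_left
  exact e ▸ key s hs

/-- A quasi-separated scheme with all points closed is separated. -/
theorem isSeparated_of_forall_closed {U : Scheme.{u}} [QuasiSeparatedSpace U]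
    (hT : ∀ ⦃x y : U⦄, y ⤳ x → y = x) : U.IsSeparated := by
  refine ⟨IsSeparated.of_valuativeCriterion _ fun S => ⟨fun l m => CommSq.LiftStruct.ext ?_⟩⟩
  let p : Spec (.of S.R) := IsLocalRing.closedPoint S.R
  obtain ⟨W, hW, hpW, -⟩ := exists_isAffineOpen_mem_and_subset (X := U) (U := ⊤) (x := l.l p) trivial
  let η : Spec (.of S.K) := IsLocalRing.closedPoint S.K
  let j := Spec.map (CommRingCat.ofHom (algebraMap S.R S.K))
  have hlm : ∀ q : Spec (.of S.R), q ⤳ p := fun q => IsLocalRing.specializes_closedPoint q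
  have hl : ∀ q, l.l q = l.l p := fun q => hT ((hlm q).map l.l.continuous)
  have hm : ∀ q, m.l q = m.l p := fun q => hT ((hlm q).map m.l.continuous)
  have hp : m.l p = l.l p := by
    rw [← hm (j η), ← hl (j η), ← Scheme.Hom.comp_apply, ← Scheme.Hom.comp_apply]
    exact congrArg (fun k : Spec (.of S.K) ⟶ U => k η) (m.fac_left.trans l.fac_left.symm)
  have hrl : Set.range l.l ⊆ Set.range W.ι := by
    rintro _ ⟨q, rfl⟩
    rw [Scheme.Opens.range_ι, hl q]
    exact hpW
  have hrm : Set.range m.l ⊆ Set.range W.ι := by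
    rintro _ ⟨q, rfl⟩
    rw [Scheme.Opens.range_ι, hm q, hp]
    exact hpW
  rw [← IsOpenImmersion.lift_fac W.ι l.l hrl, ← IsOpenImmersion.lift_fac W.ι m.l hrm]
  congr 1
  have : IsAffine W.toScheme := hW
  have hj : Mono (CommRingCat.ofHom (algebraMap S.R S.K)) :=
    ConcreteCategory.mono_of_injective _ (IsFractionRing.injective S.R S.K)
  refine (cancel_mono W.toScheme.isoSpec.hom).1 ?_
  obtain ⟨a, ha⟩ := Spec.map_surjective (IsOpenImmersion.lift W.ι l.l hrl ≫ W.toScheme.isoSpec.hom)
  obtain ⟨b, hb⟩ := Spec.map_surjective (IsOpenImmersion.lift W.ι m.l hrm ≫ W.toScheme.isoSpec.hom)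
  rw [← ha, ← hb]
  congr 1
  refine (cancel_mono (CommRingCat.ofHom (algebraMap S.R S.K))).1 (Spec.map_injective ?_)
  rw [Spec.map_comp, Spec.map_comp, ha, hb]
  simp only [← Category.assoc]
  congr 1
  refine (cancel_mono W.ι).1 ?_
  simp only [Category.assoc, IsOpenImmersion.lift_fac]
  exact l.fac_left.trans m.fac_left.symm

variable {S : Scheme.{u}}

/-- A quasi-separated space of dimension zero is a separated scheme whose compact opens are affine. -/
theorem exists_scheme_of_dim_zero [QuasiSeparatedSpace S] (X : Space S) (hqs : IsQuasiSeparatedSp X.obj)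
    (hd : AlgSp.dim X.obj = 0) :
    ∃ (U : Over S) (_ : (AlgSp.yon S).obj U ≅ X.obj), U.left.IsSeparated ∧
      ∀ V : U.left.Opens, IsCompact (V : Set U.left) → IsAffineOpen V := by
  have hpt : ∀ (W : Over S) (b : (yon S).obj W ⟶ X.obj), RepWith @Etale b →
      ∀ ⦃w v : W.left⦄, v ⤳ w → v = w := fun W b hb w v h => eq_of_specializes_of_dim_le_zero
    (hd ▸ le_iSup_of_le W (le_iSup_of_le b (le_iSup_of_le hb le_rfl))) h
  obtain ⟨U₀, a₀, ha₀, ha₀s⟩ := X.property.atlas
  have hall : ∀ w : U₀.left, InOpenScheme X.obj (Points.ofPt a₀ w) := fun w =>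
    inOpenScheme_of_isQuasiSeparatedSp X.property hqs ((hasAt_dim_zero_iff ha₀ w).2 fun v h => hpt _ _ ha₀ h)
  choose C φ hφ hmem using hall
  obtain ⟨M, Φ, hΦ, hrange⟩ := exists_scheme_union X.property C φ hφ
  have hr : ∀ x, x ∈ Set.range (Points.ofPt Φ) := fun x => by
    obtain ⟨w, rfl⟩ := surjective_ofPt ha₀s x
    rw [hrange]
    exact Set.mem_iUnion.2 ⟨w, hmem w⟩
  have : Mono Φ := mono_of_repWith hΦ fun _ _ k hk => by
    have : IsOpenImmersion k := hk
    infer_instance
  have : IsIso Φ := isIso_of_mono_of_lifts Φ fun T g => exists_factor_of_range hΦ g fun t => by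
    rw [range_map_yon]
    exact hr _
  have hΦe : RepWith @Etale Φ := repWith_mono (fun _ _ k hk => by
    have : IsOpenImmersion k := hk
    infer_instance) hΦ
  have hinj : Function.Injective (Points.ofPt Φ) := fun p q e => by
    refine (Points.schemeEquiv M).injective (injective_map_of_mono Φ ?_)
    show Points.map Φ (Points.ofPt (𝟙 _) p) = Points.map Φ (Points.ofPt (𝟙 _) q)
    rw [Points.map_ofPt, Points.map_ofPt, Category.id_comp]
    exact e
  have := AlgSpPts.quasiSeparatedSpace_points X.property hqs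
  have : QuasiSeparatedSpace M.left := (IsOpenEmbedding.of_continuous_injective_isOpenMap
    (Points.continuous_ofPt Φ) hinj (isOpenMap_ofPt_of_etale hΦe)).quasiSeparatedSpace
  exact ⟨M, asIso Φ, isSeparated_of_forall_closed (hpt M Φ hΦe),
    isAffineOpen_of_isCompact (hpt M Φ hΦe)⟩

end Groth.Agent.AlgSpFin
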