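import Groth.Agent.AlgSpFin.FieldSpace
import Groth.Agent.AlgSpFin.Decent
import Groth.Agent.AlgSpFin.DimZero

/-!
Isolated points of fibres and quasi-finiteness.
-/

set_option autoImplicit false
set_option backward.isDefEq.respectTransparency.types false

universe u

open CategoryTheory CategoryTheory.Limits AlgebraicGeometry Opposite AlgSp TopologicalSpace Topology

namespace Groth.Agent.AlgSpFin

open Groth.Agent.AlgSpLib

variable {S : Scheme.{u}}

section General

variable {T₀ : Over S} [IsLocallyNoetherian T₀.left] [JacobsonSpace T₀.left] (X : Space S)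
  (p : X.obj ⟶ (yon S).obj T₀) (hp : LocP @LocallyOfFiniteType p)

include hp

theorem isolated_point_iff_of_jacobson (x : Points X.obj) :
    (IsOpen ({x} : Set (Points X.obj)) ↔
        (IsClosed ({x} : Set (Points X.obj)) ∧ ∀ x' : Points X.obj, x' ⤳ x → x' = x)) ∧
      (IsOpen ({x} : Set (Points X.obj)) ↔ HasAt (fun U u => FlatMor.localDim ↥U u = 0) X.obj x) ∧
      (IsDecent X.obj → (FlatMor.localDim (Points X.obj) x = 0 ↔ IsOpen ({x} : Set (Points X.obj)))) := by
  obtain ⟨U, a, ha, has⟩ := X.property.atlas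
  obtain ⟨u, rfl⟩ := surjective_ofPt has x
  obtain ⟨_, _⟩ := chart_noetherian_jacobson (T₀ := T₀) p hp ha
  refine ⟨⟨fun h => ⟨isClosed_point_of_isOpen (T₀ := T₀) X.property p hp _ h, fun x' hx' => hx'.mem_open h rfl⟩,
    fun h => isOpen_point_of_minimal (T₀ := T₀) X.property p hp ha u h.1 h.2⟩, ⟨fun h => ?_, ?_⟩, fun hd => ?_⟩
  · exact ⟨U, a, u, ha, rfl,
      (isOpen_singleton_iff_localDim u).1 ((isOpen_point_iff (T₀ := T₀) X.property p hp ha u).1 h)⟩
  · rintro ⟨U', a', u', ha', hu', hd⟩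
    obtain ⟨_, _⟩ := chart_noetherian_jacobson (T₀ := T₀) p hp ha'
    rw [← hu']
    exact (isOpen_point_iff (T₀ := T₀) X.property p hp ha' u').2 ((isOpen_singleton_iff_localDim u').2 hd)
  · rw [← localDim_eq_of_isDecent X.property hd ha u, ← isOpen_singleton_iff_localDim u,
      isOpen_point_iff (T₀ := T₀) X.property p hp ha u]

theorem dim_zero_iff_of_jacobson [Nonempty (Points X.obj)] :
    (DiscreteTopology (Points X.obj) ↔ AlgSp.dim X.obj = 0) ∧
      (DiscreteTopology (Points X.obj) → topologicalKrullDim (Points X.obj) = 0) ∧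
      (IsDecent X.obj → topologicalKrullDim (Points X.obj) = 0 → DiscreteTopology (Points X.obj)) ∧
      (IsDecent X.obj → Finite (Points X.obj) → AlgSp.dim X.obj = 0) := by
  obtain ⟨U, a, ha, has⟩ := X.property.atlas
  have : Nonempty U.left := ⟨(surjective_ofPt has (Classical.arbitrary (Points X.obj))).choose⟩
  have h0 : 0 ≤ AlgSp.dim X.obj :=
    zero_le_dim_of_nonempty.trans (le_iSup_of_le U (le_iSup_of_le a (le_iSup_of_le ha le_rfl)))
  have h1 : DiscreteTopology (Points X.obj) ↔ AlgSp.dim X.obj = 0 := by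
    refine ⟨fun h => le_antisymm (iSup_le fun V => iSup_le fun b => iSup_le fun hb => ?_) h0,
      fun h => discreteTopology_iff_isOpen_singleton.2 fun x => ?_⟩
    · obtain ⟨_, _⟩ := chart_noetherian_jacobson (T₀ := T₀) p hp hb
      exact (dim_le_iff_forall_localDim 0).2 fun v => le_of_eq ((isOpen_singleton_iff_localDim v).1
        ((isOpen_point_iff (T₀ := T₀) X.property p hp hb v).1 (isOpen_discrete _)))
    · obtain ⟨u, rfl⟩ := surjective_ofPt has x
      obtain ⟨_, _⟩ := chart_noetherian_jacobson (T₀ := T₀) p hp ha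
      refine (isOpen_point_iff (T₀ := T₀) X.property p hp ha u).2 ((isOpen_singleton_iff_localDim u).2
        (le_antisymm ?_ (FibreDim.le_localDim fun O _ hu =>
          have : Nonempty O := ⟨⟨u, hu⟩⟩
          zero_le_dim_of_nonempty)))
      exact (dim_le_iff_forall_localDim 0).1
        (h ▸ le_iSup_of_le U (le_iSup_of_le a (le_iSup_of_le ha le_rfl))) u
  refine ⟨h1, fun h => le_antisymm dim_le_zero_of_discrete zero_le_dim_of_nonempty,
    fun hd h => h1.2 ((topologicalKrullDim_points X.property hd).symm.trans h), fun hd hf => ?_⟩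
  have : JacobsonSpace (Points X.obj) :=
    (jacobson_iff X.property hd).1 ⟨U, a, ha, has, (chart_noetherian_jacobson (T₀ := T₀) p hp ha).2⟩
  exact h1.1 inferInstance

end General

/-- A positive dimension is at least one. -/
theorem one_le_of_pos_dim {d : WithBot ℕ∞} (h : 0 < d) : 1 ≤ d := by
  cases d with
  | bot => exact absurd h not_lt_bot
  | coe e => exact WithBot.coe_le_coe.2 (Order.one_le_iff_pos.2 (WithBot.coe_lt_coe.1 h))

variable {X Y : Space S} (f : X ⟶ Y) (hf : LocP @LocallyOfFiniteType f.hom)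

include hf

omit hf in
/-- Facts about the base of a fibre. -/
theorem fieldPt_base (r : FieldPt Y.obj) : IsLocallyNoetherian r.pt.left ∧ JacobsonSpace r.pt.left :=
  ⟨inferInstanceAs (IsLocallyNoetherian (Spec (CommRingCat.of r.K))),
    inferInstanceAs (JacobsonSpace (Spec (CommRingCat.of r.K)))⟩

/-- A point of a fibre is isolated iff the morphism is quasi-finite at it. -/
theorem isOpen_fibrePoint_iff_qf (r : FieldPt Y.obj) (Xk : Space S) (fst : Xk ⟶ X)
    (snd : Xk.obj ⟶ (yon S).obj r.pt) (sq : IsPullback fst.hom snd f.hom r.toHom) (xt : Points Xk.obj) :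
    IsOpen ({xt} : Set (Points Xk.obj)) ↔
      HasAtMor (nearBy (@LocallyQuasiFinite ⊓ @LocallyOfFiniteType)) f.hom (Points.map fst.hom xt) := by
  let T : Space S := ⟨(yon S).obj r.pt, IsAlgSpace.yon_obj _⟩
  obtain ⟨_, _⟩ := fieldPt_base r
  have hp : LocP @LocallyOfFiniteType snd := locP_baseChange X.property Y.property T.property sq hf
  refine ⟨fun h => ?_, fun h => ?_⟩
  · obtain ⟨X', j, hj, hm, hP⟩ := exists_open_qf_of_isolated f hf r.K r.str r.toHom fst snd sq xt
      ((isolated_point_iff_of_jacobson (T₀ := r.pt) Xk snd hp xt).2.1.1 h)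
    exact (hasAtMor_iff_exists_open_subspace _ f _).2 ⟨X', j, hj, hm, hP⟩
  · let π : Xk ⟶ T := ObjectProperty.homMk snd
    obtain ⟨U, V, a, b, g, u, ha, hb, -, rfl, W, huW, hq, -⟩ :=
      hasAtMor_baseChange (Y' := T) _ f π sq xt h
    obtain ⟨c, rfl⟩ := (yon S).map_surjective b
    have : Etale c.left := (repWith_yon_map_iff _ _).1 hb
    have : LocallyQuasiFinite c.left := locallyQuasiFinite_of_formallyUnramified _
    have : LocallyQuasiFinite (W.ι ≫ g.left) := hq
    let d : W.toScheme ⟶ Spec (CommRingCat.of r.K) := (W.ι ≫ g.left) ≫ c.left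
    have : LocallyQuasiFinite d := MorphismProperty.comp_mem @LocallyQuasiFinite _ _ hq ‹_›
    have : IsLocallyArtinian W.toScheme := IsLocallyArtinian.of_locallyQuasiFinite d
    have : DiscreteTopology W.toScheme := inferInstance
    let w : W.toScheme := ⟨u, huW⟩
    have ho : IsOpen ({u} : Set U.left) := by
      have := W.ι.isOpenEmbedding.isOpenMap _ (@isOpen_discrete W.toScheme _ _ {w})
      rwa [Set.image_singleton] at this
    have h' := isOpenMap_ofPt_of_etale ha _ ho
    rwa [Set.image_singleton] at h'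

/-- Quasi-finite points are isolated and closed in fibres over decent spaces. -/
theorem isolated_of_qf (hdY : IsDecent Y.obj) {x : Points X.obj} {y : Points Y.obj}
    (hx : x ∈ Points.map f.hom ⁻¹' {y})
    (hq : HasAtMor (nearBy (@LocallyQuasiFinite ⊓ @LocallyOfFiniteType)) f.hom x) :
    IsOpen ({⟨x, hx⟩} : Set ↥(Points.map f.hom ⁻¹' {y})) ∧
      IsClosed ({⟨x, hx⟩} : Set ↥(Points.map f.hom ⁻¹' {y})) := by
  obtain ⟨U, V, a, b, h, ha, has, hb, -, w⟩ := exists_chart X.property Y.property f.hom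
  have : LocallyOfFiniteType h.left := hf a b h ha hb w
  have hcomm : ∀ u, Points.map f.hom (Points.ofPt a u) = Points.ofPt b (h.left u) := fun u => by
    rw [Points.map_ofPt, w, ofPt_comp]
  have hT : ∀ v, Points.ofPt b v = y → ∃ N : Set V.left, IsOpen N ∧ v ∈ N ∧
      ∀ t ∈ N, Points.ofPt b t = y → t = v := by
    intro v hv
    obtain ⟨O, hO, hvO, -⟩ := exists_isAffineOpen_mem_and_subset (X := V.left) (U := ⊤) (x := v) trivial
    let O' : Over S := Over.mk (O.ι ≫ V.hom)
    let ι : O' ⟶ V := Over.homMk O.ι rfl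
    have hb' : RepWith @Etale ((yon S).map ι ≫ b) :=
      repWith_yon_comp (P := @Etale) ι (inferInstanceAs (Etale O.ι)) hb
    have : IsAffine O'.left := hO
    have hfin := (finite_fibre_of_isDecent Y.property hdY hb' y).image ι.left
    let B := ι.left '' {t | Points.ofPt ((yon S).map ι ≫ b) t = y} \ {v}
    refine ⟨(O : Set V.left) \ closure B, O.2.sdiff isClosed_closure, ⟨hvO, fun hv' => ?_⟩, fun t ht e => ?_⟩
    · have hB : B.Finite := hfin.sdiff
      rw [← B.biUnion_of_singleton, hB.closure_biUnion] at hv'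
      obtain ⟨s, ⟨⟨t, ht, rfl⟩, hne⟩, hs⟩ := Set.mem_iUnion₂.1 hv'
      refine hne (eq_of_specializes_of_isDecent Y.property hdY hb ?_ (specializes_iff_mem_closure.2 hs))
      rw [hv, ← ofPt_comp ι b t]
      exact ht
    · by_contra hne
      exact ht.2 (subset_closure ⟨⟨⟨t, ht.1⟩, (ofPt_comp ι b _).trans e, rfl⟩, hne⟩)
  -- every chart point over x is isolated in the fibre
  have hiso : ∀ u, Points.ofPt a u = x → ∃ M : Set U.left, IsOpen M ∧ u ∈ M ∧
      ∀ u' ∈ M, Points.map f.hom (Points.ofPt a u') = y → u' = u := by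
    intro u hu
    obtain ⟨O, hO, hOP⟩ := exists_open_of_hasAtMor _ ha hb w u (hu ▸ hq)
    have : LocallyQuasiFinite (O.ι ≫ h.left) := hOP.1
    have hv : Points.ofPt b (h.left u) = y := by rw [← hcomm, hu]; exact hx
    obtain ⟨N, hN, huN, hN'⟩ := hT _ hv
    have := isDiscrete_iff_discreteTopology.1 ((O.ι ≫ h.left).isDiscrete_preimage_singleton (h.left u))
    obtain ⟨M, hM, hMe⟩ := isOpen_induced_iff.1
      (isOpen_discrete {(⟨⟨u, hO⟩, rfl⟩ : ↥((O.ι ≫ h.left) ⁻¹' {h.left u}))})
    refine ⟨(O.ι '' M) ∩ h.left ⁻¹' N, (O.ι.isOpenEmbedding.isOpenMap _ hM).inter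
      (hN.preimage h.left.continuous), ⟨⟨⟨u, hO⟩, ?_, rfl⟩, huN⟩, ?_⟩
    · exact hMe.ge (Set.mem_singleton (⟨⟨u, hO⟩, rfl⟩ : ↥((O.ι ≫ h.left) ⁻¹' {h.left u})))
    · rintro _ ⟨⟨z, hz, rfl⟩, hzN⟩ e
      have e' : (O.ι ≫ h.left) z = h.left u := hN' _ hzN ((hcomm _).symm.trans e)
      exact congrArg (fun q : ↥((O.ι ≫ h.left) ⁻¹' {h.left u}) => O.ι q.1)
        (Set.mem_singleton_iff.1 (hMe.le (show (⟨z, e'⟩ : ↥((O.ι ≫ h.left) ⁻¹' {h.left u})) ∈ Subtype.val ⁻¹' M from hz)))
  obtain ⟨u, hu⟩ := surjective_ofPt has x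
  constructor
  · obtain ⟨M, hM, huM, hM'⟩ := hiso u hu
    refine isOpen_induced_iff.2 ⟨_, isOpenMap_ofPt_of_etale ha _ hM, Set.ext fun z => ⟨?_, ?_⟩⟩
    · rintro ⟨u', hu', e⟩
      have := hM' u' hu' (by rw [e]; exact z.2)
      exact Subtype.ext (by rw [← e, this, hu])
    · rintro rfl
      exact ⟨u, huM, hu⟩
  · refine isClosed_of_closure_subset fun z hz => Subtype.ext ?_
    have hxz : x ⤳ z.1 := (subtype_specializes_iff _ _).1 (specializes_iff_mem_closure.2 hz)
    obtain ⟨u', hu'⟩ := surjective_ofPt has z.1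
    let v' := h.left u'
    obtain ⟨N, hN, huN, hN'⟩ := hT v' (by rw [← hcomm, hu']; exact z.2)
    -- the chart points over x in the scheme fibre
    let s : Set (h.left.fiber v') := h.left.fiberι v' ⁻¹' (Points.ofPt a ⁻¹' {x})
    have : LocallyOfFiniteType (h.left.fiberToSpecResidueField v') :=
      MorphismProperty.pullback_snd _ _ ‹_›
    have : IsLocallyNoetherian (h.left.fiber v') :=
      LocallyOfFiniteType.isLocallyNoetherian (h.left.fiberToSpecResidueField v')
    have : JacobsonSpace (h.left.fiber v') :=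
      LocallyOfFiniteType.jacobsonSpace (h.left.fiberToSpecResidueField v')
    have hso : ∀ q ∈ s, IsOpen ({q} : Set (h.left.fiber v')) := fun q hq' => by
      obtain ⟨M, hM, hqM, hM'⟩ := hiso _ hq'
      convert hM.preimage (h.left.fiberι v').continuous
      refine Set.ext fun q' => ⟨fun e => (show q' = q from e) ▸ hqM, fun hm => ?_⟩
      refine (h.left.fiberι v').isEmbedding.injective (hM' _ hm ?_)
      have hv : h.left (h.left.fiberι v' q') = v' := (h.left.range_fiberι v').le ⟨q', rfl⟩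
      rw [hcomm, hv, ← hcomm, hu']
      exact z.2
    have hsc := isClosed_of_isolated hso fun q hq' =>
      isClosed_singleton_of_isLocallyClosed_singleton (hso q hq').isLocallyClosed
    have hmem : h.left.asFiber u' ∈ closure s := by
      rw [(h.left.fiberι v').isEmbedding.closure_eq_preimage_closure_image]
      rw [Set.mem_preimage, h.left.fiberι_asFiber]
      refine mem_closure_iff.2 fun M hM hu'M => ?_
      obtain ⟨u'', ⟨hu''M, hu''N⟩, e⟩ := hxz.mem_open
        (isOpenMap_ofPt_of_etale ha _ (hM.inter (hN.preimage h.left.continuous))) ⟨u', ⟨hu'M, huN⟩, hu'⟩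
      have hv : h.left u'' = v' := hN' _ hu''N (by rw [← hcomm, e]; exact hx)
      obtain ⟨q, hq'⟩ := (h.left.range_fiberι v').ge hv
      exact ⟨u'', hu''M, q, by simp [s, hq', e], hq'⟩
    have := hsc.closure_subset hmem
    simp only [s, Set.mem_preimage, Set.mem_singleton_iff] at this
    rw [h.left.fiberι_asFiber, hu'] at this
    exact this

omit hf in
/-- A monomorphic field point gives an injective parametrisation of the fibre. -/
theorem exists_mono_fibre (hdY : IsDecent Y.obj) (y : Points Y.obj) :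
    ∃ (p : FieldPt Y.obj) (P : Space S) (q : P ⟶ X) (π : P.obj ⟶ (yon S).obj p.pt),
      IsPullback q.hom π f.hom p.toHom ∧ Function.Injective (Points.map q.hom) ∧
        Set.range (Points.map q.hom) = Points.map f.hom ⁻¹' {y} ∧ (IsDecent X.obj → IsDecent P.obj) := by
  obtain ⟨p, hp, hm, -⟩ := hdY y
  have sq := IsPullback.of_hasPullback f.hom p.toHom
  let P : Space S := ⟨pullback f.hom p.toHom,
    isAlgSpace_of_isPullback sq X.property (IsAlgSpace.yon_obj _) Y.property⟩
  let q : P ⟶ X := ObjectProperty.homMk (pullback.fst f.hom p.toHom)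
  have : Mono q.hom := MorphismProperty.of_isPullback (P := MorphismProperty.monomorphisms (Sp S)) sq.flip hm
  have hq : Representable q.hom :=
    MorphismProperty.of_isPullback (P := (yon S).relativelyRepresentable) sq.flip
      (Y.property.representable_from_yon p.toHom)
  refine ⟨p, P, q, pullback.snd f.hom p.toHom, sq, injective_map_of_mono q.hom, ?_,
    fun hd => isDecent_of_representable q.hom hq hd⟩
  refine Set.Subset.antisymm ?_ fun x hx => ?_
  · rintro _ ⟨z, rfl⟩
    obtain ⟨t, ht⟩ := (Points.schemeEquiv p.pt).surjective (Points.map (pullback.snd f.hom p.toHom) z)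
    show Points.map f.hom (Points.map q.hom z) = y
    rw [← Points.map_comp, show q.hom ≫ f.hom = _ from sq.w, Points.map_comp, ← ht]
    show Points.map p.toHom (Points.ofPt (𝟙 _) t) = y
    rw [Points.map_ofPt, Category.id_comp, Points.ofPt_toHom, hp]
  · obtain ⟨z, hz, -⟩ := exists_point_of_isPullback sq x (Points.ofPt (𝟙 _) (IsLocalRing.closedPoint p.K)) (by
      rw [Points.map_ofPt, Category.id_comp, Points.ofPt_toHom, hp]; exact hx)
    exact ⟨z, hz⟩

/-- Isolated points, quasi-finite points and minimal closed points of fibres over decent spaces. -/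
theorem fibre_point_iff (hdY : IsDecent Y.obj) {x : Points X.obj} {y : Points Y.obj}
    (hx : x ∈ Points.map f.hom ⁻¹' {y}) :
    (IsOpen ({⟨x, hx⟩} : Set ↥(Points.map f.hom ⁻¹' {y})) ↔
        HasAtMor (nearBy (@LocallyQuasiFinite ⊓ @LocallyOfFiniteType)) f.hom x) ∧
      ((IsClosed ({⟨x, hx⟩} : Set ↥(Points.map f.hom ⁻¹' {y})) ∧
          ∀ x' : ↥(Points.map f.hom ⁻¹' {y}), x' ⤳ ⟨x, hx⟩ → x' = ⟨x, hx⟩) ↔
        HasAtMor (nearBy (@LocallyQuasiFinite ⊓ @LocallyOfFiniteType)) f.hom x) ∧
      (IsDecent X.obj → (FlatMor.localDim ↥(Points.map f.hom ⁻¹' {y}) ⟨x, hx⟩ = 0 ↔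
        IsOpen ({⟨x, hx⟩} : Set ↥(Points.map f.hom ⁻¹' {y})))) := by
  obtain ⟨p, P, q, π, sq, hinj, hr, hdP⟩ := exists_mono_fibre f hdY y
  obtain ⟨z, hz⟩ := hr.ge hx
  let g : Points P.obj → ↥(Points.map f.hom ⁻¹' {y}) := fun t => ⟨Points.map q.hom t, hr.le ⟨t, rfl⟩⟩
  have hg : Continuous g := (Points.continuous_map q.hom).subtype_mk _
  have hgi : Function.Injective g := fun s t e => hinj (congrArg Subtype.val e)
  have hgz : g z = ⟨x, hx⟩ := Subtype.ext hz
  have hpre : g ⁻¹' {⟨x, hx⟩} = {z} := by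
    ext t
    simp only [Set.mem_preimage, Set.mem_singleton_iff, ← hgz, hgi.eq_iff]
  have hA := isOpen_fibrePoint_iff_qf f hf p P q π sq z
  rw [hz] at hA
  obtain ⟨_, _⟩ := fieldPt_base p
  have hp : LocP @LocallyOfFiniteType π := locP_baseChange X.property Y.property (IsAlgSpace.yon_obj _) sq hf
  have hgen := isolated_point_iff_of_jacobson (T₀ := p.pt) P π hp z
  have h1 : IsOpen ({⟨x, hx⟩} : Set ↥(Points.map f.hom ⁻¹' {y})) ↔
      HasAtMor (nearBy (@LocallyQuasiFinite ⊓ @LocallyOfFiniteType)) f.hom x :=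
    ⟨fun h => hA.1 (hpre ▸ h.preimage hg), fun h => (isolated_of_qf f hf hdY hx h).1⟩
  refine ⟨h1, ⟨fun h => hA.1 (hgen.1.2 ⟨hpre ▸ h.1.preimage hg, fun t ht => ?_⟩), fun h =>
    ⟨(isolated_of_qf f hf hdY hx h).2, fun t ht => ht.mem_open (h1.2 h) rfl⟩⟩, fun hdX => ⟨fun h => ?_, fun h => ?_⟩⟩
  · exact hgi ((h.2 _ (hgz ▸ ht.map hg)).trans hgz.symm)
  · have := t0Space_points_of_isDecent X.property hdX
    obtain ⟨N, hN⟩ : ∃ N : {N : Opens ↥(Points.map f.hom ⁻¹' {y}) // (⟨x, hx⟩ : ↥(Points.map f.hom ⁻¹' {y})) ∈ N},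
        topologicalKrullDim (N.1 : Set ↥(Points.map f.hom ⁻¹' {y})) ≤ 0 := by
      by_contra hc
      push Not at hc
      have : (1 : WithBot ℕ∞) ≤ FlatMor.localDim ↥(Points.map f.hom ⁻¹' {y}) ⟨x, hx⟩ :=
        le_iInf fun N => by
          have := hc N
          exact one_le_of_pos_dim this
      rw [h] at this
      exact absurd this (by decide)
    refine h1.2 (hA.1 ((hgen.1).2 ⟨?_, fun t ht => ?_⟩))
    · have := (jacobson_iff P.property (hdP hdX)).1 (by
        obtain ⟨U, a, ha, has⟩ := P.property.atlas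
        exact ⟨U, a, ha, has, (chart_noetherian_jacobson (T₀ := p.pt) π hp ha).2⟩)
      refine isClosed_singleton_of_isLocallyClosed_singleton ?_
      have e : ({z} : Set (Points P.obj)) = g ⁻¹' N.1 ∩ closure {z} := by
        refine Set.ext fun t => ⟨fun e => by
          rw [show t = z from e]
          exact ⟨show g z ∈ N.1 from hgz.symm ▸ N.2, subset_closure rfl⟩, fun ht => ?_⟩
        have hs : g z ⤳ g t := (specializes_iff_mem_closure.2 ht.2).map hg
        have := eq_of_specializes_of_dim_le_zero hN (x := (⟨g t, ht.1⟩ : (N.1 : Set ↥(Points.map f.hom ⁻¹' {y}))))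
          (y := ⟨g z, hgz.symm ▸ N.2⟩) ((subtype_specializes_iff _ _).2 hs)
        exact hgi (congrArg Subtype.val this).symm
      rw [e]
      exact ((N.1.2.preimage hg).isLocallyClosed).inter isClosed_closure.isLocallyClosed
    · have hs : g t ⤳ g z := ht.map hg
      have := eq_of_specializes_of_dim_le_zero hN (x := (⟨g z, hgz.symm ▸ N.2⟩ : (N.1 : Set ↥(Points.map f.hom ⁻¹' {y}))))
        (y := ⟨g t, hs.mem_open N.1.2 (hgz.symm ▸ N.2)⟩) ((subtype_specializes_iff _ _).2 hs)
      exact hgi (congrArg Subtype.val this)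
  · refine le_antisymm ((iInf_le _ ⟨⟨_, h⟩, rfl⟩).trans ?_) (FibreDim.le_localDim fun O _ hu =>
      have : Nonempty O := ⟨⟨_, hu⟩⟩
      zero_le_dim_of_nonempty)
    have : Subsingleton ↥({⟨x, hx⟩} : Set ↥(Points.map f.hom ⁻¹' {y})) := Set.subsingleton_singleton.coe_sort
    exact dim_le_zero_of_discrete (T := ↥({⟨x, hx⟩} : Set ↥(Points.map f.hom ⁻¹' {y})))

end Groth.Agent.AlgSpFin
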