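import Groth.Agent.AlgSpFin.FiniteSplit
import Groth.Agent.AlgSpFin.QfPoint
import Groth.Agent.AlgSpFin.AtMor
import Groth.Agent.AlgSpFin.Misc4
import Groth.Agent.AlgSpLib.UnivClosed

/-!
Universally closed separated morphisms with quasi-finite points in a fibre are finite nearby.
-/

set_option autoImplicit false
set_option backward.isDefEq.respectTransparency.types false

universe u

open CategoryTheory CategoryTheory.Limits AlgebraicGeometry Opposite AlgSp TopologicalSpace

namespace Groth.Agent.AlgSpFin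

open Groth.Agent.AlgSpLib

variable {S : Scheme.{u}}

/-- A base change landing in an open piece that is finite over the base is finite. -/
theorem isFiniteMor_of_full_piece {Q Q' : Sp S} {M V V' : Over S} {j : V' ⟶ V} {φ : (yon S).obj M ⟶ Q}
    {s : Q ⟶ (yon S).obj V} {m : M ⟶ V} (hφ : RepWith @IsOpenImmersion φ) (hm : IsFinite m.left)
    (w : φ ≫ s = (yon S).map m) {a : Q' ⟶ Q} {b : Q' ⟶ (yon S).obj V'} (sq : IsPullback a b s ((yon S).map j))
    (h : ∀ q, Points.map a q ∈ Set.range (Points.map φ)) : IsFiniteMor b := by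
  have sW := IsPullback.of_hasPullback φ a
  have : Mono φ := mono_of_repWith hφ fun _ _ k hk => by
    have : IsOpenImmersion k := hk
    infer_instance
  have : Mono (pullback.snd φ a) :=
    MorphismProperty.pullback_snd (P := MorphismProperty.monomorphisms (Sp S)) _ _ ‹Mono φ›
  have : IsIso (pullback.snd φ a) := isIso_of_mono_of_lifts _ fun T g => by
    obtain ⟨l, hl⟩ := exists_factor_of_range hφ (g ≫ a) fun t => by
      rw [← Points.map_ofPt]
      exact h _
    exact ⟨pullback.lift l g hl, pullback.lift_snd _ _ _⟩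
  have hb : RepWith @IsFinite (pullback.snd φ a ≫ b) :=
    repWith_baseChange (sW.paste_vert sq) (by rw [w]; exact (repWith_yon_map_iff @IsFinite m).2 hm)
  exact (isFiniteMor_iff_repWith b).2
    ((MorphismProperty.cancel_left_of_respectsIso (RepWith @IsFinite) (pullback.snd φ a) b).1 hb)

/-- The range of an open immersion of spaces is open. -/
theorem isOpen_range_map_of_openImm {F G : Sp S} (hF : IsAlgSpace F) {j : F ⟶ G}
    (hj : RepWith @IsOpenImmersion j) : IsOpen (Set.range (Points.map j)) :=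
  (isOpenMap_map_of_isEtaleMor hF (isEtaleMor_of_repWith (repWith_mono (fun _ _ k hk => by
    have : IsOpenImmersion k := hk
    exact inferInstanceAs (Etale k)) hj))).isOpen_range

variable {X Y : Space S} (f : X ⟶ Y)

/-- Near a point with quasi-finite fibre, the morphism is etale locally finite. -/
theorem exists_finite_chart (hl : LocP @LocallyOfFiniteType f.hom) (hs : IsSeparatedMor f.hom)
    (hc : IsUnivClosedMor f.hom) (y : Points Y.obj)
    (hq : ∀ x, Points.map f.hom x = y → HasAtMor (nearBy (@LocallyQuasiFinite ⊓ @LocallyOfFiniteType)) f.hom x) :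
    ∃ (V : Over S) (g : (yon S).obj V ⟶ Y.obj) (Q : Sp S) (q₁ : Q ⟶ X.obj) (q₂ : Q ⟶ (yon S).obj V),
      RepWith @Etale g ∧ y ∈ Set.range (Points.ofPt g) ∧ IsPullback q₁ q₂ f.hom g ∧ IsFiniteMor q₂ := by
  obtain ⟨V, b, hb, hbs⟩ := Y.property.atlas
  obtain ⟨v, rfl⟩ := surjective_ofPt hbs y
  have hft : IsFiniteTypeMor f.hom := ⟨hl, isQuasiCompactMor_of_isUnivClosedMor X.property Y.property hc⟩
  have sP := IsPullback.of_hasPullback f.hom b
  let P : Space S := ⟨pullback f.hom b,
    isAlgSpace_of_isPullback sP X.property (IsAlgSpace.yon_obj V) Y.property⟩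
  let π : P ⟶ ⟨(yon S).obj V, IsAlgSpace.yon_obj V⟩ := ObjectProperty.homMk (pullback.snd f.hom b)
  have hover : ∀ p, Points.map (pullback.snd f.hom b) p = Points.ofPt (𝟙 _) v →
      Points.map f.hom (Points.map (pullback.fst f.hom b) p) = Points.ofPt b v := fun p hp => by
    rw [← Points.map_comp, sP.w, Points.map_comp, hp, Points.map_ofPt, Category.id_comp]
  let pset := {p : Points (pullback f.hom b) | Points.map (pullback.snd f.hom b) p = Points.ofPt (𝟙 _) v}
  have hfin : pset.Finite := ((finite_quasiFinite_over_point f hft (Points.ofPt b v)).biUnion fun x hx =>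
    finite_points_over_quasiFinite f (Z := ⟨(yon S).obj V, IsAlgSpace.yon_obj V⟩) (W := P)
      (ObjectProperty.homMk b) (ObjectProperty.homMk (pullback.fst f.hom b)) π sP x (Points.ofPt (𝟙 _) v) hft
      hx.2).subset fun p hp =>
    Set.mem_biUnion (x := Points.map (pullback.fst f.hom b) p) ⟨hover p hp, hq _ (hover p hp)⟩ ⟨rfl, hp⟩
  obtain ⟨V', e, v', M, m, φ, he, -, hev, hm, hφo, -, hφm, hpts⟩ :=
    exists_finite_split P.property (pullback.snd f.hom b)
      (locP_baseChange X.property Y.property (IsAlgSpace.yon_obj V) sP hl) (repWith_diagonal_baseChange sP hs)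
      v pset hfin (fun p hp => hp) fun p hp => hasAtMor_baseChange _ f π sP p (hq _ (hover p hp))
  have sQ := IsPullback.of_hasPullback (pullback.snd f.hom b) ((yon S).map e)
  let C := Points.map (pullback.snd (pullback.snd f.hom b) ((yon S).map e)) '' (Set.range (Points.map φ))ᶜ
  have hC : IsClosed C := hc (IsAlgSpace.yon_obj V') ((yon S).map e ≫ b) _ _ (sQ.paste_horiz sP) _
    (isOpen_range_map_of_openImm (IsAlgSpace.yon_obj M) hφo).isClosed_compl
  let O : V'.left.Opens := ⟨(Points.ofPt (𝟙 _)) ⁻¹' Cᶜ, hC.isOpen_compl.preimage (Points.continuous_ofPt _)⟩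
  have hv' : v' ∈ O := by
    rintro ⟨q, hq', hqv⟩
    refine hq' ((hpts q hqv).2 ?_)
    show Points.map _ (Points.map _ q) = _
    rw [← Points.map_comp, sQ.w, Points.map_comp, hqv, Points.map_ofPt, Category.id_comp,
      ← Category.comp_id ((yon S).map e), ofPt_comp, hev]
  let V'' : Over S := Over.mk (O.ι ≫ V'.hom)
  let j : V'' ⟶ V' := Over.homMk O.ι rfl
  have sR := IsPullback.of_hasPullback (pullback.snd (pullback.snd f.hom b) ((yon S).map e)) ((yon S).map j)
  refine ⟨V'', (yon S).map j ≫ (yon S).map e ≫ b, _, _, _,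
    repWith_yon_comp (P := @Etale) j (inferInstanceAs (Etale O.ι)) (repWith_yon_comp e he hb),
    ⟨⟨v', hv'⟩, ?_⟩, sR.paste_horiz (sQ.paste_horiz sP),
    isFiniteMor_of_full_piece hφo hm hφm sR fun q => ?_⟩
  · rw [ofPt_comp, ofPt_comp]
    exact congrArg _ hev
  · by_contra hn
    obtain ⟨t, ht⟩ := exists_ofScheme (Points.map (pullback.snd _ ((yon S).map j)) q)
    refine t.2 ⟨_, hn, ?_⟩
    rw [← Points.map_comp, sR.w, Points.map_comp, ← ht, Points.map_ofPt, Category.id_comp,
      ← Category.comp_id ((yon S).map j), ofPt_comp]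
    rfl

/-- Finiteness from quasi-finiteness at all points. -/
theorem isFiniteMor_of_forall_qf (hl : LocP @LocallyOfFiniteType f.hom) (hs : IsSeparatedMor f.hom)
    (hc : IsUnivClosedMor f.hom)
    (hq : ∀ x, HasAtMor (nearBy (@LocallyQuasiFinite ⊓ @LocallyOfFiniteType)) f.hom x) :
    IsFiniteMor f.hom := by
  obtain ⟨V, b, hb, hbs⟩ := Y.property.atlas
  choose W g Q q₁ q₂ hg hmem sq hfin using fun v : V.left =>
    exists_finite_chart f hl hs hc (Points.ofPt b v) (fun x _ => hq x)
  refine isFiniteMor_of_etale_family X.property Y.property f.hom W g hg (fun y => ?_) Q q₂ q₁ sq hfin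
  obtain ⟨v, rfl⟩ := surjective_ofPt hbs y
  obtain ⟨w, hw⟩ := hmem v
  exact ⟨v, Points.ofPt (𝟙 _) w, by rw [Points.map_ofPt, Category.id_comp, hw]⟩

/-- A proper morphism is finite near a point with quasi-finite fibre. -/
theorem exists_open_finite (hf : IsProperMor f.hom) (y : Points Y.obj)
    (hq : ∀ x, Points.map f.hom x = y → HasAtMor (nearBy (@LocallyQuasiFinite ⊓ @LocallyOfFiniteType)) f.hom x) :
    ∃ (V : Space S) (j : V ⟶ Y), RepWith @IsOpenImmersion j.hom ∧ y ∈ Set.range (Points.map j.hom) ∧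
      ∀ (P : Space S) (fst : P ⟶ X) (snd : P ⟶ V), IsPullback fst.hom snd.hom f.hom j.hom →
        IsFiniteMor snd.hom := by
  obtain ⟨W, g, Q, q₁, q₂, hg, hy, sq, hfin⟩ := exists_finite_chart f hf.2.1.1 hf.1 hf.2.2 y hq
  obtain ⟨V, j, hj, hjr⟩ := exists_open_subspace Y _ (isOpenMap_ofPt_of_etale hg).isOpen_range
  obtain ⟨g', hg', hg'e, hg's, -⟩ := exists_factor_open_image g hg j hj hjr
  refine ⟨V, j, hj, by rw [hjr]; exact hy, fun P fst snd sP => ?_⟩
  have h₀ : q₁ ≫ f.hom = (q₂ ≫ g') ≫ j.hom := by rw [Category.assoc, hg', sq.w]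
  refine isFiniteMor_of_etale_family P.property V.property snd.hom (ι := PUnit.{u + 1}) (fun _ => W) (fun _ => g')
    (fun _ => hg'e) (fun y => ⟨⟨⟩, ?_⟩) (fun _ => Q) (fun _ => q₂) (fun _ => sP.lift q₁ (q₂ ≫ g') h₀)
    (fun _ => ?_) fun _ => hfin
  · obtain ⟨w, hw⟩ := surjective_ofPt hg's y
    exact ⟨Points.ofPt (𝟙 _) w, by rw [Points.map_ofPt, Category.id_comp, hw]⟩
  · exact IsPullback.of_right (by rw [sP.lift_fst, hg']; exact sq) (sP.lift_snd _ _ _) sP

/-- Discrete fibres give quasi-finite points. -/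
theorem hasAtMor_qf_of_discrete_fibres (hl : LocP @LocallyOfFiniteType f.hom)
    (hd : ∀ (k : FieldPt Y.obj) (Xk : Sp S) (fst : Xk ⟶ X.obj) (snd : Xk ⟶ (yon S).obj k.pt),
      IsPullback fst snd f.hom k.toHom → DiscreteTopology (Points Xk)) (x : Points X.obj) :
    HasAtMor (nearBy (@LocallyQuasiFinite ⊓ @LocallyOfFiniteType)) f.hom x := by
  obtain ⟨r, hr⟩ := Points.mk_surjective (Points.map f.hom x)
  let s : r.pt.left := (IsLocalRing.closedPoint r.K : PrimeSpectrum r.K)
  have sX := IsPullback.of_hasPullback f.hom r.toHom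
  let Xk : Space S := ⟨pullback f.hom r.toHom,
    isAlgSpace_of_isPullback sX X.property (IsAlgSpace.yon_obj r.pt) Y.property⟩
  let fst : Xk ⟶ X := ObjectProperty.homMk (pullback.fst f.hom r.toHom)
  obtain ⟨xt, hxt, -⟩ := exists_point_of_isPullback sX x (Points.ofPt (𝟙 _) s) (by
    rw [Points.map_ofPt, Category.id_comp, ← hr]
    exact (Points.ofPt_toHom r s).symm)
  have := hd r Xk.obj _ _ sX
  rw [← hxt]
  exact (isOpen_fibrePoint_iff_qf f hl r Xk fst _ sX xt).1 (isOpen_discrete _)

/-- A separated morphism with finite geometric fibre is quasi-finite along it. -/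
theorem hasAtMor_qf_of_finite_fibre (hl : LocP @LocallyOfFiniteType f.hom) (hs : IsSeparatedMor f.hom)
    (r : FieldPt Y.obj) (Xy : Sp S) (fst : Xy ⟶ X.obj) (snd : Xy ⟶ (yon S).obj r.pt)
    (sq : IsPullback fst snd f.hom r.toHom) (hfin : Finite (Points Xy)) (x : Points X.obj)
    (hx : Points.map f.hom x = Points.mk r) :
    HasAtMor (nearBy (@LocallyQuasiFinite ⊓ @LocallyOfFiniteType)) f.hom x := by
  obtain ⟨_, _⟩ := fieldPt_base r
  let s : r.pt.left := (IsLocalRing.closedPoint r.K : PrimeSpectrum r.K)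
  let Xk : Space S := ⟨Xy, isAlgSpace_of_isPullback sq X.property (IsAlgSpace.yon_obj r.pt) Y.property⟩
  obtain ⟨xt, hxt, -⟩ := exists_point_of_isPullback sq x (Points.ofPt (𝟙 _) s) (by
    rw [Points.map_ofPt, Category.id_comp, hx]
    exact (Points.ofPt_toHom r s).symm)
  have : Nonempty (Points Xk.obj) := ⟨xt⟩
  have hp : LocP @LocallyOfFiniteType snd := locP_baseChange X.property Y.property (IsAlgSpace.yon_obj _) sq hl
  have hdec : IsDecent Xk.obj := isDecent_of_isQuasiSeparatedMor Xk.property snd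
    (repWith_mono (fun _ _ k hk => by
      have : IsClosedImmersion k := hk
      infer_instance) (repWith_diagonal_baseChange sq hs))
  have hdim := dim_zero_iff_of_jacobson (T₀ := r.pt) Xk snd hp
  have : DiscreteTopology (Points Xk.obj) := hdim.1.2 (hdim.2.2.2 hdec hfin)
  rw [← hxt]
  exact (isOpen_fibrePoint_iff_qf f hl r Xk (ObjectProperty.homMk fst) snd sq xt).1 (isOpen_discrete _)

end Groth.Agent.AlgSpFin
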