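import Groth.Agent.AlgSpFin.RedInduced
import Groth.Agent.AlgSpFin.MorCalc
import Groth.Agent.AlgSpFin.ImmersionTop
import Groth.Agent.AlgSpLib.UnivClosed
import Groth.Agent.AlgSpPts.Cancel

/-!
Closed subsets proper over a base.
-/

set_option autoImplicit false
set_option backward.isDefEq.respectTransparency.types false

universe u

open CategoryTheory CategoryTheory.Limits AlgebraicGeometry Opposite AlgSp TopologicalSpace

namespace Groth.Agent.AlgSpFin

open Groth.Agent.AlgSpLib Groth.Agent.AlgStLib

variable {S : Scheme.{u}}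

/-- Universal closedness may be tested on finitely many jointly surjective sources. -/
theorem isUnivClosedMor_of_cover {W B : Sp S} {ι : Type*} [Finite ι] (Wk : ι → Sp S) (e : ∀ k, Wk k ⟶ W)
    (hs : ∀ w, ∃ k, w ∈ Set.range (Points.map (e k))) (h : W ⟶ B) (hh : ∀ k, IsUnivClosedMor (e k ≫ h)) :
    IsUnivClosedMor h := by
  intro T T' hT g a b sq C hC
  have key : ∀ k, IsClosed (Points.map (pullback.snd (e k) a ≫ b) ''
      (Points.map (pullback.snd (e k) a) ⁻¹' C)) := fun k =>
    hh k hT g _ _ ((IsPullback.of_hasPullback (e k) a).paste_vert sq) _ (hC.preimage (Points.continuous_map _))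
  convert isClosed_iUnion_of_finite key using 1
  ext x
  constructor
  · rintro ⟨c, hc, rfl⟩
    obtain ⟨k, y, hy⟩ := hs (Points.map a c)
    obtain ⟨p, -, hp⟩ := exists_point_of_isPullback (IsPullback.of_hasPullback (e k) a) y c hy
    exact Set.mem_iUnion.2 ⟨k, p, Set.mem_preimage.2 (by rw [hp]; exact hc), (Points.map_comp _ _ _).trans (congrArg _ hp)⟩
  · intro hx
    obtain ⟨k, p, hp, rfl⟩ := Set.mem_iUnion.1 hx
    exact ⟨_, hp, (Points.map_comp _ _ _).symm⟩

/-- Properness descends along finitely many universally closed jointly surjective maps. -/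
theorem isProperMor_of_cover {W B : Space S} {ι : Type*} [Finite ι] (Wk : ι → Space S) (e : ∀ k, Wk k ⟶ W)
    (hs : ∀ w, ∃ k, w ∈ Set.range (Points.map (e k).hom)) (he : ∀ k, IsUnivClosedMor (e k).hom) (h : W ⟶ B)
    (hl : LocP @LocallyOfFiniteType h.hom) (hh : ∀ k, IsProperMor ((e k).hom ≫ h.hom)) :
    IsProperMor h.hom := by
  have hc : IsUnivClosedMor h.hom :=
    isUnivClosedMor_of_cover (fun k => (Wk k).obj) (fun k => (e k).hom) hs h.hom fun k => (hh k).2.2
  refine ⟨isSeparatedMor_of_diag_univClosed W.property B.property h.hom ?_,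
    ⟨hl, isQuasiCompactMor_of_isUnivClosedMor W.property B.property hc⟩, hc⟩
  refine isUnivClosedMor_of_cover (fun k => (Wk k).obj) (fun k => (e k).hom) hs _ fun k => ?_
  let M : pullback ((e k).hom ≫ h.hom) ((e k).hom ≫ h.hom) ⟶ pullback h.hom h.hom :=
    pullback.lift (pullback.fst _ _ ≫ (e k).hom) (pullback.snd _ _ ≫ (e k).hom)
      (by simp only [Category.assoc, pullback.condition])
  have hM : IsUnivClosedMor M := AlgSpPts.isUnivClosedMor_map_self (Wk k).property W.property B.property rfl (he k)
  have w : (e k).hom ≫ pullback.diagonal h.hom = pullback.diagonal ((e k).hom ≫ h.hom) ≫ M := by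
    apply pullback.hom_ext
    · rw [Category.assoc, Category.assoc, pullback.diagonal_fst, Category.comp_id, pullback.lift_fst,
        pullback.diagonal_fst_assoc]
    · rw [Category.assoc, Category.assoc, pullback.diagonal_snd, Category.comp_id, pullback.lift_snd,
        pullback.diagonal_snd_assoc]
  rw [w]
  have hP := isAlgSpace_pullback ((e k).hom ≫ h.hom) ((e k).hom ≫ h.hom) (Wk k).property (Wk k).property B.property
  exact univSp_comp (fun _ _ _ a b => isClosedMor_comp a b) hP
    (isAlgSpace_pullback h.hom h.hom W.property W.property B.property)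
    (AlgSpPts.isUnivClosedMor_of_closedImmersion (Wk k).property hP (hh k).1) hM

/-- Closed immersions are separated and locally of finite type. -/
theorem closedImm_facts {X Z : Space S} (i : Z ⟶ X) (hi : RepWith @IsClosedImmersion i.hom) :
    IsSeparatedMor i.hom ∧ LocP @LocallyOfFiniteType i.hom :=
  ⟨(isProperMor_of_closedImm Z.property X.property hi).1, (isProperMor_of_closedImm Z.property X.property hi).2.1.1⟩

/-- The reduced structure on the support of a closed subspace maps to it properly and surjectively. -/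
theorem exists_reduction {X Z : Space S} (i : Z ⟶ X) (hi : RepWith @IsClosedImmersion i.hom) :
    ∃ (W : Space S) (r : W ⟶ Z), IsReducedSp W.obj ∧ IsProperMor r.hom ∧ Function.Surjective (Points.map r.hom) := by
  obtain ⟨W, r, hr, hrr, hred⟩ := exists_redInduced Z Set.univ isClosed_univ
  exact ⟨W, r, hred, isProperMor_of_closedImm W.property Z.property hr, fun z => hrr.ge (Set.mem_univ z)⟩

/-- A closed subspace on a finite union of images of proper ones is proper over the base. -/
theorem exists_proper_union {X B : Space S} {ι : Type*} [Finite ι] (Z : ι → Space S) (m : ∀ k, Z k ⟶ X) (f : X ⟶ B)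
    (hf : LocP @LocallyOfFiniteType f.hom) (hm : ∀ k, IsUnivClosedMor (m k).hom)
    (hZ : ∀ k, IsProperMor ((m k).hom ≫ f.hom)) :
    IsClosed (⋃ k, Set.range (Points.map (m k).hom)) ∧
      ∃ (W : Space S) (j : W ⟶ X), RepWith @IsClosedImmersion j.hom ∧
        Set.range (Points.map j.hom) = ⋃ k, Set.range (Points.map (m k).hom) ∧ IsProperMor (j ≫ f).hom := by
  have hcl : IsClosed (⋃ k, Set.range (Points.map (m k).hom)) := isClosed_iUnion_of_finite fun k =>
    (hm k X.property (𝟙 _) (𝟙 _) (m k).hom (IsPullback.of_horiz_isIso ⟨by simp⟩)).isClosed_range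
  refine ⟨hcl, ?_⟩
  obtain ⟨W, j, hj, hjr, -⟩ := exists_redInduced X _ hcl
  refine ⟨W, j, hj, hjr, ?_⟩
  choose R r hred hr hrs using fun k => exists_redInduced (Z k) Set.univ isClosed_univ |>.imp fun R h =>
    h.imp fun r hr => (⟨hr.2.2, isProperMor_of_closedImm R.property (Z k).property hr.1,
      fun z => hr.2.1.ge (Set.mem_univ z)⟩ :
      IsReducedSp R.obj ∧ IsProperMor r.hom ∧ Function.Surjective (Points.map r.hom))
  choose e he using fun k => (factors_closedImm_iff j hj (hred k) (r k ≫ m k)).2 (by
    rintro _ ⟨y, rfl⟩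
    rw [hjr]
    exact Set.mem_iUnion.2 ⟨k, Points.map (r k).hom y, (Points.map_comp _ _ _).symm⟩)
  have : Mono j.hom := mono_of_repWith hj fun _ _ k hk => by
    have : IsClosedImmersion k := hk
    infer_instance
  have hek : ∀ k, (e k).hom ≫ j.hom = (r k).hom ≫ (m k).hom := fun k => congrArg InducedCategory.Hom.hom (he k)
  refine isProperMor_of_cover R e (fun w => ?_) (fun k => ?_) (j ≫ f) ?_ fun k => ?_
  · obtain ⟨k, z, hz⟩ := Set.mem_iUnion.1 (hjr.le ⟨w, rfl⟩)
    obtain ⟨y, rfl⟩ := hrs k z
    refine ⟨k, y, injective_map_of_mono j.hom ?_⟩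
    rw [← hz, ← Points.map_comp, ← Points.map_comp, hek]
  · refine ((AlgSpPts.cancel_separated (R k).property W.property X.property (hek k) (closedImm_facts j hj).1).1 ?_).1
    exact univSp_comp (fun _ _ _ a b => isClosedMor_comp a b) (Z k).property X.property (hr k).2.2 (hm k)
  · exact locP_comp W.property X.property B.property (closedImm_facts j hj).2 hf
  · show IsProperMor ((e k).hom ≫ j.hom ≫ f.hom)
    rw [← Category.assoc, hek, Category.assoc]
    exact isProperMor_comp (R k).property (Z k).property B.property (hr k) (hZ k)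

/-- Closed subspaces with the same support are proper together. -/
theorem isProperMor_of_points_eq {X Y Z Z' : Space S} (f : X ⟶ Y) (hf : LocP @LocallyOfFiniteType f.hom)
    (i : Z ⟶ X) (i' : Z' ⟶ X) (hi : RepWith @IsClosedImmersion i.hom) (hi' : RepWith @IsClosedImmersion i'.hom)
    (heq : Set.range (Points.map i.hom) = Set.range (Points.map i'.hom)) (hZ : IsProperMor (i ≫ f).hom) :
    IsProperMor (i' ≫ f).hom := by
  obtain ⟨W, r, hred, hr, hrs⟩ := exists_reduction i' hi'
  obtain ⟨e, he⟩ := (factors_closedImm_iff i hi hred (r ≫ i')).2 (by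
    rintro _ ⟨y, rfl⟩
    rw [heq]
    exact ⟨Points.map r.hom y, (Points.map_comp _ _ _).symm⟩)
  have he' : e.hom ≫ i.hom = r.hom ≫ i'.hom := congrArg InducedCategory.Hom.hom he
  have hep : IsProperMor e.hom := (AlgSpPts.cancel_separated W.property Z.property X.property he' (closedImm_facts i hi).1).2
    (isProperMor_comp W.property Z'.property X.property hr (isProperMor_of_closedImm Z'.property X.property hi'))
  refine isProperMor_of_cover (ι := PUnit.{1}) (fun _ => W) (fun _ => r) (fun w => ⟨⟨⟩, hrs w⟩) (fun _ => hr.2.2)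
    (i' ≫ f) (locP_comp Z'.property X.property Y.property (closedImm_facts i' hi').2 hf) fun _ => ?_
  show IsProperMor (r.hom ≫ i'.hom ≫ f.hom)
  rw [← Category.assoc, ← he', Category.assoc]
  exact isProperMor_comp W.property Z.property Y.property hep hZ

/-- Properness of a composite along a base change. -/
theorem range_map_of_isPullback {P X Y Z : Sp S} {q : P ⟶ Z} {i' : P ⟶ X} {i : Z ⟶ Y} {f : X ⟶ Y}
    (sq : IsPullback q i' i f) : Set.range (Points.map i') = Points.map f ⁻¹' Set.range (Points.map i) := by
  ext x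
  constructor
  · rintro ⟨p, rfl⟩
    exact ⟨Points.map q p, by rw [← Points.map_comp, sq.w, Points.map_comp]⟩
  · rintro ⟨z, hz⟩
    obtain ⟨p, -, hp⟩ := exists_point_of_isPullback sq z x hz
    exact ⟨p, hp⟩

/-- Base change of a proper morphism. -/
theorem isProperMor_baseChange' {X Y Y' X' : Space S} {f : X ⟶ Y} {g : Y' ⟶ Y} {fst : X' ⟶ X} {f' : X' ⟶ Y'}
    (sq : IsPullback fst.hom f'.hom f.hom g.hom) (hf : IsProperMor f.hom) : IsProperMor f'.hom :=
  ⟨repWith_diagonal_baseChange sq hf.1, ⟨locP_baseChange X.property Y.property Y'.property sq hf.2.1.1,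
    isQuasiCompactMor_baseChange sq hf.2.1.2⟩, univSp_baseChange hf.2.2 sq⟩

end Groth.Agent.AlgSpFin
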