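import Groth.Agent.AlgSpFin.EtaleFibres
import Groth.Agent.AlgSpPts.Basic
import Groth.Agent.AlgSpPts.NoethSp
import Groth.Agent.AlgSpFin.ProperSupport
import Groth.Agent.AlgSpFin.FiniteCrit
import Groth.Agent.AlgSpPts.Dim
import Groth.Agent.GeomIrr.Glue

/-!
Integral subspaces, dimension along integral morphisms, descent of finiteness.
-/

set_option autoImplicit false
set_option backward.isDefEq.respectTransparency.types false

universe u

open CategoryTheory CategoryTheory.Limits AlgebraicGeometry Opposite AlgSp TopologicalSpace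

namespace Groth.Agent.AlgSpFin

open Groth.Agent.AlgSpLib Groth.Agent.AlgStLib

variable {S : Scheme.{u}}

/-- An irreducible closed subset of a decent space carries an integral closed subspace. -/
theorem exists_integral_closed (X : Space S) (hX : IsDecent X.obj) (T : Set (Points X.obj)) (hT : IsClosed T)
    (hTi : IsIrreducible T) :
    ∃ (Z : Space S) (i : Z ⟶ X), RepWith @IsClosedImmersion i.hom ∧ IsIntegralSp Z.obj ∧
      Set.range (Points.map i.hom) = T := by
  obtain ⟨Z, i, hi, hir, hred⟩ := exists_redInduced X T hT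
  have : Mono i.hom := mono_of_repWith hi fun _ _ k hk => by
    have : IsClosedImmersion k := hk
    infer_instance
  have he : Topology.IsClosedEmbedding (Points.map i.hom) :=
    .of_continuous_injective_isClosedMap (Points.continuous_map _) (injective_map_of_mono i.hom)
      (AlgSpPts.isUnivClosedMor_of_closedImmersion Z.property X.property hi X.property (𝟙 _) (𝟙 _) i.hom
        (IsPullback.of_horiz_isIso ⟨by simp⟩))
  refine ⟨Z, i, hi, ⟨hred, isDecent_of_representable i.hom hi.1 hX, ?_⟩, hir⟩
  have : IrreducibleSpace ↥T := Subtype.irreducibleSpace hTi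
  let e : Points Z.obj ≃ₜ ↥T := he.toIsEmbedding.toHomeomorph.trans (Homeomorph.setCongr hir)
  exact e.symm.surjective.irreducibleSpace e.symm.continuous

/-- Integral morphisms do not increase the dimension. -/
theorem dim_le_of_isIntegralMor {X Y : Space S} (f : X ⟶ Y) (hf : IsIntegralMor f.hom) :
    AlgSp.dim X.obj ≤ AlgSp.dim Y.obj := by
  have hR := (isIntegralMor_iff_repWith f.hom).1 hf
  obtain ⟨V, b, hb, hbs⟩ := Y.property.atlas
  obtain ⟨P, p, π, sP⟩ : ∃ (P : Over S) (p : (yon S).obj P ⟶ X.obj) (π : P ⟶ V),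
      IsPullback p ((yon S).map π) f.hom b := ⟨hR.1.pullback b, hR.1.fst b, hR.1.snd b, hR.1.isPullback b⟩
  have : IsIntegralHom π.left := hR.2 b p π sP
  refine iSup_le fun U => iSup_le fun a => iSup_le fun ha => ?_
  obtain ⟨W, w₁, w₂, sW⟩ := exists_isPullback (X.property.representable_from_yon a) p
  have hp : RepWith @Etale p := repWith_baseChange sP.flip hb
  have hps : RepWith @Surjective p := repWith_baseChange sP.flip hbs
  have : Etale w₁.left := prop_snd sW.flip hp
  have : Surjective w₁.left := prop_snd sW.flip hps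
  have : Etale w₂.left := prop_snd sW ha
  have : LocallyQuasiFinite w₂.left := locallyQuasiFinite_of_formallyUnramified _
  refine (S7552.result w₁.left w₁.left.continuous w₁.left.surjective (Or.inr (Flat.generalizingMap w₁.left))).trans ?_
  refine (AlgSpPts.topologicalKrullDim_le_of_discrete_fibers w₂.left.continuous
    fun y => w₂.left.isDiscrete_preimage_singleton y).trans ?_
  refine le_trans ?_ (le_iSup_of_le V (le_iSup_of_le b (le_iSup_of_le hb le_rfl)))
  refine Order.krullDim_le_of_strictMono (fun Z => (⟨closure (π.left '' (Z : Set P.left)),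
      (Z.isIrreducible.image _ π.left.continuous.continuousOn).closure, isClosed_closure⟩ :
      IrreducibleCloseds V.left)) fun Z Z' hlt => ?_
  refine lt_of_le_of_ne (closure_mono (Set.image_mono hlt.le)) fun e => hlt.ne ?_
  obtain ⟨x, hx⟩ := QuasiSober.sober Z.isIrreducible Z.isClosed
  obtain ⟨x', hx'⟩ := QuasiSober.sober Z'.isIrreducible Z'.isClosed
  have he : π.left x = π.left x' := (hx.image π.left.continuous).eq
    (by
      have e' : closure (π.left '' (Z : Set P.left)) = closure (π.left '' (Z' : Set P.left)) :=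
        congrArg (fun W : IrreducibleCloseds V.left => (W : Set V.left)) e
      rw [e']
      exact hx'.image π.left.continuous)
  have := GeomIrr.eq_of_specializes_of_isIntegralHom π.left (hx'.specializes (hlt.le hx.mem)) he.symm
  refine IrreducibleCloseds.ext ?_
  rw [← hx.def, ← hx'.def, this]

/-- Surjective integral morphisms do not decrease the dimension. -/
theorem dim_ge_of_isIntegralMor {X Y : Space S} (f : X ⟶ Y) (hf : IsIntegralMor f.hom)
    (hs : IsSurjectiveMor f.hom) : AlgSp.dim Y.obj ≤ AlgSp.dim X.obj := by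
  have hR := (isIntegralMor_iff_repWith f.hom).1 hf
  refine iSup_le fun V => iSup_le fun b => iSup_le fun hb => ?_
  obtain ⟨P, p, π, sP⟩ : ∃ (P : Over S) (p : (yon S).obj P ⟶ X.obj) (π : P ⟶ V),
      IsPullback p ((yon S).map π) f.hom b := ⟨hR.1.pullback b, hR.1.fst b, hR.1.snd b, hR.1.isPullback b⟩
  have : IsIntegralHom π.left := hR.2 b p π sP
  have hπ : Function.Surjective π.left := fun v => by
    obtain ⟨x, hx⟩ := hs (Points.ofPt b v)
    obtain ⟨z, -, hz⟩ := exists_point_of_isPullback sP x (Points.ofPt (𝟙 _) v)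
      (by rw [hx, Points.map_ofPt, Category.id_comp])
    obtain ⟨w, rfl⟩ := exists_ofScheme z
    refine ⟨w, (Points.schemeEquiv V).injective ?_⟩
    show Points.ofPt (𝟙 _) (π.left w) = Points.ofPt (𝟙 _) v
    rw [← hz, ← ofPt_comp, Category.comp_id, Points.map_ofPt, Category.id_comp]
  refine (S7552.result π.left π.left.continuous hπ (Or.inl π.left.isClosedMap.specializingMap)).trans ?_
  exact le_iSup_of_le P (le_iSup_of_le p (le_iSup_of_le (repWith_baseChange sP.flip hb) le_rfl))

/-- Finiteness descends along etale surjections of the source for separated morphisms. -/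
theorem isFiniteMor_of_precomp {U X Y : Space S} (p : U ⟶ X) (f : X ⟶ Y) (hp : IsEtaleMor p.hom)
    (hps : IsSurjectiveMor p.hom) (hf : IsSeparatedMor f.hom) (h : IsFiniteMor (p.hom ≫ f.hom)) :
    IsFiniteMor f.hom := by
  have hR := (isFiniteMor_iff_repWith _).1 h
  have hfin := (isFiniteMor_iff U.property Y.property _).1 h
  obtain ⟨V, a, ha, has⟩ := U.property.atlas
  have ha' : RepWith @Etale (a ≫ p.hom) := hp a ha
  have has' : RepWith @Surjective (a ≫ p.hom) := repWith_surjective_of_map ha'.1 fun x => by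
    obtain ⟨u, rfl⟩ := hps x
    obtain ⟨v, rfl⟩ := surjective_ofPt has u
    exact ⟨Points.ofPt (𝟙 _) v, by rw [Points.map_ofPt, Category.id_comp, Points.map_ofPt]⟩
  have hq : LocP (@LocallyQuasiFinite ⊓ @LocallyOfFiniteType) (p.hom ≫ f.hom) :=
    (locP_iff_repWith Y.property hR.1).2 (repWith_mono (fun _ _ k hk => by
      have : IsFinite k := hk
      exact ⟨inferInstance, inferInstance⟩) hR)
  have hf' : LocP (@LocallyQuasiFinite ⊓ @LocallyOfFiniteType) f.hom := by
    obtain ⟨U', V', a', b, g, ha₁, has₁, hb, -, w⟩ := exists_chart U.property Y.property (p.hom ≫ f.hom)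
    refine locP_of_chart (hp a' ha₁) ?_ hb (by rw [Category.assoc]; exact w) (hq a' b g ha₁ hb w)
    exact repWith_surjective_of_map (hp a' ha₁).1 fun x => by
      obtain ⟨u, rfl⟩ := hps x
      obtain ⟨v, rfl⟩ := surjective_ofPt has₁ u
      exact ⟨Points.ofPt (𝟙 _) v, by rw [Points.map_ofPt, Category.id_comp, Points.map_ofPt]⟩
  have := isZariskiLocalAtSource_of_seven (P := @LocallyQuasiFinite ⊓ @LocallyOfFiniteType)
    (.inr <| .inr <| .inr <| .inr <| .inr <| .inl fun _ _ _ => Iff.rfl)
  exact isFiniteMor_of_forall_qf f (fun U V a b g ha hb w => (hf' a b g ha hb w).2) hf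
    (isUnivClosedMor_of_surjective_comp p.hom f.hom hps hfin.2.2.2) ((locP_iff_forall_hasAtMor _ f).1 hf')

/-- Representable quasi-compact maps pull back quasi-compact spaces to such. -/
theorem isQuasiCompactMor_of_rep_qc {X Y : Sp S} {f : X ⟶ Y} (hf : RepWith @QuasiCompact f) : IsQuasiCompactMor f := by
  intro Z Z' hZ hq g fst snd sq
  obtain ⟨U, p, hU, hp, hps⟩ := (isQuasiCompactSp_iff_affine hZ).1 hq
  obtain ⟨W, w, p', sW⟩ := (repWith_baseChange sq hf).1 p
  have : QuasiCompact w.left := (repWith_baseChange sq hf).2 p p' w sW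
  have : IsAffine U.left := hU
  exact ⟨W, p', repWith_baseChange sW.flip hp, repWith_baseChange sW.flip hps,
    QuasiCompact.compactSpace_of_compactSpace w.left⟩

theorem diagonal_lfp {X Y : Space S} (f : X ⟶ Y) (hf : LocP @LocallyOfFiniteType f.hom) :
    LocP @LocallyOfFinitePresentation (pullback.diagonal f.hom) ∧
    (IsQuasiSeparatedMor f.hom → IsFinitePresentationMor (pullback.diagonal f.hom)) := by
  have hP := isAlgSpace_pullback f.hom f.hom X.property X.property Y.property
  have hfst : LocP @LocallyOfFiniteType (pullback.fst f.hom f.hom) :=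
    locP_baseChange X.property Y.property X.property (IsPullback.of_hasPullback f.hom f.hom).flip hf
  have h1 : LocP @LocallyOfFinitePresentation (pullback.diagonal f.hom) := by
    refine locP_of_comp (Q := @Etale) X.property hP X.property ?_ hfst fun A B C k m hk hm =>
      locallyOfFinitePresentation_of_comp k m (have : Etale (k ≫ m) := hk; inferInstance) hm
    rw [pullback.diagonal_fst]
    exact (isEtaleMor_iff_locP X.property).1 (isEtaleMor_id _)
  have := AlgSpPts.repWith_mono_diagonal X.property f.hom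
  have hm : Mono (pullback.diagonal f.hom) := inferInstance
  exact ⟨h1, fun hq => ⟨h1, isQuasiCompactMor_of_rep_qc hq, repWith_diagonal_of_mono _⟩⟩

theorem noetherian_of_fp {X Y : Space S} (f : X ⟶ Y) (hf : IsFinitePresentationMor f.hom)
    (hY : IsQuasiCompactSp Y.obj ∧ IsQuasiSeparatedSp Y.obj ∧ IsLocNoethSp Y.obj) :
    IsQuasiCompactSp X.obj ∧ IsQuasiSeparatedSp X.obj ∧ IsLocNoethSp X.obj := by
  obtain ⟨hlfp, hqc, hqs⟩ := hf
  refine ⟨hqc Y.property hY.1 (𝟙 _) (𝟙 _) f.hom (isPullback_id _), ?_, ?_⟩
  · refine (AlgSpPts.repWith_diag_iff_toBase X.obj).1 ?_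
    have h := (AlgSpPts.repWith_diag_iff_toBase Y.obj).2 hY.2.1
    have e : f.hom ≫ AlgSpPts.toBase Y.obj = AlgSpPts.toBase X.obj := AlgSpPts.toBase_eq _ _
    show MorphismProperty.diagonal (RepWith (S := S) @QuasiCompact) _
    rw [← e]
    exact MorphismProperty.comp_mem (MorphismProperty.diagonal (RepWith (S := S) @QuasiCompact)) f.hom
      (AlgSpPts.toBase Y.obj) hqs h
  · obtain ⟨U, V, a, b, g, ha, has, hb, -, w⟩ := exists_chart X.property Y.property f.hom
    have : LocallyOfFinitePresentation g.left := hlfp a b g ha hb w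
    have := AlgSpPts.isLocallyNoetherian_of_chart hY.2.2 hb
    exact ⟨U, a, ha, has, LocallyOfFiniteType.isLocallyNoetherian g.left⟩

theorem exists_lift_geometric {U X : Space S} (φ : U ⟶ X) (hφ : IsEtaleMor φ.hom) (xbar : FieldPt X.obj)
    (hx : xbar.IsGeometric) (u : Points U.obj) (hu : Points.map φ.hom u = Points.mk xbar) :
    ∃ ubar : (yon S).obj xbar.pt ⟶ U.obj,
      ubar ≫ φ.hom = xbar.toHom ∧ Points.ofPt ubar (IsLocalRing.closedPoint xbar.K) = u := by
  have : IsAlgClosed xbar.K := hx
  let c₀ : xbar.pt.left := (IsLocalRing.closedPoint xbar.K : PrimeSpectrum xbar.K)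
  have sP := IsPullback.of_hasPullback φ.hom xbar.toHom
  have hP := isAlgSpace_of_isPullback sP U.property (IsAlgSpace.yon_obj xbar.pt) X.property
  obtain ⟨z, hz, -⟩ := exists_point_of_isPullback sP u (Points.ofPt (𝟙 _) c₀) (by
    rw [hu, map_ofPt_id, Points.ofPt_toHom])
  have hl : LocP @Etale (pullback.snd φ.hom xbar.toHom) :=
    locP_baseChange U.property X.property (IsAlgSpace.yon_obj _) sP ((isEtaleMor_iff_locP X.property).1 hφ)
  obtain ⟨T, a, ha, has⟩ := hP.atlas
  obtain ⟨t, rfl⟩ := surjective_ofPt has z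
  obtain ⟨g, hg⟩ := (yon S).map_surjective (a ≫ pullback.snd φ.hom xbar.toHom)
  have : Etale g.left := hl a (𝟙 _) g ha (repWith_id _ _) (by rw [Category.comp_id, hg])
  let gK : T.left ⟶ Spec (CommRingCat.of xbar.K) := g.left
  have : Etale gK := ‹Etale g.left›
  obtain ⟨σ, hσ, hσt⟩ := exists_section_of_etale gK t
  let σ' : xbar.pt ⟶ T := Over.homMk σ (by
    rw [← Over.w g]
    exact (Category.assoc σ gK _).symm.trans ((congrArg (· ≫ xbar.pt.hom) hσ).trans (Category.id_comp _)))
  have hσ' : σ' ≫ g = 𝟙 _ := Over.OverMorphism.ext hσ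
  refine ⟨(yon S).map σ' ≫ a ≫ pullback.fst φ.hom xbar.toHom, ?_, ?_⟩
  · rw [Category.assoc, Category.assoc, pullback.condition, ← reassoc_of% hg, ← Category.assoc,
      ← Functor.map_comp, hσ']
    erw [CategoryTheory.Functor.map_id, Category.id_comp]
  · rw [ofPt_comp, ← Points.map_ofPt, show σ'.left (IsLocalRing.closedPoint xbar.K : PrimeSpectrum xbar.K) = t from hσt]
    exact hz

end Groth.Agent.AlgSpFin
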