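import Groth.Agent.AlgSpFin.GenericFinite
import Groth.Agent.AlgSpFin.Misc5
import Groth.Agent.AlgSpFin.DecentLocal

/-!
Alterations from proper surjective morphisms.
-/

set_option autoImplicit false
set_option backward.isDefEq.respectTransparency.types false

universe u

open CategoryTheory CategoryTheory.Limits AlgebraicGeometry Opposite AlgSp TopologicalSpace

namespace Groth.Agent.AlgSpFin

open Groth.Agent.AlgSpLib Groth.Agent.AlgStLib

variable {S : Scheme.{u}}

/-- A nonempty fibre of a quasi-compact morphism out of a decent space has a closed point. -/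
theorem exists_closed_point_of_fibre {X Y : Space S} (f : X ⟶ Y) (hd : IsDecent X.obj)
    (hq : IsQuasiCompactMor f.hom) (y : Points Y.obj) (hy : y ∈ Set.range (Points.map f.hom)) :
    ∃ x : Points X.obj, Points.map f.hom x = y ∧ ∀ x', Points.map f.hom x' = y → x ⤳ x' → x' = x := by
  obtain ⟨B, b, hb, hbs⟩ := Y.property.atlas
  obtain ⟨v₀, hv₀⟩ := surjective_ofPt hbs y
  obtain ⟨O, hO, hvO, -⟩ := exists_isAffineOpen_mem_and_subset (X := B.left) (U := ⊤) (x := v₀) trivial
  let V : Over S := Over.mk (O.ι ≫ B.hom)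
  let o : V ⟶ B := Over.homMk O.ι rfl
  let v : V.left := ⟨v₀, hvO⟩
  have hv : Points.ofPt ((yon S).map o ≫ b) v = y := (ofPt_comp o b v).trans hv₀
  have : IsAffine V.left := hO
  have sP := IsPullback.of_hasPullback f.hom ((yon S).map o ≫ b)
  have hP := isAlgSpace_of_isPullback sP X.property (IsAlgSpace.yon_obj V) Y.property
  obtain ⟨U, a, ha, has, hUc⟩ := hq (IsAlgSpace.yon_obj V) (Groth.Agent.AlgSpPts.isQuasiCompactSp_yon V inferInstance)
    ((yon S).map o ≫ b) _ _ sP
  obtain ⟨g, hg⟩ := (yon S).map_surjective (a ≫ pullback.snd f.hom ((yon S).map o ≫ b))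
  have key : ∀ u : U.left, Points.map (pullback.snd f.hom ((yon S).map o ≫ b)) (Points.ofPt a u) =
      Points.ofPt (𝟙 _) (g.left u) := fun u => by
    rw [Points.map_ofPt, ← hg, ← ofPt_comp, Category.comp_id]
  have : QuasiSeparated (terminal.from V.left) := inferInstance
  have : QuasiCompact g.left := QuasiCompact.of_comp g.left (terminal.from V.left)
  have hc : IsCompact (g.left ⁻¹' {v}) := by
    rw [← g.left.range_fiberι v]
    have : CompactSpace ↥(g.left.fiber v) := QuasiCompact.compactSpace_of_compactSpace (g.left.fiberToSpecResidueField v)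
    exact isCompact_range (g.left.fiberι v).continuous
  have himg : (fun u => Points.ofPt (a ≫ pullback.fst f.hom ((yon S).map o ≫ b)) u) '' (g.left ⁻¹' {v}) =
      Points.map f.hom ⁻¹' {y} := by
    refine Set.Subset.antisymm ?_ fun x hx => ?_
    · rintro _ ⟨u, hu, rfl⟩
      show Points.map f.hom (Points.ofPt (a ≫ _) u) = y
      rw [← Points.map_ofPt, ← Points.map_comp, sP.w, Points.map_comp, key, hu, Points.map_ofPt, Category.id_comp, hv]
    · obtain ⟨p, hp₁, hp₂⟩ := exists_point_of_isPullback sP x (Points.ofPt (𝟙 _) v)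
        (by rw [Set.mem_singleton_iff.1 hx, Points.map_ofPt, Category.id_comp, hv])
      obtain ⟨u, rfl⟩ := surjective_ofPt has p
      refine ⟨u, ?_, by show Points.ofPt (a ≫ _) u = x; rw [← Points.map_ofPt]; exact hp₁⟩
      rw [key] at hp₂
      exact (Points.schemeEquiv V).injective hp₂
  have hF : IsCompact (Points.map f.hom ⁻¹' {y}) := himg ▸ hc.image (Points.continuous_ofPt _)
  have := t0Space_points_of_isDecent X.property hd
  have : CompactSpace ↥(Points.map f.hom ⁻¹' {y}) := isCompact_iff_compactSpace.1 hF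
  obtain ⟨x₁, hx₁⟩ := hy
  have : Nonempty ↥(Points.map f.hom ⁻¹' {y}) := ⟨⟨x₁, hx₁⟩⟩
  obtain ⟨⟨x, hx⟩, -, hxc⟩ := (isClosed_univ (X := ↥(Points.map f.hom ⁻¹' {y}))).exists_closed_singleton Set.univ_nonempty
  exact ⟨x, hx, fun x' hx' hs => congrArg Subtype.val
    (Set.mem_singleton_iff.1 (((subtype_specializes_iff (⟨x, hx⟩ : ↥(Points.map f.hom ⁻¹' {y})) ⟨x', hx'⟩).2 hs).mem_closed hxc rfl))⟩

/-- A proper surjection onto an integral space restricts to an alteration. -/
theorem exists_alteration {X Y : Space S} (f : X ⟶ Y) (hf : IsProperMor f.hom) (hs : IsSurjectiveMor f.hom)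
    (hY : IsIntegralSp Y.obj) :
    ∃ (X' : Space S) (i : X' ⟶ X), RepWith @IsClosedImmersion i.hom ∧ IsIntegralSp X'.obj ∧
      IsProperMor (i ≫ f).hom ∧ IsDominantMor (i ≫ f).hom ∧
      ∃ (V : Space S) (j : V ⟶ Y), RepWith @IsOpenImmersion j.hom ∧ Nonempty (Points V.obj) ∧
        ∀ (P : Space S) (fst : P ⟶ V) (snd : P ⟶ X'), IsPullback fst.hom snd.hom j.hom (i ≫ f).hom →
          IsFiniteMor fst.hom := by
  obtain ⟨-, hYd, hYi⟩ := hY
  have := quasiSober_points_of_isDecent Y.property hYd
  obtain ⟨y, hy⟩ := QuasiSober.sober (IrreducibleSpace.isIrreducible_univ (Points Y.obj)) isClosed_univ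
  have hqs : IsQuasiSeparatedMor f.hom := repWith_mono (fun _ _ k hk => by
    have : IsClosedImmersion k := hk
    infer_instance) hf.1
  have hXd : IsDecent X.obj :=
    isDecent_of_isDecentMor f.hom (isDecentMor_of_isQuasiSeparatedMor X.property Y.property hqs) hYd
  obtain ⟨x, hx, hxc⟩ := exists_closed_point_of_fibre f hXd hf.2.1.2 y (hs y)
  obtain ⟨Z, i, hi, hZi, hir⟩ := exists_integral_closed X hXd (closure {x}) isClosed_closure
    isIrreducible_singleton.closure
  have : Mono i.hom := mono_of_repWith hi fun _ _ k hk => by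
    have : IsClosedImmersion k := hk
    infer_instance
  have := quasiSober_points_of_isDecent Z.property hZi.2.1
  have := hZi.2.2
  obtain ⟨z, hz⟩ := QuasiSober.sober (IrreducibleSpace.isIrreducible_univ (Points Z.obj)) isClosed_univ
  have hiz : Points.map i.hom z = x := by
    obtain ⟨z', hz'⟩ : x ∈ Set.range (Points.map i.hom) := hir ▸ subset_closure rfl
    refine points_antisymm X.property hXd ?_ ?_
    · exact hz' ▸ (hz.specializes (Set.mem_univ z')).map (Points.continuous_map _)
    · exact specializes_iff_mem_closure.2 (hir ▸ ⟨z, rfl⟩)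
  have hprop : IsProperMor (i.hom ≫ f.hom) :=
    isProperMor_comp Z.property X.property Y.property (isProperMor_of_closedImm Z.property X.property hi) hf
  have hfz : Points.map (i ≫ f).hom z = y := by
    show Points.map (i.hom ≫ f.hom) z = y
    rw [Points.map_comp, hiz, hx]
  have hdom : IsDominantMor (i ≫ f).hom := dense_iff_closure_eq.2 (Set.eq_univ_of_univ_subset
    (hy.def.symm.subset.trans (closure_mono (Set.singleton_subset_iff.2 ⟨z, hfz⟩))))
  have huniq : ∀ z' : Points Z.obj, Points.map (i ≫ f).hom z' = y → z' = z := fun z' hz' => by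
    refine injective_map_of_mono i.hom ((hxc _ ?_ (specializes_iff_mem_closure.2 (hir ▸ ⟨z', rfl⟩))).trans hiz.symm)
    rw [← Points.map_comp]
    exact hz'
  obtain ⟨W, X2, j, fst, snd, hj, hne, sq, hfin⟩ :=
    exists_open_finite_of_unique hZi.2.1 hYd (i ≫ f) hprop.2.1.1 hdom hz hy huniq (Or.inr hprop.1)
  refine ⟨Z, i, hi, hZi, hprop, hdom, W, j, hj, hne, fun P p q sp => ?_⟩
  refine (isFiniteMor_iff_repWith _).2 ?_
  rw [← IsPullback.isoIsPullback_hom_fst _ _ sp sq]
  exact repWith_comp (repWith_iso (sp.isoIsPullback _ _ sq).hom) ((isFiniteMor_iff_repWith _).1 hfin)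

end Groth.Agent.AlgSpFin
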