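import Groth.Agent.AlgSpLib.AffineDescent

/-!
The equivalence relation of an etale atlas.
-/

set_option autoImplicit false
set_option backward.isDefEq.respectTransparency.types false

universe u

open CategoryTheory CategoryTheory.Limits AlgebraicGeometry AlgSp

namespace Groth.Agent.AlgSpFin

open Groth.Agent.AlgSpLib

variable {S : Scheme.{u}}

/-- An atlas presents the space as the quotient of an etale equivalence relation. -/
theorem isEtaleEqvRel_of_atlas {F : Sp S} {R U : Over S} (p : (yon S).obj U ⟶ F) (he : RepWith @Etale p)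
    (hs : RepWith @Surjective p) (s t : R ⟶ U) (sq : IsPullback ((yon S).map t) ((yon S).map s) p p) :
    IsEtaleEqvRel s t ∧ Nonempty (IsColimit (Cofork.ofπ p sq.w)) := by
  have key : ∀ {T : Over S} (a b : T ⟶ U), (∃ r : T ⟶ R, r ≫ t = a ∧ r ≫ s = b) ↔
      (yon S).map a ≫ p = (yon S).map b ≫ p := fun {T} a b => by
    constructor
    · rintro ⟨r, rfl, rfl⟩
      simp only [Functor.map_comp, Category.assoc, sq.w]
    · intro h
      obtain ⟨r, hr, hr'⟩ := exists_lift sq ((yon S).map a) b h
      exact ⟨r, (yon S).map_injective (by rw [Functor.map_comp, hr]), hr'⟩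
  refine ⟨⟨⟨fun T r r' h₁ h₂ => (yon S).map_injective (sq.hom_ext
      (by rw [← Functor.map_comp, h₁, Functor.map_comp]) (by rw [← Functor.map_comp, h₂, Functor.map_comp])),
      fun T => ⟨fun a => (key a a).2 rfl, fun h => (key _ _).2 ((key _ _).1 h).symm,
        fun h h' => (key _ _).2 (((key _ _).1 h).trans ((key _ _).1 h'))⟩⟩,
    prop_snd sq he, prop_snd sq.flip he⟩, ?_⟩
  have := effectiveEpi_chart he hs
  exact ⟨Cofork.IsColimit.mk _
    (fun c => EffectiveEpi.desc p c.π fun g₁ g₂ e => by
      rw [← sq.lift_fst g₁ g₂ e, Category.assoc, c.condition, ← Category.assoc, sq.lift_snd])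
    (fun c => EffectiveEpi.fac p c.π _) (fun c m hm => EffectiveEpi.uniq p c.π _ _ hm)⟩

end Groth.Agent.AlgSpFin
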