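import Groth.Agent.AlgSpLib.RepGlue
import Groth.Agent.AlgSpLib.DiagMor
import Groth.Agent.AlgSpPts.Qc
import Groth.Agent.AlgStLib.SpDiagProps
import Groth.Prelude.Def_AlgSp4

/-!
Integral and finite morphisms of algebraic spaces.
-/

set_option autoImplicit false
set_option backward.isDefEq.respectTransparency.types false

universe u

open CategoryTheory CategoryTheory.Limits AlgebraicGeometry Opposite AlgSp

namespace Groth.Agent.AlgSpFin

open Groth.Agent.AlgSpLib Groth.Agent.AlgStLib

variable {S : Scheme.{u}}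

/-- A representable universally closed morphism is universally closed on all base changes to schemes. -/
theorem repWith_uc_of_isUnivClosedMor {F G : Sp S} {f : F ⟶ G} (hf : Representable f) (h : IsUnivClosedMor f) :
    RepWith @UniversallyClosed f := by
  refine repWith_of_rep hf fun T V g fst snd sq => ?_
  rw [universallyClosed_iff]
  intro V' T' a b c hsq
  let T₁ : Over S := Over.mk (b ≫ T.hom)
  let V₁ : Over S := Over.mk (a ≫ V.hom)
  let b₁ : T₁ ⟶ T := Over.homMk b rfl
  let a₁ : V₁ ⟶ V := Over.homMk a rfl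
  let c₁ : V₁ ⟶ T₁ := Over.homMk c (by
    show c ≫ b ≫ T.hom = a ≫ V.hom
    rw [← Category.assoc, hsq.w, Category.assoc, Over.w snd])
  have hs : IsPullback c₁ a₁ b₁ snd := IsPullback.of_map (Over.forget S) (Over.OverMorphism.ext hsq.w) hsq
  have hc := h (IsAlgSpace.yon_obj T₁) ((yon S).map b₁ ≫ g) ((yon S).map a₁ ≫ fst) ((yon S).map c₁)
    ((yon_isPullback hs).flip.paste_horiz sq)
  change IsClosedMap c
  change IsClosedMap (Points.map ((yon S).map c₁)) at hc
  rw [Points.map_yon_map_eq] at hc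
  have h' := (Points.schemeHomeo T₁).symm.isClosedMap.comp (hc.comp (Points.schemeHomeo V₁).isClosedMap)
  refine (congrArg IsClosedMap (funext fun t => ?_)).mp h'
  simp [c₁]

theorem isIntegralMor_iff_repWith {F G : Sp S} (f : F ⟶ G) : IsIntegralMor f ↔ RepWith @IsIntegralHom f :=
  ⟨fun h => repWith_of_affRep (P := @IsIntegralHom) h,
    fun h => affRep_of_repWith (P := @IsIntegralHom) (fun _ _ k hk => by have : IsIntegralHom k := hk; infer_instance) h⟩

theorem isFiniteMor_iff_repWith {F G : Sp S} (f : F ⟶ G) : IsFiniteMor f ↔ RepWith @IsFinite f :=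
  ⟨fun h => repWith_of_affRep (P := @IsFinite) h,
    fun h => affRep_of_repWith (P := @IsFinite) (fun _ _ k hk => by have : IsFinite k := hk; infer_instance) h⟩

theorem isIntegralMor_iff {F G : Sp S} (f : F ⟶ G) :
    IsIntegralMor f ↔ IsAffineMor f ∧ IsUnivClosedMor f := by
  refine ⟨fun h => ⟨fun Z hZ g => let ⟨W, i, fst, sq, hW, _⟩ := h hZ g; ⟨W, i, fst, sq, hW⟩,
    isUnivClosedMor_of_repWith (repWith_mono (fun _ _ k hk => by have : IsIntegralHom k := hk; infer_instance)
      ((isIntegralMor_iff_repWith f).1 h))⟩, fun ⟨ha, hu⟩ => (isIntegralMor_iff_repWith f).2 ?_⟩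
  have hA := AlgSpPts.repWith_isAffineHom_of_isAffineMor ha
  refine repWith_mono (fun _ _ k hk => (IsIntegralHom.iff_universallyClosed_and_isAffineHom).2 hk)
    (repWith_inf (repWith_uc_of_isUnivClosedMor hA.1 hu) hA)

theorem isFiniteMor_iff {F G : Sp S} (hF : IsAlgSpace F) (hG : IsAlgSpace G) (f : F ⟶ G) :
    IsFiniteMor f ↔ IsAffineMor f ∧ IsProperMor f := by
  refine ⟨fun h => ?_, fun ⟨ha, ⟨_, hft, hu⟩⟩ => (isFiniteMor_iff_repWith f).2 ?_⟩
  · have hR := (isFiniteMor_iff_repWith f).1 h
    refine ⟨fun Z hZ g => let ⟨W, i, fst, sq, hW, _⟩ := h hZ g; ⟨W, i, fst, sq, hW⟩, ?_, ⟨?_, ?_⟩, ?_⟩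
    · exact (isSeparatedMor_iff_repWith hR.1).2
        (repWith_mono (fun _ _ k hk => by have : IsFinite k := hk; infer_instance) hR)
    · exact (locP_iff_repWith hG hR.1).2
        (repWith_mono (fun _ _ k hk => by have : IsFinite k := hk; infer_instance) hR)
    · exact isQuasiCompactMor_of_repWith hF hG
        (repWith_mono (fun _ _ k hk => by have : IsFinite k := hk; infer_instance) hR)
    · exact isUnivClosedMor_of_repWith
        (repWith_mono (fun _ _ k hk => by have : IsFinite k := hk; infer_instance) hR)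
  · have hA := AlgSpPts.repWith_isAffineHom_of_isAffineMor ha
    refine repWith_mono (fun _ _ k hk => ?_)
      (repWith_inf (repWith_inf (repWith_uc_of_isUnivClosedMor hA.1 hu) hA) ((locP_iff_repWith hG hA.1).1 hft.1))
    obtain ⟨⟨h₁, h₂⟩, h₃⟩ := hk
    have : IsIntegralHom k := (IsIntegralHom.iff_universallyClosed_and_isAffineHom).2 ⟨h₁, h₂⟩
    have : LocallyOfFiniteType k := h₃
    exact (IsFinite.iff_isIntegralHom_and_locallyOfFiniteType k).2 ⟨inferInstance, inferInstance⟩

end Groth.Agent.AlgSpFin
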