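import Groth.Agent.GenericFinite.Basic
import Groth.Agent.AlgSpFin.DecentFibre

/-!
Points of codimension zero and etale charts.
-/

set_option autoImplicit false
set_option backward.isDefEq.respectTransparency.types false

universe u

open CategoryTheory CategoryTheory.Limits AlgebraicGeometry Opposite AlgSp

namespace Groth.Agent.AlgSpFin

open Groth.Agent.AlgSpLib

variable {S : Scheme.{u}}

/-- Points without proper generalisations are the points with zero-dimensional local ring. -/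
theorem stalkDim_eq_zero_iff {T : Scheme.{u}} (t : T) :
    ringKrullDim ↥(T.presheaf.stalk t) = 0 ↔ ∀ a : T, a ⤳ t → a = t := by
  rw [ringKrullDim_stalk_eq_coheight, WithBot.coe_eq_zero, Order.coheight_eq_zero]
  refine ⟨fun h a ha => ?_, fun h a ha => ?_⟩
  · exact (ha.antisymm (Scheme.le_iff_specializes.1 (h (Scheme.le_iff_specializes.2 ha)))).eq
  · rw [h a (Scheme.le_iff_specializes.1 ha)]

/-- Etale morphisms preserve and reflect maximality for generalisation. -/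
theorem forall_eq_iff_of_etale {W U : Scheme.{u}} (e : W ⟶ U) [Etale e] (w : W) :
    (∀ a : W, a ⤳ w → a = w) ↔ ∀ a : U, a ⤳ e w → a = e w := by
  have : LocallyQuasiFinite e := locallyQuasiFinite_of_formallyUnramified e
  refine ⟨fun h a ha => ?_, fun h => GenericFinite.forall_eq_of_quasiFinite e h rfl⟩
  obtain ⟨w', hw', rfl⟩ := Flat.generalizingMap e ha
  rw [h w' hw']

/-- Being of codimension zero may be tested in any chart. -/
theorem hasAt_dim_zero_iff {X : Sp S} {U : Over S} {a : (yon S).obj U ⟶ X} (ha : RepWith @Etale a) (u : U.left) :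
    HasAt (fun U u => ringKrullDim ↥(U.presheaf.stalk u) = 0) X (Points.ofPt a u) ↔
      ∀ v : U.left, v ⤳ u → v = u := by
  constructor
  · rintro ⟨U₁, a₁, u₁, ha₁, he, h⟩
    obtain ⟨W, p, q, sq⟩ := exists_isPullback ha₁.1 a
    obtain ⟨w, rfl, rfl⟩ := (ofPt_eq_iff sq u₁ u).1 he
    have : Etale p.left := prop_snd sq.flip ha
    have : Etale q.left := prop_snd sq ha₁
    exact (forall_eq_iff_of_etale q.left w).1
      ((forall_eq_iff_of_etale p.left w).2 ((stalkDim_eq_zero_iff _).1 h))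
  · exact fun h => ⟨U, a, u, ha, rfl, (stalkDim_eq_zero_iff _).2 h⟩

/-- Quasi-finiteness at a point passes to every chart over a given chart of the target. -/
theorem exists_open_quasiFinite {X Y : Sp S} {f : X ⟶ Y} {U V : Over S} {a : (yon S).obj U ⟶ X}
    {b : (yon S).obj V ⟶ Y} {h : U ⟶ V} (ha : RepWith @Etale a) (hb : RepWith @Etale b)
    (w : a ≫ f = (yon S).map h ≫ b) (u : U.left)
    (hQ : HasAtMor (fun U _ h u => ∃ W : U.Opens, u ∈ W ∧ LocallyQuasiFinite (W.ι ≫ h) ∧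
      LocallyOfFiniteType (W.ι ≫ h)) f (Points.ofPt a u)) :
    ∃ O : U.left.Opens, u ∈ O ∧ LocallyQuasiFinite (O.ι ≫ h.left) ∧ LocallyOfFiniteType (O.ι ≫ h.left) := by
  obtain ⟨U₁, V₁, a₁, b₁, h₁, u₁, ha₁, hb₁, w₁, he, W₀, hu₁, hq, hl⟩ := hQ
  obtain ⟨U₂, p₁, p, sU⟩ := exists_isPullback ha₁.1 a
  obtain ⟨V₂, q₁, q, sV⟩ := exists_isPullback hb₁.1 b
  obtain ⟨z, hz₁, hz₂⟩ := (ofPt_eq_iff sU u₁ u).1 he
  have : Etale p₁.left := prop_snd sU.flip ha
  have : Etale p.left := prop_snd sU ha₁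
  have hq₁ : Etale q₁.left := prop_snd sV.flip hb
  have : Etale q.left := prop_snd sV hb₁
  obtain ⟨k, hk₁, hk₂⟩ := exists_lift sV ((yon S).map (p₁ ≫ h₁)) (p ≫ h) (by
    rw [Functor.map_comp, Functor.map_comp, Category.assoc, Category.assoc, ← w₁, ← w, reassoc_of% sU.w])
  have hk₁' : k ≫ q₁ = p₁ ≫ h₁ := (yon S).map_injective (by rw [Functor.map_comp]; exact hk₁)
  let O₂ : U₂.left.Opens := p₁.left ⁻¹ᵁ W₀
  have hk : (@LocallyQuasiFinite ⊓ @LocallyOfFiniteType : MorphismProperty Scheme.{u}) ((O₂.ι ≫ k.left) ≫ q₁.left) := by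
    have e : (O₂.ι ≫ k.left) ≫ q₁.left = (p₁.left ∣_ W₀) ≫ W₀.ι ≫ h₁.left := by
      rw [Category.assoc, ← Over.comp_left, hk₁', Over.comp_left, morphismRestrict_ι_assoc]
    rw [e]
    exact EtLocal.comp_etale _ _ (IsZariskiLocalAtTarget.restrict ‹Etale p₁.left› W₀) ⟨hq, hl⟩
  have h₂ : (@LocallyQuasiFinite ⊓ @LocallyOfFiniteType : MorphismProperty Scheme.{u})
      ((O₂.ι ≫ k.left) ≫ q.left) :=
    MorphismProperty.comp_mem _ _ _ (EtLocal.cancel _ _ hq₁ hk) (EtLocal.of_etale _ ‹Etale q.left›)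
  let O : U.left.Opens := ⟨p.left '' (O₂ : Set U₂.left), p.left.isOpenMap _ O₂.2⟩
  let e : O₂.toScheme ⟶ O.toScheme := IsOpenImmersion.lift O.ι (O₂.ι ≫ p.left) (by
    rintro _ ⟨y, rfl⟩
    rw [Scheme.Opens.range_ι]
    exact ⟨y.1, y.2, rfl⟩)
  have he' : e ≫ O.ι = O₂.ι ≫ p.left := IsOpenImmersion.lift_fac _ _ _
  have hee : Etale e := by
    have : Etale (e ≫ O.ι) := by rw [he']; infer_instance
    exact Etale.of_comp e O.ι
  have hes : Surjective e := ⟨fun y => by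
    obtain ⟨x, hx, hxy⟩ := y.2
    refine ⟨⟨x, hx⟩, O.ι.isOpenEmbedding.injective ?_⟩
    rw [← Scheme.Hom.comp_apply, he']
    exact hxy⟩
  refine ⟨O, ⟨z, ?_, hz₂⟩, ?_⟩
  · show p₁.left z ∈ W₀
    rwa [hz₁]
  · refine EtLocal.desc (P := @LocallyQuasiFinite ⊓ @LocallyOfFiniteType) e (O.ι ≫ h.left) hee hes ?_
    rwa [reassoc_of% he', ← Over.comp_left, ← hk₂, Over.comp_left, ← Category.assoc]

/-- A quasi-compact morphism quasi-finite along a fibre has finite fibre. -/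
theorem finite_fibre_of_quasiFinite {U V : Scheme.{u}} (h : U ⟶ V) [QuasiCompact h] [LocallyOfFiniteType h] {v : V}
    (hq : ∀ u : U, h u = v → ∃ O : U.Opens, u ∈ O ∧ LocallyQuasiFinite (O.ι ≫ h)) : (h ⁻¹' {v}).Finite := by
  choose O hO hl using hq
  have hc : IsCompact (h ⁻¹' {v}) := by
    rw [← Scheme.Hom.range_fiberι h v]
    exact isCompact_range (h.fiberι v).continuous
  have key : ∀ u (hu : h u = v), ∃ C : U.Opens, IsCompact (C : Set U) ∧ u ∈ C ∧ (h ⁻¹' {v} ∩ C).Finite := by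
    intro u hu
    obtain ⟨A, hA, huA, hAV⟩ := exists_isAffineOpen_mem_and_subset (X := V) (x := v) (U := ⊤) trivial
    obtain ⟨C, hC, huC, hCO⟩ := exists_isAffineOpen_mem_and_subset
      (show u ∈ O u hu ⊓ h ⁻¹ᵁ A from ⟨hO u hu, show h u ∈ A by rwa [hu]⟩)
    have := hl u hu
    have : LocallyQuasiFinite (C.ι ≫ h) := by
      rw [← U.homOfLE_ι (fun x hx => (hCO hx).1), Category.assoc]
      infer_instance
    refine ⟨C, hC.isCompact, huC, ?_⟩
    let g : C.toScheme ⟶ A.toScheme := IsOpenImmersion.lift A.ι (C.ι ≫ h) (by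
      rintro _ ⟨y, rfl⟩
      rw [Scheme.Opens.range_ι]
      exact (hCO y.2).2)
    have hg : g ≫ A.ι = C.ι ≫ h := IsOpenImmersion.lift_fac _ _ _
    have : LocallyQuasiFinite (g ≫ A.ι) := by rw [hg]; infer_instance
    have : LocallyQuasiFinite g := LocallyQuasiFinite.of_comp g A.ι
    have : IsAffine C.toScheme := hC
    have : IsAffine A.toScheme := hA
    refine ((g.finite_preimage_singleton ⟨v, huA⟩).image C.ι).subset fun x hx => ⟨⟨x, hx.2⟩, ?_, rfl⟩
    apply A.ι.isOpenEmbedding.injective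
    rw [← Scheme.Hom.comp_apply, hg]
    exact hx.1
  choose C hCc hC hCf using key
  obtain ⟨T, hT⟩ := hc.elim_finite_subcover (fun u : h ⁻¹' {v} => (C u.1 u.2 : Set U)) (fun u => (C u.1 u.2).2)
    fun u hu => Set.mem_iUnion.2 ⟨⟨u, hu⟩, hC u hu⟩
  refine (T.finite_toSet.biUnion fun u _ => hCf u.1 u.2).subset fun x hx => ?_
  obtain ⟨u, hu, hxu⟩ := Set.mem_iUnion₂.1 (hT hx)
  exact Set.mem_biUnion hu ⟨hx, hxu⟩

end Groth.Agent.AlgSpFin
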