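import Groth.Agent.AlgSpLib.Points
import Groth.Agent.AlgSpLib.RepGlue
import Groth.Agent.BddFibLib.Main
import Groth.Agent.BddFib23.Basic
import Groth.Agent.AlgSpFin.CodimZero
import Groth.Prelude.Def_W4decUnivBdd

/-!
Universally bounded fibres of maps from schemes to algebraic spaces.
-/

set_option autoImplicit false
set_option backward.isDefEq.respectTransparency.types false

universe u

open CategoryTheory CategoryTheory.Limits AlgebraicGeometry Opposite AlgSp

namespace Groth.Agent.AlgSpFin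

open Groth.Agent.AlgSpLib Groth.Agent.BddFibLib

variable {S : Scheme.{u}} {F : Sp S}

/-- An empty scheme has degree zero over a field. -/
theorem dl_of_isEmpty {k : Type u} [Field k] {T : Scheme.{u}} [IsEmpty T] (p : T ⟶ Spec (CommRingCat.of k)) (n : ℕ) :
    DL p n := by
  refine (finiteOfDegLE_iff p n).1 ?_
  have : Subsingleton Γ(T, ⊤) := by
    have : (⊤ : T.Opens) = ⊥ := Subsingleton.elim _ _
    rw [this]
    infer_instance
  letI : Algebra k Γ(T, ⊤) := BddFib.secAlgebra (CommRingCat.of k) p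
  exact ⟨inferInstance, inferInstance, by rw [Module.finrank_zero_of_subsingleton]; exact Nat.zero_le _⟩

/-- Bounded fibres give bounded fibres of scheme base changes. -/
theorem fibreDegLE_of_degFibresLE {U V W : Over S} {a : (yon S).obj U ⟶ F} {b : (yon S).obj V ⟶ F} {fst : W ⟶ U}
    {snd : W ⟶ V} (sq : IsPullback ((yon S).map fst) ((yon S).map snd) a b) {n : ℕ}
    (ha : W4dec.DegFibresLE n a) : BddFib.FibreDegLE snd.left n := by
  intro v
  let k : Over.mk (V.left.fromSpecResidueField v ≫ V.hom) ⟶ V := Over.homMk (V.left.fromSpecResidueField v) rfl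
  have sT := IsPullback.of_hasPullback snd k
  have h := ha (FieldPt.ofPt b v) (pullback snd k) (pullback.snd snd k) ((yon S).map (pullback.fst snd k ≫ fst)) (by
    rw [FieldPt.toHom_ofPt, Functor.map_comp]
    exact ((yon_isPullback sT).paste_horiz sq).flip)
  refine (finiteOfDegLE_iff (k := V.left.residueField v) (snd.left.fiberToSpecResidueField v) n).2 ?_
  have sl := left_isPullback sT
  have e : snd.left.fiberToSpecResidueField v = sl.isoPullback.inv ≫ (pullback.snd snd k).left :=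
    sl.isoPullback_inv_snd.symm
  have h1 : IsFinite (pullback.snd snd k).left := h.1
  have := flat_to_field (k := V.left.residueField v) (pullback.snd snd k).left
  refine ⟨?_, fun s => ?_⟩
  · rw [e]
    exact (MorphismProperty.cancel_left_of_respectsIso @IsFinite _ _).2 h1
  · rw [e]
    exact ((congrFun (Scheme.Hom.finrank_comp_left_of_isIso sl.isoPullback.inv (pullback.snd snd k).left) s).trans_le
      (h.2 _))

/-- Bounded fibres descend along a chart hitting the image. -/
theorem degFibresLE_of_fibreDegLE {X : Sp S} (hX : IsAlgSpace X) {U V W : Over S} {a : (yon S).obj U ⟶ X}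
    {b : (yon S).obj V ⟶ X} {fst : W ⟶ U} {snd : W ⟶ V}
    (sq : IsPullback ((yon S).map fst) ((yon S).map snd) a b) {n : ℕ} (h : BddFib.FibreDegLE snd.left n)
    (him : Set.range (Points.ofPt a) ⊆ Set.range (Points.ofPt b)) : W4dec.DegFibresLE n a := by
  intro q T c s sT
  obtain ⟨s, rfl⟩ := (yon S).map_surjective s
  let c' : T.left ⟶ Spec (CommRingCat.of q.K) := c.left
  suffices hdl : DL c' n from hdl
  let t₀ : q.pt.left := (IsLocalRing.closedPoint q.K : PrimeSpectrum q.K)
  have : Subsingleton q.pt.left := inferInstanceAs (Subsingleton (PrimeSpectrum q.K))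
  obtain ⟨Q, d, e, sQ⟩ := exists_isPullback (hX.representable_from_yon q.toHom) b
  by_cases hne : IsEmpty Q.left
  · have : IsEmpty T.left := ⟨fun t => by
      obtain ⟨v, hv⟩ := him ⟨s.left t, rfl⟩
      obtain ⟨z, -⟩ := (ofPt_eq_iff sQ (c.left t) v).1 (by rw [hv, ← ofPt_comp, ← ofPt_comp, sT.w])
      exact hne.false z⟩
    exact dl_of_isEmpty c' n
  have : Surjective d.left := ⟨fun x => by
    obtain ⟨z⟩ := not_isEmpty_iff.1 hne
    exact ⟨z, Subsingleton.elim _ _⟩⟩
  obtain ⟨P, p₁, p₂, sP⟩ : ∃ (P : Over S) (p₁ : P ⟶ T) (p₂ : P ⟶ Q), IsPullback p₁ p₂ c d :=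
    ⟨_, _, _, IsPullback.of_hasPullback c d⟩
  obtain ⟨l, hl₁, hl₂⟩ := exists_lift sq ((yon S).map (p₁ ≫ s)) (p₂ ≫ e) (by
    rw [Functor.map_comp, Functor.map_comp, Category.assoc, Category.assoc, ← sQ.w, ← sT.w,
      ← Functor.map_comp_assoc, ← Functor.map_comp_assoc, sP.w])
  have sl : IsPullback l p₂ snd e := isPullback_of_yon (IsPullback.of_right (h₁₂ := (yon S).map fst)
    (by
      rw [hl₁, Functor.map_comp]
      have := (yon_isPullback sP).paste_horiz sT.flip
      rwa [sQ.w] at this)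
    (by rw [← Functor.map_comp, hl₂, Functor.map_comp]) sq)
  have h₂ : BddFib.FibreDegLE p₂.left n := fibreDegLE_of_isPullback (left_isPullback sl) h
  exact dl_of_fibreDegLE c' (fibreDegLE_of_isPullback_of_surjective (left_isPullback sP) h₂)

/-- A composite of morphisms with bounded fibres has bounded fibres. -/
theorem degFibresLE_comp {X : Sp S} (hX : IsAlgSpace X) {U V : Over S} (f : V ⟶ U) (g : (yon S).obj U ⟶ X)
    {n m : ℕ} (hf : BddFib.FibreDegLE f.left n) (hg : W4dec.DegFibresLE m g) :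
    W4dec.DegFibresLE (n * m) ((yon S).map f ≫ g) := by
  obtain ⟨V₀, b, hb, hbs⟩ := hX.atlas
  obtain ⟨U', u₁, u₂, sU⟩ := exists_isPullback (hX.representable_from_yon g) b
  obtain ⟨V', v₁, v₂, sV⟩ : ∃ (V' : Over S) (v₁ : V' ⟶ V) (v₂ : V' ⟶ U'), IsPullback v₁ v₂ f u₁ :=
    ⟨_, _, _, IsPullback.of_hasPullback f u₁⟩
  refine degFibresLE_of_fibreDegLE hX (fst := v₁) (snd := v₂ ≫ u₂) (b := b) ?_
    (fibreDegLE_comp v₂.left u₂.left (fibreDegLE_of_isPullback (left_isPullback sV) hf)
      (fibreDegLE_of_degFibresLE sU hg)) fun x _ => surjective_ofPt hbs x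
  rw [Functor.map_comp]
  exact (yon_isPullback sV).paste_vert sU

/-- Bounded fibres of maps between schemes. -/
theorem fibreDegLE_of_yon {U V : Over S} (f : V ⟶ U) {n : ℕ} (hf : W4dec.DegFibresLE n ((yon S).map f)) :
    BddFib.FibreDegLE f.left n :=
  fibreDegLE_of_degFibresLE (fst := 𝟙 V) (b := 𝟙 _) (by
    rw [CategoryTheory.Functor.map_id]
    exact IsPullback.of_horiz_isIso ⟨by simp⟩) hf

/-- An etale map with finitely many bounded covering pieces has bounded fibres. -/
theorem degFibresLE_of_etale_pieces {X : Sp S} {V : Over S} (ψ : (yon S).obj V ⟶ X)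
    (hψ : RepWith @Etale ψ) {ι : Type*} [Fintype ι] (W : ι → Over S) (e : ∀ i, W i ⟶ V) (n : ι → ℕ)
    (hn : ∀ i, W4dec.DegFibresLE (n i) ((yon S).map (e i) ≫ ψ)) (hcov : ∀ v : V.left, ∃ i, v ∈ Set.range (e i).left) :
    W4dec.DegFibresLE (∑ i, n i) ψ := by
  intro q T c s sT
  obtain ⟨s, rfl⟩ := (yon S).map_surjective s
  have : Etale c.left := prop_snd sT.flip hψ
  let c' : T.left ⟶ Spec (CommRingCat.of q.K) := c.left
  have : Etale c' := ‹Etale c.left›
  suffices hdl : DL c' (∑ i, n i) from hdl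
  refine dl_of_fibreDegLE c' (fibreDegLE_of_etale c' fun k _ g => ?_)
  have hi : ∀ i, Finite ↥(pullback ((pullback.fst s (e i)).left ≫ c') g) ∧
      Nat.card ↥(pullback ((pullback.fst s (e i)).left ≫ c') g) ≤ n i := fun i => by
    have sI := IsPullback.of_hasPullback s (e i)
    obtain ⟨h1, h2⟩ := hn i q _ (pullback.fst s (e i) ≫ c) ((yon S).map (pullback.snd s (e i))) (by
      rw [Functor.map_comp]
      exact (((yon_isPullback sI).flip).paste_vert sT.flip).flip)
    let d : (pullback s (e i)).left ⟶ Spec (CommRingCat.of q.K) := (pullback.fst s (e i)).left ≫ c'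
    have hd : DL d (n i) := ⟨h1, h2⟩
    exact card_le _ (dl_of_isPullback (IsPullback.of_hasPullback d g) hd)
  let π : (Σ i, ↥(pullback ((pullback.fst s (e i)).left ≫ c') g)) → ↥(pullback c' g) := fun x =>
    (pullback.map _ _ c' g (pullback.fst s (e x.1)).left (𝟙 _) (𝟙 _) (by simp) (by simp)) x.2
  have hπ : Function.Surjective π := fun p => by
    obtain ⟨i, w, hw⟩ := hcov (s.left (pullback.fst c' g p))
    obtain ⟨z, hz, -⟩ := Scheme.exists_preimage_of_isPullback
      (left_isPullback (IsPullback.of_hasPullback s (e i))) (pullback.fst c' g p) w hw.symm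
    have sZ : IsPullback (pullback.fst ((pullback.fst s (e i)).left ≫ c') g)
        (pullback.map _ _ c' g (pullback.fst s (e i)).left (𝟙 _) (𝟙 _) (by simp) (by simp))
        (pullback.fst s (e i)).left (pullback.fst c' g) :=
      IsPullback.of_bot (v₂₁ := pullback.snd c' g) (v₂₂ := c') (h₃₁ := g)
        (by
          rw [pullback.map, pullback.lift_snd, Category.comp_id]
          exact IsPullback.of_hasPullback ((pullback.fst s (e i)).left ≫ c') g)
        (by rw [pullback.map, pullback.lift_fst]) (IsPullback.of_hasPullback c' g)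
    obtain ⟨y, -, hy⟩ := Scheme.exists_preimage_of_isPullback sZ z p hz
    exact ⟨⟨i, y⟩, hy⟩
  have : ∀ i, Finite ↥(pullback ((pullback.fst s (e i)).left ≫ c') g) := fun i => (hi i).1
  refine ⟨Finite.of_surjective π hπ, (Nat.card_le_card_of_surjective π hπ).trans ?_⟩
  rw [Nat.card_sigma]
  exact Finset.sum_le_sum fun i _ => (hi i).2

/-- Etale charts of an affine scheme have bounded fibres when some covering family of charts does. -/
theorem hasUnivBddFibres_of_etale_cover {X : Sp S} (hX : IsAlgSpace X) {ι : Type u} (U : ι → Over S)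
    (φ : ∀ i, (yon S).obj (U i) ⟶ X) (hφ : ∀ i, RepWith @Etale (φ i))
    (hsurj : ∀ x : Points X, ∃ (i : ι) (v : ↥(U i).left), Points.ofPt (φ i) v = x)
    (hb : ∀ i, W4dec.HasUnivBddFibres (φ i)) {V : Over S} [IsAffine V.left] (ψ : (yon S).obj V ⟶ X)
    (hψ : RepWith @Etale ψ) : W4dec.HasUnivBddFibres ψ := by
  classical
  have key : ∀ v : V.left, ∃ (A : Over S) (e : A ⟶ V) (n : ℕ), W4dec.DegFibresLE n ((yon S).map e ≫ ψ) ∧
      Etale e.left ∧ v ∈ Set.range e.left := fun v => by
    obtain ⟨i, u, hu⟩ := hsurj (Points.ofPt ψ v)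
    obtain ⟨W, w₁, w₂, sW⟩ := exists_isPullback (hφ i).1 ψ
    obtain ⟨z, -, hz⟩ := (ofPt_eq_iff sW u v).1 hu
    have : Etale w₂.left := prop_snd sW (hφ i)
    have : Etale w₁.left := prop_snd sW.flip hψ
    obtain ⟨A, hA, hzA, -⟩ := exists_isAffineOpen_mem_and_subset (X := W.left) (x := z) (U := ⊤) trivial
    let j : Over.mk (A.ι ≫ W.hom) ⟶ W := Over.homMk A.ι rfl
    have : IsAffine A.toScheme := hA
    have : LocallyQuasiFinite w₁.left := locallyQuasiFinite_of_formallyUnramified _
    obtain ⟨m, hm⟩ := BddFib23.univBounded (A.ι ≫ w₁.left)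
    obtain ⟨n, hn⟩ := hb i
    refine ⟨_, j ≫ w₂, m * n, ?_, inferInstanceAs (Etale (A.ι ≫ w₂.left)), ⟨⟨z, hzA⟩, hz⟩⟩
    have e : (yon S).map (j ≫ w₂) ≫ ψ = (yon S).map (j ≫ w₁) ≫ φ i := by
      rw [Functor.map_comp, Functor.map_comp, Category.assoc, Category.assoc, sW.w]
    rw [e]
    exact degFibresLE_comp hX (j ≫ w₁) (φ i) hm hn
  choose A e n hn he hmem using key
  obtain ⟨t, ht⟩ := isCompact_univ.elim_finite_subcover (fun v : V.left => Set.range (e v).left)
    (fun v => by have := he v; exact (e v).left.isOpenMap.isOpen_range) fun v _ => Set.mem_iUnion.2 ⟨v, hmem v⟩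
  refine ⟨_, degFibresLE_of_etale_pieces ψ hψ (fun v : t => A v) (fun v => e v) (fun v => n v) (fun v => hn v)
    fun v => ?_⟩
  obtain ⟨w, hw, hvw⟩ := Set.mem_iUnion₂.1 (ht (Set.mem_univ v))
  exact ⟨⟨w, hw⟩, hvw⟩

/-- Composition with an open immersion keeps the bound. -/
theorem degFibresLE_comp_openImm {X Y : Sp S} (hX : IsAlgSpace X) (hY : IsAlgSpace Y) {U : Over S}
    (a : (yon S).obj U ⟶ Y) {n : ℕ} (ha : W4dec.DegFibresLE n a) (j : Y ⟶ X) (hj : RepWith @IsOpenImmersion j) :
    W4dec.DegFibresLE n (a ≫ j) := by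
  obtain ⟨V₀, b, hb, hbs⟩ := hX.atlas
  obtain ⟨Y', y₁, y₂, sY⟩ : ∃ (Y' : Over S) (y₁ : (yon S).obj Y' ⟶ Y) (y₂ : Y' ⟶ V₀),
      IsPullback y₁ ((yon S).map y₂) j b := ⟨hj.1.pullback b, hj.1.fst b, hj.1.snd b, hj.1.isPullback b⟩
  obtain ⟨U', u₁, u₂, sU⟩ := exists_isPullback (hY.representable_from_yon a) y₁
  have : IsOpenImmersion y₂.left := hj.2 b y₁ y₂ sY
  have h : BddFib.FibreDegLE (u₂ ≫ y₂).left (n * 1) :=
    fibreDegLE_comp u₂.left y₂.left (fibreDegLE_of_degFibresLE sU ha) (fibreDegLE_of_isImmersion y₂.left)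
  rw [mul_one] at h
  refine degFibresLE_of_fibreDegLE hX (fst := u₁) (b := b) ?_ h fun x _ => surjective_ofPt hbs x
  rw [Functor.map_comp]
  exact sU.paste_vert sY

end Groth.Agent.AlgSpFin
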