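import Groth.Agent.AlgSpFin.QsDecent
import Groth.Prelude.Def_W4decUnivBdd

/-!
Spaces whose affine charts have compact fibres are decent.
-/

set_option autoImplicit false
set_option backward.isDefEq.respectTransparency.types false

universe u

open CategoryTheory CategoryTheory.Limits AlgebraicGeometry Opposite AlgSp

namespace Groth.Agent.AlgSpFin

open Groth.Agent.AlgSpLib

variable {S : Scheme.{u}}

/-- Compactness over a fixed scheme may be tested on affine etale charts. -/
theorem compactSpace_of_affine_charts_fixed {X : Sp S} (hX : IsAlgSpace X) {U : Over S} (a : (yon S).obj U ⟶ X)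
    (h : ∀ ⦃V W : Over S⦄ (b : (yon S).obj V ⟶ X) (fst : W ⟶ U) (snd : W ⟶ V),
      IsPullback ((yon S).map fst) ((yon S).map snd) a b → IsAffine V.left → RepWith @Etale b → CompactSpace W.left)
    {V W : Over S} (b : (yon S).obj V ⟶ X) (fst : W ⟶ U) (snd : W ⟶ V)
    (sq : IsPullback ((yon S).map fst) ((yon S).map snd) a b) [CompactSpace V.left] : CompactSpace W.left := by
  obtain ⟨U₀, a₀, ha₀, ha₀s⟩ := hX.atlas
  obtain ⟨P, p₀, p, sP⟩ := exists_isPullback ha₀.1 b
  have : Etale p.left := prop_snd sP ha₀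
  have : Surjective p.left := prop_snd sP ha₀s
  -- local affine pieces
  have key : ∀ v : V.left, ∃ (A B : Over S) (c : (yon S).obj A ⟶ X) (k : B ⟶ A) (e : B ⟶ V),
      IsAffine A.left ∧ IsAffine B.left ∧ RepWith @Etale c ∧ (yon S).map e ≫ b = (yon S).map k ≫ c ∧
        Etale e.left ∧ v ∈ Set.range e.left := fun v => by
    obtain ⟨z, rfl⟩ := p.left.surjective v
    obtain ⟨A, hA, hzA, -⟩ := exists_isAffineOpen_mem_and_subset (X := U₀.left) (x := p₀.left z) (U := ⊤) trivial
    obtain ⟨B, hB, hzB, hBA⟩ := exists_isAffineOpen_mem_and_subset (X := P.left) (x := z) (U := p₀.left ⁻¹ᵁ A) hzA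
    let ιA : Over.mk (A.ι ≫ U₀.hom) ⟶ U₀ := Over.homMk A.ι rfl
    let ιB : Over.mk (B.ι ≫ P.hom) ⟶ P := Over.homMk B.ι rfl
    let l : B.toScheme ⟶ A.toScheme := IsOpenImmersion.lift A.ι (B.ι ≫ p₀.left) (by
      rintro _ ⟨y, rfl⟩
      rw [Scheme.Opens.range_ι]
      exact hBA y.2)
    have hl : l ≫ A.ι = B.ι ≫ p₀.left := IsOpenImmersion.lift_fac _ _ _
    let k : Over.mk (B.ι ≫ P.hom) ⟶ Over.mk (A.ι ≫ U₀.hom) := Over.homMk l (by
      show l ≫ A.ι ≫ U₀.hom = B.ι ≫ P.hom
      rw [reassoc_of% hl, Over.w p₀])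
    have hk : k ≫ ιA = ιB ≫ p₀ := Over.OverMorphism.ext hl
    refine ⟨_, _, (yon S).map ιA ≫ a₀, k, ιB ≫ p, hA, hB,
      repWith_yon_comp (P := @Etale) ιA (inferInstanceAs (Etale A.ι)) ha₀, ?_,
      inferInstanceAs (Etale (B.ι ≫ p.left)), ⟨⟨z, hzB⟩, rfl⟩⟩
    rw [Functor.map_comp, Category.assoc, ← sP.w, ← Category.assoc, ← Functor.map_comp, ← hk, Functor.map_comp,
      Category.assoc]
  choose A B c k e hA hB hc hcomm he hmem using key
  obtain ⟨t, ht⟩ := isCompact_univ.elim_finite_subcover (fun v : V.left => Set.range (e v).left)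
    (fun v => by have := he v; exact (e v).left.isOpenMap.isOpen_range) fun v _ => Set.mem_iUnion.2 ⟨v, hmem v⟩
  have hW : ∀ v, IsCompact (snd.left ⁻¹' Set.range (e v).left) := fun v => by
    obtain ⟨W₁, g, w₁, sW⟩ : ∃ (W₁ : Over S) (g : W₁ ⟶ W) (w₁ : W₁ ⟶ B v), IsPullback g w₁ snd (e v) :=
      ⟨_, _, _, IsPullback.of_hasPullback snd (e v)⟩
    have sq₁ : IsPullback ((yon S).map (g ≫ fst)) ((yon S).map w₁) a ((yon S).map (k v) ≫ c v) := by
      rw [← hcomm v, Functor.map_comp]; exact (yon_isPullback sW).paste_horiz sq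
    obtain ⟨W₂, h₁, h₂, sC⟩ := exists_isPullback (hX.representable_from_yon a) (c v)
    obtain ⟨l, hl₁, hl₂⟩ := exists_lift sC ((yon S).map (g ≫ fst)) (w₁ ≫ k v) (by
      rw [(yon S).map_comp w₁ (k v), Category.assoc]; exact sq₁.w)
    have sl : IsPullback l w₁ h₂ (k v) := isPullback_of_yon
      (IsPullback.of_right (by rw [hl₁]; exact sq₁) (by rw [← Functor.map_comp, hl₂, Functor.map_comp]) sC)
    have : CompactSpace W₂.left := h (c v) h₁ h₂ sC (hA v) (hc v)
    have := hA v
    have := hB v
    have : QuasiCompact h₂.left := (quasiCompact_iff_compactSpace (f := h₂.left)).2 inferInstance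
    have : QuasiCompact w₁.left := MorphismProperty.of_isPullback (P := @QuasiCompact) (left_isPullback sl) inferInstance
    have : CompactSpace W₁.left := QuasiCompact.compactSpace_of_compactSpace w₁.left
    convert isCompact_range (f := ⇑g.left) g.left.continuous using 1
    ext w
    constructor
    · rintro ⟨y, hy⟩
      obtain ⟨r, hr, -⟩ := Scheme.exists_preimage_of_isPullback (left_isPullback sW) w y hy.symm
      exact ⟨r, hr⟩
    · rintro ⟨r, rfl⟩
      refine ⟨w₁.left r, ?_⟩
      rw [← Scheme.Hom.comp_apply, ← Over.comp_left, ← sW.w, Over.comp_left, Scheme.Hom.comp_apply]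
  refine ⟨?_⟩
  rw [show (Set.univ : Set W.left) = ⋃ v ∈ t, snd.left ⁻¹' Set.range (e v).left by
    ext w; simpa using ht (Set.mem_univ (snd.left w))]
  exact t.finite_toSet.isCompact_biUnion fun v _ => hW v

/-- Compactness over finite schemes may be tested on affine etale charts. -/
theorem compactSpace_of_affine_charts {X : Sp S} (hX : IsAlgSpace X)
    (h : ∀ ⦃U V W : Over S⦄ (a : (yon S).obj U ⟶ X) (b : (yon S).obj V ⟶ X) (fst : W ⟶ U) (snd : W ⟶ V),
      IsPullback ((yon S).map fst) ((yon S).map snd) a b → Finite U.left → IsAffine V.left → RepWith @Etale b →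
        CompactSpace W.left) {U V W : Over S} (a : (yon S).obj U ⟶ X) (b : (yon S).obj V ⟶ X) (fst : W ⟶ U)
    (snd : W ⟶ V) (sq : IsPullback ((yon S).map fst) ((yon S).map snd) a b) (hU : Finite U.left)
    [CompactSpace V.left] : CompactSpace W.left :=
  compactSpace_of_affine_charts_fixed hX a (fun _ _ b fst snd sq hV hb => h a b fst snd sq hU hV hb) b fst snd sq

/-- Spaces whose affine charts have bounded fibres are decent. -/
theorem isDecent_of_bddFibres {X : Sp S} (hX : IsAlgSpace X)
    (h : ∀ (U : Over S) (φ : (yon S).obj U ⟶ X), IsAffine U.left → RepWith @Etale φ → W4dec.HasUnivBddFibres φ) :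
    IsDecent X := by
  refine isDecent_of_finite_compact hX fun U V W a b fst snd sq hU hV =>
    compactSpace_of_affine_charts hX (fun U V W a b fst snd sq hU hV hb => ?_) a b fst snd sq hU
  obtain ⟨n, hn⟩ := h V b hV hb
  have hfib : ∀ u : U.left, IsCompact (fst.left ⁻¹' {u}) := fun u => by
    let q := FieldPt.ofPt a u
    let k : q.pt ⟶ U := Over.homMk (U.left.fromSpecResidueField u) rfl
    have hk : q.toHom = (yon S).map k ≫ a := FieldPt.toHom_ofPt a u
    obtain ⟨F, i, j, sF⟩ : ∃ (F : Over S) (i : F ⟶ q.pt) (j : F ⟶ W), IsPullback i j k fst :=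
      ⟨_, _, _, IsPullback.of_hasPullback k fst⟩
    have sY : IsPullback ((yon S).map i) ((yon S).map (j ≫ snd)) q.toHom b := by
      rw [hk, Functor.map_comp]; exact (yon_isPullback sF).paste_vert sq
    have : IsFinite i.left := (hn q F i _ sY).1
    have : CompactSpace q.pt.left := inferInstanceAs (CompactSpace (Spec (CommRingCat.of q.K)))
    have : CompactSpace F.left := QuasiCompact.compactSpace_of_compactSpace i.left
    convert isCompact_range (f := ⇑j.left) j.left.continuous using 1
    ext w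
    constructor
    · intro (hw : fst.left w = u)
      obtain ⟨y, -, hy⟩ := Scheme.exists_preimage_of_isPullback (left_isPullback sF)
        (IsLocalRing.closedPoint (U.left.residueField u))
        w ((Scheme.fromSpecResidueField_apply _ _).trans hw.symm)
      exact ⟨y, hy⟩
    · rintro ⟨y, rfl⟩
      show fst.left (j.left y) = u
      rw [← Scheme.Hom.comp_apply, ← Over.comp_left, ← sF.w, Over.comp_left, Scheme.Hom.comp_apply]
      exact Scheme.fromSpecResidueField_apply _ _
  refine ⟨?_⟩
  rw [show (Set.univ : Set W.left) = ⋃ u : U.left, fst.left ⁻¹' {u} by ext; simp]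
  exact isCompact_iUnion hfib

end Groth.Agent.AlgSpFin
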