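import Groth.Agent.AlgSpFin.EtaleDim
import Groth.Agent.AlgSpFin.Basic
import Groth.Agent.AlgSpPts.NoethSp
import Groth.Agent.AlgSpLib.RepGlue
import Groth.Agent.S1686
import Groth.Prelude.Def_AlgSpSub
import Groth.Prelude.Def_AlgSpMor5

/-!
Dimension of Cartier divisors; finite locally free morphisms.
-/

set_option autoImplicit false
set_option backward.isDefEq.respectTransparency.types false

universe u

open CategoryTheory CategoryTheory.Limits AlgebraicGeometry Opposite AlgSp TopologicalSpace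

namespace Groth.Agent.AlgSpFin

open Groth.Agent.AlgSpLib

variable {S : Scheme.{u}}

/-- An effective Cartier divisor has smaller dimension at each of its points. -/
theorem localDim_cartier_lt (X D : Space S) (i : D ⟶ X) (hD : IsEffCartierSub i.hom) (x : Points D.obj)
    (d : WithBot ℕ∞) (hd : HasAt (fun U u => FlatMor.localDim ↥U u = d) X.obj (Points.map i.hom x))
    (hfin : d ≠ ⊤) : HasAt (fun V v => FlatMor.localDim ↥V v < d) D.obj x := by
  obtain ⟨-, V, φ, I, fst, hφ, hφs, sq, hI⟩ := hD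
  obtain ⟨U, a, u, ha, hu, hd⟩ := hd
  obtain ⟨v, hv⟩ := surjective_ofPt hφs (Points.map i.hom x)
  obtain ⟨w, hw₁, hw₂⟩ := exists_point_of_isPullback sq x (Points.ofPt (𝟙 _) v) (by rw [map_ofPt_id, hv])
  obtain ⟨d', rfl⟩ := exists_ofScheme w
  obtain ⟨W, p, q, sW⟩ := exists_isPullback hφ.1 a
  have : Etale q.left := prop_snd sW hφ
  have : Etale p.left := prop_snd sW.flip ha
  have hsub : I.subschemeι d' = v := (Points.schemeEquiv V).injective (by
    show Points.ofPt (𝟙 _) (I.subschemeι d') = Points.ofPt (𝟙 _) v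
    rw [← hw₂, Points.map_ofPt, Category.id_comp, ← Category.comp_id ((yon S).map _), ofPt_comp]
    rfl)
  obtain ⟨z, hz₁, hz₂⟩ := (ofPt_eq_iff sW v u).1 (hv.trans hu.symm)
  have hdv : FlatMor.localDim ↥V.left v = d := by
    rw [← hz₁, ← localDim_of_etale p.left z, localDim_of_etale q.left z, hz₂, hd]
  refine ⟨_, fst, d', repWith_baseChange sq.flip hφ, ?_, ?_⟩
  · rw [← map_ofPt_id fst d']
    exact hw₁
  · have := Groth.Agent.S1686.result V.left I hI d' (by rw [hsub, hdv]; exact hfin)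
    rwa [hsub, hdv] at this

/-- Finite locally free morphisms are the finite flat locally finitely presented ones. -/
theorem isFinLocFreeMor_iff {X Y : Space S} (f : X ⟶ Y) :
    (IsFinLocFreeMor f.hom ↔
      (IsFiniteMor f.hom ∧ LocP @Flat f.hom ∧ LocP @LocallyOfFinitePresentation f.hom)) ∧
    (IsLocNoethSp Y.obj → (IsFinLocFreeMor f.hom ↔ (IsFiniteMor f.hom ∧ LocP @Flat f.hom))) := by
  have e : IsFinLocFreeMor f.hom ↔ RepWith (@IsFinite ⊓ @Flat ⊓ @LocallyOfFinitePresentation) f.hom := by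
    rw [← finLocFree_eq]
    rfl
  have main : IsFinLocFreeMor f.hom ↔
      (IsFiniteMor f.hom ∧ LocP @Flat f.hom ∧ LocP @LocallyOfFinitePresentation f.hom) := by
    rw [e, isFiniteMor_iff_repWith]
    constructor
    · intro h
      exact ⟨⟨h.1, fun U V g fst snd sq => (h.2 g fst snd sq).1.1⟩,
        (locP_iff_repWith Y.property h.1).2 ⟨h.1, fun U V g fst snd sq => (h.2 g fst snd sq).1.2⟩,
        (locP_iff_repWith Y.property h.1).2 ⟨h.1, fun U V g fst snd sq => (h.2 g fst snd sq).2⟩⟩
    · rintro ⟨h₁, h₂, h₃⟩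
      have h₂' := (locP_iff_repWith Y.property h₁.1).1 h₂
      have h₃' := (locP_iff_repWith Y.property h₁.1).1 h₃
      exact ⟨h₁.1, fun U V g fst snd sq => ⟨⟨h₁.2 g fst snd sq, h₂'.2 g fst snd sq⟩, h₃'.2 g fst snd sq⟩⟩
  refine ⟨main, fun hN => main.trans ⟨fun h => ⟨h.1, h.2.1⟩, fun h => ⟨h.1, h.2, fun U V a b k ha hb w => ?_⟩⟩⟩
  have h₁ := (isFiniteMor_iff_repWith f.hom).1 h.1
  have hft : LocP @LocallyOfFiniteType f.hom := (locP_iff_repWith Y.property h₁.1).2
    ⟨h₁.1, fun U V g fst snd sq => by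
      have : IsFinite ((Over.forget S).map snd) := h₁.2 g fst snd sq
      exact (inferInstance : LocallyOfFiniteType ((Over.forget S).map snd))⟩
  have : LocallyOfFiniteType k.left := hft a b k ha hb w
  have := AlgSpPts.isLocallyNoetherian_of_chart hN hb
  exact LocallyOfFinitePresentation.iff_locallyOfFiniteType.2 ‹_›

end Groth.Agent.AlgSpFin
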