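import Groth.Agent.AlgSpFin.DecentFibre
import Groth.Prelude.Def_Flat
import Mathlib

/-!
Dimension and closed points of decent algebraic spaces, read on etale charts.
-/

set_option autoImplicit false
set_option backward.isDefEq.respectTransparency.types false

universe u

open CategoryTheory CategoryTheory.Limits AlgebraicGeometry Opposite AlgSp TopologicalSpace

namespace Groth.Agent.AlgSpFin

open Groth.Agent.AlgSpLib

/-- The irreducible closed set of a point. -/
def ptClosure {A : Type*} [TopologicalSpace A] (a : A) : IrreducibleCloseds A :=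
  ⟨closure {a}, isIrreducible_singleton.closure, isClosed_closure⟩

theorem ptClosure_le_iff {A : Type*} [TopologicalSpace A] {a b : A} : ptClosure a ≤ ptClosure b ↔ b ⤳ a :=
  specializes_iff_closure_subset.symm

theorem exists_ptClosure {A : Type*} [TopologicalSpace A] [QuasiSober A] (T : IrreducibleCloseds A) :
    ∃ a, ptClosure a = T :=
  ⟨T.2.genericPoint, IrreducibleCloseds.ext (by
    show closure {T.2.genericPoint} = (T : Set A)
    rw [IsIrreducible.genericPoint_closure_eq]
    exact T.3.closure_eq)⟩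

section Topo

variable {A B : Type*} [TopologicalSpace A] [TopologicalSpace B] {f : A → B}

/-- Chains of generalisations correspond along a map lifting generalisations strictly. -/
theorem coheight_ptClosure_eq [QuasiSober A] [QuasiSober B] (hf : Continuous f)
    (hlift : ∀ a b, b ⤳ f a → ∃ c, c ⤳ a ∧ f c = b) (hstrict : ∀ a c, c ⤳ a → f c = f a → c = a)
    (hB : ∀ x y : B, x ⤳ y → y ⤳ x → x = y) (a : A) :
    Order.coheight (ptClosure (f a)) = Order.coheight (ptClosure a) := by
  have hmap : ∀ {c d : A}, ptClosure c < ptClosure d → ptClosure (f c) < ptClosure (f d) := by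
    intro c d h
    rw [lt_iff_le_not_ge] at h ⊢
    refine ⟨ptClosure_le_iff.2 ((ptClosure_le_iff.1 h.1).map hf), fun h' => h.2 ?_⟩
    rw [hstrict c d (ptClosure_le_iff.1 h.1) (hB _ _ ((ptClosure_le_iff.1 h.1).map hf) (ptClosure_le_iff.1 h'))]
  have up : ∀ (n : ℕ) (a : A) (p : LTSeries (IrreducibleCloseds B)), p.length = n → p.head = ptClosure (f a) →
      (n : ℕ∞) ≤ Order.coheight (ptClosure a) := by
    intro n
    induction n with
    | zero => simp
    | succ n ih =>
      intro a p hp hhead
      have hlen : p.length ≠ 0 := by omega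
      let p' := p.tail hlen
      obtain ⟨b, hb⟩ := exists_ptClosure p'.head
      have hlt : ptClosure (f a) < ptClosure b := by
        rw [hb, ← hhead]
        show p 0 < p'.head
        rw [RelSeries.head_tail]
        exact p.strictMono (by simp [Fin.lt_def, Fin.val_one', Nat.mod_eq_of_lt (show 1 < p.length + 1 by omega)])
      obtain ⟨c, hc, hcb⟩ := hlift a b (ptClosure_le_iff.1 hlt.le)
      have h₁ : ptClosure a < ptClosure c := by
        refine lt_of_le_not_ge (ptClosure_le_iff.2 hc) fun h' => hlt.not_ge ?_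
        rw [← hcb]
        exact ptClosure_le_iff.2 ((ptClosure_le_iff.1 h').map hf)
      have h₂ := ih c p' (by simp [p', hp]) (by rw [hcb, hb])
      calc ((n + 1 : ℕ) : ℕ∞) = (n : ℕ∞) + 1 := by push_cast; rfl
        _ ≤ Order.coheight (ptClosure c) + 1 := by gcongr
        _ ≤ _ := Order.coheight_add_one_le h₁
  refine le_antisymm ?_ ?_
  · refine ENat.forall_natCast_le_iff_le.1 fun n hn => ?_
    obtain ⟨p, hp, hlen⟩ := Order.exists_series_of_le_coheight _ hn
    exact up n a p hlen hp
  · refine ENat.forall_natCast_le_iff_le.1 fun n hn => ?_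
    obtain ⟨p, hp, hlen⟩ := Order.exists_series_of_le_coheight _ hn
    choose g hg using fun i => exists_ptClosure (p i)
    let q : LTSeries (IrreducibleCloseds B) :=
      ⟨p.length, fun i => ptClosure (f (g i)), fun i => hmap (by rw [hg, hg]; exact p.step i)⟩
    have h0 : ptClosure (f a) ≤ q.head := ptClosure_le_iff.2
      ((ptClosure_le_iff.1 (show ptClosure a ≤ ptClosure (g 0) from ((hg 0).trans hp).ge)).map hf)
    rw [← hlen]
    exact Order.length_le_coheight h0

theorem topologicalKrullDim_eq_of_lift [QuasiSober A] [QuasiSober B] (hf : Continuous f)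
    (hsurj : Function.Surjective f) (hlift : ∀ a b, b ⤳ f a → ∃ c, c ⤳ a ∧ f c = b)
    (hstrict : ∀ a c, c ⤳ a → f c = f a → c = a) (hB : ∀ x y : B, x ⤳ y → y ⤳ x → x = y) :
    topologicalKrullDim A = topologicalKrullDim B := by
  rw [topologicalKrullDim, topologicalKrullDim, Order.krullDim_eq_iSup_coheight, Order.krullDim_eq_iSup_coheight]
  refine le_antisymm (iSup_le fun T => ?_) (iSup_le fun T => ?_)
  · obtain ⟨a, rfl⟩ := exists_ptClosure T
    exact le_iSup_of_le (ptClosure (f a)) (by rw [coheight_ptClosure_eq hf hlift hstrict hB])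
  · obtain ⟨b, rfl⟩ := exists_ptClosure T
    obtain ⟨a, rfl⟩ := hsurj b
    exact le_iSup_of_le (ptClosure a) (by rw [coheight_ptClosure_eq hf hlift hstrict hB])

end Topo

variable {S : Scheme.{u}} {X : Sp S} {U : Over S} {a : (yon S).obj U ⟶ X}

/-- Generalisations lift along etale charts of decent spaces. -/
theorem exists_lift_generalization (hX : IsAlgSpace X) (hd : IsDecent X) (ha : RepWith @Etale a) (u : U.left)
    {y : Points X} (h : y ⤳ Points.ofPt a u) : ∃ v, v ⤳ u ∧ Points.ofPt a v = y := by
  obtain ⟨O, hO, huO, -⟩ := exists_isAffineOpen_mem_and_subset (X := U.left) (U := ⊤) (x := u) trivial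
  let V : Over S := Over.mk (O.ι ≫ U.hom)
  let ι₀ : V ⟶ U := Over.homMk O.ι rfl
  have hι₀ : Etale ι₀.left := inferInstanceAs (Etale O.ι)
  have hb : RepWith @Etale ((yon S).map ι₀ ≫ a) := repWith_yon_comp (P := @Etale) ι₀ hι₀ ha
  have : IsAffine V.left := hO
  let u' : V.left := ⟨u, huO⟩
  obtain ⟨v, hv, hv'⟩ := exists_generalization_of_isOpenMap (isOpenMap_ofPt_of_etale hb)
    (x := u') (y := y) ((ofPt_comp ι₀ a u').symm ▸ h) (finite_fibre_of_isDecent hX hd hb y)
  exact ⟨ι₀.left v, hv.map ι₀.left.continuous, (ofPt_comp ι₀ a v).symm.trans hv'⟩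

theorem points_antisymm (hX : IsAlgSpace X) (hd : IsDecent X) {x y : Points X} (h₁ : x ⤳ y) (h₂ : y ⤳ x) : x = y :=
  have := t0Space_points_of_isDecent hX hd
  (h₁.antisymm h₂).eq

/-- The codimension of a point is read on etale charts. -/
theorem coheight_ptClosure_ofPt (hX : IsAlgSpace X) (hd : IsDecent X) (ha : RepWith @Etale a) (u : U.left) :
    (Order.coheight (ptClosure (Points.ofPt a u)) : WithBot ℕ∞) = ringKrullDim (U.left.presheaf.stalk u) := by
  have := quasiSober_points_of_isDecent hX hd
  rw [coheight_ptClosure_eq (Points.continuous_ofPt a) (fun u y h => exists_lift_generalization hX hd ha u h)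
    (fun u v h e => eq_of_specializes_of_isDecent hX hd ha e h) (fun _ _ => points_antisymm hX hd) u,
    ringKrullDim_stalk_eq_coheight]
  congr 1
  rw [← Order.coheight_orderIso (irreducibleSetEquivPoints (α := U.left)) (ptClosure u)]
  congr 1
  exact (isIrreducible_singleton.closure.isGenericPoint_genericPoint_closure.eq
    (by rw [closure_closure]; exact isGenericPoint_closure))

theorem topologicalKrullDim_image (hX : IsAlgSpace X) (hd : IsDecent X) (ha : RepWith @Etale a)
    (N : Set U.left) (hN : IsOpen N) :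
    topologicalKrullDim N = topologicalKrullDim (Points.ofPt a '' N) := by
  have := quasiSober_points_of_isDecent hX hd
  have hO : IsOpen (Points.ofPt a '' N) := isOpenMap_ofPt_of_etale ha N hN
  have : QuasiSober N := hN.isOpenEmbedding_subtypeVal.quasiSober
  have : QuasiSober (Points.ofPt a '' N) := hO.isOpenEmbedding_subtypeVal.quasiSober
  refine topologicalKrullDim_eq_of_lift (f := fun n : N => (⟨Points.ofPt a n.1, n.1, n.2, rfl⟩ : Points.ofPt a '' N))
    (((Points.continuous_ofPt a).comp continuous_subtype_val).subtype_mk _) ?_ ?_ ?_ ?_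
  · rintro ⟨_, n, hn, rfl⟩
    exact ⟨⟨n, hn⟩, rfl⟩
  · intro n y h
    obtain ⟨v, hv, hv'⟩ := exists_lift_generalization hX hd ha n.1 ((subtype_specializes_iff _ _).1 h)
    exact ⟨⟨v, hv.mem_open hN n.2⟩, (subtype_specializes_iff _ _).2 hv, Subtype.ext hv'⟩
  · intro n m h e
    exact Subtype.ext (eq_of_specializes_of_isDecent hX hd ha (congrArg Subtype.val e) ((subtype_specializes_iff _ _).1 h))
  · intro x y h h'
    exact Subtype.ext (points_antisymm hX hd ((subtype_specializes_iff _ _).1 h) ((subtype_specializes_iff _ _).1 h'))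

theorem localDim_eq_of_isDecent (hX : IsAlgSpace X) (hd : IsDecent X) (ha : RepWith @Etale a) (u : U.left) :
    FlatMor.localDim U.left u = FlatMor.localDim (Points X) (Points.ofPt a u) := by
  refine le_antisymm (le_iInf fun O => ?_) (le_iInf fun N => ?_)
  · let N : Opens U.left := ⟨Points.ofPt a ⁻¹' O.1, O.1.2.preimage (Points.continuous_ofPt a)⟩
    refine (iInf_le _ ⟨N, O.2⟩).trans ?_
    rw [topologicalKrullDim_image hX hd ha N N.2]
    exact (Topology.IsInducing.topologicalKrullDim_le
      (Topology.IsEmbedding.inclusion (Set.image_preimage_subset _ _)).isInducing)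
  · refine (iInf_le _ ⟨⟨_, isOpenMap_ofPt_of_etale ha _ N.1.2⟩, ⟨u, N.2, rfl⟩⟩).trans ?_
    exact (topologicalKrullDim_image hX hd ha _ N.1.2).ge

theorem topologicalKrullDim_points (hX : IsAlgSpace X) (hd : IsDecent X) :
    topologicalKrullDim (Points X) = AlgSp.dim X := by
  obtain ⟨U, a, ha, has⟩ := hX.atlas
  have key : ∀ (V : Over S) (b : (yon S).obj V ⟶ X), RepWith @Etale b →
      topologicalKrullDim V.left ≤ topologicalKrullDim (Points X) := fun V b hb => by
    rw [← (Homeomorph.Set.univ ↥V.left).isHomeomorph.topologicalKrullDim_eq,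
      topologicalKrullDim_image hX hd hb _ isOpen_univ]
    exact topologicalKrullDim_subspace_le _ _
  refine le_antisymm ?_ (iSup_le fun V => iSup_le fun b => iSup_le fun hb => key V b hb)
  refine le_trans ?_ (le_iSup_of_le U (le_iSup_of_le a (le_iSup_of_le ha le_rfl)))
  have := quasiSober_points_of_isDecent hX hd
  exact (topologicalKrullDim_eq_of_lift (Points.continuous_ofPt a) (surjective_ofPt has)
    (fun u y h => exists_lift_generalization hX hd ha u h)
    (fun u v h e => eq_of_specializes_of_isDecent hX hd ha e h) (fun _ _ => points_antisymm hX hd)).ge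

theorem exists_component_iff (hX : IsAlgSpace X) (hd : IsDecent X) (x : Points X) :
    (∃ T ∈ irreducibleComponents (Points X), IsGenericPoint x T) ↔
      HasAt (fun U u => ringKrullDim ↥(U.presheaf.stalk u) = 0) X x := by
  have := quasiSober_points_of_isDecent hX hd
  have h0 : (∃ T ∈ irreducibleComponents (Points X), IsGenericPoint x T) ↔ IsMax (ptClosure x) := by
    constructor
    · rintro ⟨T, hT, hx⟩ C hC
      show (C : Set (Points X)) ⊆ closure {x}
      rw [hx.def]
      exact hT.2 C.2 (hx.def.symm.trans_le hC)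
    · intro h
      exact ⟨closure {x}, ⟨isIrreducible_singleton.closure, fun C hC hle => (subset_closure.trans
        (show closure C ⊆ closure {x} from @h ⟨closure C, hC.closure, isClosed_closure⟩ (hle.trans subset_closure)))⟩,
        isGenericPoint_closure⟩
  rw [h0, ← Order.coheight_eq_zero]
  constructor
  · intro h
    obtain ⟨U, a, ha, has⟩ := hX.atlas
    obtain ⟨u, rfl⟩ := surjective_ofPt has x
    exact ⟨U, a, u, ha, rfl, (coheight_ptClosure_ofPt hX hd ha u).symm.trans (by rw [h]; rfl)⟩
  · rintro ⟨U, a, u, ha, rfl, h⟩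
    have e : ringKrullDim ↥(U.left.presheaf.stalk u) = 0 := h
    rw [← coheight_ptClosure_ofPt hX hd ha u] at e
    exact_mod_cast e

theorem coheight_eq_stalkDim (hX : IsAlgSpace X) (hd : IsDecent X) (T : IrreducibleCloseds (Points X))
    (ξ : Points X) (hξ : IsGenericPoint ξ (T : Set (Points X))) (ha : RepWith @Etale a) (u : U.left)
    (hu : Points.ofPt a u = ξ) :
    (Order.coheight T : WithBot ℕ∞) = ringKrullDim ↥(U.left.presheaf.stalk u) := by
  rw [← coheight_ptClosure_ofPt hX hd ha u, hu, show ptClosure ξ = T from IrreducibleCloseds.ext hξ.def]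

/-- A closed point of a chart gives a closed point when the space has a Jacobson chart. -/
theorem isClosed_of_closed_chart_point (hX : IsAlgSpace X) (hd : IsDecent X) {U₀ : Over S}
    {a₀ : (yon S).obj U₀ ⟶ X} (ha₀ : RepWith @Etale a₀) (ha₀s : RepWith @Surjective a₀)
    [JacobsonSpace U₀.left] (ha : RepWith @Etale a) {u : U.left} (hu : IsClosed ({u} : Set U.left)) :
    IsClosed ({Points.ofPt a u} : Set (Points X)) := by
  have hcl : ∀ u₀ : U₀.left, Points.ofPt a₀ u₀ = Points.ofPt a u → IsClosed ({u₀} : Set U₀.left) := by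
    intro u₀ h
    obtain ⟨R, s, t, sR⟩ := exists_isPullback ha.1 a₀
    have : Etale t.left := prop_snd sR ha
    have : Etale s.left := prop_snd sR.flip ha₀
    have : LocallyQuasiFinite s.left := locallyQuasiFinite_of_formallyUnramified _
    obtain ⟨r, hr, hr'⟩ := (ofPt_eq_iff sR u u₀).1 h.symm
    have hrc : IsClosed ({r} : Set R.left) := by
      have hF : IsClosed (s.left ⁻¹' {u}) := hu.preimage s.left.continuous
      have : DiscreteTopology (s.left ⁻¹' {u}) := (s.left.isDiscrete_preimage_singleton u).to_subtype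
      have := hF.isClosedEmbedding_subtypeVal.isClosedMap _
        (isClosed_discrete ({⟨r, hr⟩} : Set (s.left ⁻¹' {u})))
      simpa using this
    rw [← hr']
    exact t.left.closePoints_subset_preimage_closedPoints hrc
  rw [← closure_subset_iff_isClosed]
  intro y hy
  obtain ⟨v, hv⟩ := surjective_ofPt ha₀s y
  obtain ⟨u', hu', hu'x⟩ := exists_lift_generalization hX hd ha₀ v (y := Points.ofPt a u)
    (specializes_iff_mem_closure.2 (hv.symm ▸ hy))
  have : v = u' := by
    have := specializes_iff_mem_closure.1 hu'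
    rwa [(hcl u' hu'x).closure_eq, Set.mem_singleton_iff] at this
  rw [Set.mem_singleton_iff, ← hv, this, hu'x]

theorem isClosed_chart_point (hX : IsAlgSpace X) (hd : IsDecent X) (ha : RepWith @Etale a) {u : U.left}
    (h : IsClosed ({Points.ofPt a u} : Set (Points X))) : IsClosed ({u} : Set U.left) := by
  rw [← closure_subset_iff_isClosed]
  intro v hv
  have hs : u ⤳ v := specializes_iff_mem_closure.2 hv
  have h₁ : Points.ofPt a v = Points.ofPt a u := by
    have := specializes_iff_mem_closure.1 (hs.map (Points.continuous_ofPt a))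
    rwa [h.closure_eq, Set.mem_singleton_iff] at this
  exact (eq_of_specializes_of_isDecent hX hd ha h₁.symm hs).symm

theorem hasAt_isClosed_iff (hX : IsAlgSpace X) (hd : IsDecent X)
    (hJ : EtaleLocally (fun U => JacobsonSpace ↥U) X) (x : Points X) :
    HasAt (fun U u => IsClosed ({u} : Set ↥U)) X x ↔ IsClosed ({x} : Set (Points X)) := by
  obtain ⟨U₀, a₀, ha₀, has, hj⟩ := hJ
  have : JacobsonSpace U₀.left := hj
  constructor
  · rintro ⟨U, a, u, ha, rfl, hu⟩
    exact isClosed_of_closed_chart_point hX hd ha₀ has ha hu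
  · intro h
    obtain ⟨u, rfl⟩ := surjective_ofPt has x
    exact ⟨U₀, a₀, u, ha₀, rfl, isClosed_chart_point hX hd ha₀ h⟩

theorem jacobson_iff (hX : IsAlgSpace X) (hd : IsDecent X) :
    EtaleLocally (fun U => JacobsonSpace ↥U) X ↔ JacobsonSpace (Points X) := by
  constructor
  · intro hJ
    have hJ' := hJ
    obtain ⟨U₀, a₀, ha₀, has, hj⟩ := hJ'
    have : JacobsonSpace U₀.left := hj
    refine jacobsonSpace_iff_locallyClosed.2 fun Z hne hZ => ?_
    obtain ⟨z, hz⟩ := hne
    obtain ⟨u, hu⟩ := surjective_ofPt has z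
    obtain ⟨v, hvZ, hv⟩ := jacobsonSpace_iff_locallyClosed.1 ‹JacobsonSpace U₀.left› (Points.ofPt a₀ ⁻¹' Z)
      ⟨u, show Points.ofPt a₀ u ∈ Z from hu.symm ▸ hz⟩ (hZ.preimage (Points.continuous_ofPt a₀))
    exact ⟨_, hvZ, isClosed_of_closed_chart_point hX hd ha₀ has ha₀ hv⟩
  · intro hJ
    obtain ⟨U, a, ha, has⟩ := hX.atlas
    refine ⟨U, a, ha, has, jacobsonSpace_iff_locallyClosed.2 fun Z hne hZ => ?_⟩
    -- a point closed in an affine piece of `Z`
    obtain ⟨z, hz⟩ := hne
    obtain ⟨O, C, hO, hC, rfl⟩ := hZ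
    obtain ⟨W, hW, hzW, hWO⟩ := exists_isAffineOpen_mem_and_subset (X := U.left) (U := ⟨O, hO⟩) (x := z) hz.1
    have hcpt : IsCompact (C ∩ (W : Set U.left)) := hW.isCompact.inter_left hC
    have : CompactSpace ↥(C ∩ (W : Set U.left)) := isCompact_iff_compactSpace.1 hcpt
    have : Nonempty ↥(C ∩ (W : Set U.left)) := ⟨⟨z, hz.2, hzW⟩⟩
    obtain ⟨c, -, hc⟩ := IsClosed.exists_closed_singleton (isClosed_univ (X := ↥(C ∩ (W : Set U.left)))) Set.univ_nonempty
    let u : U.left := c.1
    refine ⟨u, ⟨hWO c.2.2, c.2.1⟩, isClosed_chart_point hX hd ha ?_⟩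
    have huc : ∀ v ∈ (W : Set U.left), u ⤳ v → v = u := by
      intro v hvW hs
      have hvC : v ∈ C := hC.closure_eq ▸ closure_mono (Set.singleton_subset_iff.2 c.2.1) (specializes_iff_mem_closure.1 hs)
      have h' : c ⤳ (⟨v, hvC, hvW⟩ : ↥(C ∩ (W : Set U.left))) := (subtype_specializes_iff _ _).2 hs
      have := specializes_iff_mem_closure.1 h'
      rw [hc.closure_eq, Set.mem_singleton_iff] at this
      exact congrArg Subtype.val this
    -- a neighbourhood of the image in which it is closed
    have hWa : IsAffine (Over.mk (W.ι ≫ U.hom)).left := hW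
    let ι₀ : Over.mk (W.ι ≫ U.hom) ⟶ U := Over.homMk W.ι rfl
    have hι₀ : Etale ι₀.left := inferInstanceAs (Etale W.ι)
    have hb : RepWith @Etale ((yon S).map ι₀ ≫ a) := repWith_yon_comp (P := @Etale) ι₀ hι₀ ha
    have hfin := finite_fibre_of_isDecent hX hd hb (Points.ofPt a u)
    let Φ : Set U.left := {v | v ∈ W ∧ Points.ofPt a v = Points.ofPt a u ∧ v ≠ u}
    have hΦ : Φ.Finite := by
      refine (hfin.image fun w => ι₀.left w).subset fun v hv => ?_
      let v' : (Over.mk (W.ι ≫ U.hom)).left := show ↥W.toScheme from ⟨v, hv.1⟩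
      exact ⟨v', (ofPt_comp ι₀ a v').trans hv.2.1, rfl⟩
    let N : Set U.left := (W : Set U.left) \ ⋃ v ∈ Φ, closure {v}
    have hN : IsOpen N := W.2.sdiff (hΦ.isClosed_biUnion fun _ _ => isClosed_closure)
    have huN : u ∈ N := ⟨c.2.2, fun h => by
      obtain ⟨v, hv, hvu⟩ := Set.mem_iUnion₂.1 h
      exact hv.2.2 (eq_of_specializes_of_isDecent hX hd ha hv.2.1 (specializes_iff_mem_closure.2 hvu))⟩
    have hclosed : IsLocallyClosed ({Points.ofPt a u} : Set (Points X)) := by
      refine ⟨Points.ofPt a '' N, closure {Points.ofPt a u}, isOpenMap_ofPt_of_etale ha N hN, isClosed_closure, ?_⟩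
      refine Eq.symm (Set.eq_singleton_iff_unique_mem.2 ⟨⟨⟨u, huN, rfl⟩, subset_closure rfl⟩, ?_⟩)
      rintro _ ⟨⟨v, hvN, rfl⟩, hv⟩
      obtain ⟨u', hu', hu'x⟩ := exists_lift_generalization hX hd ha v (specializes_iff_mem_closure.2 hv)
      by_cases e : u' = u
      · rw [huc v hvN.1 (e ▸ hu')]
      · exact absurd (Set.mem_iUnion₂.2 ⟨u', ⟨hu'.mem_open W.2 hvN.1, hu'x, e⟩,
          specializes_iff_mem_closure.1 hu'⟩) hvN.2
    obtain ⟨w, hw, hwc⟩ := jacobsonSpace_iff_locallyClosed.1 hJ _ (Set.singleton_nonempty _) hclosed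
    rw [Set.mem_singleton_iff.1 hw] at hwc
    exact hwc

end Groth.Agent.AlgSpFin
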