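import Groth.Agent.AlgSpFin.ResTrdeg
import Groth.Agent.AlgSpFin.DecentTopo
import Groth.Agent.DimFun.Basic
import Groth.Agent.Hironaka.Catenary
import Groth.Agent.S9126
import Groth.Prelude.Def_W4stk3decentspacesp2Birat
import Groth.Prelude.Def_Found

/-!
Decent spaces of finite type over universally catenary schemes are catenary.
-/

set_option autoImplicit false
set_option backward.isDefEq.respectTransparency.types false

universe u

open CategoryTheory CategoryTheory.Limits AlgebraicGeometry Opposite AlgSp TopologicalSpace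

namespace Groth.Agent.AlgSpFin

noncomputable section

open Groth.Agent.AlgSpLib

/-- Local dimension functions on generalizations give catenarity. -/
theorem isCatenarySpace_of_dimFun {α : Type u} [TopologicalSpace α] [QuasiSober α] [T0Space α]
    (h : ∀ x₀ : α, ∃ δ : α → ℤ, ∀ x y : α, x ⤳ y → y ⤳ x₀ → x ≠ y →
      δ y < δ x ∧ ((∀ z : α, x ⤳ z → z ⤳ y → z = x ∨ z = y) → δ x = δ y + 1)) :
    W4stk3decentspacesp2.IsCatenarySpace α := by
  have hgen : ∀ T : IrreducibleCloseds α, ∃ g : α, IsGenericPoint g (T : Set α) := fun T =>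
    QuasiSober.sober T.isIrreducible' T.isClosed'
  choose g hg using hgen
  intro T T' hT
  obtain ⟨δ, hδ⟩ := h (g T)
  have hle : ∀ A B : IrreducibleCloseds α, A ≤ B → g B ⤳ g A := fun A B hAB =>
    (hg B).specializes (hAB (hg A).mem)
  have hne : ∀ A B : IrreducibleCloseds α, A < B → g B ≠ g A := fun A B hAB e => hAB.ne (by
    apply IrreducibleCloseds.ext
    rw [← (hg A).def, ← (hg B).def, e])
  have hstep : ∀ A B : IrreducibleCloseds α, T ≤ A → A < B → δ (g A) < δ (g B) := fun A B hA hAB =>
    (hδ _ _ (hle A B hAB.le) (hle T A hA) (hne A B hAB)).1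
  have key : ∀ p : LTSeries (IrreducibleCloseds α), p.head = T → p.last = T' →
      ((p.length : ℤ) ≤ δ (g T') - δ (g T)) ∧
      ((∀ i : Fin p.length, p.toFun i.castSucc ⋖ p.toFun i.succ) → (p.length : ℤ) = δ (g T') - δ (g T)) := by
    intro p hp hp'
    have main : ∀ i : Fin (p.length + 1), ((i.val : ℤ) ≤ δ (g (p i)) - δ (g T)) ∧
        ((∀ j : Fin p.length, p.toFun j.castSucc ⋖ p.toFun j.succ) → (i.val : ℤ) = δ (g (p i)) - δ (g T)) := by
      intro i
      induction i using Fin.induction with
      | zero =>
        have h0 : p 0 = T := hp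
        rw [h0]
        simp
      | succ i ih =>
        have hT0 : T ≤ p i.castSucc := by
          rw [← hp]
          exact p.monotone (Fin.zero_le _)
        have hlt : p i.castSucc < p i.succ := p.strictMono (Fin.castSucc_lt_succ (i := i))
        obtain ⟨ih₁, ih₂⟩ := ih
        have hs := hstep _ _ hT0 hlt
        refine ⟨?_, fun hsat => ?_⟩
        · simp only [Fin.val_succ, Fin.val_castSucc] at ih₁ ⊢
          push_cast
          omega
        · have e := (hδ _ _ (hle _ _ hlt.le) (hle T _ hT0) (hne _ _ hlt)).2 fun z hz₁ hz₂ => by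
            let Z : IrreducibleCloseds α := ⟨closure {z}, isIrreducible_singleton.closure, isClosed_closure⟩
            have h₁ : p i.castSucc ≤ Z := fun w hw =>
              closure_minimal (Set.singleton_subset_iff.2 hz₂.mem_closure) isClosed_closure
                ((hg (p i.castSucc)).def.ge hw)
            have h₂ : Z ≤ p i.succ := fun w hw =>
              (hg (p i.succ)).def.le
                (closure_minimal (Set.singleton_subset_iff.2 hz₁.mem_closure) isClosed_closure hw)
            have hz : IsGenericPoint z (Z : Set α) := rfl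
            rcases (hsat i).eq_or_eq h₁ h₂ with e | e
            · exact Or.inr (hz.eq (e ▸ hg _))
            · exact Or.inl (hz.eq (e ▸ hg _))
          have := ih₂ hsat
          simp only [Fin.val_succ, Fin.val_castSucc] at this ⊢
          push_cast
          omega
    have hl : p (Fin.last p.length) = T' := hp'
    have := main (Fin.last p.length)
    rw [hl] at this
    simpa using this
  refine ⟨⟨(δ (g T') - δ (g T)).toNat, fun p hp hp' => ?_⟩, fun p q hp hp' hq hq' hsp hsq => ?_⟩
  · have := (key p hp hp').1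
    omega
  · have h₁ := (key p hp hp').2 hsp
    have h₂ := (key q hq hq').2 hsq
    omega

/-- The spectrum of a universally catenary local ring has a dimension function. -/
theorem exists_setup_spec_local (A : CommRingCat.{u}) [IsLocalRing A] (hA : CAlg.IsUniversallyCatenary A) :
    ∃ δ : ↥(Spec A) → ℤ, Cyc.IsSetup (Spec A) δ := by
  have : IsNoetherianRing A := hA.1
  have hcat : CAlg.IsCatenary A := hA.2 A inferInstance
  let δ : ↥(Spec A) → ℤ := fun p => ((Order.coheight (α := PrimeSpectrum A) p).toNat : ℤ)
  have hne : ∀ p : PrimeSpectrum A, Order.coheight p ≠ ⊤ := Groth.Agent.Hironaka.coheight_ne_top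
  refine ⟨δ, inferInstance, fun x => ?_, fun p q hpq hne' => ?_⟩
  · letI : Algebra A ((Spec A).presheaf.stalk x) :=
      inferInstanceAs (Algebra A ((Spec.structureSheaf A).presheaf.stalk x))
    have : IsLocalization.AtPrime ((Spec A).presheaf.stalk x) (x : PrimeSpectrum A).asIdeal :=
      inferInstanceAs (IsLocalization.AtPrime ((Spec.structureSheaf A).presheaf.stalk x) (x : PrimeSpectrum A).asIdeal)
    have : Algebra.EssFiniteType A ((Spec A).presheaf.stalk x) :=
      Algebra.EssFiniteType.of_isLocalization _ (x : PrimeSpectrum A).asIdeal.primeCompl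
    exact S9126.result A _ hA
  · have hle : @LE.le (PrimeSpectrum A) _ p q := (PrimeSpectrum.le_iff_specializes p q).mpr hpq
    have hlt : @LT.lt (PrimeSpectrum A) _ p q := lt_of_le_of_ne (α := PrimeSpectrum A) hle hne'
    refine ⟨?_, fun himm => ?_⟩
    · have h1 := Order.coheight_strictAnti (α := PrimeSpectrum A) hlt (hne q).lt_top
      obtain ⟨a, ha⟩ := ENat.ne_top_iff_exists.mp (hne q)
      obtain ⟨b, hb⟩ := ENat.ne_top_iff_exists.mp (hne p)
      rw [← ha, ← hb, Nat.cast_lt] at h1
      simp only [δ, ← ha, ← hb, ENat.toNat_natCast]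
      exact_mod_cast h1
    · have hcov : CovBy (α := PrimeSpectrum A) p q := ⟨hlt, fun r h1 h2 => by
        rcases himm r ((PrimeSpectrum.le_iff_specializes p r).mp h1.le)
          ((PrimeSpectrum.le_iff_specializes r q).mp h2.le) with e | e
        · exact h1.ne e.symm
        · exact h2.ne e⟩
      have h3 := Groth.Agent.Hironaka.coheight_of_covBy hcat hcov
      simp only [δ]
      rw [h3, ENat.toNat_add (hne q) (by simp)]
      simp

/-- Preimmersions preserve residue transcendence degrees. -/
theorem resTrdeg_preimmersion {A B : Scheme.{u}} (f : A ⟶ B) [IsPreimmersion f] (x : A) :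
    Dual3.resTrdeg f x = 0 := by
  have hs : Function.Surjective (f.residueFieldMap x).hom := fun z => by
    obtain ⟨z, rfl⟩ := A.residue_surjective x z
    obtain ⟨w, rfl⟩ := f.stalkMap_surjective x z
    exact ⟨B.residue (f x) w, congrArg (fun k => k.hom w) (Scheme.residue_residueFieldMap f x)⟩
  let : Algebra (B.residueField (f x)) (A.residueField x) := (f.residueFieldMap x).hom.toAlgebra
  have : Module.Finite (B.residueField (f x)) (A.residueField x) :=
    Module.Finite.of_surjective (Algebra.linearMap _ _) hs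
  exact trdeg_eq_zero

/-- Generalizations of a point of a scheme of finite type over a universally catenary base carry a function
depending only on image and transcendence degree which is a dimension function. -/
theorem exists_dimFun_generalizations {U S : Scheme.{u}} (h : U ⟶ S) [LocallyOfFiniteType h] [IsLocallyNoetherian S]
    (u : U) (hS : CAlg.IsUniversallyCatenary (S.presheaf.stalk (h u))) :
    ∃ Δ : S → Cardinal.{u} → ℤ, ∀ v w : U, v ⤳ w → w ⤳ u → v ≠ w →
      Δ (h w) (Dual3.resTrdeg h w) < Δ (h v) (Dual3.resTrdeg h v) ∧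
        ((∀ z : U, v ⤳ z → z ⤳ w → z = v ∨ z = w) →
          Δ (h v) (Dual3.resTrdeg h v) = Δ (h w) (Dual3.resTrdeg h w) + 1) := by
  classical
  let j := S.fromSpecStalk (h u)
  let A := S.presheaf.stalk (h u)
  obtain ⟨δ, hδ⟩ := exists_setup_spec_local A hS
  let pr := pullback.fst h j
  let g := pullback.snd h j
  have : LocallyOfFiniteType g := MorphismProperty.pullback_snd _ _ ‹_›
  have hn : ∀ x, ∃ n : ℕ, Dual3.resTrdeg g x = n := fun x =>
    ⟨_, (exists_fibreDimAt_eq_stalk_add g x).choose_spec.1⟩
  choose n hn using hn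
  let δ' : ↥(pullback h j) → ℤ := fun x => δ (g x) + n x
  have hδ' : Cyc.IsDimFun (pullback h j) δ' :=
    DimFun.isDimFun_of_compat g δ hδ δ' fun x => ⟨n x, hn x, rfl⟩
  let Δ : S → Cardinal.{u} → ℤ := fun s r =>
    (if hs : ∃ t, j t = s then δ hs.choose else 0) + (Cardinal.toNat r : ℤ)
  have hΔ : ∀ x, δ' x = Δ (h (pr x)) (Dual3.resTrdeg h (pr x)) := fun x => by
    have e₁ : j (g x) = h (pr x) := by
      rw [← Scheme.Hom.comp_apply, ← Scheme.Hom.comp_apply, pullback.condition]
    have hs : ∃ t, j t = h (pr x) := ⟨_, e₁⟩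
    have e₂ : hs.choose = g x := j.isEmbedding.injective (hs.choose_spec.trans e₁.symm)
    have e₃ : Dual3.resTrdeg h (pr x) = n x := by
      have e := resTrdeg_comp pr h x
      rw [resTrdeg_preimmersion pr, add_zero] at e
      rw [← e, show pr ≫ h = g ≫ j from pullback.condition, resTrdeg_comp g j x, resTrdeg_preimmersion j, zero_add,
        hn]
    simp only [δ', Δ, dif_pos hs, e₂, e₃, Cardinal.toNat_natCast]
  have hmem : ∀ v : U, v ⤳ u → ∃ x, pr x = v := fun v hv => by
    have : h v ∈ Set.range j := by
      rw [Scheme.range_fromSpecStalk]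
      exact hv.map h.continuous
    obtain ⟨t, ht⟩ := this
    obtain ⟨x, hx, -⟩ := Scheme.Pullback.exists_preimage_pullback v t ht.symm
    exact ⟨x, hx⟩
  refine ⟨Δ, fun v w hvw hwu hne => ?_⟩
  obtain ⟨x, rfl⟩ := hmem v (hvw.trans hwu)
  obtain ⟨y, rfl⟩ := hmem w hwu
  have hxy : x ⤳ y := pr.isEmbedding.isInducing.specializes_iff.1 hvw
  obtain ⟨h₁, h₂⟩ := hδ' x y hxy fun e => hne (congrArg _ e)
  rw [← hΔ, ← hΔ]
  refine ⟨h₁, fun himm => h₂ fun z hz₁ hz₂ => ?_⟩
  rcases himm (pr z) (hz₁.map pr.continuous) (hz₂.map pr.continuous) with e | e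
  · exact Or.inl (pr.isEmbedding.injective e)
  · exact Or.inr (pr.isEmbedding.injective e)

/-- Decent spaces of finite type over universally catenary schemes have catenary point spaces. -/
theorem isCatenarySpace_points {S : Scheme.{u}} [IsLocallyNoetherian S]
    (hS : ∀ s : S, CAlg.IsUniversallyCatenary (S.presheaf.stalk s)) (X : Space S) (hX : IsDecent X.obj)
    (p : X.obj ⟶ (yon S).obj (Over.mk (𝟙 S))) (hp : LocP @LocallyOfFiniteType p) :
    W4stk3decentspacesp2.IsCatenarySpace (Points X.obj) := by
  classical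
  have := quasiSober_points_of_isDecent X.property hX
  have := t0Space_points_of_isDecent X.property hX
  refine isCatenarySpace_of_dimFun fun x₀ => ?_
  obtain ⟨U, a, ha, has⟩ := X.property.atlas
  obtain ⟨u, rfl⟩ := surjective_ofPt has x₀
  let h : U ⟶ Over.mk (𝟙 S) := Over.homMk U.hom (Category.comp_id _)
  have w : a ≫ p = (yon S).map h ≫ 𝟙 _ := by
    obtain ⟨k, hk⟩ := (yon S).map_surjective (a ≫ p)
    rw [← hk, Category.comp_id]
    congr 1
    apply Over.OverMorphism.ext
    have := Over.w k
    simpa [h] using this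
  have : LocallyOfFiniteType U.hom := hp a (𝟙 _) h ha (repWith_id _ _) w
  obtain ⟨Δ, hΔ⟩ := exists_dimFun_generalizations U.hom u (hS _)
  let d : U.left → ℤ := fun v => Δ (U.hom v) (Dual3.resTrdeg U.hom v)
  have hd : ∀ v v', Points.ofPt a v = Points.ofPt a v' → d v = d v' := fun v v' e => by
    have e₁ : U.hom v = U.hom v' := by
      have := congrArg (Points.map p) e
      rw [Points.map_ofPt, Points.map_ofPt, w, Category.comp_id, ← Category.comp_id ((yon S).map h), ofPt_comp,
        ofPt_comp] at this
      exact (Points.schemeEquiv (Over.mk (𝟙 S))).injective this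
    have e₂ : Dual3.resTrdeg h.left v = Dual3.resTrdeg h.left v' :=
      resTrdeg_eq_of_diag ha (repWith_id _ _) w ha (repWith_id _ _) w v v' e
    show Δ (U.hom v) (Dual3.resTrdeg h.left v) = Δ (U.hom v') (Dual3.resTrdeg h.left v')
    rw [e₁, e₂]
  let D : Points X.obj → ℤ := fun y => if hy : ∃ v, Points.ofPt a v = y then d hy.choose else 0
  have hD : ∀ v, D (Points.ofPt a v) = d v := fun v => by
    have hy : ∃ v', Points.ofPt a v' = Points.ofPt a v := ⟨v, rfl⟩
    simp only [D, dif_pos hy]
    exact hd _ _ hy.choose_spec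
  refine ⟨D, fun x y hxy hy hne => ?_⟩
  obtain ⟨w', hw', rfl⟩ := exists_lift_generalization X.property hX ha u hy
  obtain ⟨v, hv, rfl⟩ := exists_lift_generalization X.property hX ha w' hxy
  obtain ⟨h₁, h₂⟩ := hΔ v w' hv hw' fun e => hne (congrArg (Points.ofPt a) e)
  rw [hD, hD]
  refine ⟨h₁, fun himm => h₂ fun z hz₁ hz₂ => ?_⟩
  rcases himm (Points.ofPt a z) (hz₁.map (Points.continuous_ofPt a)) (hz₂.map (Points.continuous_ofPt a)) with e | e
  · exact Or.inl (eq_of_specializes_of_isDecent X.property hX ha e.symm hz₁).symm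
  · exact Or.inr (eq_of_specializes_of_isDecent X.property hX ha e hz₂)

end

end Groth.Agent.AlgSpFin
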