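import Groth.Agent.AlgSpFin.AtMor

/-!
Fibres of etale charts over a point.
-/

set_option autoImplicit false
set_option backward.isDefEq.respectTransparency.types false

universe u

open CategoryTheory CategoryTheory.Limits AlgebraicGeometry Opposite AlgSp TopologicalSpace

namespace Groth.Agent.AlgSpFin

open Groth.Agent.AlgSpLib

variable {S : Scheme.{u}}

/-- An etale map from a quasi-compact open piece has finite fibres on it. -/
theorem finite_fibre_inter_affine {W U : Scheme.{u}} (p : W ⟶ U) [Etale p] (C : W.Opens) (hC : IsAffineOpen C)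
    (A : U.Opens) (hA : IsAffineOpen A) (hCA : C ≤ p ⁻¹ᵁ A) (u : U) : ((C : Set W) ∩ p ⁻¹' {u}).Finite := by
  let g : C.toScheme ⟶ A.toScheme := p.resLE A C hCA
  have : IsAffine C.toScheme := hC
  have : IsAffine A.toScheme := hA
  have hg : g ≫ A.ι = C.ι ≫ p := Scheme.Hom.resLE_comp_ι _ _
  have : Etale (g ≫ A.ι) := by rw [hg]; infer_instance
  have : Etale g := Etale.of_comp g A.ι
  have : LocallyQuasiFinite g := locallyQuasiFinite_of_formallyUnramified g
  by_cases hu : u ∈ A
  · refine ((g.finite_preimage_singleton ⟨u, hu⟩).image C.ι).subset fun w hw => ⟨⟨w, hw.1⟩, ?_, rfl⟩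
    apply A.ι.isOpenEmbedding.injective
    rw [← Scheme.Hom.comp_apply, hg]
    exact hw.2
  · refine Set.finite_empty.subset fun w hw => hu ?_
    have : p w ∈ A := hCA hw.1
    rwa [show p w = u from hw.2] at this

/-- Finite fibres on an etale covering give finite fibres on every affine etale chart. -/
theorem finite_fibre_of_etale_cover (X : Space S) (x : Points X.obj) {ι : Type u} (U : ι → Over S)
    (φ : ∀ i, (yon S).obj (U i) ⟶ X.obj) (hφ : ∀ i, RepWith @Etale (φ i))
    (hsurj : ∀ y : Points X.obj, ∃ (i : ι) (v : (U i).left), Points.ofPt (φ i) v = y)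
    (hfin : ∀ i, (Points.ofPt (φ i) ⁻¹' {x}).Finite) {V : Over S} [IsAffine V.left]
    (ψ : (yon S).obj V ⟶ X.obj) (hψ : RepWith @Etale ψ) : (Points.ofPt ψ ⁻¹' {x}).Finite := by
  have key : ∀ v : V.left, ∃ O : V.left.Opens, v ∈ O ∧ ((O : Set V.left) ∩ Points.ofPt ψ ⁻¹' {x}).Finite := by
    intro v
    obtain ⟨i, u, hu⟩ := hsurj (Points.ofPt ψ v)
    obtain ⟨W, p, q, sW⟩ := exists_isPullback (hφ i).1 ψ
    have : Etale p.left := prop_snd sW.flip hψ
    have : Etale q.left := prop_snd sW (hφ i)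
    obtain ⟨w, hw₁, hw₂⟩ := (ofPt_eq_iff sW u v).1 hu
    obtain ⟨A, hA, hwA, -⟩ := exists_isAffineOpen_mem_and_subset (X := (U i).left) (U := ⊤) (x := p.left w) trivial
    obtain ⟨C, hC, hwC, hCA⟩ := exists_isAffineOpen_mem_and_subset (show w ∈ p.left ⁻¹ᵁ A from hwA)
    let O : V.left.Opens := ⟨q.left '' (C : Set W.left), q.left.isOpenMap _ C.2⟩
    refine ⟨O, ⟨w, hwC, hw₂⟩, (((hfin i).biUnion fun u' _ =>
      finite_fibre_inter_affine p.left C hC A hA hCA u').image q.left).subset ?_⟩
    rintro _ ⟨⟨w', hw', rfl⟩, hx⟩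
    refine ⟨w', Set.mem_biUnion (x := p.left w') ?_ ⟨hw', rfl⟩, rfl⟩
    show Points.ofPt (φ i) (p.left w') = x
    rw [← ofPt_comp, sW.w, ofPt_comp]
    exact hx
  choose O hO hOf using key
  obtain ⟨T, hT⟩ := (isCompact_univ (X := V.left)).elim_finite_subcover (fun v => (O v : Set V.left))
    (fun v => (O v).2) fun v _ => Set.mem_iUnion.2 ⟨v, hO v⟩
  refine (T.finite_toSet.biUnion fun v _ => hOf v).subset fun v hv => ?_
  obtain ⟨v', hv', hm⟩ := Set.mem_iUnion₂.1 (hT (Set.mem_univ v))
  exact Set.mem_biUnion hv' ⟨hm, hv⟩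

/-- Over a point given by a monomorphism from a field, the fibre square has finite fibres over pairs. -/
theorem finite_pairs_of_mono_point (X : Space S) (p : FieldPt X.obj) [Mono p.toHom] {U R : Over S}
    (φ : (yon S).obj U ⟶ X.obj) (hφ : RepWith @Etale φ) (s t : R ⟶ U)
    (sR : IsPullback ((yon S).map t) ((yon S).map s) φ φ) (u u' : U.left) (hu : Points.ofPt φ u = Points.mk p)
    (hu' : Points.ofPt φ u' = Points.mk p) : {r : R.left | s.left r = u ∧ t.left r = u'}.Finite := by
  obtain ⟨T, j, c, sT⟩ := exists_isPullback hφ.1 p.toHom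
  have : Etale c.left := prop_snd sT hφ
  have : LocallyQuasiFinite c.left := locallyQuasiFinite_of_formallyUnramified _
  have : IsLocallyArtinian p.pt.left := inferInstanceAs (IsLocallyArtinian (Spec (CommRingCat.of p.K)))
  have : IsLocallyArtinian T.left := IsLocallyArtinian.of_locallyQuasiFinite c.left
  have hmono : Mono ((yon S).map j) :=
    MorphismProperty.of_isPullback (P := MorphismProperty.monomorphisms (Sp S)) sT.flip inferInstance
  let k : p.pt.left := (IsLocalRing.closedPoint p.K : PrimeSpectrum p.K)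
  -- the singleton charts of the fibre
  have single : ∀ v : U.left, Points.ofPt φ v = Points.mk p → ∃ (A : T.left.Opens), IsAffineOpen A ∧
      ∃ τ : T.left, (A : Set T.left) = {τ} ∧ j.left τ = v := by
    intro v hv
    obtain ⟨τ, hτ, -⟩ := (ofPt_eq_iff sT v k).1 (hv.trans (Points.ofPt_toHom p k).symm)
    obtain ⟨A, hA, hτA, hAs⟩ := exists_isAffineOpen_mem_and_subset (X := T.left) (x := τ)
      (U := ⟨{τ}, isOpen_discrete _⟩) rfl
    exact ⟨A, hA, τ, Set.Subset.antisymm hAs (Set.singleton_subset_iff.2 hτA), hτ⟩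
  obtain ⟨A, hA, τ, hAτ, hτ⟩ := single u hu
  obtain ⟨A', hA', τ', hAτ', hτ'⟩ := single u' hu'
  let TA : Over S := Over.mk (A.ι ≫ T.hom)
  let TA' : Over S := Over.mk (A'.ι ≫ T.hom)
  let iA : TA ⟶ T := Over.homMk A.ι rfl
  let iA' : TA' ⟶ T := Over.homMk A'.ι rfl
  have : IsAffine TA.left := hA
  have : IsAffine TA'.left := hA'
  have sP := IsPullback.of_hasPullback (iA ≫ c) (iA' ≫ c)
  let q := pullback.fst (iA ≫ c) (iA' ≫ c)
  let q' := pullback.snd (iA ≫ c) (iA' ≫ c)
  have : QuasiCompact (iA ≫ c).left := inferInstance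
  have : QuasiCompact q'.left := MorphismProperty.of_isPullback (P := @QuasiCompact) (left_isPullback sP) ‹_›
  have : Etale iA'.left := inferInstanceAs (Etale A'.ι)
  have : Etale iA.left := inferInstanceAs (Etale A.ι)
  have : Etale (iA ≫ c).left := inferInstanceAs (Etale (iA.left ≫ c.left))
  have : Etale q'.left := MorphismProperty.of_isPullback (P := @Etale) (left_isPullback sP) ‹_›
  have : LocallyQuasiFinite q'.left := locallyQuasiFinite_of_formallyUnramified _
  have : Finite TA'.left := by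
    have : Finite (A' : Set T.left) := by rw [hAτ']; infer_instance
    exact this
  have hPfin : Finite (pullback (iA ≫ c) (iA' ≫ c)).left :=
    Set.finite_univ_iff.1 ((Set.finite_univ.biUnion fun z _ => q'.left.finite_preimage_singleton z).subset
      fun w _ => Set.mem_biUnion (Set.mem_univ (q'.left w)) rfl)
  obtain ⟨m, hm₁, hm₂⟩ := exists_lift sR ((yon S).map (q' ≫ iA' ≫ j)) (q ≫ iA ≫ j) (by
    simp only [Functor.map_comp, Category.assoc, sT.w]
    rw [← Functor.map_comp_assoc, ← Functor.map_comp_assoc, ← Functor.map_comp_assoc, ← Functor.map_comp_assoc]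
    exact congrArg (fun e => (yon S).map e ≫ p.toHom) (by simp only [Category.assoc]; exact sP.w.symm))
  refine (Set.finite_range m.left).subset ?_
  rintro r ⟨hs, ht⟩
  -- lift the point to the two singleton charts
  have sR₁ := IsPullback.of_hasPullback s (iA ≫ j)
  obtain ⟨r₁, hr₁, hr₁'⟩ := Scheme.exists_preimage_of_isPullback (left_isPullback sR₁) r
    (⟨τ, hAτ.ge rfl⟩ : A.toScheme) (hs.trans hτ.symm)
  let e₁ := pullback.fst s (iA ≫ j)
  let f₁ := pullback.snd s (iA ≫ j)
  have hw : (yon S).map (e₁ ≫ t) ≫ φ = (yon S).map (f₁ ≫ iA ≫ c) ≫ p.toHom := by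
    rw [Functor.map_comp, Category.assoc, sR.w, ← Functor.map_comp_assoc, sR₁.w]
    simp only [Functor.map_comp, Category.assoc, sT.w]
    rfl
  obtain ⟨g, hg₁, hg₂⟩ := exists_lift sT ((yon S).map (e₁ ≫ t)) (f₁ ≫ iA ≫ c) hw
  have hg₁' : g ≫ j = e₁ ≫ t := (yon S).map_injective (by rw [Functor.map_comp]; exact hg₁)
  have hgτ : g.left r₁ = τ' := by
    obtain ⟨g', hg'⟩ : ∃ g' : T.left, g' = g.left r₁ := ⟨_, rfl⟩
    have hj : j.left g' = u' := by
      rw [hg', ← Scheme.Hom.comp_apply, ← Over.comp_left, hg₁', Over.comp_left, Scheme.Hom.comp_apply, hr₁, ht]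
    rw [← hg']
    refine (Points.schemeEquiv T).injective (injective_map_of_mono ((yon S).map j) ?_)
    show Points.map _ (Points.ofPt (𝟙 _) g') = Points.map _ (Points.ofPt (𝟙 _) τ')
    rw [Points.map_ofPt, Points.map_ofPt, Category.id_comp, ← Category.comp_id ((yon S).map j), ofPt_comp,
      ofPt_comp, hj, hτ']
  have sR₂ := IsPullback.of_hasPullback g iA'
  obtain ⟨r₂, hr₂, -⟩ := Scheme.exists_preimage_of_isPullback (left_isPullback sR₂) r₁
    (⟨τ', hAτ'.ge rfl⟩ : A'.toScheme) hgτ
  obtain ⟨l, hl₁, hl₂⟩ := exists_lift (yon_isPullback sP) ((yon S).map (pullback.fst g iA' ≫ f₁))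
    (pullback.snd g iA') (by
      rw [← Functor.map_comp, ← Functor.map_comp]
      congr 1
      rw [Category.assoc, ← hg₂, pullback.condition_assoc])
  have hl₁' : l ≫ q = pullback.fst g iA' ≫ f₁ := (yon S).map_injective (by rw [Functor.map_comp]; exact hl₁)
  have hlm : l ≫ m = pullback.fst g iA' ≫ e₁ := by
    have hm₁' : m ≫ t = q' ≫ iA' ≫ j := (yon S).map_injective (by rw [Functor.map_comp]; exact hm₁)
    refine (yon S).map_injective (sR.hom_ext ?_ ?_) <;> rw [← Functor.map_comp, ← Functor.map_comp] <;>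
      congr 1
    · rw [Category.assoc, hm₁', reassoc_of% hl₂, Category.assoc, ← hg₁', pullback.condition_assoc]
    · rw [Category.assoc, hm₂, reassoc_of% hl₁', Category.assoc, sR₁.w]
  refine ⟨l.left r₂, ?_⟩
  rw [← Scheme.Hom.comp_apply, ← Over.comp_left, hlm, Over.comp_left, Scheme.Hom.comp_apply, hr₂]
  exact hr₁

end Groth.Agent.AlgSpFin
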