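import Groth.Agent.AlgSpLib.SpCoprod
import Groth.Agent.AlgSpLib.ChartMor
import Groth.Agent.AlgSpLib.FibreProduct
import Mathlib.CategoryTheory.Limits.VanKampen
import Mathlib

/-!
Coproducts of fppf sheaves over `S`: van Kampen, representable summands, coproducts of schemes.
-/

set_option autoImplicit false
set_option backward.defeqAttrib.useBackward true
set_option backward.isDefEq.respectTransparency false
set_option backward.isDefEq.respectTransparency.types false

universe u

open CategoryTheory CategoryTheory.Limits AlgebraicGeometry Opposite AlgSp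

namespace Groth.Agent.AlgSpFin

open Groth.Agent.AlgSpLib

variable {S : Scheme.{u}} {ι : Type u}

/-- Small coproducts of sets one universe up are van Kampen. -/
theorem types_coprod_isVanKampen {F : Discrete ι ⥤ Type (u + 1)} (c : Cocone F) (hc : IsColimit c) :
    IsVanKampenColimit c := by
  intro F' c' α f e hα
  have hsurj : ∀ x : c.pt, ∃ (i : ι) (y : F.obj ⟨i⟩), c.ι.app ⟨i⟩ y = x := fun x => by
    obtain ⟨⟨i⟩, y, hy⟩ := Types.jointly_surjective_of_isColimit hc x
    exact ⟨i, y, hy⟩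
  have hsep : ∀ (i j : ι) (x : F.obj ⟨i⟩) (y : F.obj ⟨j⟩), c.ι.app ⟨i⟩ x = c.ι.app ⟨j⟩ y →
      ∃ h : i = j, h ▸ x = y := by
    intro i j x y h
    let d : Cocone F :=
      { pt := Σ k : ι, F.obj ⟨k⟩
        ι := Discrete.natTrans fun k => ↾fun z => ⟨k.as, z⟩ }
    have h' : (⟨i, x⟩ : Σ k : ι, F.obj ⟨k⟩) = ⟨j, y⟩ := by
      have e1 := ConcreteCategory.congr_hom (hc.fac d ⟨i⟩) x
      have e2 := ConcreteCategory.congr_hom (hc.fac d ⟨j⟩) y
      exact e1.symm.trans ((congrArg (fun z => hc.desc d z) h).trans e2)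
    obtain ⟨rfl, h2⟩ := Sigma.mk.inj_iff.1 h'
    exact ⟨rfl, eq_of_heq h2⟩
  have he : ∀ (i : ι) (x : F'.obj ⟨i⟩), f (c'.ι.app ⟨i⟩ x) = c.ι.app ⟨i⟩ (α.app ⟨i⟩ x) := fun i x =>
    (ConcreteCategory.congr_hom (NatTrans.congr_app e ⟨i⟩) x).symm
  constructor
  · rintro ⟨hc'⟩ ⟨i⟩
    rw [Types.isPullback_iff]
    refine ⟨(NatTrans.congr_app e ⟨i⟩).symm, ?_, ?_⟩
    · rintro x y ⟨h1, -⟩
      let d : Cocone F' :=
        { pt := Σ k : ι, F'.obj ⟨k⟩
          ι := Discrete.natTrans fun k => ↾fun z => ⟨k.as, z⟩ }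
      have h' : (⟨i, x⟩ : Σ k : ι, F'.obj ⟨k⟩) = ⟨i, y⟩ :=
        (ConcreteCategory.congr_hom (hc'.fac d ⟨i⟩) x).symm.trans
          ((congrArg (fun z => hc'.desc d z) h1).trans (ConcreteCategory.congr_hom (hc'.fac d ⟨i⟩) y))
      exact eq_of_heq (Sigma.mk.inj_iff.1 h').2
    · intro t x hx
      obtain ⟨⟨j⟩, y, rfl⟩ := Types.jointly_surjective_of_isColimit hc' t
      obtain ⟨rfl, h2⟩ := hsep j i _ x ((he j y).symm.trans hx)
      exact ⟨y, rfl, h2⟩
  · intro H
    have hf := fun i => ((Types.isPullback_iff _ _ _ _).1 (H ⟨i⟩))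
    choose ti tx tt htx using fun t : c'.pt =>
      show ∃ (i : ι) (x : F.obj ⟨i⟩) (z : F'.obj ⟨i⟩), c'.ι.app ⟨i⟩ z = t by
        obtain ⟨i, x, hx⟩ := hsurj (f t)
        obtain ⟨z, hz, -⟩ := (hf i).2.2 t x hx.symm
        exact ⟨i, x, z, hz⟩
    refine ⟨{ desc := fun s => ↾fun t => s.ι.app ⟨ti t⟩ (tt t), fac := fun s j => ?_, uniq := fun s m hm => ?_ }⟩
    · obtain ⟨j⟩ := j
      ext z
      have key : ∀ (i : ι) (z' : F'.obj ⟨i⟩), c'.ι.app ⟨i⟩ z' = c'.ι.app ⟨j⟩ z →
          s.ι.app ⟨i⟩ z' = s.ι.app ⟨j⟩ z := by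
        intro i z' h
        obtain ⟨rfl, h2⟩ := hsep i j _ _ ((he i z').symm.trans ((congrArg f h).trans (he j z)))
        rw [(hf i).2.1 z' z ⟨h, h2⟩]
      exact key _ _ (htx _)
    · ext t
      exact (congrArg m (htx t)).symm.trans (ConcreteCategory.congr_hom (hm ⟨ti t⟩) (tt t))

/-- Coproducts of fppf sheaves over `S` are van Kampen. -/
theorem sp_coprod_isVanKampen {F : Discrete ι ⥤ Sp S} {c : Cocone F} (hc : IsColimit c) : IsVanKampenColimit c := by
  let G := sheafToPresheaf (AlgSp.J S) (Type (u + 1))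
  let c₀ : Cocone (F ⋙ G) := colimit.cocone _
  have h₀ : IsVanKampenColimit c₀ := isVanKampenColimit_of_evaluation _ c₀ fun V =>
    types_coprod_isVanKampen _ (isColimitOfPreserves ((evaluation (Over S)ᵒᵖ (Type (u + 1))).obj V) (colimit.isColimit _))
  have h₁ : IsVanKampenColimit ((presheafToSheaf (AlgSp.J S) (Type (u + 1))).mapCocone c₀) :=
    IsVanKampenColimit.map_reflective (sheafificationAdjunction (AlgSp.J S) (Type (u + 1))) h₀
  let e : F ≅ (F ⋙ G) ⋙ presheafToSheaf (AlgSp.J S) (Type (u + 1)) :=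
    (Functor.isoWhiskerLeft F (asIso (sheafificationAdjunction (AlgSp.J S) (Type (u + 1))).counit) ≪≫
      F.rightUnitor).symm ≪≫ (Functor.associator _ _ _).symm
  have hv : IsVanKampenColimit ((Cocone.precompose e.hom).obj
      ((presheafToSheaf (AlgSp.J S) (Type (u + 1))).mapCocone c₀)) := h₁.precompose_isIso e.hom
  exact hv.of_iso (hv.isColimit.uniqueUpToIso hc)

/-- Over a map to the cone point of a coproduct, the base changes of the summands form a coproduct. -/
theorem exists_isColimit_pullback {F : ι → Sp S} {c : Cofan F} (hc : IsColimit c) {Z : Sp S} (m : Z ⟶ c.pt)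
    {Zi : ι → Sp S} {p : ∀ i, Zi i ⟶ Z} {q : ∀ i, Zi i ⟶ F i} (sq : ∀ i, IsPullback (p i) (q i) m (c.inj i)) :
    Nonempty (IsColimit (Cofan.mk Z p)) :=
  (sp_coprod_isVanKampen hc (Cofan.mk Z p) (Discrete.natTrans fun j => q j.as) m
    (NatTrans.ext (funext fun j => (sq j.as).w.symm)) (NatTrans.Equifibered.of_discrete _)).2 fun j => sq j.as

/-- The disjoint union over `S` of an arbitrary family. -/
noncomputable abbrev sigmaOverF (W : ι → Over S) : Over S :=
  Over.mk (Sigma.desc (f := fun j => (W j).left) fun j => (W j).hom)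

noncomputable abbrev sigmaOverFι (W : ι → Over S) (j : ι) : W j ⟶ sigmaOverF W :=
  Over.homMk (Sigma.ι (fun j => (W j).left) j) (Sigma.ι_desc _ _)

theorem isSheafFor_sigmaOverF (W : ι → Over S) (F : Sp S) :
    Presieve.IsSheafFor F.obj (Presieve.ofArrows W (sigmaOverFι W)) := by
  rw [Presieve.isSheafFor_iff_generate]
  refine (isSheaf_iff_isSheaf_of_type _ _).1 F.property _ ?_
  rw [GrothendieckTopology.mem_over_iff]
  have : Sieve.generate (Presieve.ofArrows (fun j => (W j).left) fun j => Sigma.ι (fun j => (W j).left) j) ∈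
      Scheme.fppfTopology (sigmaOverF W).left := by
    refine Precoverage.generate_mem_toGrothendieck ((Scheme.ofArrows_mem_precoverage_iff _).2 ⟨fun x => ?_, fun j =>
      ⟨inferInstanceAs (Flat (Sigma.ι (fun j => (W j).left) j)),
        inferInstanceAs (LocallyOfFinitePresentation (Sigma.ι (fun j => (W j).left) j))⟩⟩)
    exact (sigmaOpenCover fun j => (W j).left).exists_eq x
  change Sieve.overEquiv _ (Sieve.ofArrows W (sigmaOverFι W)) ∈ _
  rwa [Sieve.overEquiv_ofArrows]

theorem existsUnique_sigmaOverF_desc (W : ι → Over S) {F : Sp S} (t : ∀ j, (yon S).obj (W j) ⟶ F) :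
    ∃! d : (yon S).obj (sigmaOverF W) ⟶ F, ∀ j, (yon S).map (sigmaOverFι W j) ≫ d = t j := by
  obtain ⟨x, hx, hu⟩ := (Presieve.isSheafFor_arrows_iff _ _).1 (isSheafFor_sigmaOverF W F)
    (fun j => (AlgSp.J S).uliftYonedaEquiv.{u + 1} (t j)) fun i j Z gi gj e => by
      by_cases h : i = j
      · subst h
        have : Mono ((Over.forget S).map (sigmaOverFι W i)) :=
          show Mono (Sigma.ι (fun j => (W j).left) i) from inferInstance
        have : Mono (sigmaOverFι W i) := (Over.forget S).mono_of_mono_map this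
        rw [(cancel_mono _).1 e]
      · exact section_ext_of_isEmpty (isEmpty_of_commSq_sigmaι_of_ne ⟨congrArg CommaMorphism.left e⟩ h) _ _
  refine ⟨(AlgSp.J S).uliftYonedaEquiv.{u + 1}.symm x, fun j => ?_, fun d hd => ?_⟩
  · apply (AlgSp.J S).uliftYonedaEquiv.{u + 1}.injective
    rw [← GrothendieckTopology.uliftYonedaEquiv_naturality, Equiv.apply_symm_apply]
    exact hx j
  · apply (AlgSp.J S).uliftYonedaEquiv.{u + 1}.injective
    rw [Equiv.apply_symm_apply]
    refine hu _ fun j => ?_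
    rw [← hd j, ← GrothendieckTopology.uliftYonedaEquiv_naturality]

/-- The scheme disjoint union is the coproduct in sheaves. -/
noncomputable def isColimitSigmaOverF (W : ι → Over S) :
    IsColimit (Cofan.mk ((yon S).obj (sigmaOverF W)) fun j => (yon S).map (sigmaOverFι W j)) :=
  Cofan.IsColimit.mk _ (fun s => (existsUnique_sigmaOverF_desc W s.inj).exists.choose)
    (fun s => (existsUnique_sigmaOverF_desc W s.inj).exists.choose_spec)
    (fun s d hd => (existsUnique_sigmaOverF_desc W s.inj).unique hd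
      (existsUnique_sigmaOverF_desc W s.inj).exists.choose_spec)

theorem isClosed_range_sigmaι (W : ι → Scheme.{u}) (i : ι) : IsClosed (Set.range (Sigma.ι W i)) := by
  rw [← isOpen_compl_iff]
  have e : (Set.range (Sigma.ι W i))ᶜ = ⋃ (j : ι) (_ : j ≠ i), Set.range (Sigma.ι W j) := by
    ext x
    simp only [Set.mem_compl_iff, Set.mem_iUnion, Set.mem_range]
    constructor
    · intro h
      obtain ⟨j, y, hy⟩ := (sigmaOpenCover W).exists_eq x
      exact ⟨j, fun e => h (e ▸ ⟨y, hy⟩), y, hy⟩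
    · rintro ⟨j, hj, y, rfl⟩ ⟨z, hz⟩
      have hd : (Sigma.ι W i).opensRange ⊓ (Sigma.ι W j).opensRange = ⊥ :=
        disjoint_iff.1 (disjoint_opensRange_sigmaι W i j hj.symm)
      have hm : Sigma.ι W j y ∈ (Sigma.ι W i).opensRange ⊓ (Sigma.ι W j).opensRange := ⟨⟨z, hz⟩, y, rfl⟩
      rw [hd] at hm
      exact hm
  rw [e]
  exact isOpen_iUnion fun j => isOpen_iUnion fun _ => (Sigma.ι W j).opensRange.2

theorem ofConst_unique {F : Sp S} (a b : F ⟶ (yon S).obj (Over.mk (𝟙 S))) : a = b :=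
  hom_ext_yon fun W w => by
    obtain ⟨a', ha⟩ := (yon S).map_surjective (w ≫ a)
    obtain ⟨b', hb⟩ := (yon S).map_surjective (w ≫ b)
    rw [← ha, ← hb, Over.mkIdTerminal.hom_ext a' b']

/-- The map of any sheaf to the final scheme. -/
noncomputable def toFinal (F : Sp S) : F ⟶ (yon S).obj (Over.mk (𝟙 S)) :=
  ObjectProperty.homMk
    { app := fun T => ↾fun _ => ⟨Over.mkIdTerminal.from T.unop⟩
      naturality := fun T T' g => by
        ext x
        exact congrArg ULift.up (Over.mkIdTerminal.hom_ext _ _) }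

/-- The coprojections of a coproduct are base changes of the coprojections of copies of `S`. -/
theorem exists_isPullback_inj {F : ι → Sp S} {c : Cofan F} (hc : IsColimit c) :
    ∃ q : c.pt ⟶ (yon S).obj (sigmaOverF fun _ : ι => Over.mk (𝟙 S)), ∀ i,
      IsPullback (c.inj i) (toFinal (F i)) q ((yon S).map (sigmaOverFι (fun _ : ι => Over.mk (𝟙 S)) i)) := by
  let q : c.pt ⟶ _ := Cofan.IsColimit.desc hc fun i =>
    toFinal (F i) ≫ (yon S).map (sigmaOverFι (fun _ : ι => Over.mk (𝟙 S)) i)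
  refine ⟨q, fun i => (sp_coprod_isVanKampen (isColimitSigmaOverF fun _ : ι => Over.mk (𝟙 S)) c
    (Discrete.natTrans fun j => toFinal (F j.as)) q (NatTrans.ext (funext fun j => ?_))
    (NatTrans.Equifibered.of_discrete _)).1 ⟨hc⟩ ⟨i⟩⟩
  exact (Cofan.IsColimit.fac hc (fun i => toFinal (F i) ≫ (yon S).map (sigmaOverFι (fun _ : ι => Over.mk (𝟙 S)) i)) j.as).symm

/-- The coprojections of a coproduct of sheaves are open and closed immersions. -/
theorem repWith_inj {F : ι → Sp S} {c : Cofan F} (hc : IsColimit c) (i : ι) :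
    RepWith (@IsOpenImmersion ⊓ @IsClosedImmersion) (c.inj i) := by
  obtain ⟨q, sq⟩ := exists_isPullback_inj hc
  refine repWith_baseChange (sq i).flip ((repWith_yon_map_iff _ _).2 ?_)
  exact ⟨inferInstanceAs (IsOpenImmersion (Sigma.ι (fun _ : ι => S) i)),
    IsClosedImmersion.of_isPreimmersion (Sigma.ι (fun _ : ι => S) i) (isClosed_range_sigmaι (fun _ : ι => S) i)⟩

/-- Summands of an algebraic space are algebraic spaces. -/
theorem isAlgSpace_summand {F : ι → Sp S} {c : Cofan F} (hc : IsColimit c) (h : IsAlgSpace c.pt) (i : ι) :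
    IsAlgSpace (F i) := by
  obtain ⟨q, sq⟩ := exists_isPullback_inj hc
  exact isAlgSpace_of_isPullback (sq i) h (IsAlgSpace.yon_obj _) (IsAlgSpace.yon_obj _)

end Groth.Agent.AlgSpFin
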