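import Groth.Agent.AlgSpFin.DecentEtale
import Groth.Agent.AlgSpFin.DecentFibre
import Groth.Agent.AlgSpFin.Coprod

/-!
Finite etale groupoids on affine schemes; decent spaces with one point are schemes.
-/

set_option autoImplicit false
set_option backward.isDefEq.respectTransparency.types false

universe u

open CategoryTheory CategoryTheory.Limits AlgebraicGeometry Opposite AlgSp

namespace Groth.Agent.AlgSpFin

open Groth.Agent.AlgSpLib

variable {S : Scheme.{u}}

/-- A space with discrete fibres over a discrete space is discrete. -/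
theorem discreteTopology_of_discrete_fibres {α β : Type*} [TopologicalSpace α] [TopologicalSpace β]
    [DiscreteTopology β] (f : α → β) (hc : ∀ y, IsDiscrete (f ⁻¹' {y})) (hf : Continuous f := by fun_prop) :
    DiscreteTopology α := by
  refine discreteTopology_iff_isOpen_singleton.2 fun x => ?_
  have := (hc (f x)).to_subtype
  obtain ⟨O, hO, hOx⟩ := isOpen_induced_iff.1 (isOpen_discrete ({⟨x, rfl⟩} : Set (f ⁻¹' {f x})))
  convert hO.inter ((isOpen_discrete {f x}).preimage hf) using 1
  ext z
  constructor
  · rintro rfl; exact ⟨hOx.ge (rfl : (⟨z, rfl⟩ : f ⁻¹' {f z}) = ⟨z, rfl⟩), rfl⟩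
  · rintro ⟨h₁, h₂⟩; exact congrArg Subtype.val (hOx.le (show (⟨z, h₂⟩ : f ⁻¹' {f x}) ∈ Subtype.val ⁻¹' O from h₁))

/-- Over a decent space a finite scheme meets a quasi-compact etale chart in finitely many points. -/
theorem finite_pullback_of_isDecent {X : Sp S} (hX : IsAlgSpace X) (hd : IsDecent X) {U V W : Over S}
    {a : (yon S).obj U ⟶ X} {b : (yon S).obj V ⟶ X} {fst : W ⟶ U} {snd : W ⟶ V}
    (sq : IsPullback ((yon S).map fst) ((yon S).map snd) a b) (ha : RepWith @Etale a) [CompactSpace U.left]
    [Finite V.left] : Finite W.left := by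
  rw [← Set.finite_univ_iff, show (Set.univ : Set W.left) = ⋃ v : V.left, snd.left ⁻¹' {v} by ext; simp]
  refine Set.finite_iUnion fun v => ?_
  obtain ⟨p, hp, hm, hq⟩ := hd (Points.mk (FieldPt.ofPt b v))
  obtain ⟨c, hc, -⟩ := existsUnique_factor_of_mono hX p (FieldPt.ofPt b v) hp
  rw [FieldPt.toHom_ofPt] at hc
  obtain ⟨W₁, w₁, w₂, sW⟩ := exists_isPullback ha.1 p.toHom
  have : QuasiCompact w₁.left := prop_snd sW.flip hq
  have : CompactSpace W₁.left := QuasiCompact.compactSpace_of_compactSpace w₁.left
  let k : Over.mk (V.left.fromSpecResidueField v ≫ V.hom) ⟶ V := Over.homMk (V.left.fromSpecResidueField v) rfl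
  let c' : Over.mk (V.left.fromSpecResidueField v ≫ V.hom) ⟶ p.pt := c
  have hc' : (yon S).map c' ≫ p.toHom = (yon S).map k ≫ b := hc
  have sF := IsPullback.of_hasPullback snd k
  have sY : IsPullback ((yon S).map (pullback.fst snd k ≫ fst)) ((yon S).map (pullback.snd snd k)) a
      ((yon S).map k ≫ b) := by
    rw [Functor.map_comp]; exact (yon_isPullback sF).paste_horiz sq
  have : Etale (pullback.snd snd k).left := prop_snd sY ha
  let sk : (pullback snd k).left ⟶ Spec (V.left.residueField v) := (pullback.snd snd k).left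
  obtain ⟨l, hl₁, hl₂⟩ := exists_lift sW ((yon S).map (pullback.fst snd k ≫ fst)) (pullback.snd snd k ≫ c') (by
    rw [(yon S).map_comp (pullback.snd snd k) c, Category.assoc, hc']; exact sY.w)
  have sl : IsPullback l (pullback.snd snd k) w₂ c' := isPullback_of_yon
    (IsPullback.of_right (by rw [hl₁, hc']; exact sY) (by rw [← Functor.map_comp, hl₂, Functor.map_comp]) sW)
  have : QuasiCompact c'.left := quasiCompact_of_field (K := V.left.residueField v) c'.left
  have : QuasiCompact l.left := MorphismProperty.of_isPullback (P := @QuasiCompact) (left_isPullback sl).flip inferInstance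
  have : CompactSpace (pullback snd k).left := QuasiCompact.compactSpace_of_compactSpace l.left
  have : DiscreteTopology (pullback snd k).left := discreteTopology_of_etale_field (K := V.left.residueField v) sk
  have : Finite (pullback snd k).left := finite_of_compact_of_discrete
  refine (Set.finite_range (pullback.fst snd k).left).subset fun w hw => ?_
  obtain ⟨y, hy, -⟩ := Scheme.exists_preimage_of_isPullback (left_isPullback sF) w
    (IsLocalRing.closedPoint (V.left.residueField v))
    (hw.trans (Scheme.fromSpecResidueField_apply _ _).symm)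
  exact ⟨y, hy⟩

/-- A locally artinian scheme with finitely many points is affine. -/
theorem isAffine_of_finite_artinian (W : Scheme.{u}) [IsLocallyArtinian W] [Finite W] : IsAffine W := by
  have : IsArtinianScheme W := { }
  infer_instance

/-- An etale map between finite discrete schemes is finite. -/
theorem isFinite_of_etale_discrete {R U : Scheme.{u}} (s : R ⟶ U) [Etale s] [DiscreteTopology U] [Finite U]
    [DiscreteTopology R] [Finite R] : IsFinite s := by
  let A := Γ(U, ⊤)
  let i : Spec (CommRingCat.of (A ⧸ nilradical A)) ⟶ U :=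
    Spec.map (CommRingCat.ofHom (Ideal.Quotient.mk (nilradical A))) ≫ U.isoSpec.inv
  have : IsClosedImmersion i := by
    have : IsClosedImmersion (Spec.map (CommRingCat.ofHom (Ideal.Quotient.mk (nilradical A)))) :=
      IsClosedImmersion.spec_of_surjective _ Ideal.Quotient.mk_surjective
    infer_instance
  have : Surjective i := by
    have h : Surjective (Spec.map (CommRingCat.ofHom (Ideal.Quotient.mk (nilradical A)))) := ⟨fun m =>
      ⟨⟨m.asIdeal.map (Ideal.Quotient.mk _), Ideal.map_isPrime_of_surjective Ideal.Quotient.mk_surjective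
        (by rw [Ideal.mk_ker]; exact nilradical_le_prime _)⟩, by
      refine PrimeSpectrum.ext ?_
      exact (Ideal.comap_map_of_surjective _ Ideal.Quotient.mk_surjective _).trans (sup_eq_left.2
        (by rw [← RingHom.ker_eq_comap_bot, Ideal.mk_ker]; exact nilradical_le_prime _))⟩⟩
    infer_instance
  have : Finite ↥(Spec (CommRingCat.of (A ⧸ nilradical A))) := Finite.of_injective _ i.isClosedEmbedding.injective
  have : DiscreteTopology ↥(Spec (CommRingCat.of (A ⧸ nilradical A))) :=
    i.isClosedEmbedding.toIsEmbedding.discreteTopology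
  have : _root_.IsReduced (A ⧸ nilradical A) :=
    (Ideal.isRadical_iff_quotient_reduced _).1 (Ideal.radical_isRadical ⊥)
  have : Etale (pullback.snd s i) := MorphismProperty.pullback_snd _ _ ‹_›
  have : LocallyQuasiFinite (pullback.snd s i) := locallyQuasiFinite_of_formallyUnramified _
  have : IsFinite (pullback.snd s i) := IsFinite.of_locallyQuasiFinite _
  have hc : UniversallyClosed (pullback.fst s i ≫ s) := by rw [pullback.condition]; infer_instance
  have : Surjective (pullback.fst s i) := MorphismProperty.pullback_fst _ _ ‹_›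
  have : UniversallyClosed s := UniversallyClosed.of_comp_surjective (pullback.fst s i) s
  have : IsIntegralHom s := (IsIntegralHom.iff_universallyClosed_and_isAffineHom).2 ⟨‹_›, inferInstance⟩
  exact (IsFinite.iff_isIntegralHom_and_locallyOfFiniteType s).2 ⟨‹_›, inferInstance⟩

/-- Decent spaces with a finite discrete chart are affine schemes. -/
theorem exists_iso_affine_of_finite_chart {X : Sp S} (hX : IsAlgSpace X) (hd : IsDecent X) {U : Over S}
    {a : (yon S).obj U ⟶ X} (ha : RepWith @Etale a) (has : RepWith @Surjective a) [DiscreteTopology U.left]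
    [Finite U.left] :
    ∃ (C : Type u) (_ : CommRing C) (str : Spec (CommRingCat.of C) ⟶ S) (q : U ⟶ Over.mk str)
      (e : (yon S).obj (Over.mk str) ≅ X) (i : C →+* Γ(U.left, ⊤)),
      (yon S).map q ≫ e.hom = a ∧ Surjective q.left ∧ IsFinite q.left ∧ Etale q.left ∧ Function.Injective i := by
  obtain ⟨R, s, t, sR⟩ := exists_isPullback ha.1 a
  have : Etale t.left := prop_snd sR ha
  have : Etale s.left := prop_snd sR.flip ha
  have := finite_pullback_of_isDecent hX hd sR ha
  have : IsAffine U.left := inferInstance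
  have : DiscreteTopology R.left := by
    have : LocallyQuasiFinite s.left := locallyQuasiFinite_of_formallyUnramified _
    exact discreteTopology_of_discrete_fibres s.left fun y => s.left.isDiscrete_preimage_singleton y
  have : IsFinite s.left := isFinite_of_etale_discrete s.left
  obtain ⟨C, hC, str, q, φ, i, hφ, hqs, hm, hinj, hqf, hqfl, hqlfp, -⟩ := exists_affine_quotient a s t sR
  have := effectiveEpi_chart ha has
  have : Epi ((yon S).map q ≫ φ) := hφ ▸ inferInstance
  have : Epi φ := epi_of_epi ((yon S).map q) φ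
  have : IsIso φ := isIso_of_mono_of_epi φ
  refine ⟨C, hC, str, q, asIso φ, i, hφ, hqs, hqf, ?_, hinj⟩
  have : (yon S).map q = a ≫ inv φ := by rw [← hφ]; simp
  exact (repWith_yon_map_iff @Etale q).1 (this ▸ repWith_comp ha (repWith_iso (inv φ)))

/-- A sheaf isomorphic to a representable sheaf is representable. -/
theorem isRepresentable_of_iso {F : Sp S} {M : Over S} (e : (yon S).obj M ≅ F) : F.obj.IsRepresentable :=
  ((Functor.RepresentableBy.equivUliftYonedaIso _ M).symm
    ((sheafToPresheaf _ _).mapIso e)).isRepresentable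

/-- A decent space with one point has a finite discrete chart inside any chart. -/
theorem exists_finite_chart_of_point {X : Sp S} (hX : IsAlgSpace X) (hd : IsDecent X) [Nonempty (Points X)]
    [Subsingleton (Points X)] {U₀ : Over S} {a₀ : (yon S).obj U₀ ⟶ X} (ha₀ : RepWith @Etale a₀)
    (ha₀s : RepWith @Surjective a₀) :
    ∃ (O : U₀.left.Opens) (ι₀ : Over.mk (O.ι ≫ U₀.hom) ⟶ U₀), ι₀.left = O.ι ∧
      RepWith @Etale ((yon S).map ι₀ ≫ a₀) ∧ RepWith @Surjective ((yon S).map ι₀ ≫ a₀) ∧
        Finite O.toScheme ∧ DiscreteTopology O.toScheme ∧ Nonempty O.toScheme := by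
  obtain ⟨u₀, -⟩ := surjective_ofPt ha₀s (Classical.arbitrary (Points X))
  obtain ⟨O, hO, huO, -⟩ := exists_isAffineOpen_mem_and_subset (X := U₀.left) (U := ⊤) (x := u₀) trivial
  let ι₀ : Over.mk (O.ι ≫ U₀.hom) ⟶ U₀ := Over.homMk O.ι rfl
  have ha : RepWith @Etale ((yon S).map ι₀ ≫ a₀) :=
    repWith_yon_comp (P := @Etale) ι₀ (inferInstanceAs (Etale O.ι)) ha₀
  have : IsAffine O.toScheme := hO
  have : CompactSpace (Over.mk (O.ι ≫ U₀.hom)).left := inferInstanceAs (CompactSpace O.toScheme)
  have hne : Nonempty O.toScheme := ⟨⟨u₀, huO⟩⟩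
  have hfin := finite_fibre_of_isDecent hX hd ha (Classical.arbitrary (Points X))
  have hF : Finite O.toScheme := Set.finite_univ_iff.1 (hfin.subset fun t _ => Subsingleton.elim _ _)
  have : Finite (Over.mk (O.ι ≫ U₀.hom)).left := hF
  have : T1Space O.toScheme := t1Space_iff_specializes_imp_eq.2 fun x y h =>
    eq_of_specializes_of_finite_fibre hX ha (Subsingleton.elim _ _) h
      (Set.toFinite _)
  refine ⟨O, ι₀, rfl, ha, repWith_surjective_of_ofPt ha.1 fun z => ⟨⟨u₀, huO⟩, Subsingleton.elim _ _⟩, hF,
    inferInstance, hne⟩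

/-- A decent space with one point is a scheme. -/
theorem isRepresentable_of_point {X : Sp S} (hX : IsAlgSpace X) (hd : IsDecent X) [Nonempty (Points X)]
    [Subsingleton (Points X)] : X.obj.IsRepresentable := by
  obtain ⟨U₀, a₀, ha₀, ha₀s⟩ := hX.atlas
  obtain ⟨O, ι₀, -, ha, has, hF, hD, -⟩ := exists_finite_chart_of_point hX hd ha₀ ha₀s
  have : Finite (Over.mk (O.ι ≫ U₀.hom)).left := hF
  have : DiscreteTopology (Over.mk (O.ι ≫ U₀.hom)).left := hD
  obtain ⟨C, hC, str, q, e, -⟩ := exists_iso_affine_of_finite_chart hX hd ha has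
  exact isRepresentable_of_iso e

/-- A decent space with one point with a chart from a reduced scheme is the spectrum of a field. -/
theorem exists_field_of_reduced_chart {X : Sp S} (hX : IsAlgSpace X) (hd : IsDecent X) {U : Over S}
    {a : (yon S).obj U ⟶ X} (ha : RepWith @Etale a) (has : RepWith @Surjective a) [DiscreteTopology U.left]
    [Finite U.left] [AlgebraicGeometry.IsReduced U.left] [Nonempty U.left] [Subsingleton (Points X)] :
    ∃ (K : Type u) (_ : Field K) (str : Spec (CommRingCat.of K) ⟶ S) (e : (yon S).obj (Over.mk str) ≅ X)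
      (q : U ⟶ Over.mk str), (yon S).map q ≫ e.hom = a ∧ IsFinite q.left ∧ Etale q.left := by
  obtain ⟨C, hC, str, q, e, i, hq, hqs, hqf, hqe, hi⟩ := exists_iso_affine_of_finite_chart hX hd ha has
  have hsub : Subsingleton (PrimeSpectrum C) := ⟨fun m m' => by
    have h : Points.ofPt e.hom m = Points.ofPt e.hom m' := Subsingleton.elim _ _
    have h' := congrArg (Points.map e.inv) h
    rw [Points.map_ofPt, Points.map_ofPt, e.hom_inv_id] at h'
    exact (Points.schemeHomeo (Over.mk str)).injective h'⟩
  have : Nonempty (⊤ : U.left.Opens) := ⟨⟨Classical.arbitrary _, trivial⟩⟩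
  have : Nontrivial Γ(U.left, ⊤) := U.left.component_nontrivial ⊤
  have : Nontrivial C := RingHom.domain_nontrivial i
  have : _root_.IsReduced C := isReduced_of_injective i hi
  exact ⟨C, isField_of_unique_prime.toField, str, e, q, hq, hqf, hqe⟩

/-- A reduced decent space with one point is the spectrum of a field. -/
theorem exists_field_of_point {X : Sp S} (hX : IsAlgSpace X) (hd : IsDecent X) [Nonempty (Points X)]
    [Subsingleton (Points X)] (hr : EtaleLocally (fun U => AlgebraicGeometry.IsReduced U) X) :
    ∃ (K : Type u) (_ : Field K) (str : Spec (CommRingCat.of K) ⟶ S), Nonempty ((yon S).obj (Over.mk str) ≅ X) := by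
  obtain ⟨U₀, a₀, ha₀, ha₀s, hred⟩ := hr
  obtain ⟨O, ι₀, -, ha, has, hF, hD, hne⟩ := exists_finite_chart_of_point hX hd ha₀ ha₀s
  have : Finite (Over.mk (O.ι ≫ U₀.hom)).left := hF
  have : DiscreteTopology (Over.mk (O.ι ≫ U₀.hom)).left := hD
  have : Nonempty (Over.mk (O.ι ≫ U₀.hom)).left := hne
  have : AlgebraicGeometry.IsReduced (Over.mk (O.ι ≫ U₀.hom)).left := isReduced_of_isOpenImmersion O.ι
  obtain ⟨K, hK, str, e, -⟩ := exists_field_of_reduced_chart hX hd ha has
  exact ⟨K, hK, str, ⟨e⟩⟩

/-- A decent space covered by the spectrum of a field is the spectrum of a field. -/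
theorem exists_iso_of_field_chart {X : Sp S} (hX : IsAlgSpace X) (hd : IsDecent X) (k : Type u) [Field k]
    (str : Spec (CommRingCat.of k) ⟶ S) (p : (yon S).obj (Over.mk str) ⟶ X) (hp : RepWith @Etale p)
    (hs : RepWith @Surjective p) :
    ∃ (K : Type u) (_ : Field K) (str' : Spec (CommRingCat.of K) ⟶ S) (e : (yon S).obj (Over.mk str') ≅ X)
      (c : Over.mk str ⟶ Over.mk str'), (yon S).map c ≫ e.hom = p ∧ IsFinite c.left ∧ Etale c.left := by
  have hsub : Subsingleton (Over.mk str).left := inferInstanceAs (Subsingleton (PrimeSpectrum k))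
  have : Finite (Over.mk str).left := inferInstance
  have : DiscreteTopology (Over.mk str).left := inferInstance
  have : Nonempty (Over.mk str).left := inferInstanceAs (Nonempty (PrimeSpectrum k))
  have : AlgebraicGeometry.IsReduced (Over.mk str).left :=
    inferInstanceAs (AlgebraicGeometry.IsReduced (Spec (CommRingCat.of k)))
  have : Subsingleton (Points X) := ⟨fun x y => by
    obtain ⟨a, rfl⟩ := surjective_ofPt hs x
    obtain ⟨b, rfl⟩ := surjective_ofPt hs y
    rw [Subsingleton.elim a b]⟩
  exact exists_field_of_reduced_chart hX hd hp hs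

end Groth.Agent.AlgSpFin
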