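import Groth.Agent.AlgSpFin.ClosedPoint
import Groth.Agent.AlgSpFin.DecentPoint
import Groth.Agent.AlgSpFin.DecentTopo
import Groth.Agent.FpqcDescent.Affine

/-!
Field points over closed points of the base.
-/

set_option autoImplicit false
set_option backward.isDefEq.respectTransparency.types false

universe u

open CategoryTheory CategoryTheory.Limits AlgebraicGeometry Opposite AlgSp

namespace Groth.Agent.AlgSpFin

open Groth.Agent.AlgSpLib

variable {S : Scheme.{u}}

/-- The fibre square of a field point over an affine chart inside an affine open of the base. -/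
theorem exists_chart_square {X : Sp S} (hX : IsAlgSpace X) (hd : IsDecent X) (k : Type u) [Field k]
    {str : Spec (CommRingCat.of k) ⟶ S} (p : (yon S).obj (Over.mk str) ⟶ X) {U : Over S} [IsAffine U.left]
    {a : (yon S).obj U ⟶ X} (ha : RepWith @Etale a) (B : S.Opens) (hB : IsAffineOpen B)
    (hUB : Set.range U.hom ⊆ B) :
    IsSeparated U.hom ∧ ∃ (W : Over S) (c : W ⟶ U) (d : W ⟶ Over.mk str),
      IsPullback ((yon S).map c) ((yon S).map d) a p ∧ IsFinite d.left := by
  have : IsAffine B.toScheme := hB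
  let g : U.left ⟶ B.toScheme := IsOpenImmersion.lift B.ι U.hom (by rwa [Scheme.Opens.range_ι])
  refine ⟨?_, ?_⟩
  · rw [← IsOpenImmersion.lift_fac B.ι U.hom (by rwa [Scheme.Opens.range_ι])]
    infer_instance
  obtain ⟨W, c, d, sW⟩ := exists_isPullback ha.1 p
  have : Etale d.left := prop_snd sW ha
  have : Finite (Over.mk str).left := inferInstanceAs (Finite (PrimeSpectrum k))
  have : Finite W.left := finite_pullback_of_isDecent hX hd sW ha
  let dK : W.left ⟶ Spec (CommRingCat.of k) := d.left
  have : DiscreteTopology W.left := discreteTopology_of_etale_field (K := k) dK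
  have : DiscreteTopology (Over.mk str).left := inferInstanceAs (DiscreteTopology (PrimeSpectrum k))
  exact ⟨W, c, d, sW, isFinite_of_etale_discrete d.left⟩

/-- The image of a field point integral over a closed point of the base is closed. -/
theorem isClosed_point_of_universallyClosed {X : Sp S} (hX : IsAlgSpace X) (hd : IsDecent X) (k : Type u) [Field k]
    {str : Spec (CommRingCat.of k) ⟶ S} [UniversallyClosed str] (p : (yon S).obj (Over.mk str) ⟶ X)
    (t : ↥(Spec (CommRingCat.of k))) : IsClosed ({Points.ofPt p t} : Set (Points X)) := by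
  refine isClosed_of_closure_subset fun y hy => ?_
  obtain ⟨U₀, a₀, ha₀, has⟩ := hX.atlas
  obtain ⟨u₀, rfl⟩ := surjective_ofPt has y
  obtain ⟨B, hB, huB, -⟩ := exists_isAffineOpen_mem_and_subset (X := S) (U := ⊤) (x := U₀.hom u₀) trivial
  obtain ⟨A, hA, huA, hAB⟩ := exists_isAffineOpen_mem_and_subset (X := U₀.left) (U := U₀.hom ⁻¹ᵁ B) (x := u₀) huB
  let U : Over S := Over.mk (A.ι ≫ U₀.hom)
  let j : U ⟶ U₀ := Over.homMk A.ι rfl
  have ha : RepWith @Etale ((yon S).map j ≫ a₀) := repWith_yon_comp (P := @Etale) j (inferInstanceAs (Etale A.ι)) ha₀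
  have : IsAffine U.left := hA
  obtain ⟨hsep, W, c, d, sW, hfin⟩ := exists_chart_square hX hd k p ha B hB (by
    rintro _ ⟨z, rfl⟩
    exact hAB z.2)
  have : UniversallyClosed (Over.mk str).hom := ‹UniversallyClosed str›
  have : UniversallyClosed (c.left ≫ U.hom) := by
    rw [Over.w c, ← Over.w d]
    infer_instance
  have : UniversallyClosed c.left := UniversallyClosed.of_comp_of_isSeparated c.left U.hom
  let u' : U.left := ⟨u₀, huA⟩
  have hy' : Points.ofPt p t ⤳ Points.ofPt ((yon S).map j ≫ a₀) u' := by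
    rw [ofPt_comp]
    exact specializes_iff_mem_closure.2 hy
  obtain ⟨v, hv, hv'⟩ := exists_lift_generalization hX hd ha u' hy'
  obtain ⟨w, hw, -⟩ := (ofPt_eq_iff sW v t).1 hv'
  obtain ⟨w', hw'⟩ := (hw ▸ hv : c.left w ⤳ u').mem_closed c.left.isClosedMap.isClosed_range ⟨w, rfl⟩
  have h1 := (ofPt_eq_iff sW u' (d.left w')).2 ⟨w', hw', rfl⟩
  rw [ofPt_comp] at h1
  have : Subsingleton (Spec (CommRingCat.of k)) := inferInstanceAs (Subsingleton (PrimeSpectrum k))
  exact h1.trans (congrArg (Points.ofPt p) (Subsingleton.elim (α := Spec (CommRingCat.of k)) _ _))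

/-- Field points finite over the base are finite. -/
theorem repWith_finite_point {X : Sp S} (hX : IsAlgSpace X) (hd : IsDecent X) (k : Type u) [Field k]
    {str : Spec (CommRingCat.of k) ⟶ S} [IsFinite str] (p : (yon S).obj (Over.mk str) ⟶ X) :
    RepWith @IsFinite p ∧ (IsClosedImmersion str → RepWith @IsClosedImmersion p) := by
  obtain ⟨U₀, a₀, ha₀, ha₀s⟩ := hX.atlas
  let ι := {A : U₀.left.affineOpens // ∃ B : S.Opens, IsAffineOpen B ∧ A.1 ≤ U₀.hom ⁻¹ᵁ B}
  let V : ι → Over S := fun A => Over.mk (A.1.1.ι ≫ U₀.hom)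
  let e : ∀ A, V A ⟶ U₀ := fun A => Over.homMk A.1.1.ι rfl
  have hge : ∀ A, RepWith @Etale ((yon S).map (e A) ≫ a₀) := fun A =>
    repWith_yon_comp (e A) (inferInstanceAs (Etale A.1.1.ι)) ha₀
  have hg : IsFpqcCover (fun A => (yon S).obj (V A)) (fun A => (yon S).map (e A) ≫ a₀) :=
    isFpqcCover_of_isFppfCover S hX (fun A => IsAlgSpace.yon_obj (V A)) ⟨fun A =>
      ⟨locP_of_repWith (hge A) fun _ _ _ k m hk hm => EtLocal.comp_etale k m hk (EtLocal.of_etale (P := @Flat) m hm),
        locP_of_repWith (hge A) fun _ _ _ k m hk hm => EtLocal.comp_etale k m hk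
          (EtLocal.of_etale (P := @LocallyOfFinitePresentation) m hm)⟩, fun y => by
      obtain ⟨t, rfl⟩ := surjective_ofPt ha₀s y
      obtain ⟨B, hB, htB, -⟩ := exists_isAffineOpen_mem_and_subset (X := S) (U := ⊤) (x := U₀.hom t) trivial
      obtain ⟨A, hA, htA, hAB⟩ := exists_isAffineOpen_mem_and_subset (X := U₀.left) (x := t) (U := U₀.hom ⁻¹ᵁ B) htB
      refine ⟨⟨⟨A, hA⟩, B, hB, hAB⟩, Points.ofPt (𝟙 _) (⟨t, htA⟩ : A.toScheme), ?_⟩
      rw [map_ofPt_id, ofPt_comp]
      rfl⟩
  have hrep := hX.representable_from_yon p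
  have key : ∀ A, ∃ (W : Over S) (c : W ⟶ V A) (d : W ⟶ Over.mk str),
      IsPullback ((yon S).map c) ((yon S).map d) ((yon S).map (e A) ≫ a₀) p ∧ IsFinite c.left ∧
        (IsClosedImmersion str → IsClosedImmersion c.left) := by
    intro A
    obtain ⟨B, hB, hAB⟩ := A.2
    have : IsAffine (V A).left := A.1.2
    obtain ⟨hsep, W, c, d, sW, hfin⟩ := exists_chart_square hX hd k p (hge A) B hB (by
      rintro _ ⟨z, rfl⟩
      exact hAB z.2)
    have : IsFinite (Over.mk str).hom := ‹IsFinite str›
    have : IsFinite (c.left ≫ (V A).hom) := by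
      rw [Over.w c, ← Over.w d]
      infer_instance
    have hc : IsFinite c.left := IsFinite.of_comp c.left (V A).hom
    refine ⟨W, c, d, sW, hc, fun hcl => ?_⟩
    let l : W.left ⟶ pullback (V A).hom str := pullback.lift c.left d.left ((Over.w c).trans (Over.w d).symm)
    have hl₁ : l ≫ pullback.fst (V A).hom str = c.left := pullback.lift_fst _ _ _
    have hl₂ : l ≫ pullback.snd (V A).hom str = d.left := pullback.lift_snd _ _ _
    have : Mono l := ⟨fun {T} q₁ q₂ h => by
      have hs : q₁ ≫ c.left = q₂ ≫ c.left := by rw [← hl₁, reassoc_of% h]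
      have ht : q₁ ≫ d.left = q₂ ≫ d.left := by rw [← hl₂, reassoc_of% h]
      have hq : q₂ ≫ W.hom = q₁ ≫ W.hom := by rw [← Over.w c, ← Category.assoc, ← hs, Category.assoc]
      let p' : Over.mk (q₁ ≫ W.hom) ⟶ W := Over.homMk q₁ rfl
      let q' : Over.mk (q₁ ≫ W.hom) ⟶ W := Over.homMk q₂ hq
      have : p' = q' := (yon S).map_injective (sW.hom_ext
        (by rw [← Functor.map_comp, ← Functor.map_comp]; exact congrArg _ (Over.OverMorphism.ext hs))
        (by rw [← Functor.map_comp, ← Functor.map_comp]; exact congrArg _ (Over.OverMorphism.ext ht)))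
      exact congrArg CommaMorphism.left this⟩
    have : IsClosedImmersion str := hcl
    have : IsClosedImmersion (pullback.fst (V A).hom str) := MorphismProperty.pullback_fst _ _ hcl
    have : Mono (pullback.fst (V A).hom str) := inferInstance
    have : Mono c.left := hl₁ ▸ mono_comp l (pullback.fst (V A).hom str)
    exact (IsClosedImmersion.iff_isFinite_and_mono _).2 ⟨hc, this⟩
  have main : ∀ (P : MorphismProperty Scheme.{u}) [IsZariskiLocalAtTarget P] [P.IsStableUnderBaseChange]
      [P.DescendsAlong (@Surjective ⊓ @Flat ⊓ @QuasiCompact)],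
      (∀ A (W : Over S) (c : W ⟶ V A) (d : W ⟶ Over.mk str),
        IsPullback ((yon S).map c) ((yon S).map d) ((yon S).map (e A) ≫ a₀) p → P c.left) → RepWith P p := by
    intro P _ _ _ H
    refine repWith_of_fpqc hg (𝟙 _) hrep fun T ψ hT T' fst snd sd => ?_
    obtain ⟨-, A, l, hl⟩ := hT
    rw [Category.comp_id] at hl
    obtain ⟨r, hr⟩ := (yon S).map_surjective l
    subst hr hl
    obtain ⟨W, c, d, sW, -⟩ := key A
    obtain ⟨m, hm₁, hm₂⟩ := exists_lift sW.flip fst (snd ≫ r) (by
      rw [Functor.map_comp, Category.assoc]; exact sd.w)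
    have sl : IsPullback ((yon S).map m) ((yon S).map snd) ((yon S).map c) ((yon S).map r) :=
      IsPullback.of_right (by rw [hm₁]; exact sd) (by rw [← Functor.map_comp, hm₂, Functor.map_comp]) sW.flip
    exact MorphismProperty.of_isPullback (left_isPullback (isPullback_of_yon sl)) (H A W c d sW)
  have hP : ∀ (P : MorphismProperty Scheme.{u}) [P.RespectsIso], (∀ A, ∃ (W : Over S) (c : W ⟶ V A) (d : W ⟶ Over.mk str),
      IsPullback ((yon S).map c) ((yon S).map d) ((yon S).map (e A) ≫ a₀) p ∧ P c.left) →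
      ∀ A (W : Over S) (c : W ⟶ V A) (d : W ⟶ Over.mk str),
        IsPullback ((yon S).map c) ((yon S).map d) ((yon S).map (e A) ≫ a₀) p → P c.left := by
    intro P _ h A W c d sW
    obtain ⟨W', c', d', sW', hc'⟩ := h A
    let i := (yon S).preimageIso (sW.isoIsPullback _ _ sW')
    have : c = i.hom ≫ c' := (yon S).map_injective (by rw [Functor.map_comp]; simp [i])
    rw [this, Over.comp_left]
    exact (MorphismProperty.cancel_left_of_respectsIso P i.hom.left c'.left).2 hc'
  refine ⟨?_, fun hcl => ?_⟩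
  · have := FpqcDescent.isFinite_descendsAlong.{u}
    exact main @IsFinite (hP @IsFinite fun A => by
      obtain ⟨W, c, d, sW, hc, -⟩ := key A
      exact ⟨W, c, d, sW, hc⟩)
  · have := FpqcDescent.isClosedImmersion_descendsAlong.{u}
    exact main @IsClosedImmersion (hP @IsClosedImmersion fun A => by
      obtain ⟨W, c, d, sW, -, hc⟩ := key A
      exact ⟨W, c, d, sW, hc hcl⟩)

/-- Integral field extensions over a closed point give universally closed maps. -/
theorem universallyClosed_point_str (s : S) (hs : IsClosed ({s} : Set S)) (k : Type u) [Field k]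
    (φ : S.residueField s ⟶ CommRingCat.of k) (hφ : φ.hom.IsIntegral) :
    UniversallyClosed (Spec.map φ ≫ S.fromSpecResidueField s) := by
  have := isClosed_singleton_iff_isClosedImmersion.1 hs
  have : IsIntegralHom (Spec.map φ) := (IsIntegralHom.SpecMap_iff).2 hφ
  infer_instance

/-- Finite field extensions over a closed point give finite maps. -/
theorem isFinite_point_str (s : S) (hs : IsClosed ({s} : Set S)) (k : Type u) [Field k]
    (φ : S.residueField s ⟶ CommRingCat.of k) (hφ : φ.hom.Finite) :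
    IsFinite (Spec.map φ ≫ S.fromSpecResidueField s) ∧
      (Function.Bijective φ.hom → IsClosedImmersion (Spec.map φ ≫ S.fromSpecResidueField s)) := by
  have := isClosed_singleton_iff_isClosedImmersion.1 hs
  have : IsFinite (Spec.map φ) := (IsFinite.SpecMap_iff _).2 hφ
  refine ⟨inferInstance, fun hb => ?_⟩
  have : IsClosedImmersion (Spec.map φ) := IsClosedImmersion.spec_of_surjective φ hb.2
  infer_instance

end Groth.Agent.AlgSpFin
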