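import Groth.Agent.AlgSpFin.DecentPoint
import Groth.Agent.CohFinite.Generic
import Groth.Agent.S14362

/-!
Closed points of decent spaces are closed immersions.
-/

set_option autoImplicit false
set_option backward.isDefEq.respectTransparency.types false

universe u

open CategoryTheory CategoryTheory.Limits AlgebraicGeometry Opposite AlgSp

namespace Groth.Agent.AlgSpFin

open Groth.Agent.AlgSpLib

variable {S : Scheme.{u}}

/-- A monomorphism from a finite discrete reduced scheme with discrete closed image is a closed immersion. -/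
theorem isClosedImmersion_of_mono_finite {W U : Scheme.{u}} (m : W ⟶ U) [Mono m] [QuasiCompact m] [AlgebraicGeometry.IsReduced W]
    [DiscreteTopology W] [Finite W] (hT : IsClosed (Set.range m)) (hd : _root_.IsDiscrete (Set.range m)) :
    IsClosedImmersion m := by
  let I := Scheme.IdealSheafData.vanishingIdeal (⟨Set.range m, hT⟩ : TopologicalSpace.Closeds U)
  have : AlgebraicGeometry.IsReduced I.subscheme := CohFinite.isReduced_vanishingIdeal _
  have hr : Set.range I.subschemeι = Set.range m := CohFinite.range_vanishingIdeal_subschemeι hT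
  have hle : I.subschemeι.ker ≤ m.ker := by
    rw [Scheme.IdealSheafData.ker_subschemeι]
    refine le_trans ?_ (Groth.Agent.S14362.vanishingIdeal_le_ker m)
    exact Scheme.IdealSheafData.vanishingIdeal_antimono (show closure (Set.range m) ⊆ Set.range m from hT.closure_eq.le)
  let l := IsClosedImmersion.lift I.subschemeι m hle
  have hl : l ≫ I.subschemeι = m := IsClosedImmersion.lift_fac _ _ _
  have : Mono l := mono_of_mono_fac hl
  have : QuasiCompact (l ≫ I.subschemeι) := hl.symm ▸ inferInstance
  have : QuasiCompact l := MorphismProperty.of_postcomp (W := @QuasiCompact) (W' := @QuasiSeparated) l I.subschemeι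
    inferInstance this
  have hsub : _root_.IsDiscrete (Set.range I.subschemeι) := hr.symm ▸ hd
  have : DiscreteTopology ↥I.subscheme := by
    have := hsub.to_subtype
    exact (I.subschemeι.isClosedEmbedding.toIsEmbedding.toHomeomorph).symm.discreteTopology
  have : Surjective l := ⟨fun z => by
    obtain ⟨w, hw⟩ := hr.le ⟨z, rfl⟩
    exact ⟨w, I.subschemeι.isClosedEmbedding.injective (by rw [← Scheme.Hom.comp_apply, hl, hw])⟩⟩
  have : Flat l := flat_of_discrete_reduced l
  have : IsIso l := Flat.isIso_of_surjective_of_mono l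
  rw [← hl]
  infer_instance

/-- A closed point of a decent space is a closed immersion. -/
theorem exists_closedImmersion_point {X : Sp S} (hX : IsAlgSpace X) (hd : IsDecent X) (x : Points X)
    (hx : IsClosed ({x} : Set (Points X))) :
    ∃ p : FieldPt X, Points.mk p = x ∧ RepWith @IsClosedImmersion p.toHom := by
  obtain ⟨p, hp, hm, hq⟩ := hd x
  refine ⟨p, hp, ?_⟩
  obtain ⟨U₀, a₀, ha₀, ha₀s⟩ := hX.atlas
  let V : U₀.left.affineOpens → Over S := fun A => Over.mk (A.1.ι ≫ U₀.hom)
  let e : ∀ A, V A ⟶ U₀ := fun A => Over.homMk A.1.ι rfl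
  have hge : ∀ A, RepWith @Etale ((yon S).map (e A) ≫ a₀) := fun A =>
    repWith_yon_comp (e A) (inferInstanceAs (Etale A.1.ι)) ha₀
  have hg : IsFpqcCover (fun A => (yon S).obj (V A)) (fun A => (yon S).map (e A) ≫ a₀) :=
    isFpqcCover_of_isFppfCover S hX (fun A => IsAlgSpace.yon_obj (V A)) ⟨fun A =>
      ⟨locP_of_repWith (hge A) fun _ _ _ k m hk hm => EtLocal.comp_etale k m hk (EtLocal.of_etale (P := @Flat) m hm),
        locP_of_repWith (hge A) fun _ _ _ k m hk hm => EtLocal.comp_etale k m hk
          (EtLocal.of_etale (P := @LocallyOfFinitePresentation) m hm)⟩, fun y => by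
      obtain ⟨t, rfl⟩ := surjective_ofPt ha₀s y
      obtain ⟨A, hA, htA, -⟩ := exists_isAffineOpen_mem_and_subset (X := U₀.left) (x := t) (U := ⊤) trivial
      refine ⟨⟨A, hA⟩, Points.ofPt (𝟙 _) (⟨t, htA⟩ : A.toScheme), ?_⟩
      rw [map_ofPt_id, ofPt_comp]
      rfl⟩
  have := FpqcDescent.isClosedImmersion_descendsAlong.{u}
  refine repWith_of_fpqc hg (𝟙 _) hq.1 fun T ψ hT T' fst snd sd => ?_
  obtain ⟨-, A, l, hl⟩ := hT
  rw [Category.comp_id] at hl
  obtain ⟨r, hr⟩ := (yon S).map_surjective l
  subst hr hl
  obtain ⟨W, w, m, sW⟩ := exists_isPullback hq.1 ((yon S).map (e A) ≫ a₀)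
  obtain ⟨k, hk₁, hk₂⟩ := exists_lift sW fst (snd ≫ r) (by
    rw [Functor.map_comp, Category.assoc]; exact sd.w)
  have sl : IsPullback ((yon S).map k) ((yon S).map snd) ((yon S).map m) ((yon S).map r) :=
    IsPullback.of_right (by rw [hk₁]; exact sd) (by rw [← Functor.map_comp, hk₂, Functor.map_comp]) sW
  refine MorphismProperty.of_isPullback (P := @IsClosedImmersion) (left_isPullback (isPullback_of_yon sl)) ?_
  have : IsAffine (V A).left := A.2
  have : CompactSpace (V A).left := inferInstance
  have : Etale w.left := prop_snd sW.flip (hge A)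
  have : QuasiCompact m.left := prop_snd sW hq
  have : Mono ((yon S).map m) := MorphismProperty.of_isPullback (P := MorphismProperty.monomorphisms (Sp S)) sW hm
  have : Mono m := (yon S).mono_of_mono_map this
  have : Mono m.left := (inferInstance : Mono ((Over.forget S).map m))
  have : CompactSpace W.left := QuasiCompact.compactSpace_of_compactSpace m.left
  let wK : W.left ⟶ Spec (CommRingCat.of p.K) := w.left
  have : DiscreteTopology W.left := discreteTopology_of_etale_field (K := p.K) wK
  have : Finite W.left := finite_of_compact_of_discrete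
  have : AlgebraicGeometry.IsReduced p.pt.left :=
    inferInstanceAs (AlgebraicGeometry.IsReduced (Spec (CommRingCat.of p.K)))
  have : AlgebraicGeometry.IsReduced W.left := isReduced_scheme_of_etale w.left
  let a := (yon S).map (e A) ≫ a₀
  have hrange : Set.range m.left = {t | Points.ofPt a t = x} := by
    ext t
    constructor
    · rintro ⟨z, rfl⟩
      exact (((ofPt_eq_iff sW (w.left z) (m.left z)).2 ⟨z, rfl, rfl⟩).symm.trans
        ((Points.ofPt_toHom p _).trans hp))
    · intro ht
      obtain ⟨z, -, hz⟩ := (ofPt_eq_iff sW (IsLocalRing.closedPoint p.K) t).1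
        ((Points.ofPt_toHom p _).trans (hp.trans (show Points.ofPt a t = x from ht).symm))
      exact ⟨z, hz⟩
  refine isClosedImmersion_of_mono_finite m.left (hrange ▸ hx.preimage (Points.continuous_ofPt a)) ?_
  have hfin : (Set.range m.left).Finite := Set.finite_range _
  have : T1Space (Set.range m.left) := t1Space_iff_specializes_imp_eq.2 fun ⟨t, ht⟩ ⟨t', ht'⟩ h => by
    have h' : t ⤳ t' := h.map continuous_subtype_val
    rw [hrange] at ht ht'
    exact Subtype.ext (eq_of_specializes_of_finite_fibre hX (hge A) (ht.trans ht'.symm) h'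
      ((hrange ▸ hfin).subset fun s hs => (show Points.ofPt a s = _ from hs).trans ht))
  have := hfin.to_subtype
  exact isDiscrete_iff_discreteTopology.2 inferInstance

end Groth.Agent.AlgSpFin
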