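import Groth.Agent.AlgSpFin.AtMor
import Groth.Agent.FibreDim.Local
import Groth.Agent.S5795
import Groth.Prelude.Def_Flat

/-!
The quasi-finite locus of a morphism of algebraic spaces.
-/

set_option autoImplicit false
set_option backward.isDefEq.respectTransparency.types false

universe u

open CategoryTheory CategoryTheory.Limits AlgebraicGeometry Opposite AlgSp TopologicalSpace

namespace Groth.Agent.AlgSpFin

open Groth.Agent.AlgSpLib

variable {S : Scheme.{u}}

/-- Nonempty spaces have nonnegative dimension. -/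
theorem zero_le_dim_of_nonempty {T : Type*} [TopologicalSpace T] [Nonempty T] : 0 ≤ topologicalKrullDim T := by
  obtain ⟨t⟩ := ‹Nonempty T›
  have : Nonempty (IrreducibleCloseds T) :=
    ⟨⟨irreducibleComponent t, isIrreducible_irreducibleComponent, isClosed_irreducibleComponent⟩⟩
  exact Order.krullDim_nonneg

/-- In a locally Noetherian scheme a point is open iff the dimension at it is zero. -/
theorem isOpen_singleton_iff_localDim {T : Scheme.{u}} [IsLocallyNoetherian T] (t : T) :
    IsOpen ({t} : Set T) ↔ FlatMor.localDim T t = 0 := by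
  have hnn : ∀ O : Set T, IsOpen O → t ∈ O → 0 ≤ topologicalKrullDim O := fun O _ ht =>
    have : Nonempty O := ⟨⟨t, ht⟩⟩
    zero_le_dim_of_nonempty
  constructor
  · intro h
    refine le_antisymm ((FibreDim.localDim_le h rfl).trans ?_) (FibreDim.le_localDim hnn)
    have : Subsingleton (IrreducibleCloseds ({t} : Set T)) := ⟨fun A B => by
      refine IrreducibleCloseds.ext ?_
      ext x
      obtain ⟨a, ha⟩ := A.isIrreducible'.1
      obtain ⟨b, hb⟩ := B.isIrreducible'.1
      exact ⟨fun _ => Subsingleton.elim b x ▸ hb, fun _ => Subsingleton.elim a x ▸ ha⟩⟩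
    exact Order.krullDim_nonpos_of_subsingleton
  · intro h
    obtain ⟨O, hO, htO, hd⟩ := FibreDim.exists_localDim t
    obtain ⟨A, hA, htA, hAO⟩ := exists_isAffineOpen_mem_and_subset (X := T) (U := ⟨O, hO⟩) (x := t) htO
    have : IsAffine A.toScheme := hA
    have : IsLocallyNoetherian A.toScheme := isLocallyNoetherian_of_isOpenImmersion A.ι
    have : IsNoetherian A.toScheme := { }
    have : Nonempty (A : Set T) := ⟨⟨t, htA⟩⟩
    have h0 : FlatMor.localDim A.toScheme (⟨t, htA⟩ : A.toScheme) = 0 := by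
      refine le_antisymm ?_ (FibreDim.le_localDim fun O' _ ht' =>
        have : Nonempty O' := ⟨⟨_, ht'⟩⟩
        zero_le_dim_of_nonempty)
      refine (FibreDim.localDim_le isOpen_univ trivial).trans ?_
      refine (FibreDim.dim_homeo (Homeomorph.Set.univ _)).le.trans ?_
      exact (FibreDim.dim_mono hAO).trans (hd.le.trans h.le)
    have h1 := (S5795.result A.toScheme ⟨t, htA⟩).2 h0
    have h2 := A.2.isOpenMap_subtype_val _ h1
    have e : Subtype.val '' ({⟨t, htA⟩} : Set (A : Set T)) = {t} := Set.image_singleton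
    exact e ▸ h2

/-- A point isolated in its fibre has isolated image in any fibre it is a base change of. -/
theorem quasiFiniteAt_of_baseChange {U V U' V' : Scheme.{u}} {g' : U' ⟶ U} {h' : U' ⟶ V'} {h : U ⟶ V} {g : V' ⟶ V}
    (sq : IsPullback g' h' h g) [LocallyOfFiniteType h] [LocallyOfFiniteType h'] (u' : U')
    (hq : h'.QuasiFiniteAt u') : h.QuasiFiniteAt (g' u') := by
  have hpt : ∀ {u : U} {v : V}, h u = v → IsOpen {p : h.fiber v | h.fiberι v p = u} → h.QuasiFiniteAt u := by
    rintro u _ rfl ho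
    refine Scheme.Hom.quasiFiniteAt_iff_isOpen_singleton_asFiber.2 ?_
    convert ho
    ext p
    exact ⟨fun e => (show p = h.asFiber u from e) ▸ h.fiberι_asFiber u,
      fun e => (h.fiberι (h u)).isEmbedding.injective ((show h.fiberι (h u) p = u from e).trans (h.fiberι_asFiber u).symm)⟩
  have sF := isPullback_fiberToSpecResidueField_of_isPullback sq (h' u')
  have : UniversallyOpen (Spec.map (g.residueFieldMap (h' u'))) := inferInstance
  obtain ⟨m, hm, hmo⟩ : ∃ m : h'.fiber (h' u') ⟶ h.fiber (g (h' u')),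
      m ≫ h.fiberι _ = h'.fiberι _ ≫ g' ∧ UniversallyOpen m :=
    ⟨_, pullback.lift_fst _ _ _, MorphismProperty.of_isPullback (P := @UniversallyOpen) sF.flip inferInstance⟩
  refine hpt (v := g (h' u')) (by rw [← Scheme.Hom.comp_apply, sq.w, Scheme.Hom.comp_apply]) ?_
  have himg := m.isOpenMap _ (Scheme.Hom.quasiFiniteAt_iff_isOpen_singleton_asFiber.1 hq)
  rw [Set.image_singleton] at himg
  convert himg
  ext p
  have key : h.fiberι _ (m (h'.asFiber u')) = g' u' := by
    rw [← Scheme.Hom.comp_apply, hm, Scheme.Hom.comp_apply, h'.fiberι_asFiber]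
  exact ⟨fun e => (h.fiberι _).isEmbedding.injective ((show h.fiberι _ p = g' u' from e).trans key.symm),
    fun e => (show p = m (h'.asFiber u') from e) ▸ key⟩

/-- A point of a chart in the quasi-finite locus. -/
theorem hasAtMor_of_quasiFiniteAt {X Y : Sp S} {f : X ⟶ Y} {U V : Over S} {a : (yon S).obj U ⟶ X}
    {b : (yon S).obj V ⟶ Y} {h : U ⟶ V} (ha : RepWith @Etale a) (hb : RepWith @Etale b)
    (w : a ≫ f = (yon S).map h ≫ b) [LocallyOfFiniteType h.left] (u : U.left) (hq : h.left.QuasiFiniteAt u) :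
    HasAtMor (nearBy (@LocallyQuasiFinite ⊓ @LocallyOfFiniteType)) f (Points.ofPt a u) :=
  ⟨U, V, a, b, h, u, ha, hb, w, rfl, h.left.quasiFiniteLocus, hq, inferInstance,
    inferInstanceAs (LocallyOfFiniteType (h.left.quasiFiniteLocus.ι ≫ h.left))⟩

/-- Quasi-finiteness at a point descends along base change. -/
theorem hasAtMor_qf_of_baseChange {X Y Y' X' : Space S} (f : X ⟶ Y) (hf : LocP @LocallyOfFiniteType f.hom)
    {g : Y'.obj ⟶ Y.obj} {fst : X'.obj ⟶ X.obj} (f' : X' ⟶ Y') (sq : IsPullback fst f'.hom f.hom g)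
    (x' : Points X'.obj) (hx : HasAtMor (nearBy (@LocallyQuasiFinite ⊓ @LocallyOfFiniteType)) f'.hom x') :
    HasAtMor (nearBy (@LocallyQuasiFinite ⊓ @LocallyOfFiniteType)) f.hom (Points.map fst x') := by
  obtain ⟨U, V, a, b, h, ha, has, hb, -, w⟩ := exists_chart X.property Y.property f.hom
  have hh : LocallyOfFiniteType h.left := hf a b h ha hb w
  obtain ⟨u, hu⟩ := surjective_ofPt has (Points.map fst x')
  rw [← hu]
  have sP := IsPullback.of_hasPullback b g
  obtain ⟨V₂, e, he, hes⟩ := (isAlgSpace_of_isPullback sP (IsAlgSpace.yon_obj V) Y'.property Y.property).atlas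
  obtain ⟨c, hc⟩ := (yon S).map_surjective (e ≫ pullback.fst b g)
  have sQ := IsPullback.of_hasPullback a fst
  let m : pullback a fst ⟶ pullback b g :=
    sP.lift (pullback.fst a fst ≫ (yon S).map h) (pullback.snd a fst ≫ f'.hom)
      (by rw [Category.assoc, ← w, Category.assoc, ← sq.w, reassoc_of% sQ.w])
  have sm : IsPullback (pullback.fst a fst) m ((yon S).map h) (pullback.fst b g) :=
    IsPullback.of_bot (h₁₁ := pullback.fst a fst) (v₁₁ := m) (v₂₁ := pullback.snd b g)
      (by rw [sP.lift_snd, ← w]; exact sQ.paste_vert sq) (sP.lift_fst _ _ _).symm sP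
  have sU := IsPullback.of_hasPullback h c
  let e₂ : (yon S).obj (pullback h c) ⟶ pullback a fst :=
    sm.lift ((yon S).map (pullback.fst h c)) ((yon S).map (pullback.snd h c) ≫ e)
      (by rw [Category.assoc, ← hc, (yon_isPullback sU).w])
  have se : IsPullback e₂ ((yon S).map (pullback.snd h c)) m e :=
    IsPullback.of_right (by rw [sm.lift_fst, ← hc]; exact yon_isPullback sU) (sm.lift_snd _ _ _) sm
  have he₂ : RepWith @Etale e₂ := repWith_baseChange se.flip he
  have he₂s : RepWith @Surjective e₂ := repWith_baseChange se.flip hes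
  obtain ⟨q, hq₁, hq₂⟩ := exists_point_of_isPullback sQ (Points.ofPt (𝟙 _) u) x'
    (by rw [Points.map_ofPt, Category.id_comp]; exact hu)
  obtain ⟨z, rfl⟩ := surjective_ofPt he₂s q
  have hb₂ : RepWith @Etale (e ≫ pullback.snd b g) := repWith_comp he (repWith_baseChange sP hb)
  have ha₂ : RepWith @Etale (e₂ ≫ pullback.snd a fst) := repWith_comp he₂ (repWith_baseChange sQ ha)
  have w₂ : (e₂ ≫ pullback.snd a fst) ≫ f'.hom = (yon S).map (pullback.snd h c) ≫ e ≫ pullback.snd b g := by
    rw [Category.assoc, ← reassoc_of% se.w]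
    congr 1
    exact (sP.lift_snd _ _ _).symm
  rw [Points.map_ofPt] at hq₁ hq₂
  rw [← hq₂] at hx
  obtain ⟨O, hzO, hOq⟩ := exists_open_of_hasAtMor _ ha₂ hb₂ w₂ z hx
  have : LocallyOfFiniteType (pullback.snd h c).left :=
    MorphismProperty.of_isPullback (P := @LocallyOfFiniteType) (left_isPullback sU) hh
  have hqf : (pullback.snd h c).left.QuasiFiniteAt z := by
    have : LocallyQuasiFinite (O.ι ≫ (pullback.snd h c).left) := hOq.1
    exact (Scheme.Hom.quasiFiniteAt_comp_iff_of_isOpenImmersion (f := O.ι) (x := ⟨z, hzO⟩)).1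
      ((O.ι ≫ (pullback.snd h c).left).quasiFiniteAt _)
  have hzu : (pullback.fst h c).left z = u := (Points.schemeEquiv U).injective (by
    show Points.ofPt (𝟙 _) ((pullback.fst h c).left z) = Points.ofPt (𝟙 _) u
    rw [← ofPt_comp, Category.comp_id, ← hq₁, sm.lift_fst])
  exact hasAtMor_of_quasiFiniteAt ha hb w u (hzu ▸ quasiFiniteAt_of_baseChange (left_isPullback sU) z hqf)

/-- The quasi-finite locus is an open subspace commuting with base change. -/
theorem exists_qf_locus {X Y : Space S} (f : X ⟶ Y) (hf : LocP @LocallyOfFiniteType f.hom) :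
    ∃ (X' : Space S) (j : X' ⟶ X), RepWith @IsOpenImmersion j.hom ∧
      LocP (@LocallyQuasiFinite ⊓ @LocallyOfFiniteType) (j ≫ f).hom ∧
      (∀ x : Points X.obj, x ∉ Set.range (Points.map j.hom) →
        HasAtMor (fun _ _ h u => 1 ≤ FlatMor.fibreDimAt h u) f.hom x) ∧
      ∀ (Y'' X'' : Space S) (g : Y'' ⟶ Y) (b : X'' ⟶ X) (f'' : X'' ⟶ Y''),
        IsPullback b.hom f''.hom f.hom g.hom → ∀ x'' : Points X''.obj,
          Points.map b.hom x'' ∈ Set.range (Points.map j.hom) ↔
            HasAtMor (nearBy (@LocallyQuasiFinite ⊓ @LocallyOfFiniteType)) f''.hom x'' := by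
  let Q := nearBy (@LocallyQuasiFinite ⊓ @LocallyOfFiniteType : MorphismProperty Scheme.{u})
  let W : Set (Points X.obj) := {x | HasAtMor Q f.hom x}
  have hW : IsOpen W := by
    refine isOpen_iff_forall_mem_open.2 fun x hx => ?_
    obtain ⟨X₁, j₁, hj₁, hx₁, hP⟩ := (hasAtMor_iff_exists_open_subspace _ f x).1 hx
    refine ⟨_, fun y hy => (hasAtMor_iff_exists_open_subspace _ f y).2 ⟨X₁, j₁, hj₁, hy, hP⟩, ?_, hx₁⟩
    obtain ⟨U, a, ha, has⟩ := X₁.property.atlas
    have hje : RepWith @Etale j₁.hom := repWith_mono (fun _ _ k hk => by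
      have : IsOpenImmersion k := hk
      infer_instance) hj₁
    have : Set.range (Points.map j₁.hom) = Set.range (Points.ofPt (a ≫ j₁.hom)) :=
      Set.ext fun y => ⟨fun ⟨z, hz⟩ => by
        obtain ⟨v, rfl⟩ := surjective_ofPt has z
        exact ⟨v, by rw [← hz, Points.map_ofPt]⟩,
        fun ⟨v, hv⟩ => ⟨Points.ofPt a v, by rw [← hv, Points.map_ofPt]⟩⟩
    rw [this]
    exact (isOpenMap_ofPt_of_etale (repWith_comp ha hje)).isOpen_range
  obtain ⟨X', j, hj, hr⟩ := exists_open_subspace X W hW
  refine ⟨X', j, hj, ?_, fun x hx => ?_, fun Y'' X'' g b f'' sq x'' => ?_⟩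
  · have : IsZariskiLocalAtSource (@LocallyQuasiFinite ⊓ @LocallyOfFiniteType : MorphismProperty Scheme.{u}) :=
      isZariskiLocalAtSource_of_seven (.inr (.inr (.inr (.inr (.inr (.inl fun _ _ g => Iff.rfl))))))
    refine (locP_iff_forall_hasAtMor _ (j ≫ f)).2 fun x' => ?_
    obtain ⟨U, V, a, c, h, ha, has, hc, -, w⟩ := exists_chart X'.property Y.property (j ≫ f).hom
    obtain ⟨u, rfl⟩ := surjective_ofPt has x'
    have hje : RepWith @Etale j.hom := repWith_mono (fun _ _ k hk => by
      have : IsOpenImmersion k := hk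
      infer_instance) hj
    have hmem : HasAtMor Q f.hom (Points.ofPt (a ≫ j.hom) u) := by
      rw [← Points.map_ofPt]; exact hr.le ⟨_, rfl⟩
    obtain ⟨O, hO, hOP⟩ := exists_open_of_hasAtMor _ (repWith_comp ha hje) hc
      (show (a ≫ j.hom) ≫ f.hom = _ from (Category.assoc _ _ _).trans w) u hmem
    exact ⟨U, V, a, c, h, u, ha, hc, w, rfl, O, hO, hOP⟩
  · obtain ⟨U, V, a, c, h, ha, has, hc, -, w⟩ := exists_chart X.property Y.property f.hom
    have : LocallyOfFiniteType h.left := hf a c h ha hc w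
    obtain ⟨u, rfl⟩ := surjective_ofPt has x
    refine ⟨U, V, a, c, h, u, ha, hc, w, rfl, ?_⟩
    obtain ⟨n, hn, -⟩ := FibreDim.exists_fibreDimAt_eq h.left u
    rcases Nat.eq_zero_or_pos n with rfl | hpos
    · refine absurd (hr.ge ?_) hx
      have : LocallyOfFiniteType (h.left.fiberToSpecResidueField (h.left u)) :=
        MorphismProperty.pullback_snd _ _ ‹_›
      have : IsLocallyNoetherian (h.left.fiber (h.left u)) :=
        LocallyOfFiniteType.isLocallyNoetherian (h.left.fiberToSpecResidueField (h.left u))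
      exact hasAtMor_of_quasiFiniteAt ha hc w u (Scheme.Hom.quasiFiniteAt_iff_isOpen_singleton_asFiber.2
        ((isOpen_singleton_iff_localDim _).2 (by exact_mod_cast hn)))
    · rw [hn]; exact_mod_cast hpos
  · rw [hr]
    exact ⟨fun h => hasAtMor_baseChange _ f f'' sq x'' h, fun h => hasAtMor_qf_of_baseChange f hf f'' sq x'' h⟩

/-- A point isolated in the fibre over a field point has a quasi-finite neighbourhood. -/
theorem exists_open_qf_of_isolated {X Y F : Space S} (f : X ⟶ Y) (hf : LocP @LocallyOfFiniteType f.hom) (k : Type u)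
    [Field k] (str : Spec (.of k) ⟶ S) (y : (yon S).obj (Over.mk str) ⟶ Y.obj) (p : F ⟶ X)
    (q : F.obj ⟶ (yon S).obj (Over.mk str)) (sq : IsPullback p.hom q f.hom y) (z : Points F.obj)
    (hz : HasAt (fun U u => FlatMor.localDim ↥U u = 0) F.obj z) :
    ∃ (X' : Space S) (j : X' ⟶ X), RepWith @IsOpenImmersion j.hom ∧
      Points.map p.hom z ∈ Set.range (Points.map j.hom) ∧
      LocP (@LocallyQuasiFinite ⊓ @LocallyOfFiniteType) (j ≫ f).hom := by
  obtain ⟨U, a, u, ha, rfl, hu⟩ := hz
  let T : Space S := ⟨(yon S).obj (Over.mk str), IsAlgSpace.yon_obj _⟩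
  let π : F ⟶ T := ObjectProperty.homMk q
  obtain ⟨h, hh⟩ := (yon S).map_surjective (a ≫ q)
  have : LocallyOfFiniteType h.left := locP_baseChange X.property Y.property T.property sq hf
    a (𝟙 _) h ha (repWith_id _ _) (by rw [Category.comp_id, hh])
  have : IsLocallyNoetherian (Over.mk str).left := inferInstanceAs (IsLocallyNoetherian (Spec (CommRingCat.of k)))
  have : IsLocallyNoetherian U.left := LocallyOfFiniteType.isLocallyNoetherian h.left
  have hq : h.left.QuasiFiniteAt u := by
    refine Scheme.Hom.quasiFiniteAt_iff_isOpen_singleton_asFiber.2 ?_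
    have ho := ((isOpen_singleton_iff_localDim u).2 hu).preimage (h.left.fiberι (h.left u)).continuous
    convert ho
    ext w
    exact ⟨fun e => (show w = h.left.asFiber u from e) ▸ h.left.fiberι_asFiber u,
      fun e => (h.left.fiberι _).isEmbedding.injective
        ((show h.left.fiberι _ w = u from e).trans (h.left.fiberι_asFiber u).symm)⟩
  exact (hasAtMor_iff_exists_open_subspace _ f _).1 (hasAtMor_qf_of_baseChange f hf π sq _
    (hasAtMor_of_quasiFiniteAt (f := q) ha (repWith_id _ _) (by rw [Category.comp_id, hh]) u hq))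

end Groth.Agent.AlgSpFin
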