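import Groth.Agent.AlgSpFin.RelDim
import Groth.Agent.AlgSpFin.QuasiFiniteLocus
import Groth.Agent.AlgSpFin.DecentTopo
import Groth.Agent.AlgSpPts.NoethSp

/-!
Isolated points of algebraic spaces locally of finite type over a field.
-/

set_option autoImplicit false
set_option backward.isDefEq.respectTransparency.types false

universe u

open CategoryTheory CategoryTheory.Limits AlgebraicGeometry Opposite AlgSp TopologicalSpace

namespace Groth.Agent.AlgSpFin

open Groth.Agent.AlgSpLib

variable {S : Scheme.{u}}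

/-- A discrete space has dimension at most zero. -/
theorem dim_le_zero_of_discrete {T : Type*} [TopologicalSpace T] [DiscreteTopology T] :
    topologicalKrullDim T ≤ 0 := by
  refine Order.krullDim_nonpos_iff_forall_isMax.2 fun A B hAB => ?_
  obtain ⟨a, ha⟩ := A.isIrreducible'.1
  obtain ⟨b, hb⟩ := B.isIrreducible'.1
  intro x hx
  by_contra hxA
  have h := B.isIrreducible'.2 {x} {a} (isOpen_discrete _) (isOpen_discrete _) ⟨x, hx, rfl⟩
    ⟨a, hAB ha, rfl⟩
  obtain ⟨y, -, rfl, rfl⟩ := h
  exact hxA ha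

/-- A closed point without proper generizations of a locally Noetherian scheme is open. -/
theorem isOpen_singleton_of_minimal {T : Scheme.{u}} [IsLocallyNoetherian T] (u : T)
    (hc : IsClosed ({u} : Set T)) (hm : ∀ v : T, v ⤳ u → v = u) : IsOpen ({u} : Set T) := by
  obtain ⟨A, hA, huA, -⟩ := exists_isAffineOpen_mem_and_subset (X := T) (U := ⊤) (x := u) trivial
  have : IsAffine A.toScheme := hA
  have : IsLocallyNoetherian A.toScheme := isLocallyNoetherian_of_isOpenImmersion A.ι
  have : IsNoetherian A.toScheme := { }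
  let u' : A.toScheme := ⟨u, huA⟩
  have hu' : IsClosed ({u'} : Set A.toScheme) := by
    convert hc.preimage A.ι.continuous
    ext x
    exact ⟨fun e => (show x = u' from e) ▸ rfl, fun e => A.ι.isOpenEmbedding.injective e⟩
  have hmin : ∀ Z ∈ irreducibleComponents A.toScheme, u' ∈ Z → Z = {u'} := by
    intro Z hZ huZ
    obtain ⟨η, hη⟩ := QuasiSober.sober hZ.1 (isClosed_of_mem_irreducibleComponents Z hZ)
    have he : η = u' := A.ι.isOpenEmbedding.injective (hm _ ((hη.specializes huZ).map A.ι.continuous))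
    subst he
    exact hη.def.symm.trans hu'.closure_eq
  let C := irreducibleComponents A.toScheme \ {{u'}}
  have hCf : C.Finite := NoetherianSpace.finite_irreducibleComponents.sdiff
  have hCc : IsClosed (⋃₀ C) := by
    rw [Set.sUnion_eq_biUnion]
    exact hCf.isClosed_biUnion fun Z hZ => isClosed_of_mem_irreducibleComponents Z hZ.1
  have heq : (⋃₀ C)ᶜ = {u'} := by
    ext x
    constructor
    · intro hx
      have hZ := irreducibleComponent_mem_irreducibleComponents x
      by_cases h : irreducibleComponent x = {u'}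
      · exact h ▸ mem_irreducibleComponent
      · exact (hx ⟨_, ⟨hZ, h⟩, mem_irreducibleComponent⟩).elim
    · rintro (rfl : x = u') ⟨Z, ⟨hZ, hne⟩, hxZ⟩
      exact hne (hmin Z hZ hxZ)
  have h2 := A.ι.isOpenEmbedding.isOpenMap _ (heq ▸ hCc.isOpen_compl)
  rwa [Set.image_singleton] at h2

/-- A union of isolated points of a locally Noetherian scheme is closed if each of them is closed. -/
theorem isClosed_of_isolated {T : Scheme.{u}} [IsLocallyNoetherian T] {s : Set T}
    (ho : ∀ x ∈ s, IsOpen ({x} : Set T)) (hc : ∀ x ∈ s, IsClosed ({x} : Set T)) : IsClosed s := by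
  refine isClosed_of_closure_subset fun v hv => ?_
  obtain ⟨A, hA, hvA, -⟩ := exists_isAffineOpen_mem_and_subset (X := T) (U := ⊤) (x := v) trivial
  have : IsAffine A.toScheme := hA
  have : IsLocallyNoetherian A.toScheme := isLocallyNoetherian_of_isOpenImmersion A.ι
  have : IsNoetherian A.toScheme := { }
  have hcomp : IsCompact (s ∩ A) := by
    have := (NoetherianSpace.isCompact (A.ι ⁻¹' s)).image A.ι.continuous
    rwa [Set.image_preimage_eq_inter_range, Scheme.Opens.range_ι] at this
  have hf : (s ∩ A).Finite := hcomp.finite (isDiscrete_iff_forall_exists_isOpen.2 fun x hx => ⟨{x}, ho x hx.1, by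
    ext y
    exact ⟨fun h => h.1, fun h => ⟨h, (show y = x from h) ▸ hx⟩⟩⟩)
  have hcl : IsClosed (s ∩ A) := by
    rw [← (s ∩ (A : Set T)).biUnion_of_singleton]
    exact hf.isClosed_biUnion fun x hx => hc x hx.1
  by_contra hvs
  obtain ⟨w, ⟨hwA, hw⟩, hws⟩ := mem_closure_iff.1 hv ((A : Set T) ∩ (s ∩ A)ᶜ)
    (A.2.inter hcl.isOpen_compl) ⟨hvA, fun h => hvs h.1⟩
  exact hw ⟨hws, hwA⟩

variable {T₀ : Over S}

/-- Charts of a space locally of finite type over a Noetherian Jacobson scheme. -/
theorem chart_noetherian_jacobson {X : Sp S} (p : X ⟶ (yon S).obj T₀) (hp : LocP @LocallyOfFiniteType p)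
    [IsLocallyNoetherian T₀.left] [JacobsonSpace T₀.left] {U : Over S} {a : (yon S).obj U ⟶ X}
    (ha : RepWith @Etale a) : IsLocallyNoetherian U.left ∧ JacobsonSpace U.left := by
  obtain ⟨h, hh⟩ := (yon S).map_surjective (a ≫ p)
  have : LocallyOfFiniteType h.left :=
    hp a (𝟙 _) h ha (repWith_id _ _) (by rw [Category.comp_id, hh])
  exact ⟨LocallyOfFiniteType.isLocallyNoetherian h.left, LocallyOfFiniteType.jacobsonSpace h.left⟩

/-- Such a space is locally Noetherian. -/
theorem isLocNoethSp_of_lft {X : Sp S} (hX : IsAlgSpace X) (p : X ⟶ (yon S).obj T₀)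
    (hp : LocP @LocallyOfFiniteType p) [IsLocallyNoetherian T₀.left] [JacobsonSpace T₀.left] : IsLocNoethSp X := by
  obtain ⟨U, a, ha, has⟩ := hX.atlas
  exact ⟨U, a, ha, has, (chart_noetherian_jacobson p hp ha).1⟩

section Isolated

variable {X : Sp S} (hX : IsAlgSpace X) (p : X ⟶ (yon S).obj T₀) (hp : LocP @LocallyOfFiniteType p)
  [IsLocallyNoetherian T₀.left] [JacobsonSpace T₀.left] {U : Over S} {a : (yon S).obj U ⟶ X} (ha : RepWith @Etale a)

include hX hp ha

/-- A point is isolated iff a chart point over it is. -/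
theorem isOpen_point_iff (u : U.left) :
    IsOpen ({Points.ofPt a u} : Set (Points X)) ↔ IsOpen ({u} : Set U.left) := by
  obtain ⟨_, _⟩ := chart_noetherian_jacobson p hp ha
  have hN := isLocNoethSp_of_lft hX p hp
  refine ⟨fun h => ?_, fun h => ?_⟩
  · have hO : IsOpen (Points.ofPt a ⁻¹' {Points.ofPt a u}) := h.preimage (Points.continuous_ofPt a)
    have hs : ∀ v w : U.left, Points.ofPt a v = Points.ofPt a u → Points.ofPt a w = Points.ofPt a u → v ⤳ w → v = w :=
      fun v w hv hw hvw => (AlgSpPts.eq_of_specializes_of_ofPt_eq hX hN ha w v (hw.trans hv.symm) hvw).symm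
    refine isOpen_singleton_of_minimal u (isClosed_singleton_of_isLocallyClosed_singleton ?_)
      fun v hv => hs v u (hv.mem_open hO rfl) rfl hv
    have e : ({u} : Set U.left) = (Points.ofPt a ⁻¹' {Points.ofPt a u}) ∩ closure {u} := by
      ext x
      refine ⟨fun hx => (show x = u from hx) ▸ ⟨rfl, subset_closure rfl⟩, fun hx => ?_⟩
      exact (hs u x rfl hx.1 (specializes_iff_mem_closure.2 hx.2)).symm
    rw [e]
    exact hO.isLocallyClosed.inter isClosed_closure.isLocallyClosed
  · have := isOpenMap_ofPt_of_etale ha _ h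
    rwa [Set.image_singleton] at this

/-- A point closed without proper generizations is isolated. -/
theorem isOpen_point_of_minimal (u : U.left) (hc : IsClosed ({Points.ofPt a u} : Set (Points X)))
    (hm : ∀ x' : Points X, x' ⤳ Points.ofPt a u → x' = Points.ofPt a u) :
    IsOpen ({Points.ofPt a u} : Set (Points X)) := by
  obtain ⟨_, _⟩ := chart_noetherian_jacobson p hp ha
  have hN := isLocNoethSp_of_lft hX p hp
  refine (isOpen_point_iff hX p hp ha u).2 (isOpen_singleton_of_minimal u ?_ fun v hv =>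
    (AlgSpPts.eq_of_specializes_of_ofPt_eq hX hN ha u v (hm _ (hv.map (Points.continuous_ofPt a))).symm hv).symm)
  refine isClosed_of_closure_subset fun x hx => ?_
  have hx' := specializes_iff_mem_closure.2 hx
  have he : Points.ofPt a x = Points.ofPt a u :=
    (hx'.map (Points.continuous_ofPt a)).mem_closed hc rfl
  exact AlgSpPts.eq_of_specializes_of_ofPt_eq hX hN ha x u he hx'

end Isolated

/-- An isolated point is closed. -/
theorem isClosed_point_of_isOpen {X : Sp S} (hX : IsAlgSpace X) (p : X ⟶ (yon S).obj T₀)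
    (hp : LocP @LocallyOfFiniteType p) [IsLocallyNoetherian T₀.left] [JacobsonSpace T₀.left] (x : Points X)
    (h : IsOpen ({x} : Set (Points X))) : IsClosed ({x} : Set (Points X)) := by
  obtain ⟨U, a, ha, has⟩ := hX.atlas
  obtain ⟨_, _⟩ := chart_noetherian_jacobson p hp ha
  have ho : ∀ v ∈ Points.ofPt a ⁻¹' {x}, IsOpen ({v} : Set U.left) := fun v hv =>
    (isOpen_point_iff hX p hp ha v).1 ((show Points.ofPt a v = x from hv) ▸ h)
  have hcl : ∀ v ∈ Points.ofPt a ⁻¹' {x}, IsClosed ({v} : Set U.left) := fun v hv =>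
    isClosed_singleton_of_isLocallyClosed_singleton (ho v hv).isLocallyClosed
  have himg := isOpenMap_ofPt_of_etale ha _ (isClosed_of_isolated ho hcl).isOpen_compl
  rw [← isOpen_compl_iff]
  convert himg
  ext y
  obtain ⟨v, rfl⟩ := surjective_ofPt has y
  exact ⟨fun hy => ⟨v, hy, rfl⟩, fun ⟨w, hw, e⟩ => e ▸ hw⟩

section Field

variable (k : Type u) [Field k] (X : Space (Spec (CommRingCat.of k)))
  (p : X.obj ⟶ (yon (Spec (CommRingCat.of k))).obj (Over.mk (𝟙 _))) (hp : LocP @LocallyOfFiniteType p)

include hp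

theorem isolated_point_iff (x : Points X.obj) :
    (IsOpen ({x} : Set (Points X.obj)) ↔
        (IsClosed ({x} : Set (Points X.obj)) ∧ ∀ x' : Points X.obj, x' ⤳ x → x' = x)) ∧
      (IsOpen ({x} : Set (Points X.obj)) ↔ HasAt (fun U u => FlatMor.localDim ↥U u = 0) X.obj x) ∧
      (IsDecent X.obj → (FlatMor.localDim (Points X.obj) x = 0 ↔ IsOpen ({x} : Set (Points X.obj)))) := by
  let T₀ : Over (Spec (CommRingCat.of k)) := Over.mk (𝟙 _)
  have : IsLocallyNoetherian T₀.left := inferInstanceAs (IsLocallyNoetherian (Spec (CommRingCat.of k)))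
  have : JacobsonSpace T₀.left := inferInstanceAs (JacobsonSpace (Spec (CommRingCat.of k)))
  obtain ⟨U, a, ha, has⟩ := X.property.atlas
  obtain ⟨u, rfl⟩ := surjective_ofPt has x
  obtain ⟨_, _⟩ := chart_noetherian_jacobson (T₀ := T₀) p hp ha
  refine ⟨⟨fun h => ⟨isClosed_point_of_isOpen (T₀ := T₀) X.property p hp _ h, fun x' hx' => hx'.mem_open h rfl⟩,
    fun h => isOpen_point_of_minimal (T₀ := T₀) X.property p hp ha u h.1 h.2⟩, ⟨fun h => ?_, ?_⟩, fun hd => ?_⟩
  · exact ⟨U, a, u, ha, rfl,
      (isOpen_singleton_iff_localDim u).1 ((isOpen_point_iff (T₀ := T₀) X.property p hp ha u).1 h)⟩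
  · rintro ⟨U', a', u', ha', hu', hd⟩
    obtain ⟨_, _⟩ := chart_noetherian_jacobson (T₀ := T₀) p hp ha'
    rw [← hu']
    exact (isOpen_point_iff (T₀ := T₀) X.property p hp ha' u').2 ((isOpen_singleton_iff_localDim u').2 hd)
  · rw [← localDim_eq_of_isDecent X.property hd ha u, ← isOpen_singleton_iff_localDim u,
      isOpen_point_iff (T₀ := T₀) X.property p hp ha u]

theorem dim_zero_iff [Nonempty (Points X.obj)] :
    (DiscreteTopology (Points X.obj) ↔ AlgSp.dim X.obj = 0) ∧
      (DiscreteTopology (Points X.obj) → topologicalKrullDim (Points X.obj) = 0) ∧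
      (IsDecent X.obj → topologicalKrullDim (Points X.obj) = 0 → DiscreteTopology (Points X.obj)) ∧
      (IsDecent X.obj → Finite (Points X.obj) → AlgSp.dim X.obj = 0) := by
  let T₀ : Over (Spec (CommRingCat.of k)) := Over.mk (𝟙 _)
  have : IsLocallyNoetherian T₀.left := inferInstanceAs (IsLocallyNoetherian (Spec (CommRingCat.of k)))
  have : JacobsonSpace T₀.left := inferInstanceAs (JacobsonSpace (Spec (CommRingCat.of k)))
  obtain ⟨U, a, ha, has⟩ := X.property.atlas
  have : Nonempty U.left := ⟨(surjective_ofPt has (Classical.arbitrary (Points X.obj))).choose⟩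
  have h0 : 0 ≤ AlgSp.dim X.obj :=
    zero_le_dim_of_nonempty.trans (le_iSup_of_le U (le_iSup_of_le a (le_iSup_of_le ha le_rfl)))
  have h1 : DiscreteTopology (Points X.obj) ↔ AlgSp.dim X.obj = 0 := by
    refine ⟨fun h => le_antisymm (iSup_le fun V => iSup_le fun b => iSup_le fun hb => ?_) h0,
      fun h => discreteTopology_iff_isOpen_singleton.2 fun x => ?_⟩
    · obtain ⟨_, _⟩ := chart_noetherian_jacobson (T₀ := T₀) p hp hb
      exact (dim_le_iff_forall_localDim 0).2 fun v => le_of_eq ((isOpen_singleton_iff_localDim v).1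
        ((isOpen_point_iff (T₀ := T₀) X.property p hp hb v).1 (isOpen_discrete _)))
    · obtain ⟨u, rfl⟩ := surjective_ofPt has x
      obtain ⟨_, _⟩ := chart_noetherian_jacobson (T₀ := T₀) p hp ha
      refine (isOpen_point_iff (T₀ := T₀) X.property p hp ha u).2 ((isOpen_singleton_iff_localDim u).2
        (le_antisymm ?_ (FibreDim.le_localDim fun O _ hu =>
          have : Nonempty O := ⟨⟨u, hu⟩⟩
          zero_le_dim_of_nonempty)))
      exact (dim_le_iff_forall_localDim 0).1
        (h ▸ le_iSup_of_le U (le_iSup_of_le a (le_iSup_of_le ha le_rfl))) u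
  refine ⟨h1, fun h => le_antisymm dim_le_zero_of_discrete zero_le_dim_of_nonempty,
    fun hd h => h1.2 ((topologicalKrullDim_points X.property hd).symm.trans h), fun hd hf => ?_⟩
  have : JacobsonSpace (Points X.obj) :=
    (jacobson_iff X.property hd).1 ⟨U, a, ha, has, (chart_noetherian_jacobson (T₀ := T₀) p hp ha).2⟩
  exact h1.1 inferInstance

end Field

end Groth.Agent.AlgSpFin
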