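import Groth.Agent.AlgSpFin.DimFormulaSp
import Groth.Agent.AlgSpFin.AtMor
import Groth.Agent.AlgSpFin.FieldSpace
import Groth.Agent.AlgSpFin.DimZero

/-!
Quasi-finiteness over points of codimension at most one.
-/

set_option autoImplicit false
set_option backward.isDefEq.respectTransparency.types false

universe u

open CategoryTheory CategoryTheory.Limits AlgebraicGeometry Opposite AlgSp TopologicalSpace

namespace Groth.Agent.AlgSpFin

open Groth.Agent.AlgSpLib

/-- Quasi-finite points have algebraic residue extensions. -/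
theorem resTrdeg_eq_zero_of_quasiFiniteAt {U V : Scheme.{u}} (h : U ⟶ V) [LocallyOfFiniteType h] {u : U}
    (hu : h.QuasiFiniteAt u) : Dual3.resTrdeg h u = 0 := by
  obtain ⟨n, hn, -, hn'⟩ := exists_fibreDimAt_eq_stalk_add h u
  rw [hu.isClopen_singleton_asFiber.isClosed.closure_eq] at hn'
  have : Subsingleton ↥({h.asFiber u} : Set (h.fiber (h u))) := Set.subsingleton_singleton.coe_sort
  have h0 := hn'.symm.trans_le (dim_le_zero_of_discrete (T := ↥({h.asFiber u} : Set (h.fiber (h u)))))
  have : n ≤ 0 := by exact_mod_cast h0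
  rw [hn, Nat.le_zero.1 this, Nat.cast_zero]

/-- Algebraic residue extensions at the maximal points above a point over codimension at most one imply quasi-finite. -/
theorem quasiFiniteAt_of_codim_le_one_of_trdeg {U V : Scheme.{u}} (h : U ⟶ V) [IsLocallyNoetherian V] [LocallyOfFiniteType h]
    (u : U) (hv : ringKrullDim ↥(V.presheaf.stalk (h u)) ≤ 1)
    (hq : ∀ ξ : U, (∀ a, a ⤳ ξ → a = ξ) → ξ ⤳ u → Dual3.resTrdeg h ξ = 0) : h.QuasiFiniteAt u := by
  have key : ∀ y, y ⤳ u → h y = h u → ∀ n : ℕ, Dual3.resTrdeg h y = n → n = 0 := fun y hy hyu n hn => by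
    by_contra hne
    have hineq := DimInequality.stalk_dimension_inequality h y n 0 hn fun ξ hξ hξy => by
      show Dual3.resTrdeg h ξ ≤ _
      rw [hq ξ (fun a ha => GenericFinite.eq_of_specializes hξ ha) (hξy.trans hy)]
      simp
    rw [hyu, Nat.cast_zero, add_zero] at hineq
    have h1 := hineq.trans hv
    have h0 : ringKrullDim ↥(U.presheaf.stalk y) = 0 := by
      revert h1
      have := ringKrullDim_nonneg_of_nontrivial (R := ↥(U.presheaf.stalk y))
      revert this
      generalize ringKrullDim ↥(U.presheaf.stalk y) = d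
      intro hd h1
      cases d with
      | bot => simp at hd
      | coe e =>
        have h1' : e + (n : ℕ∞) ≤ 1 := by exact_mod_cast h1
        cases e with
        | top => simp at h1'
        | coe e =>
          have : e + n ≤ 1 := by exact_mod_cast h1'
          have : e = 0 := by omega
          subst this
          rfl
    have := hq y ((stalkDim_eq_zero_iff y).1 h0) hy
    rw [hn, Nat.cast_eq_zero] at this
    exact hne this
  have hc : ∀ p : h.fiber (h u), p ⤳ h.asFiber u → IsClosed ({p} : Set (h.fiber (h u))) := fun p hp => by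
    have hpu : h.fiberι (h u) p ⤳ u := by
      have := hp.map (h.fiberι (h u)).continuous
      rwa [h.fiberι_asFiber] at this
    obtain ⟨m, hm, hm'⟩ := FibreTrdeg.exists_trdeg_fibre h (h u) p
    have hm0 : m = 0 := key _ hpu ((Set.ext_iff.1 (h.range_fiberι (h u)) _).1 ⟨p, rfl⟩) m hm
    subst hm0
    refine isClosed_of_closure_subset fun q hq' => ?_
    have hpq := specializes_iff_mem_closure.2 hq'
    have := eq_of_specializes_of_dim_le_zero (X := ↥(closure ({p} : Set (h.fiber (h u)))))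
      (by rw [hm']; simp) (x := ⟨q, hq'⟩) (y := ⟨p, subset_closure rfl⟩) ((subtype_specializes_iff _ _).2 hpq)
    exact (congrArg Subtype.val this).symm
  have : LocallyOfFiniteType (h.fiberToSpecResidueField (h u)) := MorphismProperty.pullback_snd _ _ ‹_›
  have : IsLocallyNoetherian (h.fiber (h u)) :=
    LocallyOfFiniteType.isLocallyNoetherian (h.fiberToSpecResidueField (h u))
  refine Scheme.Hom.quasiFiniteAt_iff_isOpen_singleton_asFiber.2
    (isOpen_singleton_of_minimal _ (hc _ specializes_rfl) fun p hp => ?_)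
  exact (Set.mem_singleton_iff.1 (hp.mem_closed (hc p hp) rfl)).symm

/-- Quasi-finite at the maximal points above a point over codimension at most one implies quasi-finite. -/
theorem quasiFiniteAt_of_codim_le_one {U V : Scheme.{u}} (h : U ⟶ V) [IsLocallyNoetherian V] [LocallyOfFiniteType h]
    (u : U) (hv : ringKrullDim ↥(V.presheaf.stalk (h u)) ≤ 1)
    (hq : ∀ ξ : U, (∀ a, a ⤳ ξ → a = ξ) → ξ ⤳ u → h.QuasiFiniteAt ξ) : h.QuasiFiniteAt u :=
  quasiFiniteAt_of_codim_le_one_of_trdeg h u hv fun ξ h₁ h₂ => resTrdeg_eq_zero_of_quasiFiniteAt h (hq ξ h₁ h₂)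

variable {S : Scheme.{u}} {X Y : Space S} (f : X ⟶ Y) (hf : LocP @LocallyOfFiniteType f.hom)
  (hY : IsLocNoethSp Y.obj)

include hf hY

/-- Quasi-finite at codimension zero points implies quasi-finite over codimension at most one. -/
theorem hasAtMor_qf_over_codim_le_one (y : Points Y.obj)
    (hy : HasAt (fun U u => ringKrullDim ↥(U.presheaf.stalk u) ≤ 1) Y.obj y)
    (h : ∀ x : Points X.obj, HasAt (fun U u => ringKrullDim ↥(U.presheaf.stalk u) = 0) X.obj x →
      HasAtMor (nearBy (@LocallyQuasiFinite ⊓ @LocallyOfFiniteType)) f.hom x)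
    (x : Points X.obj) (hx : Points.map f.hom x = y) :
    HasAtMor (nearBy (@LocallyQuasiFinite ⊓ @LocallyOfFiniteType)) f.hom x := by
  obtain ⟨U, V, a, b, g, ha, has, hb, -, w⟩ := exists_chart X.property Y.property f.hom
  obtain ⟨u, rfl⟩ := surjective_ofPt has x
  have : LocallyOfFiniteType g.left := hf a b g ha hb w
  have : IsLocallyNoetherian V.left := AlgSpPts.isLocallyNoetherian_of_chart hY hb
  have hv : ringKrullDim ↥(V.left.presheaf.stalk (g.left u)) ≤ 1 := by
    refine (hasAt_iff_of_etale_invariant (fun T t => ringKrullDim ↥(T.presheaf.stalk t))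
      (fun e _ z => stalkDim_of_etale e z) (· ≤ 1) hb (g.left u)).1 ?_
    rwa [← ofPt_comp g b u, ← w, ← Points.map_ofPt, hx]
  have hq := quasiFiniteAt_of_codim_le_one g.left u hv fun ξ hξ _ => by
    obtain ⟨O, hO, hOq⟩ := exists_open_of_hasAtMor _ ha hb w ξ
      (h _ ⟨U, a, ξ, ha, rfl, (stalkDim_eq_zero_iff ξ).2 hξ⟩)
    have : LocallyQuasiFinite (O.ι ≫ g.left) := hOq.1
    exact (Scheme.Hom.quasiFiniteAt_comp_iff_of_isOpenImmersion (f := O.ι) (x := ⟨ξ, hO⟩)).1
      ((O.ι ≫ g.left).quasiFiniteAt _)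
  refine ⟨U, V, a, b, g, u, ha, hb, w, rfl, g.left.quasiFiniteLocus, Scheme.Hom.mem_quasiFiniteLocus.2 hq, ?_,
    inferInstance⟩
  rw [← Scheme.Hom.quasiFiniteLocus_eq_top_iff]
  ext z
  have : g.left.QuasiFiniteAt (g.left.quasiFiniteLocus.ι z) := Scheme.Hom.mem_quasiFiniteLocus.1 z.2
  rw [← Scheme.Hom.quasiFiniteAt_comp_iff_of_isOpenImmersion] at this
  simpa

/-- Algebraic residue extensions at codimension zero points imply quasi-finite over codimension at most one. -/
theorem hasAtMor_qf_over_codim_le_one_of_trdeg (y : Points Y.obj)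
    (hy : HasAt (fun U u => ringKrullDim ↥(U.presheaf.stalk u) ≤ 1) Y.obj y)
    (h : ∀ x : Points X.obj, HasAt (fun U u => ringKrullDim ↥(U.presheaf.stalk u) = 0) X.obj x →
      Points.map f.hom x ⤳ y → HasAtMor (fun _ _ h u => Dual3.resTrdeg h u = 0) f.hom x)
    (x : Points X.obj) (hx : Points.map f.hom x = y) :
    HasAtMor (nearBy (@LocallyQuasiFinite ⊓ @LocallyOfFiniteType)) f.hom x := by
  obtain ⟨U, V, a, b, g, ha, has, hb, -, w⟩ := exists_chart X.property Y.property f.hom
  obtain ⟨u, rfl⟩ := surjective_ofPt has x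
  have : LocallyOfFiniteType g.left := hf a b g ha hb w
  have : IsLocallyNoetherian V.left := AlgSpPts.isLocallyNoetherian_of_chart hY hb
  have hv : ringKrullDim ↥(V.left.presheaf.stalk (g.left u)) ≤ 1 := by
    refine (hasAt_iff_of_etale_invariant (fun T t => ringKrullDim ↥(T.presheaf.stalk t))
      (fun e _ z => stalkDim_of_etale e z) (· ≤ 1) hb (g.left u)).1 ?_
    rwa [← ofPt_comp g b u, ← w, ← Points.map_ofPt, hx]
  have hq := quasiFiniteAt_of_codim_le_one_of_trdeg g.left u hv fun ξ hξ hξu =>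
    (hasAtMor_resTrdeg_iff (· = 0) ha hb w ξ).1 (h _ ⟨U, a, ξ, ha, rfl, (stalkDim_eq_zero_iff ξ).2 hξ⟩
      (hx ▸ (hξu.map (Points.continuous_ofPt a)).map (Points.continuous_map f.hom)))
  refine ⟨U, V, a, b, g, u, ha, hb, w, rfl, g.left.quasiFiniteLocus, Scheme.Hom.mem_quasiFiniteLocus.2 hq, ?_,
    inferInstance⟩
  rw [← Scheme.Hom.quasiFiniteLocus_eq_top_iff]
  ext z
  have : g.left.QuasiFiniteAt (g.left.quasiFiniteLocus.ι z) := Scheme.Hom.mem_quasiFiniteLocus.1 z.2
  rw [← Scheme.Hom.quasiFiniteAt_comp_iff_of_isOpenImmersion] at this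
  simpa

omit hY in
/-- A dense set of quasi-finite points contains the codimension zero points. -/
theorem hasAtMor_qf_codimZero_of_dense (hY' : IsLocNoethSp Y.obj)
    (h : Dense {x | HasAtMor (nearBy (@LocallyQuasiFinite ⊓ @LocallyOfFiniteType)) f.hom x})
    (x : Points X.obj) (hx : HasAt (fun U u => ringKrullDim ↥(U.presheaf.stalk u) = 0) X.obj x) :
    HasAtMor (nearBy (@LocallyQuasiFinite ⊓ @LocallyOfFiniteType)) f.hom x := by
  obtain ⟨U, V, a, b, g, ha, has, hb, -, w⟩ := exists_chart X.property Y.property f.hom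
  obtain ⟨u, rfl⟩ := surjective_ofPt has x
  have : LocallyOfFiniteType g.left := hf a b g ha hb w
  have : IsLocallyNoetherian V.left := AlgSpPts.isLocallyNoetherian_of_chart hY' hb
  have : IsLocallyNoetherian U.left := LocallyOfFiniteType.isLocallyNoetherian g.left
  have hmin := (hasAt_dim_zero_iff ha u).1 hx
  obtain ⟨A, hA, huA, -⟩ := exists_isAffineOpen_mem_and_subset (X := U.left) (x := u) (U := ⊤) trivial
  have : IsNoetherianRing Γ(U.left, A) := IsLocallyNoetherian.component_noetherian ⟨A, hA⟩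
  have := noetherianSpace_of_isAffineOpen A hA
  let B : Set A := ⋃ C ∈ {C ∈ irreducibleComponents A | (⟨u, huA⟩ : A) ∉ C}, C
  have hB : IsClosed B := ((NoetherianSpace.finite_irreducibleComponents (α := A)).subset fun C h => h.1).isClosed_biUnion
    fun C hC => isClosed_of_mem_irreducibleComponents C hC.1
  obtain ⟨z, ⟨⟨z, hzA⟩, hzB, rfl⟩, hz⟩ := (h.preimage (isOpenMap_ofPt_of_etale ha)).inter_open_nonempty
    (Subtype.val '' Bᶜ) (A.2.isOpenMap_subtype_val _ hB.isOpen_compl) ⟨u, ⟨u, huA⟩, fun hu => by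
      obtain ⟨C, hC, huC⟩ := Set.mem_iUnion₂.1 hu
      exact hC.2 huC, rfl⟩
  obtain ⟨C, hC, hzC⟩ := exists_mem_irreducibleComponents_subset_of_isIrreducible
    ({(⟨z, hzA⟩ : A)} : Set A) isIrreducible_singleton
  have hzC' : (⟨z, hzA⟩ : A) ∈ C := hzC rfl
  have huC : (⟨u, huA⟩ : A) ∈ C := by
    by_contra hn
    exact hzB (Set.mem_iUnion₂.2 ⟨C, ⟨hC, hn⟩, hzC'⟩)
  obtain ⟨η, hη⟩ := QuasiSober.sober hC.1 (isClosed_of_mem_irreducibleComponents C hC)
  have hηu : η = ⟨u, huA⟩ := Subtype.ext (hmin η.1 ((hη.specializes huC).map continuous_subtype_val))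
  obtain ⟨O, hzO, hO⟩ := exists_open_of_hasAtMor _ ha hb w z hz
  exact ⟨U, V, a, b, g, u, ha, hb, w, rfl, O,
    ((subtype_specializes_iff _ _).1 (hηu ▸ hη.specializes hzC')).mem_open O.2 hzO, hO⟩

end Groth.Agent.AlgSpFin
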