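import Groth.Agent.AlgSpPts.MaxPts
import Groth.Agent.AlgSpPts.Codim0
import Groth.Agent.AlgSpPts.Qc

/-!
Spaces whose etale schemes have locally finitely many irreducible components.
-/

set_option autoImplicit false
set_option backward.isDefEq.respectTransparency.types false

universe u

open CategoryTheory CategoryTheory.Limits AlgebraicGeometry Opposite AlgSp TopologicalSpace

namespace Groth.Agent.AlgSpFin

open Groth.Agent.AlgSpLib Groth.Agent.AlgSpPts

variable {S : Scheme.{u}}

/-- Components of a space with finitely many closures covering it are finite in number. -/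
theorem finite_irreducibleComponents_of_dense_finite {α : Type*} [TopologicalSpace α] {s : Set α} (hs : s.Finite)
    (hd : Dense s) : (irreducibleComponents α).Finite := by
  refine (hs.image fun y => closure ({y} : Set α)).subset fun Z hZ => ?_
  obtain ⟨W, hW, hZW⟩ := isIrreducible_iff_sUnion_isClosed.1 hZ.1 (hs.image fun y => closure ({y} : Set α)).toFinset
    (fun W hW => by
      obtain ⟨y, -, rfl⟩ := (Set.Finite.mem_toFinset _).1 hW
      exact isClosed_closure)
    (by
      rw [Set.Finite.coe_toFinset, Set.sUnion_image, ← hs.closure_biUnion, Set.biUnion_of_singleton, hd.closure_eq]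
      exact Set.subset_univ _)
  obtain ⟨y, hy, rfl⟩ := (Set.Finite.mem_toFinset _).1 hW
  exact ⟨y, hy, ((hZ.2 isIrreducible_singleton.closure hZW).antisymm hZW)⟩

/-- Components of an open subscheme are counted by its codimension zero points. -/
theorem finite_components_open_iff {U : Scheme.{u}} (W : U.Opens) :
    (irreducibleComponents ↥W).Finite ↔ {u : U | u ∈ W ∧ ringKrullDim ↥(U.presheaf.stalk u) = 0}.Finite := by
  show (irreducibleComponents ↥W.toScheme).Finite ↔ _
  rw [← MaxPts.finite_maxPts_iff ↥W.toScheme]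
  have e : {u : U | u ∈ W ∧ ringKrullDim ↥(U.presheaf.stalk u) = 0} =
      W.ι '' MaxPts.maxPts ↥W.toScheme := by
    ext u
    constructor
    · rintro ⟨hu, h⟩
      rw [dim0_iff] at h
      exact ⟨⟨u, hu⟩, fun y hy => W.ι.isOpenEmbedding.injective (h _ (hy.map W.ι.continuous)), rfl⟩
    · rintro ⟨w, hw, rfl⟩
      refine ⟨w.2, (dim0_iff _).2 fun y hy => ?_⟩
      have hyW : y ∈ W := hy.mem_open W.isOpen w.2
      have h' : (⟨y, hyW⟩ : W.toScheme) ⤳ w := W.ι.isOpenEmbedding.isInducing.specializes_iff.1 hy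
      exact congrArg Subtype.val (hw _ h')
  rw [e]
  exact (Set.finite_image_iff W.ι.isOpenEmbedding.injective.injOn).symm

/-- Local finiteness of components descends along etale surjections. -/
theorem finite_components_of_etale_surjective {U V : Scheme.{u}} (q : U ⟶ V) [Etale q] [Surjective q]
    (h : ∀ W : U.Opens, IsCompact (W : Set ↥U) → (irreducibleComponents ↥W).Finite) (W : V.Opens)
    (hW : IsCompact (W : Set ↥V)) : (irreducibleComponents ↥W).Finite := by
  have cover : ∀ v : ↥W, ∃ A : U.Opens, IsCompact (A : Set ↥U) ∧ v.1 ∈ q '' A := fun v => by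
    obtain ⟨u, hu⟩ := q.surjective v.1
    obtain ⟨A, hA, huA, -⟩ := exists_isAffineOpen_mem_and_subset (X := U) (x := u) (U := ⊤) trivial
    exact ⟨A, hA.isCompact, u, huA, hu⟩
  choose A hA hvA using cover
  obtain ⟨T, hT⟩ := hW.elim_finite_subcover (fun v => q '' (A v : Set ↥U))
    (fun v => q.isOpenMap _ (A v).isOpen) fun v hv => Set.mem_iUnion.2 ⟨⟨v, hv⟩, hvA ⟨v, hv⟩⟩
  refine (finite_components_open_iff W).2 ((T.finite_toSet.biUnion fun v _ =>
    ((finite_components_open_iff (A v)).1 (h _ (hA v))).image q).subset fun v hv => ?_)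
  obtain ⟨w, hwT, u, hu, rfl⟩ := Set.mem_iUnion₂.1 (hT hv.1)
  exact Set.mem_iUnion₂.2 ⟨w, hwT, u, ⟨hu, (dim0_iff_etale q u).2 hv.2⟩, rfl⟩

/-- Local finiteness of components in terms of charts and of etale quasi-compact spaces. -/
theorem etaleLocally_components_iff (X : Space S) :
    (EtaleLocally (fun U => ∀ W : U.Opens, IsCompact (W : Set ↥U) → (irreducibleComponents ↥W).Finite) X.obj ↔
      ∀ (U : Over S) (a : (yon S).obj U ⟶ X.obj), RepWith @Etale a →
        ∀ W : U.left.Opens, IsCompact (W : Set ↥U.left) → (irreducibleComponents ↥W).Finite) ∧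
    (EtaleLocally (fun U => ∀ W : U.Opens, IsCompact (W : Set ↥U) → (irreducibleComponents ↥W).Finite) X.obj ↔
      ∀ (Y : Space S) (g : Y ⟶ X), IsEtaleMor g.hom → IsQuasiCompactSp Y.obj →
        {y : Points Y.obj | HasAt (fun U u => ringKrullDim ↥(U.presheaf.stalk u) = 0) Y.obj y}.Finite) ∧
    (EtaleLocally (fun U => ∀ W : U.Opens, IsCompact (W : Set ↥U) → (irreducibleComponents ↥W).Finite) X.obj ↔
      ∀ (Y : Space S) (g : Y ⟶ X), IsEtaleMor g.hom → IsQuasiCompactSp Y.obj →
        (irreducibleComponents (Points Y.obj)).Finite) := by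
  have AB : EtaleLocally (fun U => ∀ W : U.Opens, IsCompact (W : Set ↥U) → (irreducibleComponents ↥W).Finite) X.obj →
      ∀ (U : Over S) (a : (yon S).obj U ⟶ X.obj), RepWith @Etale a →
        ∀ W : U.left.Opens, IsCompact (W : Set ↥U.left) → (irreducibleComponents ↥W).Finite := by
    rintro ⟨U₀, b, hb, hbs, h₀⟩ U a ha
    obtain ⟨W', p, q, sq⟩ := exists_isPullback hb.1 a
    have : Etale q.left := prop_snd sq hb
    have : Surjective q.left := prop_snd sq hbs
    have : Etale p.left := prop_snd sq.flip ha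
    exact finite_components_of_etale_surjective q.left (MaxPts.finite_irreducibleComponents_of_flat p.left h₀)
  have BC : (∀ (U : Over S) (a : (yon S).obj U ⟶ X.obj), RepWith @Etale a →
        ∀ W : U.left.Opens, IsCompact (W : Set ↥U.left) → (irreducibleComponents ↥W).Finite) →
      ∀ (Y : Space S) (g : Y ⟶ X), IsEtaleMor g.hom → IsQuasiCompactSp Y.obj →
        {y : Points Y.obj | HasAt (fun U u => ringKrullDim ↥(U.presheaf.stalk u) = 0) Y.obj y}.Finite := by
    intro h Y g hg hY
    obtain ⟨U, a, ha, has, hU⟩ := hY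
    have hU' : IsCompact ((⊤ : U.left.Opens) : Set ↥U.left) := isCompact_univ_iff.2 hU
    have hfin := (finite_components_open_iff ⊤).1 (h U (a ≫ g.hom) (hg a ha) ⊤ hU')
    refine (hfin.image (Points.ofPt a)).subset fun y ⟨U', a', u', ha', hu', hd⟩ => ?_
    obtain ⟨u, rfl⟩ := surjective_ofPt has y
    obtain ⟨W', p, q, sq⟩ := exists_isPullback ha.1 a'
    have : Etale q.left := prop_snd sq ha
    have : Etale p.left := prop_snd sq.flip ha'
    obtain ⟨w, hw₁, hw₂⟩ := (ofPt_eq_iff sq u u').1 hu'.symm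
    refine ⟨u, ⟨trivial, ?_⟩, rfl⟩
    rw [← hw₁]
    exact (dim0_iff_etale p.left w).1 ((dim0_iff_etale q.left w).2 (hw₂.symm ▸ hd))
  have CD : (∀ (Y : Space S) (g : Y ⟶ X), IsEtaleMor g.hom → IsQuasiCompactSp Y.obj →
        {y : Points Y.obj | HasAt (fun U u => ringKrullDim ↥(U.presheaf.stalk u) = 0) Y.obj y}.Finite) →
      ∀ (Y : Space S) (g : Y ⟶ X), IsEtaleMor g.hom → IsQuasiCompactSp Y.obj →
        (irreducibleComponents (Points Y.obj)).Finite :=
    fun h Y g hg hY => finite_irreducibleComponents_of_dense_finite (h Y g hg hY) (dense_dim0 Y.property)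
  have DA : (∀ (Y : Space S) (g : Y ⟶ X), IsEtaleMor g.hom → IsQuasiCompactSp Y.obj →
        (irreducibleComponents (Points Y.obj)).Finite) →
      EtaleLocally (fun U => ∀ W : U.Opens, IsCompact (W : Set ↥U) → (irreducibleComponents ↥W).Finite) X.obj := by
    intro h
    obtain ⟨U₀, b, hb, hbs⟩ := X.property.atlas
    refine ⟨U₀, b, hb, hbs, fun W hW => ?_⟩
    let V : Over S := Over.mk (W.ι ≫ U₀.hom)
    let e : V ⟶ U₀ := Over.homMk W.ι rfl
    have he : RepWith @Etale ((yon S).map e ≫ b) := repWith_yon_comp e (inferInstanceAs (Etale W.ι)) hb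
    have : CompactSpace V.left := isCompact_iff_compactSpace.1 hW
    let Y : Space S := ⟨(yon S).obj V, IsAlgSpace.yon_obj V⟩
    let g : Y ⟶ X := ObjectProperty.homMk ((yon S).map e ≫ b)
    have hfin := h Y g (fun {U'} φ hφ => repWith_comp hφ he) (isQuasiCompactSp_yon V ‹_›)
    have : (irreducibleComponents ↥V.left).Finite := by
      refine (hfin.image fun Z => Points.schemeHomeo V ⁻¹' Z).subset fun Z hZ => ?_
      refine ⟨(Points.schemeHomeo V).symm ⁻¹' Z, ?_, ?_⟩
      · exact preimage_mem_irreducibleComponents hZ (Points.schemeHomeo V).symm.isOpenEmbedding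
          (by rw [(Points.schemeHomeo V).symm.surjective.range_eq, Set.inter_univ]; exact hZ.1.1)
      · ext z
        simp
    exact this
  exact ⟨⟨AB, fun h => DA (CD (BC h))⟩, ⟨fun h => BC (AB h), fun h => DA (CD h)⟩,
    ⟨fun h => CD (BC (AB h)), DA⟩⟩

end Groth.Agent.AlgSpFin
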