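import Groth.Agent.AlgSpFin.QsDecent

/-!
Fibre products of affine schemes over a quasi-separated space.
-/

set_option autoImplicit false
set_option backward.isDefEq.respectTransparency.types false

universe u

open CategoryTheory CategoryTheory.Limits AlgebraicGeometry Opposite AlgSp

namespace Groth.Agent.AlgSpFin

open Groth.Agent.AlgSpLib

variable {S : Scheme.{u}}

/-- Over a space quasi-separated over an affine scheme, affine schemes meet in quasi-compact schemes. -/
theorem compactSpace_pullback_of_qs {X : Sp S} {T : Over S} [IsAffine T.left] (f : X ⟶ (yon S).obj T)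
    (hf : IsQuasiSeparatedMor f) {U V W : Over S} {a : (yon S).obj U ⟶ X} {b : (yon S).obj V ⟶ X} {fst : W ⟶ U}
    {snd : W ⟶ V} (sq : IsPullback ((yon S).map fst) ((yon S).map snd) a b) [IsAffine U.left] [CompactSpace V.left] :
    CompactSpace W.left := by
  obtain ⟨fa, hfa⟩ := (yon S).map_surjective (a ≫ f)
  obtain ⟨fb, hfb⟩ := (yon S).map_surjective (b ≫ f)
  have sT := IsPullback.of_hasPullback fa fb
  have : QuasiCompact fa.left := inferInstance
  have : QuasiCompact (pullback.snd fa fb).left :=
    MorphismProperty.of_isPullback (P := @QuasiCompact) (left_isPullback sT) inferInstance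
  have : CompactSpace (pullback fa fb).left := QuasiCompact.compactSpace_of_compactSpace (pullback.snd fa fb).left
  have sY := yon_isPullback sT
  let m : (yon S).obj (pullback fa fb) ⟶ pullback f f :=
    pullback.lift ((yon S).map (pullback.fst fa fb) ≫ a) ((yon S).map (pullback.snd fa fb) ≫ b)
      (by rw [Category.assoc, ← hfa, Category.assoc, ← hfb, sY.w])
  obtain ⟨l, hl₁, hl₂⟩ := exists_lift sY ((yon S).map fst) snd (by rw [hfa, reassoc_of% sq.w, hfb])
  have sD : IsPullback ((yon S).map fst ≫ a) ((yon S).map l) (pullback.diagonal f) m := by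
    have w : ((yon S).map fst ≫ a) ≫ pullback.diagonal f = (yon S).map l ≫ m := by
      apply pullback.hom_ext
      · simp only [Category.assoc, pullback.diagonal_fst, Category.comp_id, m, pullback.lift_fst]
        rw [← Category.assoc, hl₁]
      · simp only [Category.assoc, pullback.diagonal_snd, Category.comp_id, m, pullback.lift_snd]
        rw [← Category.assoc, ← Functor.map_comp, hl₂, sq.w]
    have key : ∀ c : PullbackCone (pullback.diagonal f) m,
        (c.snd ≫ (yon S).map (pullback.fst fa fb)) ≫ a = c.fst ∧
          (c.snd ≫ (yon S).map (pullback.snd fa fb)) ≫ b = c.fst := fun c => by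
      have h₁ := congrArg (· ≫ pullback.fst f f) c.condition
      have h₂ := congrArg (· ≫ pullback.snd f f) c.condition
      simp only [Category.assoc, pullback.diagonal_fst, pullback.diagonal_snd, Category.comp_id, m,
        pullback.lift_fst, pullback.lift_snd] at h₁ h₂
      exact ⟨(Category.assoc _ _ _).trans h₁.symm, (Category.assoc _ _ _).trans h₂.symm⟩
    refine IsPullback.of_isLimit' ⟨w⟩ (PullbackCone.IsLimit.mk w
      (fun c => sq.lift (c.snd ≫ (yon S).map (pullback.fst fa fb)) (c.snd ≫ (yon S).map (pullback.snd fa fb))
        ((key c).1.trans (key c).2.symm))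
      (fun c => by rw [sq.lift_fst_assoc]; exact (key c).1) (fun c => ?_) (fun c k _ hk => ?_))
    · apply sY.hom_ext
      · rw [Category.assoc, hl₁, sq.lift_fst]
      · rw [Category.assoc, ← Functor.map_comp, hl₂, sq.lift_snd]
    · apply sq.hom_ext
      · rw [sq.lift_fst, ← hk, Category.assoc, hl₁]
      · rw [sq.lift_snd, ← hk, Category.assoc, ← Functor.map_comp, hl₂]
  have : QuasiCompact l.left := hf.2 _ _ l sD
  exact QuasiCompact.compactSpace_of_compactSpace l.left

end Groth.Agent.AlgSpFin
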