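import Groth.Agent.AlgSpFin.Coprod
import Groth.Agent.AlgSpFin.Basic
import Groth.Agent.AlgSpLib.DiagMor
import Groth.Agent.AlgSpLib.Compact

/-!
Coproducts of algebraic spaces.
-/

set_option autoImplicit false
set_option backward.defeqAttrib.useBackward true
set_option backward.isDefEq.respectTransparency false
set_option backward.isDefEq.respectTransparency.types false

universe u

open CategoryTheory CategoryTheory.Limits AlgebraicGeometry Opposite AlgSp

namespace Groth.Agent.AlgSpFin

open Groth.Agent.AlgSpLib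

variable {S : Scheme.{u}} {ι : Type u}

/-- A scheme that is a coproduct in sheaves of schemes is their disjoint union. -/
theorem exists_iso_sigmaOverF {U : Over S} {W : ι → Over S} {g : ∀ i, W i ⟶ U}
    (h : IsColimit (Cofan.mk ((yon S).obj U) fun i => (yon S).map (g i))) :
    ∃ e : sigmaOverF W ≅ U, ∀ i, sigmaOverFι W i ≫ e.hom = g i := by
  refine ⟨Functor.FullyFaithful.preimageIso (.ofFullyFaithful (yon S))
    ((isColimitSigmaOverF W).coconePointUniqueUpToIso h), fun i => (yon S).map_injective ?_⟩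
  rw [Functor.map_comp, Functor.FullyFaithful.preimageIso_hom, Functor.FullyFaithful.map_preimage]
  exact (isColimitSigmaOverF W).comp_coconePointUniqueUpToIso_hom h ⟨i⟩

theorem covers_of_isColimit {U : Over S} {W : ι → Over S} {g : ∀ i, W i ⟶ U}
    (h : IsColimit (Cofan.mk ((yon S).obj U) fun i => (yon S).map (g i))) :
    ∀ x : U.left, ∃ i y, (g i).left y = x := by
  obtain ⟨e, he⟩ := exists_iso_sigmaOverF h
  intro x
  obtain ⟨i, y, hy⟩ := (sigmaOpenCover fun j => (W j).left).exists_eq (e.inv.left x)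
  refine ⟨i, y, ?_⟩
  rw [← he i]
  show e.hom.left (Sigma.ι (fun j => (W j).left) i y) = x
  rw [show Sigma.ι (fun j => (W j).left) i y = e.inv.left x from hy, ← Scheme.Hom.comp_apply, ← Over.comp_left,
    e.inv_hom_id]
  rfl

/-- A map of coproducts given componentwise by representable maps with a property local on the target. -/
theorem repWith_coprodMap {P : MorphismProperty Scheme.{u}} [P.IsStableUnderBaseChange] [IsZariskiLocalAtTarget P]
    {X Y : ι → Sp S} {cX : Cofan X} {cY : Cofan Y} (hX : IsColimit cX) (hY : IsColimit cY)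
    {f : ∀ i, X i ⟶ Y i} {m : cX.pt ⟶ cY.pt} (hm : ∀ i, cX.inj i ≫ m = f i ≫ cY.inj i)
    (hf : ∀ i, RepWith P (f i)) : RepWith P m := by
  have sqm : ∀ i, IsPullback (cX.inj i) (f i) m (cY.inj i) := fun i =>
    (sp_coprod_isVanKampen hY cX (Discrete.natTrans fun j => f j.as) m
      (NatTrans.ext (funext fun j => (hm j.as).symm)) (NatTrans.Equifibered.of_discrete _)).1 ⟨hX⟩ ⟨i⟩
  refine repWith_of_exists fun T g => ?_
  choose T' t gi sqT using fun i => (repWith_inj hY i).1 g
  obtain ⟨hT⟩ := exists_isColimit_pullback hY g fun i => (sqT i).flip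
  choose W w x sqW using fun i => (hf i).1 (gi i)
  have sP := IsPullback.of_hasPullback m g
  have big := fun i => (sqW i).paste_horiz (sqm i)
  have hw : ∀ i, (x i ≫ cX.inj i) ≫ m = ((yon S).map (w i) ≫ (yon S).map (t i)) ≫ g := fun i => by
    rw [(big i).w, Category.assoc, (sqT i).w]
  let z : ∀ i, (yon S).obj (W i) ⟶ pullback m g := fun i => sP.lift _ _ (hw i)
  have sqZ : ∀ i, IsPullback (z i) ((yon S).map (w i)) (pullback.snd m g) ((yon S).map (t i)) := fun i =>
    IsPullback.of_right (by rw [sP.lift_fst, ← (sqT i).w]; exact big i) (sP.lift_snd _ _ _) sP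
  obtain ⟨hZ⟩ := exists_isColimit_pullback hY (pullback.snd m g ≫ g) fun i => (sqZ i).paste_vert (sqT i).flip
  let e : (yon S).obj (sigmaOverF W) ≅ pullback m g := (isColimitSigmaOverF W).coconePointUniqueUpToIso hZ
  obtain ⟨β, hβ⟩ := (yon S).map_surjective (e.hom ≫ pullback.snd m g)
  have sq : IsPullback (e.hom ≫ pullback.fst m g) ((yon S).map β) m g :=
    IsPullback.of_iso sP e.symm (Iso.refl _) (Iso.refl _) (Iso.refl _) (by simp) (by simp [hβ]) (by simp) (by simp)
  refine ⟨_, _, β, sq, ?_⟩
  have hto : ∀ i, IsOpenImmersion (t i).left := fun i => ((repWith_inj hY i).2 g (gi i) (t i) (sqT i)).1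
  let 𝒰 : T.left.OpenCover :=
    { I₀ := ι
      X := fun i => (T' i).left
      f := fun i => (t i).left
      mem₀ := by
        rw [Scheme.presieve₀_mem_precoverage_iff]
        exact ⟨covers_of_isColimit hT, hto⟩ }
  refine IsZariskiLocalAtTarget.of_openCover 𝒰 fun i => ?_
  have s' : IsPullback ((yon S).map (sigmaOverFι W i)) ((yon S).map (w i)) ((yon S).map β) ((yon S).map (t i)) := by
    refine IsPullback.of_iso (sqZ i) (Iso.refl _) e.symm (Iso.refl _) (Iso.refl _) ?_ ?_ ?_ ?_
    · simp only [Iso.refl_hom, Category.id_comp, Iso.symm_hom, Iso.comp_inv_eq]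
      exact ((isColimitSigmaOverF W).comp_coconePointUniqueUpToIso_hom hZ ⟨i⟩).symm
    · simp
    · simp [hβ]
    · simp
  have sS := left_isPullback (isPullback_of_yon s')
  refine (P.cancel_left_of_respectsIso (sS.isoPullback).hom _).1 ?_
  rw [show sS.isoPullback.hom ≫ 𝒰.pullbackHom β.left i = (w i).left from sS.isoPullback_hom_snd]
  exact (hf i).2 (gi i) (x i) (w i) (sqW i)

/-- Coproducts of algebraic spaces. -/
theorem isAlgSpace_coprod {F : ι → Sp S} (hF : ∀ i, IsAlgSpace (F i)) {c : Cofan F} (hc : IsColimit c) :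
    IsAlgSpace c.pt := by
  have hd : RepWith (⊤ : MorphismProperty Scheme.{u}) (Limits.diag c.pt) := by
    refine repWith_diag_of_pairwise c.pt ⊤ (fun U V a b => ?_) (fun _ _ _ _ _ _ _ _ => trivial)
    choose U' u' ai sqU using fun i => (repWith_inj hc i).1 a
    choose V' v' bi sqV using fun i => (repWith_inj hc i).1 b
    choose W w₁ w₂ sqW using fun i => exists_isPullback ((hF i).representable_from_yon (ai i)) (bi i)
    have sP := IsPullback.of_hasPullback a b
    have big : ∀ i, IsPullback ((yon S).map (w₁ i) ≫ (yon S).map (u' i)) ((yon S).map (w₂ i)) a (bi i ≫ c.inj i) :=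
      fun i => (sqW i).paste_horiz (sqU i).flip
    have hw : ∀ i, ((yon S).map (w₁ i) ≫ (yon S).map (u' i)) ≫ a = ((yon S).map (w₂ i) ≫ (yon S).map (v' i)) ≫ b :=
      fun i => by rw [(big i).w, Category.assoc, (sqV i).w]
    let z : ∀ i, (yon S).obj (W i) ⟶ pullback a b := fun i => sP.lift _ _ (hw i)
    have sqZ : ∀ i, IsPullback (z i) ((yon S).map (w₂ i)) (pullback.snd a b) ((yon S).map (v' i)) := fun i =>
      IsPullback.of_right (by rw [sP.lift_fst, ← (sqV i).w]; exact big i) (sP.lift_snd _ _ _) sP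
    obtain ⟨hZ⟩ := exists_isColimit_pullback hc (pullback.snd a b ≫ b) fun i => (sqZ i).paste_vert (sqV i).flip
    let e : (yon S).obj (sigmaOverF W) ≅ pullback a b := (isColimitSigmaOverF W).coconePointUniqueUpToIso hZ
    obtain ⟨p, hp⟩ := (yon S).map_surjective (e.hom ≫ pullback.fst a b)
    obtain ⟨q, hq⟩ := (yon S).map_surjective (e.hom ≫ pullback.snd a b)
    exact ⟨_, p, q, IsPullback.of_iso sP e.symm (Iso.refl _) (Iso.refl _) (Iso.refl _) (by simp [hp]) (by simp [hq])
      (by simp) (by simp)⟩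
  choose U p hp hps using fun i => (hF i).atlas
  let m : (yon S).obj (sigmaOverF U) ⟶ c.pt := Cofan.IsColimit.desc (isColimitSigmaOverF U) fun i => p i ≫ c.inj i
  have hm := fun i => Cofan.IsColimit.fac (isColimitSigmaOverF U) (fun i => p i ≫ c.inj i) i
  exact ⟨hd.rep, _, m, repWith_coprodMap (isColimitSigmaOverF U) hc hm hp,
    repWith_coprodMap (isColimitSigmaOverF U) hc hm hps⟩

theorem isQuasiCompactSp_coprod [Finite ι] {F : ι → Sp S} {c : Cofan F}
    (hc : IsColimit c) (h : ∀ i, IsQuasiCompactSp (F i)) : IsQuasiCompactSp c.pt := by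
  choose U p hp hps hU using h
  have : ∀ i, CompactSpace ↥(U i).left := hU
  let m : (yon S).obj (sigmaOverF U) ⟶ c.pt := Cofan.IsColimit.desc (isColimitSigmaOverF U) fun i => p i ≫ c.inj i
  have hm := fun i => Cofan.IsColimit.fac (isColimitSigmaOverF U) (fun i => p i ≫ c.inj i) i
  refine ⟨_, m, repWith_coprodMap (isColimitSigmaOverF U) hc hm hp,
    repWith_coprodMap (isColimitSigmaOverF U) hc hm hps, ⟨?_⟩⟩
  rw [show (Set.univ : Set ↥(∐ fun j => (U j).left : Scheme.{u})) = ⋃ j, Set.range (Sigma.ι (fun j => (U j).left) j) from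
    (Set.eq_univ_of_forall fun x => by
      obtain ⟨j, y, hy⟩ := (sigmaOpenCover fun j => (U j).left).exists_eq x
      exact Set.mem_iUnion.2 ⟨j, y, hy⟩).symm]
  exact isCompact_iUnion fun j => isCompact_range (Sigma.ι (fun j => (U j).left) j).continuous

theorem isFinite_sigmaDesc {n : ℕ} {B : Scheme.{u}} (W : Fin n → Scheme.{u}) (f : ∀ i, W i ⟶ B)
    (h : ∀ i, IsFinite (f i)) : IsFinite (Sigma.desc f) := by
  induction n with
  | zero =>
    have : IsEmpty ↥(∐ W) := ⟨fun x => by
      obtain ⟨j, -⟩ := (sigmaOpenCover W).exists_eq x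
      exact Fin.elim0 j⟩
    infer_instance
  | succ n ih =>
    have := ih (fun i => W i.succ) (fun i => f i.succ) (fun i => h _)
    have := h 0
    let hc := extendCofanIsColimit W (c₁ := Cofan.mk (∐ fun i : Fin n => W i.succ) (Sigma.ι fun i : Fin n => W i.succ))
      (c₂ := BinaryCofan.mk coprod.inl coprod.inr)
      (coproductIsCoproduct _) (coprodIsCoprod (W 0) (∐ fun i : Fin n => W i.succ))
    let e : W 0 ⨿ (∐ fun i : Fin n => W i.succ) ≅ ∐ W := hc.coconePointUniqueUpToIso (coproductIsCoproduct W)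
    have he : e.hom ≫ Sigma.desc f = coprod.desc (f 0) (Sigma.desc fun i : Fin n => f i.succ) := by
      have hι := fun i => hc.comp_coconePointUniqueUpToIso_hom (coproductIsCoproduct W) ⟨i⟩
      apply coprod.hom_ext
      · rw [coprod.inl_desc, ← Category.assoc]
        exact (congrArg (· ≫ Sigma.desc f) (hι 0)).trans (Sigma.ι_desc _ _)
      · rw [coprod.inr_desc, ← Category.assoc]
        refine Sigma.hom_ext _ _ fun i => ?_
        rw [Sigma.ι_desc, ← Category.assoc, ← Category.assoc]
        exact (congrArg (· ≫ Sigma.desc f) (hι i.succ)).trans (Sigma.ι_desc _ _)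
    rw [← MorphismProperty.cancel_left_of_respectsIso (P := @IsFinite) e.hom, he]
    infer_instance

end Groth.Agent.AlgSpFin
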