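import Groth.Agent.AlgSpFin.CoprodAlg
import Groth.Agent.AlgSpFin.MorCalc
import Groth.Prelude.Def_AlgSp4

/-!
Binary coproducts, finite morphisms from finite coproducts, affine atlases.
-/

set_option autoImplicit false
set_option backward.defeqAttrib.useBackward true
set_option backward.isDefEq.respectTransparency false
set_option backward.isDefEq.respectTransparency.types false

universe u

open CategoryTheory CategoryTheory.Limits AlgebraicGeometry Opposite AlgSp

namespace Groth.Agent.AlgSpFin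

open Groth.Agent.AlgSpLib

variable {S : Scheme.{u}}

theorem repWith_binaryInl {F G : Sp S} (c : BinaryCofan F G) (hc : IsColimit c) :
    RepWith (@IsOpenImmersion ⊓ @IsClosedImmersion) c.inl := by
  let X : ULift.{u} Bool → Sp S := fun b => b.down.casesOn G F
  let c' : Cofan X := Cofan.mk c.pt fun b => match b with
    | ⟨true⟩ => c.inl
    | ⟨false⟩ => c.inr
  have hc' : IsColimit c' := Cofan.IsColimit.mk _
    (fun s => hc.desc (BinaryCofan.mk (s.inj ⟨true⟩) (s.inj ⟨false⟩)))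
    (fun s b => by
      obtain ⟨(_ | _)⟩ := b
      · exact hc.fac _ ⟨.right⟩
      · exact hc.fac _ ⟨.left⟩)
    (fun s d hd => by
      apply BinaryCofan.IsColimit.hom_ext hc
      · exact (hd ⟨true⟩).trans (hc.fac (BinaryCofan.mk (s.inj ⟨true⟩) (s.inj ⟨false⟩)) ⟨.left⟩).symm
      · exact (hd ⟨false⟩).trans (hc.fac (BinaryCofan.mk (s.inj ⟨true⟩) (s.inj ⟨false⟩)) ⟨.right⟩).symm)
  exact repWith_inj hc' ⟨true⟩

theorem exists_summands_of_scheme {ι : Type u} (U : Over S) (F : ι → Sp S) (c : Cofan F) (hc : IsColimit c)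
    (e : c.pt ≅ (yon S).obj U) :
    ∃ (V : ι → Over S) (g : ∀ i, V i ⟶ U) (ei : ∀ i, (yon S).obj (V i) ≅ F i),
      (∀ i, IsOpenImmersion (g i).left ∧ IsClosedImmersion (g i).left) ∧
      (∀ i, (ei i).hom ≫ c.inj i ≫ e.hom = (yon S).map (g i)) ∧
      Nonempty (IsColimit (Cofan.mk U.left (fun i => (g i).left))) := by
  choose V g x sq using fun i => (repWith_inj hc i).1 e.inv
  have hx : ∀ i, IsIso (x i) := fun i => (sq i).isIso_fst_of_isIso
  obtain ⟨hU⟩ := exists_isColimit_pullback hc e.inv fun i => (sq i).flip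
  obtain ⟨φ, hφ⟩ := exists_iso_sigmaOverF hU
  refine ⟨V, g, fun i => @asIso _ _ _ _ (x i) (hx i), fun i => (repWith_inj hc i).2 e.inv (x i) (g i) (sq i),
    fun i => ?_, (Cofan.nonempty_isColimit_iff_isIso_sigmaDesc _).2 ?_⟩
  · rw [asIso_hom, reassoc_of% (sq i).w, e.inv_hom_id, Category.comp_id]
  · have e' : Sigma.desc (fun i => (g i).left) = φ.hom.left := Sigma.hom_ext _ _ fun i => by
      rw [Sigma.ι_desc, ← hφ i]
      rfl
    show IsIso (Sigma.desc fun i => (g i).left)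
    rw [e']
    exact inferInstanceAs (IsIso ((Over.forget S).map φ.hom))

theorem isFiniteMor_coprod {n : ℕ} {X : Fin n → Sp S} {Y : Sp S} (g : ∀ i, X i ⟶ Y)
    (hg : ∀ i, IsFiniteMor (g i)) (c : Cofan X) (hc : IsColimit c) (d : c.pt ⟶ Y)
    (hd : ∀ i, c.inj i ≫ d = g i) : IsFiniteMor d := by
  refine (isFiniteMor_iff_repWith d).2 ?_
  let X' : ULift.{u} (Fin n) → Sp S := fun j => X j.down
  let c' : Cofan X' := Cofan.mk c.pt fun j => c.inj j.down
  have hc' : IsColimit c' := Cofan.IsColimit.mk _ (fun s => Cofan.IsColimit.desc hc fun i => s.inj ⟨i⟩)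
    (fun s j => Cofan.IsColimit.fac hc _ j.down)
    (fun s m hm => Cofan.IsColimit.hom_ext hc _ _ fun i =>
      (hm ⟨i⟩).trans (Cofan.IsColimit.fac hc (fun i => s.inj ⟨i⟩) i).symm)
  let C : ULift.{u} (Fin n) → Over S := fun _ => Over.mk (𝟙 S)
  let σ : sigmaOverF C ⟶ Over.mk (𝟙 S) := Over.mkIdTerminal.from _
  have hσ : ∀ j, (yon S).map (sigmaOverFι C j) ≫ (yon S).map σ = 𝟙 _ := fun j => by
    rw [← Functor.map_comp, Over.mkIdTerminal.hom_ext (sigmaOverFι C j ≫ σ) (𝟙 _)]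
    exact (yon S).map_id _
  have sQ := IsPullback.of_hasPullback (toFinal Y) ((yon S).map σ)
  let s : ∀ _ : ULift.{u} (Fin n), Y ⟶ pullback (toFinal Y) ((yon S).map σ) := fun j =>
    sQ.lift (𝟙 Y) (toFinal Y ≫ (yon S).map (sigmaOverFι C j)) (by rw [Category.assoc, hσ, Category.comp_id]; simp)
  have sqS : ∀ j, IsPullback (s j) (toFinal Y) (pullback.snd (toFinal Y) ((yon S).map σ))
      ((yon S).map (sigmaOverFι C j)) := fun j =>
    IsPullback.of_right (by rw [sQ.lift_fst, hσ]; exact isPullback_id _) (sQ.lift_snd _ _ _) sQ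
  obtain ⟨hQ⟩ := exists_isColimit_pullback (isColimitSigmaOverF C) _ sqS
  let m : c.pt ⟶ pullback (toFinal Y) ((yon S).map σ) := Cofan.IsColimit.desc hc' fun j => g j.down ≫ s j
  have hm := fun j => Cofan.IsColimit.fac hc' (fun j => g j.down ≫ s j) j
  have e : m ≫ pullback.fst (toFinal Y) ((yon S).map σ) = d := Cofan.IsColimit.hom_ext hc' _ _ fun j => by
    rw [← Category.assoc, hm, Category.assoc, sQ.lift_fst, Category.comp_id]
    exact (hd j.down).symm
  have hm' : RepWith @IsFinite m := repWith_coprodMap (P := @IsFinite) hc' hQ hm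
    fun j => (isFiniteMor_iff_repWith _).1 (hg j.down)
  rw [← e]
  refine repWith_comp hm' (repWith_baseChange sQ.flip ((repWith_yon_map_iff _ _).2 ?_))
  let e' : (∐ fun j : ULift.{u} (Fin n) => (C j).left) ≅ ∐ fun _ : Fin n => S :=
    Sigma.whiskerEquiv Equiv.ulift (fun _ => Iso.refl S)
  have h' := isFinite_sigmaDesc (fun _ : Fin n => S) (fun _ => 𝟙 S) fun _ => inferInstance
  have eσ : σ.left = e'.hom ≫ Sigma.desc (fun _ : Fin n => 𝟙 S) := Sigma.hom_ext _ _ fun j => by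
    have := congrArg CommaMorphism.left (Over.mkIdTerminal.hom_ext (sigmaOverFι C j ≫ σ) (𝟙 _))
    simp [e', C] at this ⊢
    exact this
  rw [eσ, MorphismProperty.cancel_left_of_respectsIso (P := @IsFinite)]
  exact h'

/-- An atlas by affines lying over affines of the base. -/
theorem exists_affine_atlas {X : Sp S} (hX : IsAlgSpace X) :
    ∃ (ι : Type u) (V : ι → Scheme.{u}) (_ : ∀ i, IsAffine (V i)) (q : (∐ V) ⟶ S)
      (p : (yon S).obj (Over.mk q) ⟶ X),
      RepWith @Etale p ∧ RepWith @Surjective p ∧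
        ∀ i, ∃ W : S.Opens, IsAffineOpen W ∧ ∀ v : ↥(V i), (Sigma.ι V i ≫ q) v ∈ W := by
  obtain ⟨U, a, ha, has⟩ := hX.atlas
  have h : ∀ u : ↥U.left, ∃ W : S.Opens, IsAffineOpen W ∧
      ∃ T : U.left.Opens, IsAffineOpen T ∧ u ∈ T ∧ ∀ t ∈ T, U.hom t ∈ W := fun u => by
    obtain ⟨W, hW, hu, -⟩ := exists_isAffineOpen_mem_and_subset (X := S) (U := ⊤) (x := U.hom u) trivial
    obtain ⟨T, hT, huT, hTW⟩ := exists_isAffineOpen_mem_and_subset (X := U.left) (U := U.hom ⁻¹ᵁ W) (x := u) hu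
    exact ⟨W, hW, T, hT, huT, fun t ht => hTW ht⟩
  choose W hW T hT hu hTW using h
  let V : ↥U.left → Scheme.{u} := fun u => (T u).toScheme
  let c : (∐ V) ⟶ U.left := Sigma.desc fun u => (T u).ι
  let ψ : Over.mk (c ≫ U.hom) ⟶ U := Over.homMk c rfl
  have he : Etale c := IsZariskiLocalAtSource.sigmaDesc (P := @Etale) fun u => inferInstance
  have hs : Surjective c := ⟨fun u => ⟨Sigma.ι V u ⟨u, hu u⟩, by
    rw [← Scheme.Hom.comp_apply, Sigma.ι_desc]
    rfl⟩⟩
  refine ⟨↥U.left, V, fun u => hT u, c ≫ U.hom, (yon S).map ψ ≫ a, repWith_yon_comp (P := @Etale) ψ he ha,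
    repWith_yon_comp (P := @Surjective) ψ hs has, fun u => ⟨W u, hW u, fun v => ?_⟩⟩
  rw [← Category.assoc, Sigma.ι_desc]
  exact hTW u _ v.2

end Groth.Agent.AlgSpFin
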