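import Groth.Agent.AlgSpFin.DecentDescent
import Groth.Agent.AlgSpFin.DecentLocal
import Groth.Agent.AlgSpFin.MorCalc
import Groth.Agent.AlgSpLib.Compact

/-!
Decency of a morphism is etale local on the target.
-/

set_option autoImplicit false
set_option backward.isDefEq.respectTransparency.types false

universe u

open CategoryTheory CategoryTheory.Limits AlgebraicGeometry Opposite AlgSp

namespace Groth.Agent.AlgSpFin

open Groth.Agent.AlgSpLib Groth.Agent.AlgStLib

variable {S : Scheme.{u}}

/-- A morphism decent after an etale surjective base change of the target is decent. -/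
theorem isDecentMor_of_etale_cover {X Y X' : Sp S} (hX : IsAlgSpace X) (hY : IsAlgSpace Y) (f : X ⟶ Y) {V : Over S}
    (p : (yon S).obj V ⟶ Y) (hp : RepWith @Etale p) (hps : RepWith @Surjective p) {fst : X' ⟶ X}
    {snd : X' ⟶ (yon S).obj V} (sq : IsPullback fst snd f p) (h : IsDecentMor snd) : IsDecentMor f := by
  refine isDecentMor_of_affine hX hY f fun Z g P p₁ p₂ hZ sP => ?_
  obtain ⟨W, v, w, sW⟩ := exists_isPullback hp.1 g
  have : Etale w.left := prop_snd sW hp
  have : Surjective w.left := prop_snd sW hps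
  have := hZ
  -- a quasi-compact piece of the covering
  obtain ⟨t, ht⟩ := isCompact_univ.elim_finite_subcover
    (fun B : W.left.affineOpens => w.left '' (B.1 : Set W.left)) (fun B => w.left.isOpenMap _ B.1.isOpen) fun z _ => by
      obtain ⟨y, rfl⟩ := w.left.surjective z
      obtain ⟨B, hB, hy, -⟩ := exists_isAffineOpen_mem_and_subset (X := W.left) (x := y) (U := ⊤) trivial
      exact Set.mem_iUnion.2 ⟨⟨B, hB⟩, y, hy, rfl⟩
  let Y' : t → Scheme.{u} := fun i => (i.1.1 : W.left.Opens).toScheme
  have : ∀ i, IsAffine (Y' i) := fun i => i.1.2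
  let k : ∐ Y' ⟶ W.left := Sigma.desc fun i => (i.1.1 : W.left.Opens).ι
  have : Etale k := IsZariskiLocalAtSource.sigmaDesc (P := @Etale)
    (fun i => inferInstanceAs (Etale (i.1.1 : W.left.Opens).ι))
  let W' : Over S := Over.mk (k ≫ W.hom)
  let q : W' ⟶ W := Over.homMk k rfl
  let w' : W' ⟶ Z := q ≫ w
  have : IsAffine W'.left := inferInstanceAs (IsAffine (∐ Y'))
  have : Surjective w'.left := ⟨fun z => by
    obtain ⟨B, hB, y, hy, rfl⟩ := Set.mem_iUnion₂.1 (ht (Set.mem_univ z))
    refine ⟨Sigma.ι Y' ⟨B, hB⟩ ⟨y, hy⟩, ?_⟩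
    show w.left (k _) = w.left y
    congr 1
    rw [← Scheme.Hom.comp_apply, Sigma.ι_desc]
    rfl⟩
  have : QuasiCompact w'.left := (quasiCompact_iff_compactSpace (f := w'.left)).2 inferInstance
  -- descend along it
  have s₁ := IsPullback.of_hasPullback p₂ ((yon S).map w')
  have hP : IsAlgSpace P := isAlgSpace_of_isPullback sP hX (IsAlgSpace.yon_obj Z) hY
  have hP' := isAlgSpace_of_isPullback s₁ hP (IsAlgSpace.yon_obj W') (IsAlgSpace.yon_obj Z)
  refine isDecent_of_qc_surjective hP' hP (pullback.fst p₂ ((yon S).map w'))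
    (isQuasiCompactMor_of_repWith hP' hP (repWith_baseChange s₁.flip ((repWith_yon_map_iff _ w').2 ‹_›)))
    (surjective_snd s₁.flip (surjective_map_of_repWith ((repWith_yon_map_iff _ w').2 ‹_›))) ?_
  -- the base change is a base change of the given one
  let b : (yon S).obj W' ⟶ (yon S).obj V := (yon S).map (q ≫ v)
  have e : (yon S).map w' ≫ g = b ≫ p := by
    simp only [b, w', Functor.map_comp, Category.assoc, sW.w]
  have s₂ : IsPullback (pullback.fst p₂ ((yon S).map w') ≫ p₁) (pullback.snd p₂ ((yon S).map w')) f (b ≫ p) := by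
    rw [← e]; exact s₁.paste_horiz sP
  exact h b (sq.lift (pullback.fst p₂ ((yon S).map w') ≫ p₁) (pullback.snd p₂ ((yon S).map w') ≫ b)
      (by rw [s₂.w, Category.assoc])) (pullback.snd p₂ ((yon S).map w'))
    (IsPullback.of_right (by rw [sq.lift_fst]; exact s₂) (sq.lift_snd _ _ _) sq)

end Groth.Agent.AlgSpFin
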