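import Groth.Agent.AlgSpFin.EtaleCompact
import Groth.Agent.AlgSpFin.DecentPoint
import Groth.Agent.AlgSpFin.DecentFibre
import Groth.Agent.AlgSpPts.NoethSp
import Groth.Agent.AlgSpLib.DiagMor
import Groth.Agent.FpqcDescent.Basic

/-!
Locally Noetherian decent algebraic spaces are quasi-separated.
-/

set_option autoImplicit false
set_option backward.isDefEq.respectTransparency.types false

universe u

open CategoryTheory CategoryTheory.Limits AlgebraicGeometry Opposite AlgSp TopologicalSpace

namespace Groth.Agent.AlgSpFin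

open Groth.Agent.AlgSpLib

section Cat

variable {C : Type*} [Category C] [HasBinaryProducts C]

/-- An iterated base change of a fibre product is the base change along a product of maps. -/
theorem isPullback_iterated {W A B U V U' V' : C} {p : W ⟶ U} {q : W ⟶ V} {u : U' ⟶ U} {v : V' ⟶ V} {e₁ : A ⟶ U'}
    {e₂ : A ⟶ W} {f₁ : B ⟶ A} {f₂ : B ⟶ V'} (sA : IsPullback e₁ e₂ u p) (sB : IsPullback f₁ f₂ (e₂ ≫ q) v) :
    IsPullback (prod.lift (f₁ ≫ e₁) f₂) (f₁ ≫ e₂) (prod.map u v) (prod.lift p q) := by
  have w : prod.lift (f₁ ≫ e₁) f₂ ≫ prod.map u v = (f₁ ≫ e₂) ≫ prod.lift p q := by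
    apply Limits.prod.hom_ext
    · simp only [Category.assoc, Limits.prod.lift_fst, Limits.prod.map_fst, Limits.prod.lift_fst_assoc, sA.w]
    · simp only [Category.assoc, Limits.prod.lift_snd, Limits.prod.map_snd, Limits.prod.lift_snd_assoc, ← sB.w]
  refine IsPullback.of_isLimit' ⟨w⟩ (PullbackCone.IsLimit.mk _
    (fun s => sB.lift (sA.lift (s.fst ≫ prod.fst) s.snd ?_) (s.fst ≫ prod.snd) ?_) (fun s => ?_) (fun s => ?_)
    (fun s l h₁ h₂ => ?_))
  · have := congrArg (· ≫ prod.fst) s.condition
    simp only [Category.assoc, Limits.prod.lift_fst, Limits.prod.map_fst] at this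
    rw [Category.assoc]
    exact this
  · rw [sA.lift_snd_assoc]
    have := congrArg (· ≫ prod.snd) s.condition
    simp only [Category.assoc, Limits.prod.lift_snd, Limits.prod.map_snd] at this
    rw [Category.assoc]
    exact this.symm
  · apply Limits.prod.hom_ext
    · refine (Category.assoc _ _ _).trans ((congrArg _ (Limits.prod.lift_fst _ _)).trans ?_)
      exact (sB.lift_fst_assoc _ _ _ _).trans (sA.lift_fst _ _ _)
    · exact (Category.assoc _ _ _).trans ((congrArg _ (Limits.prod.lift_snd _ _)).trans (sB.lift_snd _ _ _))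
  · rw [sB.lift_fst_assoc, sA.lift_snd]
  · refine sB.hom_ext ?_ ?_
    · rw [sB.lift_fst]
      refine sA.hom_ext ?_ ?_
      · rw [sA.lift_fst, ← h₁]
        simp only [Category.assoc, Limits.prod.lift_fst]
      · rw [sA.lift_snd, ← h₂]
        simp only [Category.assoc]
    · rw [sB.lift_snd, ← h₁]
      simp only [Category.assoc, Limits.prod.lift_snd]

theorem isPullback_prodMap_left {A B W : C} (u : A ⟶ B) :
    IsPullback (prod.map u (𝟙 W)) (prod.fst : prod A W ⟶ A) (prod.fst : prod B W ⟶ B) u := by
  refine IsPullback.of_isLimit' ⟨Limits.prod.map_fst _ _⟩ (PullbackCone.IsLimit.mk _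
    (fun s => prod.lift s.snd (s.fst ≫ prod.snd)) (fun s => ?_) (fun s => Limits.prod.lift_fst _ _) (fun s l h₁ h₂ => ?_))
  · apply Limits.prod.hom_ext
    · rw [Category.assoc, Limits.prod.map_fst, Limits.prod.lift_fst_assoc]; exact s.condition.symm
    · rw [Category.assoc, Limits.prod.map_snd, Limits.prod.lift_snd_assoc, Category.comp_id]
  · apply Limits.prod.hom_ext
    · rw [Limits.prod.lift_fst]; exact h₂
    · rw [Limits.prod.lift_snd, ← h₁, Category.assoc, Limits.prod.map_snd, Category.comp_id]

theorem isPullback_prodMap_right {A B W : C} (u : A ⟶ B) :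
    IsPullback (prod.map (𝟙 W) u) (prod.snd : prod W A ⟶ A) (prod.snd : prod W B ⟶ B) u := by
  refine IsPullback.of_isLimit' ⟨Limits.prod.map_snd _ _⟩ (PullbackCone.IsLimit.mk _
    (fun s => prod.lift (s.fst ≫ prod.fst) s.snd) (fun s => ?_) (fun s => Limits.prod.lift_snd _ _) (fun s l h₁ h₂ => ?_))
  · apply Limits.prod.hom_ext
    · rw [Category.assoc, Limits.prod.map_fst, Limits.prod.lift_fst_assoc, Category.comp_id]
    · rw [Category.assoc, Limits.prod.map_snd, Limits.prod.lift_snd_assoc]; exact s.condition.symm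
  · apply Limits.prod.hom_ext
    · rw [Limits.prod.lift_fst, ← h₁, Category.assoc, Limits.prod.map_fst, Category.comp_id]
    · rw [Limits.prod.lift_snd]; exact h₂

end Cat

variable {S : Scheme.{u}}

/-- A leg of a fibre square over a space is separated if the other chart is affine. -/
theorem isSeparated_leg_of_affine {X : Sp S} {U V R : Over S} {a : (yon S).obj U ⟶ X} {b : (yon S).obj V ⟶ X}
    {s : R ⟶ U} {t : R ⟶ V} (sq : IsPullback ((yon S).map s) ((yon S).map t) a b) [IsAffine V.left] :
    IsSeparated s.left := by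
  have : IsSeparated (V.hom ≫ terminal.from S) := by
    rw [Subsingleton.elim (V.hom ≫ terminal.from S) (terminal.from V.left)]; infer_instance
  have : IsSeparated V.hom := IsSeparated.of_comp V.hom (terminal.from S)
  let l : R.left ⟶ pullback U.hom V.hom := pullback.lift s.left t.left ((Over.w s).trans (Over.w t).symm)
  have hl₁ : l ≫ pullback.fst U.hom V.hom = s.left := pullback.lift_fst _ _ _
  have hl₂ : l ≫ pullback.snd U.hom V.hom = t.left := pullback.lift_snd _ _ _
  have : Mono l := ⟨fun {T} p q e => by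
    have hs : p ≫ s.left = q ≫ s.left := by rw [← hl₁, reassoc_of% e]
    have ht : p ≫ t.left = q ≫ t.left := by rw [← hl₂, reassoc_of% e]
    have hq : q ≫ R.hom = p ≫ R.hom := by rw [← Over.w s, ← Category.assoc, ← hs, Category.assoc]
    let p' : Over.mk (p ≫ R.hom) ⟶ R := Over.homMk p rfl
    let q' : Over.mk (p ≫ R.hom) ⟶ R := Over.homMk q hq
    have : p' = q' := (yon S).map_injective (sq.hom_ext
      (by rw [← Functor.map_comp, ← Functor.map_comp]; exact congrArg _ (Over.OverMorphism.ext hs))
      (by rw [← Functor.map_comp, ← Functor.map_comp]; exact congrArg _ (Over.OverMorphism.ext ht)))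
    exact congrArg CommaMorphism.left this⟩
  rw [← hl₁]
  infer_instance

/-- Pieces of the relation of a decent locally Noetherian space are compact. -/
theorem isCompact_relation_piece {X : Sp S} (hX : IsAlgSpace X) (hd : IsDecent X) (hN : IsLocNoethSp X) {U V R : Over S}
    {a : (yon S).obj U ⟶ X} {b : (yon S).obj V ⟶ X} (ha : RepWith @Etale a) (hb : RepWith @Etale b)
    [IsAffine U.left] [IsAffine V.left] {p : R ⟶ U} {q : R ⟶ V}
    (sR : IsPullback ((yon S).map p) ((yon S).map q) a b) : CompactSpace R.left := by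
  have := AlgSpPts.isLocallyNoetherian_of_chart hN ha
  have : IsNoetherian U.left := { }
  have : Etale p.left := prop_snd sR.flip hb
  have : IsSeparated p.left := isSeparated_leg_of_affine sR
  refine compactSpace_of_etale_finite_fibres p.left fun x => ?_
  let P : Over S := Over.mk (U.left.fromSpecResidueField x ≫ U.hom)
  let m : P ⟶ U := Over.homMk (U.left.fromSpecResidueField x) rfl
  obtain ⟨W, c, d, sW⟩ := exists_isPullback hb.1 ((yon S).map m ≫ a)
  have : Finite P.left := inferInstanceAs (Finite (PrimeSpectrum (U.left.residueField x)))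
  have : Finite W.left := finite_pullback_of_isDecent hX hd sW hb
  obtain ⟨e, he₁, he₂⟩ := exists_lift (fst := (yon S).map q) (snd := p) sR.flip ((yon S).map c) (d ≫ m)
    (by rw [sW.w, Functor.map_comp, Category.assoc])
  have sL : IsPullback e d p m := by
    refine isPullback_of_yon (IsPullback.of_right ?_ (by rw [← Functor.map_comp, ← Functor.map_comp, he₂]) sR.flip)
    rw [he₁]
    exact sW
  refine (Set.finite_range e.left).subset fun r (hr : p.left r = x) => ?_
  obtain ⟨w, hw, -⟩ := Scheme.Pullback.exists_preimage_pullback (f := p.left) (g := m.left) r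
    (IsLocalRing.closedPoint (U.left.residueField x) : PrimeSpectrum _) (hr.trans (U.left.fromSpecResidueField_apply x _).symm)
  refine ⟨(left_isPullback sL).isoPullback.inv w, ?_⟩
  rw [← Scheme.Hom.comp_apply, (left_isPullback sL).isoPullback_inv_fst]
  exact hw

/-- Locally Noetherian decent spaces are quasi-separated. -/
theorem isQuasiSeparatedSp_of_noeth {X : Sp S} (hX : IsAlgSpace X) (hN : IsLocNoethSp X) (hd : IsDecent X) :
    IsQuasiSeparatedSp X := by
  obtain ⟨U₀, a₀, ha₀, ha₀s⟩ := hX.atlas
  have := AlgSpPts.isLocallyNoetherian_of_chart hN ha₀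
  obtain ⟨R, r₁, r₂, sR⟩ := exists_isPullback ha₀.1 a₀
  have : Etale r₁.left := prop_snd sR.flip ha₀
  have : IsLocallyNoetherian R.left := LocallyOfFiniteType.isLocallyNoetherian r₁.left
  have hpiece : ∀ A B : U₀.left.Opens, IsAffineOpen A → IsAffineOpen B →
      IsCompact (r₁.left ⁻¹' (A : Set U₀.left) ∩ r₂.left ⁻¹' B) := by
    intro A B hA hB
    let UA : Over S := Over.mk (A.ι ≫ U₀.hom)
    let UB : Over S := Over.mk (B.ι ≫ U₀.hom)
    let jA : UA ⟶ U₀ := Over.homMk A.ι rfl
    let jB : UB ⟶ U₀ := Over.homMk B.ι rfl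
    have : IsAffine UA.left := hA
    have : IsAffine UB.left := hB
    have haA : RepWith @Etale ((yon S).map jA ≫ a₀) := repWith_yon_comp (P := @Etale) jA (inferInstanceAs (Etale A.ι)) ha₀
    have haB : RepWith @Etale ((yon S).map jB ≫ a₀) := repWith_yon_comp (P := @Etale) jB (inferInstanceAs (Etale B.ι)) ha₀
    have sA := IsPullback.of_hasPullback jA r₁
    have sB := IsPullback.of_hasPullback (pullback.snd jA r₁ ≫ r₂) jB
    have sRA : IsPullback ((yon S).map (pullback.fst jA r₁)) ((yon S).map (pullback.snd jA r₁ ≫ r₂))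
        ((yon S).map jA ≫ a₀) a₀ := by
      rw [Functor.map_comp]
      exact ((yon_isPullback sA).flip.paste_horiz sR.flip).flip
    have sRAB : IsPullback ((yon S).map (pullback.fst (pullback.snd jA r₁ ≫ r₂) jB ≫ pullback.fst jA r₁))
        ((yon S).map (pullback.snd (pullback.snd jA r₁ ≫ r₂) jB)) ((yon S).map jA ≫ a₀) ((yon S).map jB ≫ a₀) := by
      rw [Functor.map_comp]
      exact (yon_isPullback sB).flip.paste_vert sRA.flip |>.flip
    have hc := isCompact_relation_piece hX hd hN haA haB sRAB
    have := isCompact_range (pullback.fst (pullback.snd jA r₁ ≫ r₂) jB ≫ pullback.snd jA r₁).left.continuous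
    convert this
    ext r
    constructor
    · rintro ⟨hrA, hrB⟩
      obtain ⟨z, -, hz⟩ := Scheme.Pullback.exists_preimage_pullback (f := jA.left) (g := r₁.left)
        (⟨r₁.left r, hrA⟩ : A.toScheme) r rfl
      let z' : (pullback jA r₁).left := (left_isPullback sA).isoPullback.inv z
      have hz' : (pullback.snd jA r₁).left z' = r := by
        rw [← Scheme.Hom.comp_apply, (left_isPullback sA).isoPullback_inv_snd]
        exact hz
      obtain ⟨w, hw, -⟩ := Scheme.Pullback.exists_preimage_pullback (f := (pullback.snd jA r₁ ≫ r₂).left) (g := jB.left)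
        z' (⟨r₂.left r, hrB⟩ : B.toScheme) (congrArg r₂.left hz')
      refine ⟨(left_isPullback sB).isoPullback.inv w, ?_⟩
      show (pullback.snd jA r₁).left ((pullback.fst (pullback.snd jA r₁ ≫ r₂) jB).left _) = r
      rw [← Scheme.Hom.comp_apply (left_isPullback sB).isoPullback.inv, (left_isPullback sB).isoPullback_inv_fst]
      exact (congrArg (pullback.snd jA r₁).left hw).trans hz'
    · rintro ⟨w, rfl⟩
      let z := (pullback.fst (pullback.snd jA r₁ ≫ r₂) jB).left w
      have e₁ := congrArg (fun k => k.left z) sA.w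
      have e₂ := congrArg (fun k => k.left w) sB.w
      exact ⟨(show r₁.left ((pullback.snd jA r₁).left z) ∈ A from e₁ ▸ ((pullback.fst jA r₁).left z).2),
        (show r₂.left ((pullback.snd jA r₁).left z) ∈ B from e₂ ▸ ((pullback.snd (pullback.snd jA r₁ ≫ r₂) jB).left w).2)⟩
  have hqc : QuasiCompact (prod.lift r₁ r₂).left := by
    refine ⟨fun K hKo hK => ?_⟩
    choose A hA hAm _ using fun t : (prod U₀ U₀).left => exists_isAffineOpen_mem_and_subset (X := U₀.left) (U := ⊤)
      (x := (prod.fst : prod U₀ U₀ ⟶ U₀).left t) trivial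
    choose B hB hBm _ using fun t : (prod U₀ U₀).left => exists_isAffineOpen_mem_and_subset (X := U₀.left) (U := ⊤)
      (x := (prod.snd : prod U₀ U₀ ⟶ U₀).left t) trivial
    obtain ⟨T, hT⟩ := hK.elim_finite_subcover
      (fun t => (prod.fst : prod U₀ U₀ ⟶ U₀).left ⁻¹' (A t : Set U₀.left) ∩
        (prod.snd : prod U₀ U₀ ⟶ U₀).left ⁻¹' (B t : Set U₀.left))
      (fun t => ((A t).2.preimage (prod.fst : prod U₀ U₀ ⟶ U₀).left.continuous).inter
        ((B t).2.preimage (prod.snd : prod U₀ U₀ ⟶ U₀).left.continuous))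
      fun t _ => Set.mem_iUnion.2 ⟨t, hAm t, hBm t⟩
    have h1 : ∀ z, (prod.fst : prod U₀ U₀ ⟶ U₀).left ((prod.lift r₁ r₂).left z) = r₁.left z := fun z => by
      rw [← Scheme.Hom.comp_apply, ← Over.comp_left, Limits.prod.lift_fst]
    have h2 : ∀ z, (prod.snd : prod U₀ U₀ ⟶ U₀).left ((prod.lift r₁ r₂).left z) = r₂.left z := fun z => by
      rw [← Scheme.Hom.comp_apply, ← Over.comp_left, Limits.prod.lift_snd]
    let big := ⋃ t ∈ T, r₁.left ⁻¹' (A t : Set U₀.left) ∩ r₂.left ⁻¹' (B t : Set U₀.left)
    have hbig : IsCompact big := T.isCompact_biUnion fun t _ => hpiece _ _ (hA t) (hB t)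
    have hbo : IsOpen big := isOpen_biUnion fun t _ =>
      ((A t).2.preimage r₁.left.continuous).inter ((B t).2.preimage r₂.left.continuous)
    let O : R.left.Opens := ⟨big, hbo⟩
    have : CompactSpace O.toScheme := isCompact_iff_compactSpace.1 hbig
    have : IsLocallyNoetherian O.toScheme := isLocallyNoetherian_of_isOpenImmersion O.ι
    have : IsNoetherian O.toScheme := { }
    have hc := (NoetherianSpace.isCompact (O.ι ⁻¹' ((prod.lift r₁ r₂).left ⁻¹' K))).image O.ι.continuous
    rw [Set.image_preimage_eq_inter_range, Scheme.Opens.range_ι, Set.inter_eq_left.2] at hc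
    · exact hc
    intro z hz
    obtain ⟨t, htT, htA, htB⟩ := Set.mem_iUnion₂.1 (hT hz)
    rw [Set.mem_preimage, h1 z] at htA
    rw [Set.mem_preimage, h2 z] at htB
    exact Set.mem_biUnion htT ⟨htA, htB⟩
  refine repWith_diag_of_pairwise X @QuasiCompact
    (fun U V a b => exists_isPullback (hX.representable_from_yon a) b) fun U V W a b fst snd sW => ?_
  obtain ⟨U', lu, u, sU⟩ := exists_isPullback ha₀.1 a
  obtain ⟨V', lv, v, sV⟩ := exists_isPullback ha₀.1 b
  have : Etale u.left := prop_snd sU ha₀
  have : Surjective u.left := prop_snd sU ha₀s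
  have : Etale v.left := prop_snd sV ha₀
  have : Surjective v.left := prop_snd sV ha₀s
  have a1 := IsPullback.of_hasPullback u fst
  have b1 := IsPullback.of_hasPullback (pullback.snd u fst ≫ snd) v
  have a2 := IsPullback.of_hasPullback lu r₁
  have b2 := IsPullback.of_hasPullback (pullback.snd lu r₁ ≫ r₂) lv
  have p1 := isPullback_iterated a1 b1
  have p2 := isPullback_iterated a2 b2
  have hQ2 : QuasiCompact (prod.lift (pullback.fst (pullback.snd lu r₁ ≫ r₂) lv ≫ pullback.fst lu r₁)
      (pullback.snd (pullback.snd lu r₁ ≫ r₂) lv)).left :=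
    MorphismProperty.of_isPullback (P := @QuasiCompact) (left_isPullback p2).flip hqc
  -- both are fibre products over the space
  have t1 : IsPullback ((yon S).map (pullback.fst (pullback.snd u fst ≫ snd) v ≫ pullback.fst u fst))
      ((yon S).map (pullback.snd (pullback.snd u fst ≫ snd) v)) ((yon S).map u ≫ a) ((yon S).map v ≫ b) := by
    rw [Functor.map_comp]
    have s1 : IsPullback ((yon S).map (pullback.fst u fst)) ((yon S).map (pullback.snd u fst ≫ snd))
        ((yon S).map u ≫ a) b := by
      rw [Functor.map_comp]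
      exact ((yon_isPullback a1).flip.paste_horiz sW.flip).flip
    exact (yon_isPullback b1).flip.paste_vert s1.flip |>.flip
  have t2 : IsPullback ((yon S).map (pullback.fst (pullback.snd lu r₁ ≫ r₂) lv ≫ pullback.fst lu r₁))
      ((yon S).map (pullback.snd (pullback.snd lu r₁ ≫ r₂) lv)) ((yon S).map u ≫ a) ((yon S).map v ≫ b) := by
    rw [Functor.map_comp, ← sU.w, ← sV.w]
    have s2 : IsPullback ((yon S).map (pullback.fst lu r₁)) ((yon S).map (pullback.snd lu r₁ ≫ r₂))
        ((yon S).map lu ≫ a₀) a₀ := by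
      rw [Functor.map_comp]
      exact ((yon_isPullback a2).flip.paste_horiz sR.flip).flip
    exact (yon_isPullback b2).flip.paste_vert s2.flip |>.flip
  let i := (yon S).preimageIso (t1.isoIsPullback _ _ t2)
  have hi : prod.lift (pullback.fst (pullback.snd u fst ≫ snd) v ≫ pullback.fst u fst)
      (pullback.snd (pullback.snd u fst ≫ snd) v) = i.hom ≫ prod.lift
        (pullback.fst (pullback.snd lu r₁ ≫ r₂) lv ≫ pullback.fst lu r₁)
        (pullback.snd (pullback.snd lu r₁ ≫ r₂) lv) := by
    apply Limits.prod.hom_ext <;> simp only [Category.assoc, Limits.prod.lift_fst, Limits.prod.lift_snd] <;>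
      apply (yon S).map_injective
    · rw [Functor.map_comp (f := i.hom)]
      simp [i]
    · rw [Functor.map_comp (f := i.hom)]
      simp [i]
  have hQ1 : QuasiCompact (prod.lift (pullback.fst (pullback.snd u fst ≫ snd) v ≫ pullback.fst u fst)
      (pullback.snd (pullback.snd u fst ≫ snd) v)).left := by
    rw [hi]
    show QuasiCompact (i.hom.left ≫ _)
    infer_instance
  have := FpqcDescent.quasiCompact_descendsAlong.{u}
  have hm₁ : IsPullback (prod.map u (𝟙 V')).left ((prod.fst : prod U' V' ⟶ U').left) (prod.fst : prod U V' ⟶ U).left u.left :=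
    left_isPullback (isPullback_prodMap_left u)
  have hcov : (@Surjective ⊓ @Flat ⊓ @LocallyOfFinitePresentation : MorphismProperty Scheme) (prod.map u v).left := by
    have h₁ : Etale (prod.map u (𝟙 V')).left ∧ Surjective (prod.map u (𝟙 V')).left :=
      ⟨MorphismProperty.of_isPullback (P := @Etale) hm₁.flip ‹_›,
       MorphismProperty.of_isPullback (P := @Surjective) hm₁.flip ‹_›⟩
    have hm₂ : IsPullback (prod.map (𝟙 U) v).left ((prod.snd : prod U V' ⟶ V').left) (prod.snd : prod U V ⟶ V).left v.left :=
      left_isPullback (isPullback_prodMap_right v)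
    have h₂ : Etale (prod.map (𝟙 U) v).left ∧ Surjective (prod.map (𝟙 U) v).left :=
      ⟨MorphismProperty.of_isPullback (P := @Etale) hm₂.flip ‹_›,
       MorphismProperty.of_isPullback (P := @Surjective) hm₂.flip ‹_›⟩
    have e : prod.map u v = prod.map u (𝟙 V') ≫ prod.map (𝟙 U) v := by
      rw [Limits.prod.map_map, Category.comp_id, Category.id_comp]
    rw [e, Over.comp_left]
    obtain ⟨_, _⟩ := h₁
    obtain ⟨_, _⟩ := h₂
    exact ⟨⟨inferInstance, inferInstance⟩, inferInstance⟩
  exact MorphismProperty.of_isPullback_of_descendsAlong (P := @QuasiCompact)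
    (Q := @Surjective ⊓ @Flat ⊓ @LocallyOfFinitePresentation) (left_isPullback p1) hcov hQ1

end Groth.Agent.AlgSpFin
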