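import Groth.Agent.AlgSpFin.SchemePiece

/-!
A decent space has a dense open subscheme.
-/

set_option autoImplicit false
set_option backward.isDefEq.respectTransparency.types false

universe u

open CategoryTheory CategoryTheory.Limits AlgebraicGeometry Opposite AlgSp

namespace Groth.Agent.AlgSpFin

open Groth.Agent.AlgSpLib

variable {S : Scheme.{u}}

/-- A family of monomorphisms with disjoint images gives a monomorphism from the sum. -/
theorem mono_sigma_of_disjoint {X : Sp S} {I : Type u} {C : I → Over S} (φ : ∀ i, (yon S).obj (C i) ⟶ X)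
    [hm : ∀ i, Mono (φ i)] {Φ : (yon S).obj (sigmaOverF C) ⟶ X}
    (hΦ : ∀ i, (yon S).map (sigmaOverFι C i) ≫ Φ = φ i)
    (hd : ∀ i k (m : (C i).left) (m' : (C k).left), Points.ofPt (φ i) m = Points.ofPt (φ k) m' → i = k) :
    Mono Φ := by
  have hΦpt : ∀ i (m : (C i).left), Points.ofPt Φ ((sigmaOverFι C i).left m) = Points.ofPt (φ i) m := fun i m => by
    rw [← ofPt_comp, hΦ i]
  refine ⟨fun {Y} u v huv => hom_ext_yon fun T w => ?_⟩
  obtain ⟨f, hf⟩ := (yon S).map_surjective (w ≫ u)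
  obtain ⟨g, hg⟩ := (yon S).map_surjective (w ≫ v)
  suffices f = g by rw [← hf, ← hg, this]
  have hfg : (yon S).map f ≫ Φ = (yon S).map g ≫ Φ := by rw [hf, hg, Category.assoc, Category.assoc, huv]
  refine Over.OverMorphism.ext
    (Scheme.Cover.hom_ext ((sigmaOpenCover fun i => (C i).left).pullback₁ f.left) _ _ fun i => ?_)
  let P := pullback f.left (Sigma.ι (fun i => (C i).left) i)
  let c : P ⟶ T.left := pullback.fst _ _
  let f₁ : P ⟶ (C i).left := pullback.snd _ _
  have hc : c ≫ f.left = f₁ ≫ Sigma.ι (fun i => (C i).left) i := pullback.condition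
  have hr : Set.range (c ≫ g.left) ⊆ Set.range (Sigma.ι (fun i => (C i).left) i) := by
    rintro _ ⟨z, rfl⟩
    obtain ⟨k, y, hy⟩ := (sigmaOpenCover fun i => (C i).left).exists_eq ((c ≫ g.left) z)
    have hy' : Sigma.ι (fun i => (C i).left) k y = g.left (c z) := hy
    have e₁ : Points.ofPt ((yon S).map f ≫ Φ) (c z) = Points.ofPt (φ i) (f₁ z) := by
      rw [ofPt_comp, show f.left (c z) = Sigma.ι (fun i => (C i).left) i (f₁ z) by
        rw [← Scheme.Hom.comp_apply, ← Scheme.Hom.comp_apply, hc]]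
      exact hΦpt i _
    have e₂ : Points.ofPt ((yon S).map g ≫ Φ) (c z) = Points.ofPt (φ k) y := by
      rw [ofPt_comp, ← hy']
      exact hΦpt k y
    rw [hfg, e₂] at e₁
    obtain rfl := hd k i y (f₁ z) e₁
    exact ⟨y, hy'⟩
  let g₁ := IsOpenImmersion.lift (Sigma.ι (fun i => (C i).left) i) (c ≫ g.left) hr
  have hg₁ : g₁ ≫ Sigma.ι (fun i => (C i).left) i = c ≫ g.left := IsOpenImmersion.lift_fac _ _ _
  let P' : Over S := Over.mk (c ≫ T.hom)
  let c' : P' ⟶ T := Over.homMk c rfl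
  let F₁ : P' ⟶ C i := Over.homMk f₁ (by
    show f₁ ≫ (C i).hom = c ≫ T.hom
    rw [← Over.w f, ← Category.assoc, hc, Category.assoc, ← Over.w (sigmaOverFι C i)]; rfl)
  let G₁ : P' ⟶ C i := Over.homMk g₁ (by
    show g₁ ≫ (C i).hom = c ≫ T.hom
    rw [← Over.w g, ← Category.assoc, ← hg₁, Category.assoc, ← Over.w (sigmaOverFι C i)]; rfl)
  have e₁ : c' ≫ f = F₁ ≫ sigmaOverFι C i := Over.OverMorphism.ext hc
  have e₂ : c' ≫ g = G₁ ≫ sigmaOverFι C i := Over.OverMorphism.ext hg₁.symm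
  have := hm i
  have : F₁ = G₁ := (yon S).map_injective ((cancel_mono (φ i)).1 (by
    rw [← hΦ i, ← Category.assoc, ← Category.assoc, ← Functor.map_comp, ← Functor.map_comp, ← e₁, ← e₂,
      Functor.map_comp, Functor.map_comp, Category.assoc, Category.assoc, hfg]))
  exact congrArg CommaMorphism.left (show c' ≫ f = c' ≫ g by rw [e₁, e₂, this])

/-- A sum of etale maps from schemes is etale. -/
theorem repWith_etale_sigma {X : Sp S} (hX : IsAlgSpace X) {I : Type u} {C : I → Over S}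
    (φ : ∀ i, (yon S).obj (C i) ⟶ X) (h : ∀ i, RepWith @Etale (φ i)) {Φ : (yon S).obj (sigmaOverF C) ⟶ X}
    (hΦ : ∀ i, (yon S).map (sigmaOverFι C i) ≫ Φ = φ i) : RepWith @Etale Φ := by
  refine repWith_of_rep (hX.representable_from_yon Φ) fun T V g fst snd sq => ?_
  obtain ⟨f, rfl⟩ := (yon S).map_surjective fst
  refine IsZariskiLocalAtSource.of_openCover (P := @Etale)
    ((sigmaOpenCover fun i => (C i).left).pullback₁ f.left) fun i => ?_
  have sP := IsPullback.of_hasPullback f (sigmaOverFι C i)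
  have sY : IsPullback ((yon S).map (pullback.snd f (sigmaOverFι C i)))
      ((yon S).map (pullback.fst f (sigmaOverFι C i) ≫ snd)) (φ i) g := by
    rw [← hΦ i, Functor.map_comp]
    exact (yon_isPullback sP).flip.paste_vert sq
  have he : Etale (pullback.fst f (sigmaOverFι C i) ≫ snd).left := prop_snd sY (h i)
  have sL := left_isPullback sP
  have sS : IsPullback (pullback.fst f.left (Sigma.ι (fun i => (C i).left) i))
      (pullback.snd f.left (Sigma.ι (fun i => (C i).left) i)) f.left (Sigma.ι (fun i => (C i).left) i) :=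
    IsPullback.of_hasPullback _ _
  rw [Over.comp_left, ← sL.isoIsPullback_hom_fst _ _ sS, Category.assoc,
    MorphismProperty.cancel_left_of_respectsIso @Etale] at he
  exact he

/-- A decent space has a dense open subscheme. -/
theorem exists_dense_open_scheme {X : Sp S} (hX : IsAlgSpace X) (hd : IsDecent X) :
    ∃ (M : Over S) (Φ : (yon S).obj M ⟶ X), RepWith @IsOpenImmersion Φ ∧ Dense (Set.range (Points.map Φ)) := by
  obtain ⟨U₀, a₀, ha₀, ha₀s⟩ := hX.atlas
  have : Small.{u} (Points X) := small_of_surjective (surjective_ofPt ha₀s)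
  let IsPiece : Set (Points X) → Prop := fun O => ∃ (M : Over S) (φ : (yon S).obj M ⟶ X),
    Nonempty M.left ∧ Mono φ ∧ RepWith @Etale φ ∧ Set.range (Points.ofPt φ) = O
  let 𝔉 : Set (Set (Set (Points X))) := {F | (∀ O ∈ F, IsPiece O) ∧ F.PairwiseDisjoint id}
  obtain ⟨F, hF⟩ := zorn_subset 𝔉 fun c hc hchain =>
    ⟨⋃₀ c, ⟨fun O ⟨F, hFc, hOF⟩ => (hc hFc).1 O hOF,
      (Set.pairwiseDisjoint_sUnion hchain.directedOn).2 fun F hFc => (hc hFc).2⟩,
      fun F hFc => Set.subset_sUnion_of_mem hFc⟩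
  let I : Type u := Shrink.{u} F
  let pc : I ≃ F := (equivShrink F).symm
  choose C φ hne hmono het hrange using fun i : I => hF.1.1 (pc i).1 (pc i).2
  obtain ⟨Φ, hΦ, -⟩ := existsUnique_sigmaOverF_desc C φ
  have := hmono
  have : Mono Φ := mono_sigma_of_disjoint φ hΦ fun i k m m' e => by
    refine pc.injective (Subtype.ext (hF.1.2.elim_set (pc i).2 (pc k).2 (Points.ofPt (φ i) m) ?_ ?_))
    · rw [id, ← hrange i]; exact ⟨m, rfl⟩
    · rw [id, ← hrange k]; exact ⟨m', e.symm⟩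
  have hΦe := repWith_etale_sigma hX φ het hΦ
  refine ⟨sigmaOverF C, Φ, repWith_isOpenImmersion_of_etale_mono (IsAlgSpace.yon_obj _) hX Φ
    ((locP_iff_repWith hX hΦe.1).2 hΦe), ?_⟩
  rw [range_map_yon]
  have hsub : ∀ i, Set.range (Points.ofPt (φ i)) ⊆ Set.range (Points.ofPt Φ) := by
    rintro i _ ⟨m, rfl⟩
    exact ⟨(sigmaOverFι C i).left m, by rw [← ofPt_comp, hΦ i]⟩
  by_contra hnd
  rw [dense_iff_closure_eq] at hnd
  obtain ⟨x, hx⟩ := (Set.ne_univ_iff_exists_notMem _).1 hnd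
  obtain ⟨M, ψ, -, hMne, hψm, hψe, hψO⟩ := exists_affine_piece hX hd isClosed_closure.isOpen_compl ⟨x, hx⟩
  have hnew : insert (Set.range (Points.ofPt ψ)) F ∈ 𝔉 :=
    ⟨Set.forall_mem_insert.2 ⟨⟨M, ψ, hMne, hψm, hψe, rfl⟩, hF.1.1⟩,
      hF.1.2.insert fun O hO _ => Set.disjoint_left.2 fun y ⟨m, hm⟩ hy => by
        obtain ⟨i, hi⟩ := pc.surjective ⟨O, hO⟩
        have hy' : y ∈ Set.range (Points.ofPt (φ i)) := by rw [hrange i, hi]; exact hy
        exact hψO m (hm ▸ subset_closure (hsub i hy'))⟩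
  have hmem := hF.2 hnew (Set.subset_insert _ _) (Set.mem_insert _ _)
  obtain ⟨i, hi⟩ := pc.surjective ⟨_, hmem⟩
  obtain ⟨m⟩ := hMne
  have hy' : Points.ofPt ψ m ∈ Set.range (Points.ofPt (φ i)) := by rw [hrange i, hi]; exact ⟨m, rfl⟩
  exact hψO m (subset_closure (hsub i hy'))

end Groth.Agent.AlgSpFin
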