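import Groth.Agent.AlgSpFin.EtaleFibres
import Groth.Agent.AlgSpFin.NoethQs
import Groth.Agent.AlgSpFin.BoundedDecent
import Groth.Agent.AlgSpFin.ImmersionTop
import Groth.Agent.S10337

/-!
Decent spaces with finitely many components and their dense open subschemes.
-/

set_option autoImplicit false
set_option backward.isDefEq.respectTransparency.types false

universe u

open CategoryTheory CategoryTheory.Limits AlgebraicGeometry Opposite AlgSp TopologicalSpace

namespace Groth.Agent.AlgSpFin

open Groth.Agent.AlgSpLib

variable {S : Scheme.{u}}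

/-- The chart has finitely many points over the field point. -/
def FinPt {X : Sp S} {V : Over S} (b : (yon S).obj V ⟶ X) (T : Over S) (q : (yon S).obj T ⟶ X) : Prop :=
  ∀ (W : Over S) (fst : W ⟶ V) (snd : W ⟶ T), IsPullback ((yon S).map fst) ((yon S).map snd) b q → Finite W.left

/-- The property is preserved by field extensions. -/
theorem finPt_comp {X : Sp S} {V : Over S} {b : (yon S).obj V ⟶ X} (hb : RepWith @Etale b) {K L : Type u} [Field K]
    [Field L] {sK : Spec (CommRingCat.of K) ⟶ S} {sL : Spec (CommRingCat.of L) ⟶ S}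
    (q : (yon S).obj (Over.mk sK) ⟶ X) (σ : Over.mk sL ⟶ Over.mk sK) (h : FinPt b _ q) :
    FinPt b _ ((yon S).map σ ≫ q) := by
  intro W' c' d' sW'
  obtain ⟨W, c, d, sW⟩ := exists_isPullback hb.1 q
  have : Finite W.left := h W c d sW
  obtain ⟨l, hl₁, hl₂⟩ := exists_lift sW ((yon S).map c') (d' ≫ σ) (by
    rw [sW'.w, Functor.map_comp, Category.assoc])
  have sl : IsPullback l d' d σ := isPullback_of_yon
    (IsPullback.of_right (by rw [hl₁]; exact sW') (by rw [← Functor.map_comp, hl₂, Functor.map_comp]) sW)
  have : Etale d.left := prop_snd sW hb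
  let dK : W.left ⟶ Spec (CommRingCat.of K) := d.left
  have : DiscreteTopology W.left := discreteTopology_of_etale_field (K := K) dK
  have : Finite (Over.mk sK).left := inferInstanceAs (Finite (PrimeSpectrum K))
  have : DiscreteTopology (Over.mk sK).left := inferInstanceAs (DiscreteTopology (PrimeSpectrum K))
  have : IsFinite d.left := isFinite_of_etale_discrete d.left
  have : IsFinite d'.left := MorphismProperty.of_isPullback (P := @IsFinite) (left_isPullback sl) ‹_›
  have : Finite (Over.mk sL).left := inferInstanceAs (Finite (PrimeSpectrum L))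
  exact finite_points_of_lqf_over_field d'.left

/-- The property at a chart point is finiteness of a fibre of the relation. -/
theorem finPt_iff_fibre {X : Sp S} {V R : Over S} {b : (yon S).obj V ⟶ X} {r₁ r₂ : R ⟶ V}
    (sR : IsPullback ((yon S).map r₁) ((yon S).map r₂) b b) (hb : RepWith @Etale b) (v : V.left) :
    FinPt b (Over.mk (V.left.fromSpecResidueField v ≫ V.hom))
      ((yon S).map (Over.homMk (V.left.fromSpecResidueField v) rfl) ≫ b) ↔ (r₂.left ⁻¹' {v}).Finite := by
  let k : Over.mk (V.left.fromSpecResidueField v ≫ V.hom) ⟶ V := Over.homMk (V.left.fromSpecResidueField v) rfl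
  obtain ⟨W, c, d, sW⟩ := exists_isPullback hb.1 ((yon S).map k ≫ b)
  obtain ⟨l, hl₁, hl₂⟩ := exists_lift sR ((yon S).map c) (d ≫ k) (by
    rw [sW.w, Functor.map_comp, Category.assoc])
  have sl : IsPullback l d r₂ k := isPullback_of_yon
    (IsPullback.of_right (by rw [hl₁]; exact sW) (by rw [← Functor.map_comp, hl₂, Functor.map_comp]) sR)
  constructor
  · intro h
    have : Finite W.left := h W c d sW
    refine (Set.finite_range l.left).subset fun r (hr : r₂.left r = v) => ?_
    obtain ⟨w, hw, -⟩ := Scheme.exists_preimage_of_isPullback (left_isPullback sl) r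
      (IsLocalRing.closedPoint (V.left.residueField v) : PrimeSpectrum _)
      (hr.trans (V.left.fromSpecResidueField_apply v _).symm)
    exact ⟨w, hw⟩
  · intro h W' c' d' sW'
    obtain ⟨l', hl'₁, hl'₂⟩ := exists_lift sR ((yon S).map c') (d' ≫ k) (by
      rw [sW'.w, Functor.map_comp, Category.assoc])
    have sl' : IsPullback l' d' r₂ k := isPullback_of_yon
      (IsPullback.of_right (by rw [hl'₁]; exact sW') (by rw [← Functor.map_comp, hl'₂, Functor.map_comp]) sR)
    have : IsPreimmersion k.left := inferInstanceAs (IsPreimmersion (V.left.fromSpecResidueField v))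
    have : IsPreimmersion l'.left := MorphismProperty.of_isPullback (P := @IsPreimmersion) (left_isPullback sl').flip ‹_›
    have hf := h.preimage (f := l'.left) l'.left.isEmbedding.injective.injOn
    refine Set.finite_univ_iff.1 (hf.subset fun w _ => ?_)
    have e := congrArg (fun m => m.left w) sl'.w
    exact (show r₂.left (l'.left w) = k.left (d'.left w) from e).trans (V.left.fromSpecResidueField_apply v _)

/-- Over generic points with quasi-compact field points the charts have finite relation fibres. -/
theorem isDecent_of_generic_qc {X : Sp S} (hX : IsAlgSpace X) {X' : Over S} (j : (yon S).obj X' ⟶ X)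
    (hj : RepWith @IsOpenImmersion j) (hd : Dense (Set.range (Points.ofPt j)))
    (hfin : (irreducibleComponents ↥X'.left).Finite)
    (hqc : ∀ x' : X'.left, (∃ T ∈ irreducibleComponents ↥X'.left, IsGenericPoint x' T) →
      RepWith @QuasiCompact (FieldPt.ofPt j x').toHom) : IsDecent X := by
  let G : Set X'.left := {x' | ∃ T ∈ irreducibleComponents ↥X'.left, IsGenericPoint x' T}
  have hG : G.Finite := by
    refine (hfin.biUnion (t := fun T => {x' : X'.left | IsGenericPoint x' T}) fun T _ =>
      Set.Subsingleton.finite fun x hx y hy => hx.eq hy).subset ?_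
    rintro x ⟨T, hT, hx⟩
    exact Set.mem_biUnion hT hx
  have hjm : Mono j := mono_of_repWith hj fun _ _ k hk => by
    have : IsOpenImmersion k := hk
    infer_instance
  have key : ∀ {V : Over S} (b : (yon S).obj V ⟶ X), IsAffine V.left → RepWith @Etale b → ∀ v : V.left,
      FinPt b (Over.mk (V.left.fromSpecResidueField v ≫ V.hom))
        ((yon S).map (Over.homMk (V.left.fromSpecResidueField v) rfl) ≫ b) := by
    intro V b hV hb v
    -- finiteness over the generic points
    have hfpt : ∀ x' ∈ G, FinPt b (FieldPt.ofPt j x').pt (FieldPt.ofPt j x').toHom := by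
      intro x' hx' W c d sW
      have : QuasiCompact c.left := prop_snd sW.flip (hqc x' hx')
      have : Etale d.left := prop_snd sW hb
      have : CompactSpace W.left := QuasiCompact.compactSpace_of_compactSpace c.left
      let dK : W.left ⟶ Spec (CommRingCat.of (X'.left.residueField x')) := d.left
      have : Etale dK := ‹Etale d.left›
      have : DiscreteTopology W.left := discreteTopology_of_etale_field (K := X'.left.residueField x') dK
      exact finite_of_compact_of_discrete
    let Γ : Set V.left := {z | ∃ x' ∈ G, Points.ofPt b z = Points.ofPt j x'}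
    have hΓ : Γ.Finite := by
      refine (hG.biUnion (t := fun x' => {z : V.left | Points.ofPt b z = Points.ofPt j x'}) fun x' hx' => ?_).subset
        fun z ⟨x', hx', hz⟩ => Set.mem_biUnion hx' hz
      obtain ⟨W, c, d, sW⟩ := exists_isPullback hb.1 (FieldPt.ofPt j x').toHom
      have : Finite W.left := hfpt x' hx' W c d sW
      refine (Set.finite_range c.left).subset fun z (hz : Points.ofPt b z = _) => ?_
      obtain ⟨w, hw, -⟩ := (ofPt_eq_iff sW z (IsLocalRing.closedPoint (X'.left.residueField x') : PrimeSpectrum _)).1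
        (hz.trans (Points.ofPt_toHom (FieldPt.ofPt j x') _).symm)
      exact ⟨w, hw⟩
    obtain ⟨P, p₁, p₂, sP⟩ := exists_isPullback hj.1 b
    have : Etale p₁.left := prop_snd sP.flip hb
    have hO : Points.ofPt b ⁻¹' Set.range (Points.ofPt j) ⊆ ⋃ z ∈ Γ, closure {z} := by
      rintro z ⟨x, hx⟩
      obtain ⟨w, hw₁, hw₂⟩ := (ofPt_eq_iff sP x z).1 hx
      obtain ⟨x', hx'⟩ := QuasiSober.sober (isIrreducible_irreducibleComponent (x := x)) isClosed_irreducibleComponent
      have hx'G : x' ∈ G := ⟨_, irreducibleComponent_mem_irreducibleComponents x, hx'⟩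
      have hsp : x' ⤳ p₁.left w := hw₁ ▸ hx'.specializes mem_irreducibleComponent
      obtain ⟨w', hw'w, hw'⟩ := Flat.generalizingMap p₁.left hsp
      refine Set.mem_biUnion (x := p₂.left w') ⟨x', hx'G, ?_⟩ (specializes_iff_mem_closure.1 ?_)
      · exact ((ofPt_eq_iff sP x' (p₂.left w')).2 ⟨w', hw', rfl⟩).symm
      · rw [← hw₂]; exact hw'w.map p₂.left.continuous
    obtain ⟨η, hη, hmax⟩ : ∃ η : V.left, η ⤳ v ∧ ∀ a, a ⤳ η → a = η := by
      obtain ⟨η, hη⟩ := QuasiSober.sober (isIrreducible_irreducibleComponent (x := v)) isClosed_irreducibleComponent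
      refine ⟨η, hη.specializes mem_irreducibleComponent, fun a ha => GenericFinite.eq_of_specializes ?_ ha⟩
      rw [hη.def]
      exact irreducibleComponent_mem_irreducibleComponents v
    have hcl : IsClosed (⋃ z ∈ Γ, closure ({z} : Set V.left)) := hΓ.isClosed_biUnion fun z _ => isClosed_closure
    obtain ⟨g, hgΓ, hgη⟩ := Set.mem_iUnion₂.1
      (closure_minimal hO hcl (hd.preimage (isOpenMap_ofPt_of_etale hb) η))
    have hgη' := hmax g (specializes_iff_mem_closure.2 hgη)
    subst hgη'
    obtain ⟨x', hx'G, hgx'⟩ := hgΓ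
    have : Mono (FieldPt.ofPt j x').toHom := by
      rw [FieldPt.toHom_ofPt]
      let kk : Over.mk (X'.left.fromSpecResidueField x' ≫ X'.hom) ⟶ X' := Over.homMk (X'.left.fromSpecResidueField x') rfl
      have h1 : Mono ((Over.forget S).map kk) := inferInstanceAs (Mono (X'.left.fromSpecResidueField x'))
      have : Mono kk := (Over.forget S).mono_of_mono_map h1
      have : Mono ((yon S).map kk) := ⟨fun u v e => hom_ext_yon fun W w => by
        obtain ⟨u', hu⟩ := (yon S).map_surjective (w ≫ u)
        obtain ⟨v', hv⟩ := (yon S).map_surjective (w ≫ v)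
        obtain rfl : u' = v' := (cancel_mono kk).1 ((yon S).map_injective (by
          rw [Functor.map_comp, Functor.map_comp, hu, hv, Category.assoc, Category.assoc, e]))
        rw [← hu, hv]⟩
      exact mono_comp ((yon S).map kk) _
    obtain ⟨σ, hσ⟩ := exists_factor_of_mono (Y := ⟨X, hX⟩) (FieldPt.ofPt b g) (FieldPt.ofPt j x') hgx'
    have hgfin := finPt_comp hb _ σ (hfpt x' hx'G)
    rw [hσ, FieldPt.toHom_ofPt] at hgfin
    obtain ⟨R, r₁, r₂, sR⟩ := exists_isPullback hb.1 b
    have : Etale r₂.left := prop_snd sR hb
    have : IsSeparated r₂.left := isSeparated_leg_of_affine sR.flip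
    rw [finPt_iff_fibre sR hb]
    exact finite_fibre_of_generization r₂.left hη ((finPt_iff_fibre sR hb g).1 hgfin)
  refine isDecent_of_finite_compact hX fun U V W a b fst snd sq hU hV =>
    compactSpace_of_affine_charts hX (fun U V W a b fst snd sq hU hV hb => ?_) a b fst snd sq hU
  have hfib : ∀ u : U.left, (fst.left ⁻¹' {u}).Finite := by
    intro u
    rcases (fst.left ⁻¹' {u}).eq_empty_or_nonempty with h | ⟨m, hm⟩
    · rw [h]; exact Set.finite_empty
    let M : Over S := Over.mk (W.left.fromSpecResidueField m ≫ W.hom)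
    let mM : M ⟶ W := Over.homMk (W.left.fromSpecResidueField m) rfl
    let v := snd.left m
    let σ : M ⟶ Over.mk (V.left.fromSpecResidueField v ≫ V.hom) :=
      Over.homMk (Spec.map (snd.left.residueFieldMap m)) (by
        show _ ≫ V.left.fromSpecResidueField v ≫ V.hom = W.left.fromSpecResidueField m ≫ W.hom
        rw [Scheme.Hom.SpecMap_residueFieldMap_fromSpecResidueField_assoc, Over.w snd])
    have hM : FinPt b M ((yon S).map σ ≫ (yon S).map (Over.homMk (V.left.fromSpecResidueField v) rfl) ≫ b) :=
      finPt_comp hb _ σ (key b hV hb v)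
    have hσ : σ ≫ Over.homMk (V.left.fromSpecResidueField v) rfl = mM ≫ snd :=
      Over.OverMorphism.ext (Scheme.Hom.SpecMap_residueFieldMap_fromSpecResidueField _ _)
    rw [← Category.assoc, ← Functor.map_comp, hσ] at hM
    have sF := IsPullback.of_hasPullback fst (mM ≫ fst)
    have : Finite (pullback fst (mM ≫ fst)).left := hM _ (pullback.fst fst (mM ≫ fst) ≫ snd) (pullback.snd _ _) (by
      rw [Functor.map_comp, Functor.map_comp (f := mM), Category.assoc, ← sq.w, ← Category.assoc ((yon S).map mM),
        ← Functor.map_comp]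
      exact (yon_isPullback sF).paste_horiz sq.flip)
    refine (Set.finite_range (pullback.fst fst (mM ≫ fst)).left).subset fun w (hw : fst.left w = u) => ?_
    obtain ⟨z, hz, -⟩ := Scheme.exists_preimage_of_isPullback (left_isPullback sF) w
      (IsLocalRing.closedPoint (W.left.residueField m) : PrimeSpectrum _) (hw.trans (by
        show u = fst.left (mM.left _)
        rw [show mM.left (IsLocalRing.closedPoint (W.left.residueField m) : PrimeSpectrum _) = m from
          Scheme.fromSpecResidueField_apply _ _]
        exact hm.symm))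
    exact ⟨z, hz⟩
  have : (Set.univ : Set W.left).Finite :=
    (Set.finite_iUnion hfib).subset fun w _ => Set.mem_iUnion.2 ⟨fst.left w, rfl⟩
  have := Set.finite_univ_iff.1 this
  infer_instance

/-- Decent spaces with finitely many components. -/
theorem decent_finite_components_iff (X : Space S) :
    (IsDecent X.obj ∧ (irreducibleComponents (Points X.obj)).Finite) ↔
      ∃ (X' : Over S) (j : (yon S).obj X' ⟶ X.obj), RepWith @IsOpenImmersion j ∧
        Dense (Set.range (Points.ofPt j)) ∧ (irreducibleComponents ↥X'.left).Finite ∧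
        ∀ x' : ↥X'.left, (∃ T ∈ irreducibleComponents ↥X'.left, IsGenericPoint x' T) →
          RepWith @QuasiCompact (FieldPt.ofPt j x').toHom := by
  constructor
  · rintro ⟨hd, hfin⟩
    obtain ⟨X₁, j₁, hj₁, hrep, hdense⟩ := S10337.result X hd
    obtain ⟨X', ⟨r⟩⟩ := hrep.has_representation
    let e := isoOfRepresentableBy r
    let j : (yon S).obj X' ⟶ X.obj := e.hom ≫ j₁.hom
    have hje : RepWith @IsOpenImmersion j := repWith_comp (repWith_iso e.hom) hj₁
    have : Mono j := mono_of_repWith hje fun _ _ k hk => by
      have : IsOpenImmersion k := hk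
      infer_instance
    have hrange : Set.range (Points.ofPt j) = Set.range (Points.map j₁.hom) := by
      ext y
      constructor
      · rintro ⟨t, rfl⟩
        exact ⟨Points.ofPt e.hom t, Points.map_ofPt _ _ _⟩
      · rintro ⟨z, rfl⟩
        obtain ⟨t, ht⟩ := exists_ofScheme (Points.map e.inv z)
        refine ⟨t, ?_⟩
        rw [← map_ofPt_id j t, ht, ← Points.map_comp]
        simp [j]
    have hemb : Topology.IsOpenEmbedding (Points.ofPt j : X'.left → Points X.obj) := by
      refine .of_continuous_injective_isOpenMap (Points.continuous_ofPt j) ?_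
        (isOpenMap_ofPt_of_etale (repWith_mono (fun _ _ k hk => by
          have : IsOpenImmersion k := hk
          infer_instance) hje))
      intro t t' h
      rw [← map_ofPt_id j t, ← map_ofPt_id j t'] at h
      exact (Points.schemeEquiv X').injective (injective_map_of_mono j h)
    refine ⟨X', j, hje, hrange ▸ hdense, ?_, ?_⟩
    · have hex : ∀ T : irreducibleComponents ↥X'.left, ∃ C : irreducibleComponents (Points X.obj),
          Points.ofPt j ⁻¹' C.1 = T.1 := fun T => by
        obtain ⟨C, hC, hTC⟩ := exists_mem_irreducibleComponents_subset_of_isIrreducible _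
          (T.2.1.image _ (Points.continuous_ofPt j).continuousOn)
        obtain ⟨t, ht⟩ := T.2.1.1
        have h1 := preimage_mem_irreducibleComponents hC hemb ⟨_, hTC ⟨t, ht, rfl⟩, t, rfl⟩
        exact ⟨⟨C, hC⟩, (T.2.2 h1.1 fun x hx => hTC ⟨x, hx, rfl⟩).antisymm fun x hx => hTC ⟨x, hx, rfl⟩⟩
      choose C hC using hex
      have : Finite (irreducibleComponents (Points X.obj)) := hfin.to_subtype
      exact Set.finite_coe_iff.1 (Finite.of_injective C fun T T' e => Subtype.ext (by rw [← hC T, ← hC T', e]))
    · intro x' _
      let q := FieldPt.ofPt j x'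
      have : Mono q.toHom := by
        rw [FieldPt.toHom_ofPt]
        let kk : Over.mk (X'.left.fromSpecResidueField x' ≫ X'.hom) ⟶ X' := Over.homMk (X'.left.fromSpecResidueField x') rfl
        have h1 : Mono ((Over.forget S).map kk) := inferInstanceAs (Mono (X'.left.fromSpecResidueField x'))
        have : Mono kk := (Over.forget S).mono_of_mono_map h1
        have : Mono ((yon S).map kk) := ⟨fun u v e => hom_ext_yon fun W w => by
          obtain ⟨u', hu⟩ := (yon S).map_surjective (w ≫ u)
          obtain ⟨v', hv⟩ := (yon S).map_surjective (w ≫ v)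
          obtain rfl : u' = v' := (cancel_mono kk).1 ((yon S).map_injective (by
            rw [Functor.map_comp, Functor.map_comp, hu, hv, Category.assoc, Category.assoc, e]))
          rw [← hu, hv]⟩
        exact mono_comp ((yon S).map kk) _
      obtain ⟨p, hp, hpm, hpq⟩ := hd (Points.mk q)
      obtain ⟨c, hc⟩ := exists_factor_of_mono q p hp.symm
      obtain ⟨d, hd'⟩ := exists_factor_of_mono p q hp
      have : IsIso ((yon S).map c) := ⟨(yon S).map d,
        (cancel_mono q.toHom).1 (by rw [Category.assoc, hd', hc, Category.id_comp]),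
        (cancel_mono p.toHom).1 (by rw [Category.assoc, hc, hd', Category.id_comp])⟩
      rw [← hc]
      exact repWith_comp (repWith_iso _) hpq
  · rintro ⟨X', j, hj, hd, hfin, hqc⟩
    refine ⟨isDecent_of_generic_qc X.property j hj hd hfin hqc, ?_⟩
    refine (hfin.image (fun T => closure (Points.ofPt j '' T))).subset fun C hC => ?_
    have hcl : IsClosed (⋃ T ∈ irreducibleComponents ↥X'.left, closure (Points.ofPt j '' T)) :=
      hfin.isClosed_biUnion fun T _ => isClosed_closure
    have huniv : C ⊆ ⋃₀ ↑(hfin.toFinset.image fun T => closure (Points.ofPt j '' T)) := fun x _ => by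
      have := closure_minimal (t := ⋃ T ∈ irreducibleComponents ↥X'.left, closure (Points.ofPt j '' T)) (by
        rintro _ ⟨t, rfl⟩
        exact Set.mem_biUnion (irreducibleComponent_mem_irreducibleComponents t)
          (subset_closure ⟨t, mem_irreducibleComponent, rfl⟩)) hcl (hd x)
      obtain ⟨T, hT, hx⟩ := Set.mem_iUnion₂.1 this
      exact ⟨_, Finset.mem_coe.2 (Finset.mem_image.2 ⟨T, hfin.mem_toFinset.2 hT, rfl⟩), hx⟩
    obtain ⟨z, hz, hCz⟩ := isIrreducible_iff_sUnion_isClosed.1 hC.1 _ (fun z hz => by
      obtain ⟨T, -, rfl⟩ := Finset.mem_image.1 hz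
      exact isClosed_closure) huniv
    obtain ⟨T, hT, rfl⟩ := Finset.mem_image.1 hz
    exact ⟨T, hfin.mem_toFinset.1 hT, ((hC.2 ((hfin.mem_toFinset.1 hT).1.image _
      (Points.continuous_ofPt j).continuousOn).closure hCz).antisymm hCz)⟩

end Groth.Agent.AlgSpFin
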