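import Groth.Agent.AlgSpFin.DiscreteScheme
import Groth.Agent.AlgSpLib.Compact

/-!
Decency descends along quasi-compact surjective morphisms.
-/

set_option autoImplicit false
set_option backward.isDefEq.respectTransparency.types false

universe u

open CategoryTheory CategoryTheory.Limits AlgebraicGeometry Opposite AlgSp

namespace Groth.Agent.AlgSpFin

open Groth.Agent.AlgSpLib

variable {S : Scheme.{u}}

/-- Over a decent space a finite scheme meets a compact scheme in a compact one. -/
theorem compactSpace_pullback_of_isDecent {X : Sp S} (hX : IsAlgSpace X) (hd : IsDecent X) {U V W : Over S}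
    {a : (yon S).obj U ⟶ X} {b : (yon S).obj V ⟶ X} {fst : W ⟶ U} {snd : W ⟶ V}
    (sq : IsPullback ((yon S).map fst) ((yon S).map snd) a b) [Finite U.left] [CompactSpace V.left] :
    CompactSpace W.left := by
  have key : ∀ v : U.left, IsCompact (fst.left ⁻¹' {v}) := fun v => by
    obtain ⟨p, hp, hm, hq⟩ := hd (Points.mk (FieldPt.ofPt a v))
    obtain ⟨c, hc, -⟩ := existsUnique_factor_of_mono hX p (FieldPt.ofPt a v) hp
    rw [FieldPt.toHom_ofPt] at hc
    let k : Over.mk (U.left.fromSpecResidueField v ≫ U.hom) ⟶ U := Over.homMk (U.left.fromSpecResidueField v) rfl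
    let c' : Over.mk (U.left.fromSpecResidueField v ≫ U.hom) ⟶ p.pt := c
    have hc' : (yon S).map c' ≫ p.toHom = (yon S).map k ≫ a := hc
    have hk : RepWith @QuasiCompact ((yon S).map k ≫ a) := by
      rw [← hc']
      exact repWith_yon_comp (P := @QuasiCompact) c' (quasiCompact_of_field (K := U.left.residueField v) c'.left) hq
    obtain ⟨F, i, j, sF⟩ : ∃ (F : Over S) (i : F ⟶ Over.mk (U.left.fromSpecResidueField v ≫ U.hom)) (j : F ⟶ W),
        IsPullback i j k fst := ⟨_, _, _, IsPullback.of_hasPullback k fst⟩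
    have sY : IsPullback ((yon S).map i) ((yon S).map (j ≫ snd)) ((yon S).map k ≫ a) b := by
      rw [Functor.map_comp]; exact (yon_isPullback sF).paste_vert sq
    have : QuasiCompact (j ≫ snd).left := prop_snd sY hk
    have : CompactSpace F.left := QuasiCompact.compactSpace_of_compactSpace (j ≫ snd).left
    convert isCompact_range (f := ⇑j.left) j.left.continuous using 1
    ext w
    constructor
    · intro (hw : fst.left w = v)
      obtain ⟨y, -, hy⟩ := Scheme.exists_preimage_of_isPullback (left_isPullback sF)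
        (IsLocalRing.closedPoint (U.left.residueField v)) w
        ((Scheme.fromSpecResidueField_apply _ _).trans hw.symm)
      exact ⟨y, hy⟩
    · rintro ⟨y, rfl⟩
      show fst.left (j.left y) = v
      rw [← Scheme.Hom.comp_apply, ← Over.comp_left, ← sF.w, Over.comp_left, Scheme.Hom.comp_apply]
      exact Scheme.fromSpecResidueField_apply _ _
  refine ⟨?_⟩
  rw [show (Set.univ : Set W.left) = ⋃ v : U.left, fst.left ⁻¹' {v} by ext; simp]
  exact isCompact_iUnion key

/-- Decency descends along quasi-compact surjective morphisms. -/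
theorem isDecent_of_qc_surjective {X Y : Sp S} (hX : IsAlgSpace X) (hY : IsAlgSpace Y) (f : X ⟶ Y)
    (hq : IsQuasiCompactMor f) (hs : IsSurjectiveMor f) (hd : IsDecent X) : IsDecent Y := by
  refine isDecent_of_finite_compact hY fun {U V W} a b fst snd sq _ _ => ?_
  -- lift the points of `U` to `X`
  have hex : ∀ u : U.left, ∃ r : FieldPt (pullback f a), Points.map (pullback.snd f a) (Points.mk r) =
      Points.ofPt (𝟙 _) u := fun u => by
    obtain ⟨z, hz⟩ := surjective_snd (IsPullback.of_hasPullback f a) hs (Points.ofPt (𝟙 _) u)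
    obtain ⟨r, rfl⟩ := Points.mk_surjective z
    exact ⟨r, hz⟩
  choose r hr using hex
  obtain ⟨d, hd', -⟩ := existsUnique_sigmaOverF_desc (fun u => (r u).pt) fun u => (r u).toHom
  let U' := sigmaOverF fun u => (r u).pt
  obtain ⟨π, hπ⟩ := (yon S).map_surjective (d ≫ pullback.snd f a)
  let a' : (yon S).obj U' ⟶ X := d ≫ pullback.fst f a
  have ha' : a' ≫ f = (yon S).map π ≫ a := by
    rw [hπ, Category.assoc, Category.assoc, pullback.condition]
  have : Finite U'.left := by
    refine Finite.of_surjective (fun u : U.left => (sigmaOverFι (fun u => (r u).pt) u).left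
      (IsLocalRing.closedPoint (r u).K : PrimeSpectrum (r u).K)) fun z => ?_
    obtain ⟨u, y, hy⟩ := (sigmaOpenCover fun u => (r u).pt.left).exists_eq z
    refine ⟨u, ?_⟩
    exact Eq.trans (congrArg (sigmaOverFι (fun u => (r u).pt) u).left
      (@Subsingleton.elim ↥(Spec (CommRingCat.of (r u).K)) inferInstance _ y)) hy
  have : Surjective π.left := ⟨fun u => by
    let s : (r u).pt.left := (IsLocalRing.closedPoint (r u).K : PrimeSpectrum (r u).K)
    refine ⟨(sigmaOverFι (fun u => (r u).pt) u).left s, (Points.schemeEquiv U).injective ?_⟩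
    show Points.ofPt (𝟙 _) (π.left ((sigmaOverFι (fun u => (r u).pt) u).left s)) = Points.ofPt (𝟙 _) u
    rw [← Scheme.Hom.comp_apply, ← Over.comp_left, ← ofPt_comp, Category.comp_id, Functor.map_comp, hπ,
      ← Category.assoc, hd' u, ← Points.map_ofPt, Points.ofPt_toHom, hr u]⟩
  obtain ⟨W₁, p₁, g, sW⟩ : ∃ (W₁ : Over S) (p₁ : W₁ ⟶ U') (g : W₁ ⟶ W), IsPullback p₁ g π fst :=
    ⟨_, _, _, IsPullback.of_hasPullback π fst⟩
  have : Surjective g.left := MorphismProperty.of_isPullback (P := @Surjective) (left_isPullback sW) inferInstance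
  have sq₁ : IsPullback ((yon S).map p₁) ((yon S).map (g ≫ snd)) (a' ≫ f) b := by
    rw [ha', Functor.map_comp]; exact (yon_isPullback sW).paste_vert sq
  have sP := IsPullback.of_hasPullback f b
  let l : (yon S).obj W₁ ⟶ pullback f b :=
    sP.lift ((yon S).map p₁ ≫ a') ((yon S).map (g ≫ snd)) (by rw [Category.assoc]; exact sq₁.w)
  have sL : IsPullback ((yon S).map p₁) l a' (pullback.fst f b) :=
    IsPullback.of_bot (by rw [show l ≫ pullback.snd f b = _ from sP.lift_snd _ _ _]; exact sq₁)
      (sP.lift_fst _ _ _).symm sP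
  have hP := isAlgSpace_of_isPullback sP hX (IsAlgSpace.yon_obj _) hY
  obtain ⟨C, c, -, hcs, hC⟩ := hq (IsAlgSpace.yon_obj V) ⟨V, 𝟙 _, repWith_id _ V, repWith_id _ V, inferInstance⟩
    b _ _ sP
  obtain ⟨W₂, h, k, sC⟩ := exists_isPullback hcs.1 l
  have : Surjective k.left := prop_snd sC hcs
  have sX : IsPullback ((yon S).map (k ≫ p₁)) ((yon S).map h) a' (c ≫ pullback.fst f b) := by
    rw [Functor.map_comp]; exact sC.flip.paste_horiz sL
  have : CompactSpace W₂.left := compactSpace_pullback_of_isDecent hX hd sX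
  have : Surjective (k.left ≫ g.left) := inferInstance
  exact (k.left ≫ g.left).surjective.compactSpace (k.left ≫ g.left).continuous

/-- Points represented by monomorphisms descend along quasi-compact etale surjective morphisms. -/
theorem exists_mono_point_of_qc_etale {X Y : Sp S} (hX : IsAlgSpace X) (hY : IsAlgSpace Y) (f : X ⟶ Y)
    (hq : IsQuasiCompactMor f) (he : IsEtaleMor f) (hs : IsSurjectiveMor f)
    (h : ∀ x : Points X, ∃ p : FieldPt X, Points.mk p = x ∧ Mono p.toHom) (y : Points Y) :
    ∃ q : FieldPt Y, Points.mk q = y ∧ Mono q.toHom := by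
  obtain ⟨x, rfl⟩ := hs y
  obtain ⟨p, rfl, hm⟩ := h x
  let α := p.toHom ≫ f
  have sP := IsPullback.of_hasPullback f α
  have hP := isAlgSpace_of_isPullback sP hX (IsAlgSpace.yon_obj _) hY
  have hsE : IsEtaleMor (pullback.snd f α) := (isEtaleMor_iff_locP (IsAlgSpace.yon_obj _)).2
    (locP_baseChange hX hY (IsAlgSpace.yon_obj _) sP ((isEtaleMor_iff_locP hY).1 he))
  obtain ⟨U, a, ha, has⟩ := hP.atlas
  obtain ⟨c, hc⟩ := (yon S).map_surjective (a ≫ pullback.snd f α)
  have : Etale c.left := (repWith_yon_map_iff _ _).1 (hc ▸ hsE a ha)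
  let cK : U.left ⟶ Spec (CommRingCat.of p.K) := c.left
  have : Etale cK := inferInstanceAs (Etale c.left)
  have : DiscreteTopology U.left := discreteTopology_of_etale_field (K := p.K) cK
  have : DiscreteTopology (Points (pullback f α)) := discreteTopology_iff_isOpen_singleton.2 fun x =>
    (isQuotientMap_ofPt ha has).isOpen_preimage.1 (isOpen_discrete _)
  obtain ⟨M, ⟨e⟩⟩ := exists_iso_yon_of_discrete hP (isDecent_of_isQuasiSeparatedMor hP _
    (isQuasiSeparatedMor_of_etale_field (K := p.K) hP _ hsE))
  obtain ⟨m, hm'⟩ := (yon S).map_surjective (e.hom ≫ pullback.snd f α)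
  have : Etale m.left := (repWith_yon_map_iff _ _).1 (hm' ▸ hsE e.hom (repWith_iso e.hom))
  have : CompactSpace p.pt.left := inferInstanceAs (CompactSpace (Spec (CommRingCat.of p.K)))
  have : CompactSpace M.left := by
    have := compactSpace_points_of_isQuasiCompactSp (hq (IsAlgSpace.yon_obj p.pt)
      ⟨p.pt, 𝟙 _, repWith_id _ _, repWith_id _ _, inferInstance⟩ α _ _ sP)
    have : CompactSpace (Points ((yon S).obj M)) := by
      refine Function.Surjective.compactSpace (f := Points.map e.inv) (hf' := fun z => ⟨Points.map e.hom z, ?_⟩)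
        (hf := Points.continuous_map _)
      rw [← Points.map_comp, e.hom_inv_id, Points.map_id]
    exact (Points.schemeHomeo M).symm.compactSpace
  let mK : M.left ⟶ Spec (CommRingCat.of p.K) := m.left
  have : Etale mK := inferInstanceAs (Etale m.left)
  have : DiscreteTopology M.left := discreteTopology_of_etale_field (K := p.K) mK
  have : Finite M.left := finite_of_compact_of_discrete
  have : AlgebraicGeometry.IsReduced p.pt.left :=
    inferInstanceAs (AlgebraicGeometry.IsReduced (Spec (CommRingCat.of p.K)))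
  have : AlgebraicGeometry.IsReduced M.left := isReduced_scheme_of_etale m.left
  obtain ⟨R, r₁, r₂, sR⟩ := exists_isPullback (hX.representable_from_yon p.toHom) (e.hom ≫ pullback.fst f α)
  have : Mono ((yon S).map r₂) := MorphismProperty.of_isPullback (P := MorphismProperty.monomorphisms (Sp S)) sR hm
  have : Mono r₂ := (yon S).mono_of_mono_map this
  have : Mono r₂.left := (inferInstance : Mono ((Over.forget S).map r₂))
  have : QuasiCompact r₂.left := quasiCompact_of_mono_discrete r₂.left
  let T : M.left.Opens := ⟨Set.range r₂.left, isOpen_discrete _⟩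
  let l : R.left ⟶ T.toScheme := IsOpenImmersion.lift T.ι r₂.left (le_of_eq (Scheme.Opens.range_ι T).symm)
  have hl : l ≫ T.ι = r₂.left := IsOpenImmersion.lift_fac _ _ _
  have : Mono l := mono_of_mono_fac hl
  have : QuasiCompact l := quasiCompact_of_mono_discrete l
  have : Surjective l := ⟨fun ⟨z, w, hw⟩ => ⟨w, T.ι.isOpenEmbedding.injective (by
    rw [← Scheme.Hom.comp_apply, hl, hw]; rfl)⟩⟩
  have : AlgebraicGeometry.IsReduced T.toScheme := isReduced_of_isOpenImmersion T.ι
  have : Flat l := flat_of_discrete_reduced l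
  have : IsIso l := Flat.isIso_of_surjective_of_mono l
  have : Etale r₂.left := hl ▸ inferInstance
  have : IsLocallyArtinian p.pt.left := inferInstanceAs (IsLocallyArtinian (Spec (CommRingCat.of p.K)))
  let s : R ⟶ p.pt := r₂ ≫ m
  have : Etale s.left := inferInstanceAs (Etale (r₂.left ≫ m.left))
  have : CompactSpace R.left := QuasiCompact.compactSpace_of_compactSpace r₂.left
  have : LocallyQuasiFinite s.left := locallyQuasiFinite_of_formallyUnramified _
  have : QuasiCompact s.left := (quasiCompact_iff_compactSpace (f := s.left)).2 inferInstance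
  have : IsFinite s.left := IsFinite.of_locallyQuasiFinite s.left
  have sM : IsPullback (e.hom ≫ pullback.fst f α) ((yon S).map m) f α := by
    exact IsPullback.of_iso sP e.symm (Iso.refl _) (Iso.refl _) (Iso.refl _)
      (by simp) (by simp [hm']) (by simp) (by simp)
  have sq : IsPullback ((yon S).map s) ((yon S).map r₁) α α := by
    rw [Functor.map_comp]
    exact sR.flip.paste_horiz sM.flip
  have : IsAffine p.pt.left := inferInstanceAs (IsAffine (Spec (CommRingCat.of p.K)))
  have : AlgebraicGeometry.IsReduced p.pt.left := inferInstance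
  have : Nonempty p.pt.left := inferInstanceAs (Nonempty (PrimeSpectrum p.K))
  obtain ⟨K, hK, str, q, φ, hφ, hqs, hφm⟩ := exists_residual_map α s r₁ sq fun z z' =>
    congrArg (Points.ofPt α) (@Subsingleton.elim ↥(Spec (CommRingCat.of p.K)) inferInstance z z')
  refine ⟨ptOfHom φ, ?_, by rw [ptOfHom_toHom]; exact hφm⟩
  let z : p.pt.left := (IsLocalRing.closedPoint p.K : PrimeSpectrum p.K)
  rw [← Points.ofPt_toHom (ptOfHom φ) (q.left z), ptOfHom_toHom]
  refine (ofPt_comp q φ z).symm.trans ((congrArg (fun m => Points.ofPt m z) hφ).trans ?_)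
  show Points.ofPt (p.toHom ≫ f) z = _
  rw [← Points.map_ofPt, Points.ofPt_toHom]

end Groth.Agent.AlgSpFin
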