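import Groth.Agent.AlgSpFin.DecentTopo
import Groth.Agent.DimFun.Basic

/-!
Dimension functions on decent spaces.
-/

set_option autoImplicit false
set_option backward.isDefEq.respectTransparency.types false

universe u

open CategoryTheory CategoryTheory.Limits AlgebraicGeometry Opposite AlgSp

namespace Groth.Agent.AlgSpFin

open Groth.Agent.AlgSpLib

/-- The induced function on a decent space is a dimension function. -/
theorem isDimFun_points {S : Scheme.{u}} (δ : S → ℤ) (hS : Cyc.IsSetup S δ) {X : Sp S} (hX : IsAlgSpace X)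
    (hd : IsDecent X) {U : Over S} {a : (yon S).obj U ⟶ X} (ha : RepWith @Etale a) (hs : RepWith @Surjective a)
    [LocallyOfFiniteType U.hom] (δX : Points X → ℤ) (hδ : Cyc.DeltaCompat U.hom (δX ∘ Points.ofPt a) δ)
    (x y : Points X) (hxy : x ⤳ y) (hne : x ≠ y) :
    δX y < δX x ∧ ((∀ z : Points X, x ⤳ z → z ⤳ y → z = x ∨ z = y) → δX x = δX y + 1) := by
  have hU := DimFun.isDimFun_of_compat U.hom δ hS _ hδ
  obtain ⟨u, rfl⟩ := surjective_ofPt hs y
  obtain ⟨v, hvu, rfl⟩ := exists_lift_generalization hX hd ha u hxy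
  have hne' : v ≠ u := fun e => hne (congrArg (Points.ofPt a) e)
  obtain ⟨h₁, h₂⟩ := hU v u hvu hne'
  refine ⟨h₁, fun himm => h₂ fun z hz₁ hz₂ => ?_⟩
  rcases himm (Points.ofPt a z) (hz₁.map (Points.continuous_ofPt a)) (hz₂.map (Points.continuous_ofPt a)) with e | e
  · exact Or.inl (eq_of_specializes_of_isDecent hX hd ha e.symm hz₁).symm
  · exact Or.inr (eq_of_specializes_of_isDecent hX hd ha e hz₂)

end Groth.Agent.AlgSpFin
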