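import Groth.Agent.AlgSpFin.DecentLocal
import Groth.Agent.AlgSpLib.EtaleMono
import Groth.Agent.AlgSpPts.Basic
import Groth.Agent.FpqcDescent.Basic

/-!
Etale spaces over fields are quasi-separated; spaces etale over decent spaces are decent.
-/

set_option autoImplicit false
set_option backward.isDefEq.respectTransparency.types false

universe u

open CategoryTheory CategoryTheory.Limits AlgebraicGeometry Opposite AlgSp

namespace Groth.Agent.AlgSpFin

open Groth.Agent.AlgSpLib

variable {S : Scheme.{u}}

theorem discreteTopology_of_etale_field {K : Type u} [Field K] {U : Scheme.{u}} (c : U ⟶ Spec (CommRingCat.of K))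
    [Etale c] : DiscreteTopology U := by
  have : LocallyQuasiFinite c := locallyQuasiFinite_of_formallyUnramified _
  have : IsLocallyArtinian U := IsLocallyArtinian.of_locallyQuasiFinite c
  infer_instance

/-- A monomorphism to a discrete scheme is quasi-compact. -/
theorem quasiCompact_of_mono_discrete {R D : Scheme.{u}} (m : R ⟶ D) [Mono m] [DiscreteTopology D] :
    QuasiCompact m :=
  ⟨fun _ _ hV => ((hV.finite_of_discrete).preimage m.injective.injOn).isCompact⟩

/-- A space etale over a field is quasi-separated over it. -/
theorem isQuasiSeparatedMor_of_etale_field {P : Sp S} (hP : IsAlgSpace P) {K : Type u} [Field K]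
    {str : Spec (CommRingCat.of K) ⟶ S} (f : P ⟶ (yon S).obj (Over.mk str)) (hf : IsEtaleMor f) :
    IsQuasiSeparatedMor f := by
  obtain ⟨U, a, ha, has⟩ := hP.atlas
  obtain ⟨c, hc⟩ := (yon S).map_surjective (a ≫ f)
  have hce : Etale c.left := (repWith_yon_map_iff _ _).1 (hc ▸ hf a ha)
  have sU := IsPullback.of_hasPullback c c
  have sV : IsPullback ((yon S).map (pullback.fst c c)) ((yon S).map (pullback.snd c c)) (a ≫ f) (a ≫ f) :=
    hc ▸ yon_isPullback sU
  have sB := IsPullback.of_hasPullback f f
  let b := sB.lift ((yon S).map (pullback.fst c c) ≫ a) ((yon S).map (pullback.snd c c) ≫ a)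
      (by rw [Category.assoc, Category.assoc, sV.w])
  have hB := isAlgSpace_pullback f f hP hP
  have hcov := AlgSpPts.isFpqcCover_chart (hB (IsAlgSpace.yon_obj _)) b (exists_chart_of_isPullback sB sV ha ha)
    (exists_chart_of_isPullback sB sV has has)
  obtain ⟨R, m, e, sR⟩ := representable_diagonal hP f b
  have : Mono ((yon S).map m) := MorphismProperty.of_isPullback (P := MorphismProperty.monomorphisms (Sp S)) sR
    (show Mono (pullback.diagonal f) from inferInstance)
  have : Mono m := (yon S).mono_of_mono_map this
  have : Mono m.left := (inferInstance : Mono ((Over.forget S).map m))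
  have : DiscreteTopology (pullback c c).left := by
    have : Etale (pullback.fst c c).left := MorphismProperty.of_isPullback (P := @Etale) (left_isPullback sU).flip hce
    exact discreteTopology_of_etale_field (K := K) ((pullback.fst c c).left ≫ c.left)
  have hm : QuasiCompact m.left := quasiCompact_of_mono_discrete m.left
  have := FpqcDescent.quasiCompact_descendsAlong.{u}
  refine repWith_of_fpqc hcov (𝟙 _) (representable_diagonal hP f) fun W ψ hW W' fst snd sd => ?_
  obtain ⟨-, i, l, hl⟩ := hW
  rw [Category.comp_id] at hl
  obtain ⟨r, hr⟩ := (yon S).map_surjective l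
  subst hr hl
  obtain ⟨g, hg₁, hg₂⟩ := exists_lift sR fst (snd ≫ r) (by
    rw [Functor.map_comp, Category.assoc]; exact sd.w)
  have sl : IsPullback ((yon S).map g) ((yon S).map snd) ((yon S).map m) ((yon S).map r) :=
    IsPullback.of_right (by rw [hg₁]; exact sd) (by rw [← Functor.map_comp, hg₂, Functor.map_comp]) sR
  exact MorphismProperty.of_isPullback (P := @QuasiCompact) (left_isPullback (isPullback_of_yon sl)) hm

/-- Spaces etale over decent spaces are decent. -/
theorem isDecent_of_isEtaleMor {X Y : Sp S} (hX : IsAlgSpace X) (hY : IsAlgSpace Y) (f : X ⟶ Y) (hf : IsEtaleMor f)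
    (hd : IsDecent Y) : IsDecent X :=
  isDecent_of_fibres f hd fun p P fst snd sq => by
    have hP := isAlgSpace_of_isPullback sq hX (IsAlgSpace.yon_obj _) hY
    have hs : IsEtaleMor snd := (isEtaleMor_iff_locP (IsAlgSpace.yon_obj _)).2
      (locP_baseChange hX hY (IsAlgSpace.yon_obj _) sq ((isEtaleMor_iff_locP hY).1 hf))
    exact isDecent_of_isQuasiSeparatedMor hP snd (isQuasiSeparatedMor_of_etale_field (K := p.K) hP snd hs)

end Groth.Agent.AlgSpFin
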