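import Groth.Agent.AlgSpFin.DecentTopo
import Groth.Agent.AlgSpFin.DecentEtale
import Groth.Prelude.Def_W4stk3decentspacesp2Birat

/-!
Generic points of decent spaces.
-/

set_option autoImplicit false
set_option backward.isDefEq.respectTransparency.types false

universe u

open CategoryTheory CategoryTheory.Limits AlgebraicGeometry Opposite AlgSp TopologicalSpace

namespace Groth.Agent.AlgSpFin

open Groth.Agent.AlgSpLib

variable {S : Scheme.{u}}

/-- Birational morphisms of decent spaces are dominant. -/
theorem isDominantMor_of_isBirational {X Y : Sp S} (hY : IsAlgSpace Y) (hd : IsDecent Y) (f : X ⟶ Y)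
    (hf : W4stk3decentspacesp2.IsBirational f) : IsDominantMor f := by
  have := quasiSober_points_of_isDecent hY hd
  intro y
  obtain ⟨η, hη⟩ := QuasiSober.sober (α := Points Y) (isIrreducible_irreducibleComponent (x := y))
    isClosed_irreducibleComponent
  have hg : η ∈ genericPoints (Points Y) := by
    show closure {η} ∈ irreducibleComponents (Points Y)
    rw [hη.def]
    exact irreducibleComponent_mem_irreducibleComponents y
  obtain ⟨x, -, rfl⟩ := hf.1.surjOn hg
  exact closure_mono (Set.singleton_subset_iff.2 (Set.mem_range_self x)) (hη.specializes mem_irreducibleComponent).mem_closure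

/-- Being a generic point of a component is insensitive to etale morphisms. -/
theorem exists_component_iff_of_etale {X Y : Sp S} (hX : IsAlgSpace X) (hY : IsAlgSpace Y) (hd : IsDecent X)
    (f : Y ⟶ X) (hf : IsEtaleMor f) (y : Points Y) :
    (∃ T ∈ irreducibleComponents (Points Y), IsGenericPoint y T) ↔
      (∃ T ∈ irreducibleComponents (Points X), IsGenericPoint (Points.map f y) T) := by
  have hdY := isDecent_of_isEtaleMor hY hX f hf hd
  rw [exists_component_iff hY hdY, exists_component_iff hX hd]
  constructor
  · rintro ⟨U, a, u, ha, rfl, h⟩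
    exact ⟨U, a ≫ f, u, hf a ha, (Points.map_ofPt a f u).symm, h⟩
  · rintro ⟨U', a', u', ha', hu', h⟩
    obtain ⟨U, a, ha, has⟩ := hY.atlas
    obtain ⟨u, rfl⟩ := surjective_ofPt has y
    refine ⟨U, a, u, ha, rfl, ?_⟩
    show ringKrullDim ↥(U.left.presheaf.stalk u) = 0
    rw [← coheight_ptClosure_ofPt hX hd (hf a ha) u, ← Points.map_ofPt, ← hu', coheight_ptClosure_ofPt hX hd ha' u']
    exact h

end Groth.Agent.AlgSpFin
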