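import Groth.Agent.AlgSpFin.DecentDense
import Groth.Agent.AlgSpFin.QsDecent
import Groth.Agent.AlgSpFin.ChartFibre

/-!
Finite fibres and monomorphism points.
-/

set_option autoImplicit false
set_option backward.isDefEq.respectTransparency.types false

universe u

open CategoryTheory CategoryTheory.Limits AlgebraicGeometry Opposite AlgSp TopologicalSpace

namespace Groth.Agent.AlgSpFin

open Groth.Agent.AlgSpLib

variable {S : Scheme.{u}}

/-- Finitely many points of a discrete scheme over a field stay finitely many after extension. -/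
theorem finite_preimage_of_discrete {K L : Type u} [Field K] [Field L] {E E' : Scheme.{u}}
    (g : E ⟶ Spec (CommRingCat.of K)) [Etale g] (σ : Spec (CommRingCat.of L) ⟶ Spec (CommRingCat.of K))
    {π : E' ⟶ E} {g' : E' ⟶ Spec (CommRingCat.of L)} (sq : IsPullback π g' g σ) {A : Set E} (hA : A.Finite) :
    (π ⁻¹' A).Finite := by
  have : DiscreteTopology E := discreteTopology_of_etale_field (K := K) g
  let O : E.Opens := ⟨A, isOpen_discrete _⟩
  have : Finite O.toScheme := hA.to_subtype
  have : DiscreteTopology O.toScheme := inferInstanceAs (DiscreteTopology (A : Set E))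
  have : DiscreteTopology (Spec (CommRingCat.of K)) := inferInstanceAs (DiscreteTopology (PrimeSpectrum K))
  have : Finite (Spec (CommRingCat.of K)) := inferInstanceAs (Finite (PrimeSpectrum K))
  have : IsFinite (O.ι ≫ g) := isFinite_of_etale_discrete (O.ι ≫ g)
  have sO := (isPullback_morphismRestrict π O).flip.paste_horiz sq.flip |>.flip
  have : IsFinite ((π ⁻¹ᵁ O).ι ≫ g') := MorphismProperty.of_isPullback (P := @IsFinite) sO ‹_›
  have : Finite (Spec (CommRingCat.of L)) := inferInstanceAs (Finite (PrimeSpectrum L))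
  have := finite_points_of_lqf_over_field ((π ⁻¹ᵁ O).ι ≫ g')
  exact Set.finite_coe_iff.1 (this : Finite ↥(π ⁻¹' A))

/-- A point with a finite pair set is given by a monomorphism from a field. -/
theorem exists_mono_point_of_finite_pairs {X : Sp S} {U R : Over S} (φ : (yon S).obj U ⟶ X) (hφ : RepWith @Etale φ)
    {s t : R ⟶ U} (sR : IsPullback ((yon S).map t) ((yon S).map s) φ φ) (u u' : U.left)
    (he : Points.ofPt φ u = Points.ofPt φ u') (hfin : {r : R.left | s.left r = u ∧ t.left r = u'}.Finite) :
    ∃ p : FieldPt X, Points.mk p = Points.ofPt φ u ∧ Mono p.toHom := by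
  -- a field over both points
  obtain ⟨r₀, hr₀, hr₀'⟩ := (ofPt_eq_iff sR u' u).1 he.symm
  let Ku : Over S := Over.mk (U.left.fromSpecResidueField u ≫ U.hom)
  let Ku' : Over S := Over.mk (U.left.fromSpecResidueField u' ≫ U.hom)
  let M : Over S := Over.mk (R.left.fromSpecResidueField r₀ ≫ R.hom)
  let k : Ku ⟶ U := Over.homMk (U.left.fromSpecResidueField u) rfl
  let k' : Ku' ⟶ U := Over.homMk (U.left.fromSpecResidueField u') rfl
  let m : M ⟶ R := Over.homMk (R.left.fromSpecResidueField r₀) rfl
  obtain ⟨σ, hσ⟩ : ∃ σ : M ⟶ Ku, σ ≫ k = m ≫ s := by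
    refine ⟨Over.homMk (Spec.map (s.left.residueFieldMap r₀) ≫ Spec.map (U.left.residueFieldCongr hr₀'.symm).hom) ?_,
      Over.OverMorphism.ext ?_⟩
    · subst hr₀'
      show _ ≫ U.left.fromSpecResidueField (s.left r₀) ≫ U.hom = R.left.fromSpecResidueField r₀ ≫ R.hom
      simp [Over.w s]
    · subst hr₀'
      simp [k, m]
  obtain ⟨σ', hσ'⟩ : ∃ σ' : M ⟶ Ku', σ' ≫ k' = m ≫ t := by
    refine ⟨Over.homMk (Spec.map (t.left.residueFieldMap r₀) ≫ Spec.map (U.left.residueFieldCongr hr₀.symm).hom) ?_,
      Over.OverMorphism.ext ?_⟩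
    · subst hr₀
      show _ ≫ U.left.fromSpecResidueField (t.left r₀) ≫ U.hom = R.left.fromSpecResidueField r₀ ≫ R.hom
      simp [Over.w t]
    · subst hr₀
      simp [k', m]
  obtain ⟨E, c, d, sE⟩ := exists_isPullback hφ.1 ((yon S).map k ≫ φ)
  obtain ⟨E', c', d', sE'⟩ := exists_isPullback hφ.1 ((yon S).map k' ≫ φ)
  have : Etale d.left := prop_snd sE hφ
  have : Etale d'.left := prop_snd sE' hφ
  obtain ⟨F, f₁, f₂, sF⟩ : ∃ (F : Over S) (f₁ : F ⟶ E) (f₂ : F ⟶ M), IsPullback f₁ f₂ d σ :=
    ⟨_, _, _, IsPullback.of_hasPullback d σ⟩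
  have big : IsPullback ((yon S).map (f₁ ≫ c)) ((yon S).map f₂) φ ((yon S).map (m ≫ s) ≫ φ) := by
    rw [← hσ, Functor.map_comp, Functor.map_comp, Category.assoc]
    exact (yon_isPullback sF).paste_horiz sE
  have heq : (yon S).map (m ≫ s) ≫ φ = (yon S).map (m ≫ t) ≫ φ := by
    rw [Functor.map_comp, Functor.map_comp, Category.assoc, Category.assoc, sR.w]
  rw [heq] at big
  obtain ⟨g, hg₁, hg₂⟩ := exists_lift sE' ((yon S).map (f₁ ≫ c)) (f₂ ≫ σ') (by
    rw [big.w, ← hσ', Functor.map_comp, Functor.map_comp, Category.assoc, Category.assoc])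
  have sg : IsPullback g f₂ d' σ' := isPullback_of_yon (IsPullback.of_right (by
    rw [hg₁]
    have := big
    rw [← hσ', Functor.map_comp (f := σ'), Category.assoc] at this
    exact this) (by rw [← Functor.map_comp, hg₂, Functor.map_comp]) sE')
  have hgc : g ≫ c' = f₁ ≫ c := (yon S).map_injective (by rw [Functor.map_comp, hg₁])
  -- the points over `u`
  have hE' : (c'.left ⁻¹' {u}).Finite := by
    obtain ⟨l, hl₁, hl₂⟩ := exists_lift sR.flip ((yon S).map c') (d' ≫ k') (by
      rw [sE'.w, Functor.map_comp, Category.assoc])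
    have sl : IsPullback l d' t k' := isPullback_of_yon
      (IsPullback.of_right (by rw [hl₁]; exact sE') (by rw [← Functor.map_comp, hl₂, Functor.map_comp]) sR.flip)
    have hl₁' : l ≫ s = c' := (yon S).map_injective (by rw [Functor.map_comp, hl₁])
    have : IsPreimmersion k'.left := inferInstanceAs (IsPreimmersion (U.left.fromSpecResidueField u'))
    have : IsPreimmersion l.left := MorphismProperty.of_isPullback (P := @IsPreimmersion) (left_isPullback sl).flip ‹_›
    refine (hfin.preimage l.left.isEmbedding.injective.injOn).subset fun w (hw : c'.left w = u) => ⟨?_, ?_⟩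
    · rw [← hw, ← hl₁']; rfl
    · exact (congrArg (fun z => z.left w) sl.w).trans (U.left.fromSpecResidueField_apply u' _)
  let dK' : E'.left ⟶ Spec (CommRingCat.of (U.left.residueField u')) := d'.left
  have : Etale dK' := ‹Etale d'.left›
  have hFu : ((f₁ ≫ c).left ⁻¹' {u}).Finite := by
    rw [← hgc]
    exact finite_preimage_of_discrete (K := U.left.residueField u') (L := R.left.residueField r₀) dK' σ'.left
      (left_isPullback sg) hE'
  let dK : E.left ⟶ Spec (CommRingCat.of (U.left.residueField u)) := d.left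
  have : Etale dK := ‹Etale d.left›
  have hEu : (c.left ⁻¹' {u}).Finite := (hFu.image f₁.left).subset fun e (he' : c.left e = u) => by
    have : Subsingleton Ku.left := inferInstanceAs (Subsingleton (PrimeSpectrum (U.left.residueField u)))
    obtain ⟨z, hz, -⟩ := Scheme.exists_preimage_of_isPullback (left_isPullback sF) e
      (IsLocalRing.closedPoint (R.left.residueField r₀) : PrimeSpectrum _) (Subsingleton.elim _ _)
    exact ⟨z, (show c.left (f₁.left z) = u from hz ▸ he'), hz⟩
  -- the residual relation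
  have : DiscreteTopology E.left := discreteTopology_of_etale_field (K := U.left.residueField u) dK
  let O : E.left.Opens := ⟨c.left ⁻¹' {u}, isOpen_discrete _⟩
  have : Finite O.toScheme := hEu.to_subtype
  let OE : Over S := Over.mk (O.ι ≫ E.hom)
  let o : OE ⟶ E := Over.homMk O.ι rfl
  have : DiscreteTopology OE.left := inferInstanceAs (DiscreteTopology (c.left ⁻¹' {u} : Set E.left))
  have : Finite OE.left := hEu.to_subtype
  have : AlgebraicGeometry.IsReduced Ku.left := inferInstanceAs (AlgebraicGeometry.IsReduced (Spec (U.left.residueField u)))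
  have : AlgebraicGeometry.IsReduced E.left := isReduced_scheme_of_etale d.left
  have : AlgebraicGeometry.IsReduced OE.left := isReduced_of_isOpenImmersion O.ι
  have : Mono k.left := inferInstanceAs (Mono (U.left.fromSpecResidueField u))
  obtain ⟨P, p₁, p₂, sP⟩ : ∃ (P : Over S) (p₁ : P ⟶ Ku) (p₂ : P ⟶ OE), IsPullback p₁ p₂ k (o ≫ c) :=
    ⟨_, _, _, IsPullback.of_hasPullback k (o ≫ c)⟩
  have : Mono p₂.left := MorphismProperty.of_isPullback (P := MorphismProperty.monomorphisms Scheme)
    (left_isPullback sP) ‹_›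
  have : Surjective p₂.left := ⟨fun e => by
    obtain ⟨z, -, hz⟩ := Scheme.exists_preimage_of_isPullback (left_isPullback sP)
      (IsLocalRing.closedPoint (U.left.residueField u) : PrimeSpectrum _) e
      ((U.left.fromSpecResidueField_apply u _).trans (e.2 : c.left e.1 = u).symm)
    exact ⟨z, hz⟩⟩
  have : IsPreimmersion p₂.left := MorphismProperty.of_isPullback (P := @IsPreimmersion) (left_isPullback sP)
    (inferInstanceAs (IsPreimmersion (U.left.fromSpecResidueField u)))
  have : Finite P.left := Finite.of_injective p₂.left p₂.left.isEmbedding.injective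
  have : QuasiCompact p₂.left := ⟨fun V _ _ => (Set.toFinite _).isCompact⟩
  have : Flat p₂.left := flat_of_discrete_reduced p₂.left
  have : IsIso p₂.left := Flat.isIso_of_surjective_of_mono p₂.left
  have : DiscreteTopology Ku.left := inferInstanceAs (DiscreteTopology (PrimeSpectrum (U.left.residueField u)))
  have : Finite Ku.left := inferInstanceAs (Finite (PrimeSpectrum (U.left.residueField u)))
  let s' : P ⟶ Ku := p₂ ≫ o ≫ d
  have : Etale s'.left := inferInstanceAs (Etale (p₂.left ≫ O.ι ≫ d.left))
  have : DiscreteTopology P.left := (p₂.left.homeomorph).symm.discreteTopology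
  have : IsFinite s'.left := isFinite_of_etale_discrete s'.left
  -- extend the square to all of `E`
  have sP' : IsPullback p₁ (p₂ ≫ o) k c := by
    refine IsPullback.of_isLimit' ⟨by rw [sP.w, Category.assoc]⟩ (PullbackCone.IsLimit.mk _
      (fun z => sP.lift z.fst (Over.homMk (IsOpenImmersion.lift O.ι z.snd.left ?_) ?_) ?_) (fun z => sP.lift_fst _ _ _)
      (fun z => ?_) fun z l h₁ h₂ => ?_)
    · rw [Scheme.Opens.range_ι]
      rintro _ ⟨x, rfl⟩
      exact (congrArg (fun w => w.left x) z.condition).symm.trans (U.left.fromSpecResidueField_apply u _)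
    · show _ ≫ O.ι ≫ E.hom = _
      rw [IsOpenImmersion.lift_fac_assoc, Over.w z.snd]
    · apply Over.OverMorphism.ext
      show z.fst.left ≫ k.left = IsOpenImmersion.lift O.ι z.snd.left _ ≫ O.ι ≫ c.left
      rw [IsOpenImmersion.lift_fac_assoc]
      exact congrArg CommaMorphism.left z.condition
    · rw [← Category.assoc, sP.lift_snd]
      exact Over.OverMorphism.ext (IsOpenImmersion.lift_fac _ _ _)
    · refine sP.hom_ext ?_ ?_
      · rw [sP.lift_fst]; exact h₁
      · rw [sP.lift_snd]
        apply Over.OverMorphism.ext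
        rw [← cancel_mono O.ι]
        show (l ≫ p₂).left ≫ O.ι = IsOpenImmersion.lift O.ι z.snd.left _ ≫ O.ι
        rw [IsOpenImmersion.lift_fac]
        exact congrArg CommaMorphism.left ((Category.assoc l p₂ o).trans h₂)
  have sq : IsPullback ((yon S).map s') ((yon S).map p₁) ((yon S).map k ≫ φ) ((yon S).map k ≫ φ) := by
    show IsPullback ((yon S).map ((p₂ ≫ o) ≫ d)) _ _ _
    rw [Functor.map_comp]
    exact (yon_isPullback sP').flip.paste_horiz sE.flip
  have : IsAffine Ku.left := inferInstanceAs (IsAffine (Spec (U.left.residueField u)))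
  have : Nonempty Ku.left := inferInstanceAs (Nonempty (PrimeSpectrum (U.left.residueField u)))
  obtain ⟨K, hK, str, q, ψ, hψ, -, hmono⟩ := exists_residual_map ((yon S).map k ≫ φ) s' p₁ sq fun z z' => by
    rw [ofPt_comp, ofPt_comp]
    exact congrArg (Points.ofPt φ) ((U.left.fromSpecResidueField_apply u _).trans (U.left.fromSpecResidueField_apply u _).symm)
  refine ⟨ptOfHom ψ, ?_, by rw [ptOfHom_toHom]; exact hmono⟩
  let z : Ku.left := (IsLocalRing.closedPoint (U.left.residueField u) : PrimeSpectrum _)
  rw [← Points.ofPt_toHom (ptOfHom ψ) (q.left z), ptOfHom_toHom]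
  exact (ofPt_comp q ψ z).symm.trans ((congrArg (fun e => Points.ofPt e z) hψ).trans
    ((ofPt_comp k φ z).trans (congrArg (Points.ofPt φ) (U.left.fromSpecResidueField_apply u _))))

/-- Finitely many points of a pullback over a point. -/
theorem finite_preimage_of_finPt {X : Sp S} {U V W : Over S} {a : (yon S).obj U ⟶ X} {b : (yon S).obj V ⟶ X}
    (hb : RepWith @Etale b) {fst : W ⟶ U} {snd : W ⟶ V}
    (sq : IsPullback ((yon S).map fst) ((yon S).map snd) a b) (u : U.left)
    (h : ∀ v, Points.ofPt b v = Points.ofPt a u → FinPt b (Over.mk (V.left.fromSpecResidueField v ≫ V.hom))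
      ((yon S).map (Over.homMk (V.left.fromSpecResidueField v) rfl) ≫ b)) :
    (fst.left ⁻¹' {u}).Finite := by
  rcases (fst.left ⁻¹' {u}).eq_empty_or_nonempty with he | ⟨m, hm⟩
  · rw [he]; exact Set.finite_empty
  let M : Over S := Over.mk (W.left.fromSpecResidueField m ≫ W.hom)
  let mM : M ⟶ W := Over.homMk (W.left.fromSpecResidueField m) rfl
  let v := snd.left m
  let σ : M ⟶ Over.mk (V.left.fromSpecResidueField v ≫ V.hom) :=
    Over.homMk (Spec.map (snd.left.residueFieldMap m)) (by
      show _ ≫ V.left.fromSpecResidueField v ≫ V.hom = W.left.fromSpecResidueField m ≫ W.hom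
      rw [Scheme.Hom.SpecMap_residueFieldMap_fromSpecResidueField_assoc, Over.w snd])
  have hM : FinPt b M ((yon S).map σ ≫ (yon S).map (Over.homMk (V.left.fromSpecResidueField v) rfl) ≫ b) :=
    finPt_comp hb _ σ (h v (((ofPt_eq_iff sq u v).2 ⟨m, hm, rfl⟩).symm))
  have hσ : σ ≫ Over.homMk (V.left.fromSpecResidueField v) rfl = mM ≫ snd :=
    Over.OverMorphism.ext (Scheme.Hom.SpecMap_residueFieldMap_fromSpecResidueField _ _)
  rw [← Category.assoc, ← Functor.map_comp, hσ] at hM
  have sF := IsPullback.of_hasPullback fst (mM ≫ fst)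
  have : Finite (pullback fst (mM ≫ fst)).left := hM _ (pullback.fst fst (mM ≫ fst) ≫ snd) (pullback.snd _ _) (by
    rw [Functor.map_comp, Functor.map_comp (f := mM), Category.assoc, ← sq.w, ← Category.assoc ((yon S).map mM),
      ← Functor.map_comp]
    exact (yon_isPullback sF).paste_horiz sq.flip)
  refine (Set.finite_range (pullback.fst fst (mM ≫ fst)).left).subset fun w (hw : fst.left w = u) => ?_
  obtain ⟨z, hz, -⟩ := Scheme.exists_preimage_of_isPullback (left_isPullback sF) w
    (IsLocalRing.closedPoint (W.left.residueField m) : PrimeSpectrum _) (hw.trans (by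
      show u = fst.left (mM.left _)
      rw [show mM.left (IsLocalRing.closedPoint (W.left.residueField m) : PrimeSpectrum _) = m from
        Scheme.fromSpecResidueField_apply _ _]
      exact hm.symm))
  exact ⟨z, hz⟩

/-- The relation fibres over a point are finite when the point is a monomorphism point with finite preimage. -/
theorem finite_relation_preimage (X : Space S) (p : FieldPt X.obj) [Mono p.toHom] {U R : Over S}
    (φ : (yon S).obj U ⟶ X.obj) (hφ : RepWith @Etale φ) {s t : R ⟶ U}
    (sR : IsPullback ((yon S).map t) ((yon S).map s) φ φ) (hfin : (Points.ofPt φ ⁻¹' {Points.mk p}).Finite) :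
    (Points.ofPt ((yon S).map t ≫ φ) ⁻¹' {Points.mk p}).Finite := by
  refine ((hfin.prod hfin).biUnion (t := fun q : U.left × U.left => {r : R.left | s.left r = q.1 ∧ t.left r = q.2})
    fun q hq => finite_pairs_of_mono_point X p φ hφ s t sR q.1 q.2 hq.1 hq.2).subset fun r hr => ?_
  have h1 : Points.ofPt φ (t.left r) = Points.mk p := (ofPt_comp t φ r).symm.trans hr
  have h2 : Points.ofPt φ (s.left r) = Points.mk p :=
    (((ofPt_eq_iff sR (t.left r) (s.left r)).2 ⟨r, rfl, rfl⟩).symm).trans h1
  exact Set.mem_biUnion (x := (s.left r, t.left r)) ⟨h2, h1⟩ ⟨rfl, rfl⟩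

/-- Finite fibres of affine charts and quasi-compact monomorphism points. -/
theorem finite_fibres_iff_qc_mono_point (X : Space S) (x : Points X.obj) :
    (∀ (U : Over S) (φ : (yon S).obj U ⟶ X.obj), IsAffine U.left → RepWith @Etale φ →
        ∀ (R : Over S) (s t : R ⟶ U), IsPullback ((yon S).map t) ((yon S).map s) φ φ →
          (Points.ofPt φ ⁻¹' {x}).Finite ∧ (Points.ofPt ((yon S).map t ≫ φ) ⁻¹' {x}).Finite) ↔
      ∃ p : FieldPt X.obj, Points.mk p = x ∧ Mono p.toHom ∧ RepWith @QuasiCompact p.toHom := by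
  refine ⟨fun h => ?_, ?_⟩
  · refine exists_qc_mono_point_of_finite_compact X.property x fun U V W a b fst snd sq hU hx hV =>
      compactSpace_of_affine_charts_fixed X.property a (fun V W b fst snd sq hV hb => ?_) b fst snd sq
    obtain ⟨R, r₁, r₂, sR⟩ := exists_isPullback hb.1 b
    have hR := (h V b hV hb R r₂ r₁ sR).2
    have hfib : ∀ u, (fst.left ⁻¹' {u}).Finite := fun u => finite_preimage_of_finPt hb sq u fun v hv =>
      (finPt_iff_fibre sR hb v).2 (hR.subset fun r (hr : r₂.left r = v) => by
        show Points.ofPt ((yon S).map r₁ ≫ b) r = x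
        rw [sR.w, ofPt_comp, hr, hv, hx])
    have : (Set.univ : Set W.left).Finite :=
      (Set.finite_iUnion hfib).subset fun w _ => Set.mem_iUnion.2 ⟨fst.left w, rfl⟩
    have := Set.finite_univ_iff.1 this
    infer_instance
  · rintro ⟨p, rfl, hm, hq⟩ U φ hU hφ R s t sR
    obtain ⟨W, c, d, sW⟩ := exists_isPullback hφ.1 p.toHom
    have : QuasiCompact c.left := prop_snd sW.flip hq
    have : Etale d.left := prop_snd sW hφ
    have : CompactSpace W.left := QuasiCompact.compactSpace_of_compactSpace c.left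
    let dK : W.left ⟶ Spec (CommRingCat.of p.K) := d.left
    have : Etale dK := ‹Etale d.left›
    have : DiscreteTopology W.left := discreteTopology_of_etale_field (K := p.K) dK
    have : Finite W.left := finite_of_compact_of_discrete
    have hfin : (Points.ofPt φ ⁻¹' {Points.mk p}).Finite := (Set.finite_range c.left).subset fun z hz => by
      obtain ⟨w, hw, -⟩ := (ofPt_eq_iff sW z (IsLocalRing.closedPoint p.K : PrimeSpectrum _)).1
        (Eq.trans hz (Points.ofPt_toHom p _).symm)
      exact ⟨w, hw⟩
    exact ⟨hfin, finite_relation_preimage X p φ hφ sR hfin⟩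

/-- Finite fibres of a chart and monomorphism points. -/
theorem finite_fibre_chart_iff_mono_point (X : Space S) (x : Points X.obj) {U : Over S}
    (φ : (yon S).obj U ⟶ X.obj) (hφ : RepWith @Etale φ) :
    (x ∈ Set.range (Points.ofPt φ) ∧ (Points.ofPt φ ⁻¹' {x}).Finite ∧
        ∀ (R : Over S) (s t : R ⟶ U), IsPullback ((yon S).map t) ((yon S).map s) φ φ →
          (Points.ofPt ((yon S).map t ≫ φ) ⁻¹' {x}).Finite) ↔
      ∃ p : FieldPt X.obj, Points.mk p = x ∧ Mono p.toHom ∧
        ∀ (T : Over S) (c : T ⟶ p.pt) (snd : (yon S).obj T ⟶ (yon S).obj U),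
          IsPullback ((yon S).map c) snd p.toHom φ → Nonempty ↥T.left ∧ IsFinite c.left := by
  refine ⟨fun h => ?_, ?_⟩
  · obtain ⟨⟨u, hu⟩, -, hR⟩ := h
    obtain ⟨R, r₁, r₂, sR⟩ := exists_isPullback hφ.1 φ
    subst hu
    have hRf := hR R r₂ r₁ sR
    obtain ⟨p, hp, hpm⟩ := exists_mono_point_of_finite_pairs φ hφ sR u u rfl (hRf.subset fun r hr => by
      show Points.ofPt ((yon S).map r₁ ≫ φ) r = Points.ofPt φ u
      rw [ofPt_comp, hr.2])
    refine ⟨p, hp, hpm, fun T c snd sq => ?_⟩
    obtain ⟨g, rfl⟩ := (yon S).map_surjective snd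
    have : Etale c.left := prop_snd sq.flip hφ
    obtain ⟨σ, hσ⟩ := exists_factor_of_mono (FieldPt.ofPt φ u) p (show Points.ofPt φ u = Points.mk p from hp.symm)
    let K := (FieldPt.ofPt φ u).pt
    have hfp : FinPt φ K ((FieldPt.ofPt φ u).toHom) := by
      rw [FieldPt.toHom_ofPt]
      exact (finPt_iff_fibre sR hφ u).2 (hRf.subset fun r (hr : r₂.left r = u) => by
        show Points.ofPt ((yon S).map r₁ ≫ φ) r = Points.ofPt φ u
        rw [sR.w, ofPt_comp, hr])
    obtain ⟨F, f₁, f₂, sF⟩ : ∃ (F : Over S) (f₁ : F ⟶ T) (f₂ : F ⟶ K), IsPullback f₁ f₂ c σ :=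
      ⟨_, _, _, IsPullback.of_hasPullback c σ⟩
    have : Finite F.left := hfp F (f₁ ≫ g) f₂ (by
      rw [← hσ, Functor.map_comp]
      exact (yon_isPullback sF).paste_horiz sq.flip)
    have : Surjective f₁.left := by
      refine MorphismProperty.of_isPullback (P := @Surjective) (left_isPullback sF).flip ⟨fun y => ?_⟩
      have : Subsingleton p.pt.left := inferInstanceAs (Subsingleton (PrimeSpectrum p.K))
      exact ⟨(IsLocalRing.closedPoint (U.left.residueField u) : PrimeSpectrum _), Subsingleton.elim _ _⟩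
    have : Finite T.left := Finite.of_surjective f₁.left f₁.left.surjective
    let cK : T.left ⟶ Spec (CommRingCat.of p.K) := c.left
    have : Etale cK := ‹Etale c.left›
    have : DiscreteTopology T.left := discreteTopology_of_etale_field (K := p.K) cK
    have : DiscreteTopology p.pt.left := inferInstanceAs (DiscreteTopology (PrimeSpectrum p.K))
    have : Finite p.pt.left := inferInstanceAs (Finite (PrimeSpectrum p.K))
    refine ⟨?_, isFinite_of_etale_discrete c.left⟩
    obtain ⟨w, -, -⟩ := (ofPt_eq_iff sq (IsLocalRing.closedPoint p.K : PrimeSpectrum _) u).1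
      ((Points.ofPt_toHom p _).trans hp)
    exact ⟨w⟩
  · rintro ⟨p, rfl, hpm, h⟩
    obtain ⟨W, c, d, sW⟩ := exists_isPullback hφ.1 p.toHom
    obtain ⟨⟨w⟩, hf⟩ := h W d ((yon S).map c) sW.flip
    have : Finite p.pt.left := inferInstanceAs (Finite (PrimeSpectrum p.K))
    have : Finite W.left := finite_points_of_lqf_over_field d.left
    have hfin : (Points.ofPt φ ⁻¹' {Points.mk p}).Finite := (Set.finite_range c.left).subset fun z hz => by
      obtain ⟨v, hv, -⟩ := (ofPt_eq_iff sW z (IsLocalRing.closedPoint p.K : PrimeSpectrum _)).1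
        (Eq.trans hz (Points.ofPt_toHom p _).symm)
      exact ⟨v, hv⟩
    refine ⟨⟨c.left w, ?_⟩, hfin, fun R s t sR => finite_relation_preimage X p φ hφ sR hfin⟩
    exact ((ofPt_eq_iff sW (c.left w) (d.left w)).2 ⟨w, rfl, rfl⟩).trans (Points.ofPt_toHom p _)

end Groth.Agent.AlgSpFin
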