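import Groth.Agent.AlgSpFin.MorCalc
import Groth.Agent.S9900

/-!
Sections, comparison maps of fibre products and permanence through relative diagonals.
-/

set_option autoImplicit false
set_option backward.isDefEq.respectTransparency.types false

universe u

open CategoryTheory CategoryTheory.Limits AlgebraicGeometry AlgSp

namespace Groth.Agent.AlgSpFin

open Groth.Agent.AlgSpLib

variable {S : Scheme.{u}}

/-- Base changes of the diagonal of a morphism of algebraic spaces. -/
theorem diagonal_baseChange_properties {X Y : Space S} (h : X ⟶ Y) {A B : Sp S} {top : A ⟶ X.obj} {k : A ⟶ B}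
    {m : B ⟶ pullback h.hom h.hom} (sq : IsPullback top k (pullback.diagonal h.hom) m) :
    Representable k ∧ RepWith @LocallyOfFiniteType k ∧ RepWith (@LocallyQuasiFinite ⊓ @LocallyOfFiniteType) k ∧
      RepWith @IsSeparated k ∧ RepWith (MorphismProperty.monomorphisms Scheme.{u}) k ∧
      (IsSeparatedMor h.hom → RepWith @IsClosedImmersion k) ∧
      (IsQuasiSeparatedMor h.hom → RepWith @QuasiCompact k) := by
  obtain ⟨-, hlft, hmono, hsep, hlqf⟩ := S9900.result h
  exact ⟨(repWith_baseChange sq hlft).1, repWith_baseChange sq hlft, repWith_baseChange sq hlqf,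
    repWith_baseChange sq hsep, repWith_baseChange sq hmono, fun hh => repWith_baseChange sq hh,
    fun hh => repWith_baseChange sq hh⟩

/-- A section is a base change of the diagonal. -/
theorem isPullback_section {C : Type*} [Category C] [HasPullbacks C] {X T : C} (f : X ⟶ T) (s : T ⟶ X)
    (hs : s ≫ f = 𝟙 T) :
    IsPullback s s (pullback.diagonal f)
      (pullback.lift (f ≫ s) (𝟙 X) (by rw [Category.assoc, hs, Category.comp_id, Category.id_comp])) := by
  have w : s ≫ pullback.diagonal f =
      s ≫ pullback.lift (f ≫ s) (𝟙 X) (by rw [Category.assoc, hs, Category.comp_id, Category.id_comp]) := by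
    apply pullback.hom_ext
    · simp only [Category.assoc, pullback.diagonal_fst, pullback.lift_fst, Category.comp_id]
      rw [← Category.assoc, hs, Category.id_comp]
    · simp only [Category.assoc, pullback.diagonal_snd, pullback.lift_snd, Category.comp_id]
  refine IsPullback.of_isLimit' ⟨w⟩ (PullbackCone.IsLimit.mk w (fun c => c.snd ≫ f) (fun c => ?_) (fun c => ?_)
    fun c l _ hl => ?_)
  · have e := congrArg (· ≫ pullback.fst f f) c.condition
    simp only [Category.assoc, pullback.diagonal_fst, pullback.lift_fst, Category.comp_id] at e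
    exact (Category.assoc _ _ _).trans e.symm
  · have e₁ := congrArg (· ≫ pullback.fst f f) c.condition
    have e₂ := congrArg (· ≫ pullback.snd f f) c.condition
    simp only [Category.assoc, pullback.diagonal_fst, pullback.lift_fst, pullback.diagonal_snd, pullback.lift_snd,
      Category.comp_id] at e₁ e₂
    exact (Category.assoc _ _ _).trans (e₁.symm.trans e₂)
  · rw [← hl]
    exact ((Category.assoc _ _ _).trans ((congrArg (l ≫ ·) hs).trans (Category.comp_id l))).symm

/-- Permanence of the finiteness and separation properties through the graph. -/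
theorem permanence {Z Y X : Space S} (a : Z ⟶ Y) (b : Y ⟶ X) :
    ((Representable (a ≫ b).hom ∧ RepWith @LocallyOfFiniteType (a ≫ b).hom ∧
        RepWith (@LocallyQuasiFinite ⊓ @LocallyOfFiniteType) (a ≫ b).hom ∧
        RepWith @IsSeparated (a ≫ b).hom ∧
        RepWith (MorphismProperty.monomorphisms Scheme.{u}) (a ≫ b).hom) →
      (Representable a.hom ∧ RepWith @LocallyOfFiniteType a.hom ∧
        RepWith (@LocallyQuasiFinite ⊓ @LocallyOfFiniteType) a.hom ∧
        RepWith @IsSeparated a.hom ∧
        RepWith (MorphismProperty.monomorphisms Scheme.{u}) a.hom)) ∧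
    (RepWith @IsClosedImmersion (a ≫ b).hom → IsSeparatedMor b.hom → RepWith @IsClosedImmersion a.hom) := by
  obtain ⟨P, γ, p, s, m, sP, e, sG⟩ := exists_graph a.hom b.hom
  obtain ⟨-, g₂, g₃, g₄, g₅, g₆, -⟩ := diagonal_baseChange_properties b sG
  refine ⟨fun ⟨_, h₂, h₃, h₄, h₅⟩ => ?_, fun h hb => ?_⟩
  · rw [← e]
    exact ⟨(repWith_comp g₂ (repWith_baseChange sP h₂)).1, repWith_comp g₂ (repWith_baseChange sP h₂),
      repWith_comp g₃ (repWith_baseChange sP h₃), repWith_comp g₄ (repWith_baseChange sP h₄),
      repWith_comp g₅ (repWith_baseChange sP h₅)⟩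
  · rw [← e]
    exact repWith_comp (g₆ hb) (repWith_baseChange sP h)

end Groth.Agent.AlgSpFin
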