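import Groth.Agent.AlgSpFin.ResTrdeg
import Groth.Agent.AlgSpFin.CodimZero
import Groth.Agent.DimInequality.Scheme
import Groth.Agent.DimFormulaIrr.Basic
import Groth.Agent.AlgSpPts.NoethSp
import Groth.Agent.UnibFib.EtaleScheme
import Groth.Prelude.Def_AlgSpDec

/-!
Dimension inequalities for morphisms of spaces.
-/

set_option autoImplicit false
set_option backward.isDefEq.respectTransparency.types false

universe u

open CategoryTheory CategoryTheory.Limits AlgebraicGeometry Opposite AlgSp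

namespace Groth.Agent.AlgSpFin

open Groth.Agent.AlgSpLib

variable {S : Scheme.{u}} {X Y : Space S} (f : X ⟶ Y)

/-- Finite type points have algebraic residue extensions. -/
theorem resTrdeg_zero_of_finiteTypePoint (hf : LocP @LocallyOfFiniteType f.hom) (x : Points X.obj)
    (hx : HasAt (fun U u => IsClosed ({u} : Set ↥U)) X.obj x) :
    HasAtMor (fun _ _ h u => Dual3.resTrdeg h u = 0) f.hom x := by
  obtain ⟨U₁, a₁, u₁, ha₁, rfl, hc⟩ := hx
  obtain ⟨U, V, a, b, h, ha, has, hb, -, w⟩ := exists_chart X.property Y.property f.hom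
  obtain ⟨u, hu⟩ := surjective_ofPt has (Points.ofPt a₁ u₁)
  obtain ⟨W, p, q, sq⟩ := exists_isPullback ha.1 a₁
  obtain ⟨z, hzu, hzu₁⟩ := (ofPt_eq_iff sq u u₁).1 hu
  have : Etale q.left := prop_snd sq ha
  have : Etale p.left := prop_snd sq.flip ha₁
  have w' : ((yon S).map p ≫ a) ≫ f.hom = (yon S).map (p ≫ h) ≫ b := by
    rw [Category.assoc, w, Functor.map_comp, Category.assoc]
  have ha' : RepWith @Etale ((yon S).map p ≫ a) := repWith_yon_comp (P := @Etale) p inferInstance ha
  have hl : LocallyOfFiniteType (p ≫ h).left := hf _ b _ ha' hb w'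
  have hzc : IsClosed ({z} : Set W.left) := by
    refine isClosed_of_closure_subset fun z' hz' => ?_
    have hsp := specializes_iff_mem_closure.2 hz'
    refine (UnibFib.eq_of_specializes_of_etale (f := q.left) hsp ?_).symm
    exact ((hsp.map q.left.continuous).mem_closed hc hzu₁).symm ▸ hzu₁
  refine ⟨W, V, (yon S).map p ≫ a, b, p ≫ h, z, ha', hb, w', ?_, ?_⟩
  · rw [ofPt_comp, hzu, hu]
  · obtain ⟨n, hn, -, hn'⟩ := exists_fibreDimAt_eq_stalk_add (p ≫ h).left z
    have hfc : IsClosed ({(p ≫ h).left.asFiber z} : Set ((p ≫ h).left.fiber ((p ≫ h).left z))) := by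
      convert hzc.preimage ((p ≫ h).left.fiberι ((p ≫ h).left z)).continuous
      ext t
      exact ⟨fun e => (show t = _ from e) ▸ (p ≫ h).left.fiberι_asFiber z, fun e =>
        ((p ≫ h).left.fiberι _).isEmbedding.injective (e.trans ((p ≫ h).left.fiberι_asFiber z).symm)⟩
    rw [hfc.closure_eq] at hn'
    have : Subsingleton ↥({(p ≫ h).left.asFiber z} : Set ((p ≫ h).left.fiber ((p ≫ h).left z))) :=
      Set.subsingleton_singleton.coe_sort
    have h0 := hn'.symm.trans_le (dim_le_zero_of_discrete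
      (T := ↥({(p ≫ h).left.asFiber z} : Set ((p ≫ h).left.fiber ((p ≫ h).left z)))))
    have : n ≤ 0 := by exact_mod_cast h0
    show Dual3.resTrdeg (p ≫ h).left z = 0
    rw [hn, Nat.le_zero.1 this, Nat.cast_zero]

/-- The dimension inequality in a chart. -/
theorem chart_dimension_inequality (hY : IsLocNoethSp Y.obj) (hf : LocP @LocallyOfFiniteType f.hom)
    {U V : Over S} {a : (yon S).obj U ⟶ X.obj} {b : (yon S).obj V ⟶ Y.obj} {h : U ⟶ V} (ha : RepWith @Etale a)
    (hb : RepWith @Etale b) (w : a ≫ f.hom = (yon S).map h ≫ b) (u : U.left) (E : Cardinal.{u})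
    (hE : ∀ ξ : Points X.obj, ξ ⤳ Points.ofPt a u →
      HasAt (fun U u => ringKrullDim ↥(U.presheaf.stalk u) = 0) X.obj ξ →
      ∀ s : Cardinal.{u}, HasAtMor (fun _ _ h u => Dual3.resTrdeg h u = s) f.hom ξ → s ≤ E) :
    ringKrullDim ↥(U.left.presheaf.stalk u) + ((Cardinal.toENat (Dual3.resTrdeg h.left u) : ℕ∞) : WithBot ℕ∞) ≤
      ringKrullDim ↥(V.left.presheaf.stalk (h.left u)) + ((Cardinal.toENat E : ℕ∞) : WithBot ℕ∞) := by
  have : LocallyOfFiniteType h.left := hf a b h ha hb w
  have : IsLocallyNoetherian V.left := AlgSpPts.isLocallyNoetherian_of_chart hY hb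
  rcases lt_or_ge E Cardinal.aleph0 with hfin | hinf
  · obtain ⟨N, rfl⟩ := Cardinal.lt_aleph0.1 hfin
    obtain ⟨n, hn, -, -⟩ := exists_fibreDimAt_eq_stalk_add h.left u
    rw [hn, Cardinal.toENat_nat, Cardinal.toENat_nat]
    refine DimInequality.stalk_dimension_inequality h.left u n N hn fun ξ hξ hξu => ?_
    refine hE (Points.ofPt a ξ) (hξu.map (Points.continuous_ofPt a)) ((hasAt_dim_zero_iff ha ξ).2 fun v hv => ?_)
      (Dual3.resTrdeg h.left ξ) ⟨U, V, a, b, h, ξ, ha, hb, w, rfl, rfl⟩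
    have : closure {v} = closure ({ξ} : Set U.left) := Set.Subset.antisymm
      (hξ.2 isIrreducible_singleton.closure hv.closure_subset) hv.closure_subset
    exact ((specializes_iff_closure_subset.2 this.le).antisymm hv).eq.symm
  · rw [Cardinal.toENat_eq_top.2 hinf]
    have : (0 : WithBot ℕ∞) ≤ ringKrullDim ↥(V.left.presheaf.stalk (h.left u)) :=
      ringKrullDim_nonneg_of_nontrivial
    refine le_trans le_top (le_of_eq ?_)
    revert this
    generalize ringKrullDim ↥(V.left.presheaf.stalk (h.left u)) = e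
    intro he
    cases e with
    | bot => exact absurd he (by simp)
    | coe e => rw [← WithBot.coe_add, add_top]; rfl

/-- The dimension inequality at a point. -/
theorem stalkDim_inequality (hY : IsLocNoethSp Y.obj) (hf : LocP @LocallyOfFiniteType f.hom) (x : Points X.obj)
    (E : Cardinal.{u})
    (hE : ∀ ξ : Points X.obj, ξ ⤳ x → HasAt (fun U u => ringKrullDim ↥(U.presheaf.stalk u) = 0) X.obj ξ →
      ∀ s : Cardinal.{u}, HasAtMor (fun _ _ h u => Dual3.resTrdeg h u = s) f.hom ξ → s ≤ E)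
    (p q : WithBot ℕ∞) (r : Cardinal.{u})
    (hp : HasAt (fun U u => ringKrullDim ↥(U.presheaf.stalk u) = p) X.obj x)
    (hq : HasAt (fun U u => ringKrullDim ↥(U.presheaf.stalk u) = q) Y.obj (Points.map f.hom x))
    (hr : HasAtMor (fun _ _ h u => Dual3.resTrdeg h u = r) f.hom x) :
    p + ((Cardinal.toENat r : ℕ∞) : WithBot ℕ∞) ≤ q + ((Cardinal.toENat E : ℕ∞) : WithBot ℕ∞) := by
  obtain ⟨U, V, a, b, h, ha, has, hb, -, w⟩ := exists_chart X.property Y.property f.hom
  obtain ⟨u, rfl⟩ := surjective_ofPt has x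
  rw [Points.map_ofPt, w, ofPt_comp] at hq
  rw [← (hasAt_iff_of_etale_invariant (fun T t => ringKrullDim ↥(T.presheaf.stalk t))
      (fun e _ z => stalkDim_of_etale e z) (· = p) ha u).1 hp,
    ← (hasAt_iff_of_etale_invariant (fun T t => ringKrullDim ↥(T.presheaf.stalk t))
      (fun e _ z => stalkDim_of_etale e z) (· = q) hb (h.left u)).1 hq,
    ← (hasAtMor_resTrdeg_iff (· = r) ha hb w u).1 hr]
  exact chart_dimension_inequality f hY hf ha hb w u E hE

/-- The dimension of the source is bounded by that of the target plus the transcendence degrees. -/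
theorem dim_le_dim_add (hY : IsLocNoethSp Y.obj) (hf : LocP @LocallyOfFiniteType f.hom) (E : Cardinal.{u})
    (hE : ∀ ξ : Points X.obj, HasAt (fun U u => ringKrullDim ↥(U.presheaf.stalk u) = 0) X.obj ξ →
      ∀ s : Cardinal.{u}, HasAtMor (fun _ _ h u => Dual3.resTrdeg h u = s) f.hom ξ → s ≤ E) :
    AlgSp.dim X.obj ≤ AlgSp.dim Y.obj + ((Cardinal.toENat E : ℕ∞) : WithBot ℕ∞) := by
  refine iSup_le fun U => iSup_le fun a => iSup_le fun ha => ?_
  rw [DimFormulaIrr.topologicalKrullDim_eq_iSup U.left]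
  refine iSup_le fun u => ?_
  obtain ⟨U₀, V, a₀, b, h, ha₀, has, hb, -, w⟩ := exists_chart X.property Y.property f.hom
  obtain ⟨u₀, hu₀⟩ := surjective_ofPt has (Points.ofPt a u)
  rw [(hasAt_iff_of_etale_invariant (fun T t => ringKrullDim ↥(T.presheaf.stalk t))
    (fun e _ z => stalkDim_of_etale e z) (· = ringKrullDim ↥(U₀.left.presheaf.stalk u₀)) ha u).1
    ⟨U₀, a₀, u₀, ha₀, hu₀, rfl⟩]
  have hineq := chart_dimension_inequality f hY hf ha₀ hb w u₀ E fun ξ _ hξ => hE ξ hξ
  refine le_trans ?_ (hineq.trans (add_le_add ?_ le_rfl))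
  · exact le_add_of_nonneg_right (WithBot.coe_le_coe.2 bot_le)
  · refine le_iSup_of_le V (le_iSup_of_le b (le_iSup_of_le hb ?_))
    rw [DimFormulaIrr.topologicalKrullDim_eq_iSup V.left]
    exact le_iSup (fun v : V.left => ringKrullDim ↥(V.left.presheaf.stalk v)) (h.left u₀)

end Groth.Agent.AlgSpFin
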