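import Groth.Agent.AlgSpFin.GenericFibre
import Groth.Agent.AlgSpFin.Misc5

/-!
Dimension is bounded by the dimension of the base plus the transcendence degree.
-/

set_option autoImplicit false
set_option backward.isDefEq.respectTransparency.types false

universe u

open CategoryTheory CategoryTheory.Limits AlgebraicGeometry Opposite AlgSp TopologicalSpace

namespace Groth.Agent.AlgSpFin

open Groth.Agent.AlgSpLib Groth.Agent.AlgStLib

/-- The dimension of a scheme is bounded by the dimensions of its local rings. -/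
theorem dim_le_of_stalks {U : Scheme.{u}} (d : WithBot ℕ∞) (h : ∀ u : U, ringKrullDim (U.presheaf.stalk u) ≤ d) :
    topologicalKrullDim U ≤ d := by
  rw [topologicalKrullDim, Order.krullDim_eq_of_orderIso irreducibleSetEquivPoints, Order.krullDim_eq_iSup_coheight]
  exact iSup_le fun u => (ringKrullDim_stalk_eq_coheight u).symm.trans_le (h u)

theorem stalkDim_le_dim {T : Scheme.{u}} (t : T) : ringKrullDim (T.presheaf.stalk t) ≤ topologicalKrullDim T := by
  rw [← PrimeSpectrum.topologicalKrullDim_eq_ringKrullDim]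
  exact (T.fromSpecStalk t).isEmbedding.isInducing.topologicalKrullDim_le

/-- The dimension inequality for dominant morphisms of integral spaces. -/
theorem dim_le_dim_add_trdeg {S : Scheme.{u}} {X Y : Space S} (f : X ⟶ Y) (hY : IsLocNoethSp Y.obj)
    (hXd : IsDecent X.obj) (hft : LocP @LocallyOfFiniteType f.hom)
    (x : Points X.obj) (hx : IsGenericPoint x (Set.univ : Set (Points X.obj))) (r : ℕ)
    (hr : HasAtMor (fun _ _ h u => Dual3.resTrdeg h u = (r : Cardinal.{u})) f.hom x) :
    AlgSp.dim X.obj ≤ AlgSp.dim Y.obj + ((r : ℕ∞) : WithBot ℕ∞) := by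
  obtain ⟨U₀, V, a₀, b, g₀, ha₀, ha₀s, hb, -, w⟩ := exists_chart X.property Y.property f.hom
  refine iSup_le fun U => iSup_le fun a => iSup_le fun ha => ?_
  obtain ⟨W, w₁, w₂, sW⟩ := exists_isPullback (X.property.representable_from_yon a) a₀
  have : Etale w₁.left := prop_snd sW.flip ha₀
  have : Surjective w₁.left := prop_snd sW.flip ha₀s
  refine (S7552.result w₁.left w₁.left.continuous w₁.left.surjective (Or.inr (Flat.generalizingMap w₁.left))).trans
    (dim_le_of_stalks _ fun z => ?_)
  let a' := (yon S).map w₂ ≫ a₀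
  have ha' : RepWith @Etale a' := repWith_yon_comp (P := @Etale) w₂ (prop_snd sW ha) ha₀
  have w' : a' ≫ f.hom = (yon S).map (w₂ ≫ g₀) ≫ b := by
    rw [Category.assoc, w, Functor.map_comp, Category.assoc]
  have : LocallyOfFiniteType (w₂ ≫ g₀).left := hft a' b _ ha' hb w'
  have : IsLocallyNoetherian V.left := AlgSpPts.isLocallyNoetherian_of_chart hY hb
  let g := (w₂ ≫ g₀).left
  obtain ⟨n, hn, -⟩ := FibreTrdeg.exists_trdeg_fibre g (g z) (g.asFiber z)
  have hn' : Dual3.resTrdeg g (g.fiberι (g z) (g.asFiber z)) = (n : Cardinal.{u}) := hn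
  rw [g.fiberι_asFiber] at hn'
  have hineq := DimInequality.stalk_dimension_inequality g z n r hn' fun ξ hξ _ => by
    show Dual3.resTrdeg g ξ ≤ _
    refine le_of_eq ((hasAtMor_resTrdeg_iff (· = (r : Cardinal.{u})) ha' hb w' ξ).1 ?_)
    rw [(ofPt_eq_generic_iff X.property hXd hx ha' ξ).2 fun p hp => GenericFinite.eq_of_specializes hξ hp]
    exact hr
  refine le_trans ?_ (hineq.trans (add_le_add ((stalkDim_le_dim (g z)).trans
    (le_iSup_of_le V (le_iSup_of_le b (le_iSup_of_le hb le_rfl)))) le_rfl))
  exact le_add_of_nonneg_right (Nat.cast_nonneg' n)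

end Groth.Agent.AlgSpFin
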