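import Groth.Agent.AlgSpFin.DecentPoint

/-!
Decent spaces with a discrete space of points are schemes.
-/

set_option autoImplicit false
set_option backward.isDefEq.respectTransparency.types false

universe u

open CategoryTheory CategoryTheory.Limits AlgebraicGeometry Opposite AlgSp

namespace Groth.Agent.AlgSpFin

open Groth.Agent.AlgSpLib

variable {S : Scheme.{u}}

/-- An open point of a decent space is covered by a finite discrete scheme. -/
theorem exists_finite_chart_of_open_point {X : Sp S} (hX : IsAlgSpace X) (hd : IsDecent X) (x : Points X)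
    (hx : IsOpen ({x} : Set (Points X))) :
    ∃ (W : Over S) (a : (yon S).obj W ⟶ X), RepWith @Etale a ∧ Finite W.left ∧ DiscreteTopology W.left ∧
      Nonempty W.left ∧ ∀ w : W.left, Points.ofPt a w = x := by
  obtain ⟨U₀, a₀, ha₀, ha₀s⟩ := hX.atlas
  obtain ⟨u₀, hu₀⟩ := surjective_ofPt ha₀s x
  obtain ⟨O, hO, huO, -⟩ := exists_isAffineOpen_mem_and_subset (X := U₀.left) (U := ⊤) (x := u₀) trivial
  let U : Over S := Over.mk (O.ι ≫ U₀.hom)
  let ι₀ : U ⟶ U₀ := Over.homMk O.ι rfl
  let a := (yon S).map ι₀ ≫ a₀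
  have ha : RepWith @Etale a := repWith_yon_comp (P := @Etale) ι₀ (inferInstanceAs (Etale O.ι)) ha₀
  have : IsAffine U.left := hO
  let F : U.left.Opens := ⟨{t | Points.ofPt a t = x}, hx.preimage (Points.continuous_ofPt a)⟩
  let W : Over S := Over.mk (F.ι ≫ U.hom)
  let j : W ⟶ U := Over.homMk F.ι rfl
  have hW : ∀ w : W.left, Points.ofPt ((yon S).map j ≫ a) w = x := fun w => by
    rw [ofPt_comp]; exact w.2
  have hfin := finite_fibre_of_isDecent hX hd ha x
  have : Finite W.left := hfin.to_subtype
  have : T1Space W.left := t1Space_iff_specializes_imp_eq.2 fun p q h => by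
    have h' : (Subtype.val p : U.left) ⤳ Subtype.val q := h.map continuous_subtype_val
    exact Subtype.ext (eq_of_specializes_of_finite_fibre hX ha (p.2.trans q.2.symm) h'
      (hfin.subset fun t ht => (show Points.ofPt a t = _ from ht).trans p.2))
  exact ⟨W, (yon S).map j ≫ a, repWith_yon_comp (P := @Etale) j (inferInstanceAs (Etale F.ι)) ha, inferInstance,
    inferInstance, ⟨⟨⟨u₀, huO⟩, show Points.ofPt a (⟨u₀, huO⟩ : O.toScheme) = x by
      show Points.ofPt ((yon S).map ι₀ ≫ a₀) (⟨u₀, huO⟩ : O.toScheme) = x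
      rw [ofPt_comp]; exact hu₀⟩⟩, hW⟩

/-- A decent space with a discrete space of points is a scheme. -/
theorem exists_iso_yon_of_discrete {X : Sp S} (hX : IsAlgSpace X) (hd : IsDecent X) [DiscreteTopology (Points X)] :
    ∃ M : Over S, Nonempty ((yon S).obj M ≅ X) := by
  obtain ⟨U₀, a₀, ha₀, ha₀s⟩ := hX.atlas
  -- charts of the points, indexed by a small type
  have : Small.{u} (Points X) := small_of_surjective (surjective_ofPt ha₀s)
  let I : Type u := Shrink.{u} (Points X)
  let pt : I ≃ Points X := (equivShrink (Points X)).symm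
  choose W a ha hF hD hne hW using fun i : I =>
    exists_finite_chart_of_open_point hX hd (pt i) (isOpen_discrete _)
  have hquot : ∀ i : I, ∃ (C : Over S) (q : W i ⟶ C) (φ : (yon S).obj C ⟶ X),
      Surjective q.left ∧ Mono φ ∧ (yon S).map q ≫ φ = a i := fun i => by
    obtain ⟨R, s, t, sR⟩ := exists_isPullback (ha i).1 (a i)
    have : Etale s.left := prop_snd sR.flip (ha i)
    have := hF i
    have := hD i
    have := finite_pullback_of_isDecent hX hd sR (ha i)
    have : DiscreteTopology R.left := by
      have : LocallyQuasiFinite s.left := locallyQuasiFinite_of_formallyUnramified _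
      exact discreteTopology_of_discrete_fibres s.left fun y => s.left.isDiscrete_preimage_singleton y
    have : IsFinite s.left := isFinite_of_etale_discrete s.left
    obtain ⟨C, hC, str, q, φ, -, hφ, hqs, hm, -⟩ := exists_affine_quotient (a i) s t sR
    exact ⟨_, q, φ, hqs, hm, hφ⟩
  choose C q φ hqs hφm hφ using hquot
  let M := sigmaOverF C
  obtain ⟨Φ, hΦ, -⟩ := existsUnique_sigmaOverF_desc C φ
  have hpt : ∀ i (m : (C i).left), Points.ofPt (φ i) m = pt i := fun i m => by
    obtain ⟨z, rfl⟩ := (hqs i).surj m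
    rw [← ofPt_comp, hφ i]
    exact hW i z
  have hΦpt : ∀ i (m : (C i).left), Points.ofPt Φ ((sigmaOverFι C i).left m) = pt i := fun i m => by
    rw [← ofPt_comp, hΦ i]
    exact hpt i m
  have : Mono Φ := ⟨fun {Y} u v huv => hom_ext_yon fun T w => by
    obtain ⟨f, hf⟩ := (yon S).map_surjective (w ≫ u)
    obtain ⟨g, hg⟩ := (yon S).map_surjective (w ≫ v)
    suffices f = g by rw [← hf, ← hg, this]
    have hfg : (yon S).map f ≫ Φ = (yon S).map g ≫ Φ := by rw [hf, hg, Category.assoc, Category.assoc, huv]
    refine Over.OverMorphism.ext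
      (Scheme.Cover.hom_ext ((sigmaOpenCover fun i => (C i).left).pullback₁ f.left) _ _ fun i => ?_)
    let P := pullback f.left (Sigma.ι (fun i => (C i).left) i)
    let c : P ⟶ T.left := pullback.fst _ _
    let f₁ : P ⟶ (C i).left := pullback.snd _ _
    have hc : c ≫ f.left = f₁ ≫ Sigma.ι (fun i => (C i).left) i := pullback.condition
    have hr : Set.range (c ≫ g.left) ⊆ Set.range (Sigma.ι (fun i => (C i).left) i) := by
      rintro _ ⟨z, rfl⟩
      obtain ⟨k, y, hy⟩ := (sigmaOpenCover fun i => (C i).left).exists_eq ((c ≫ g.left) z)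
      have hy' : Sigma.ι (fun i => (C i).left) k y = g.left (c z) := hy
      have e₁ : Points.ofPt ((yon S).map f ≫ Φ) (c z) = pt i := by
        rw [ofPt_comp, show f.left (c z) = Sigma.ι (fun i => (C i).left) i (f₁ z) by
          rw [← Scheme.Hom.comp_apply, ← Scheme.Hom.comp_apply, hc]]
        exact hΦpt i _
      have e₂ : Points.ofPt ((yon S).map g ≫ Φ) (c z) = pt k := by
        rw [ofPt_comp, ← hy']
        exact hΦpt k y
      rw [hfg, e₂] at e₁
      obtain rfl := pt.injective e₁
      exact ⟨y, hy'⟩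
    let g₁ := IsOpenImmersion.lift (Sigma.ι (fun i => (C i).left) i) (c ≫ g.left) hr
    have hg₁ : g₁ ≫ Sigma.ι (fun i => (C i).left) i = c ≫ g.left := IsOpenImmersion.lift_fac _ _ _
    let P' : Over S := Over.mk (c ≫ T.hom)
    let c' : P' ⟶ T := Over.homMk c rfl
    let F₁ : P' ⟶ C i := Over.homMk f₁ (by
      show f₁ ≫ (C i).hom = c ≫ T.hom
      rw [← Over.w f, ← Category.assoc, hc, Category.assoc, ← Over.w (sigmaOverFι C i)]; rfl)
    let G₁ : P' ⟶ C i := Over.homMk g₁ (by
      show g₁ ≫ (C i).hom = c ≫ T.hom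
      rw [← Over.w g, ← Category.assoc, ← hg₁, Category.assoc, ← Over.w (sigmaOverFι C i)]; rfl)
    have e₁ : c' ≫ f = F₁ ≫ sigmaOverFι C i := Over.OverMorphism.ext hc
    have e₂ : c' ≫ g = G₁ ≫ sigmaOverFι C i := Over.OverMorphism.ext hg₁.symm
    have := hφm i
    have : F₁ = G₁ := (yon S).map_injective ((cancel_mono (φ i)).1 (by
      rw [← hΦ i, ← Category.assoc, ← Category.assoc, ← Functor.map_comp, ← Functor.map_comp, ← e₁, ← e₂,
        Functor.map_comp, Functor.map_comp, Category.assoc, Category.assoc, hfg]))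
    exact congrArg CommaMorphism.left (show c' ≫ f = c' ≫ g by rw [e₁, e₂, this])⟩
  have : IsIso Φ := isIso_of_mono_of_local_lifts Φ fun T g => by
    choose V v w sV using fun i => exists_isPullback (ha i).1 g
    have hw : ∀ i, Etale (w i).left := fun i => prop_snd (sV i) (ha i)
    let c : sigmaOverF V ⟶ T := Over.homMk (Sigma.desc fun i => (w i).left) (by
      refine Sigma.hom_ext _ _ fun i => ?_
      simp)
    have hc : ∀ i, sigmaOverFι V i ≫ c = w i := fun i => Over.OverMorphism.ext (Sigma.ι_desc _ _)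
    have : Etale c.left := IsZariskiLocalAtSource.sigmaDesc (P := @Etale) hw
    obtain ⟨l, hl, -⟩ := existsUnique_sigmaOverF_desc V fun i => (yon S).map (v i ≫ q i ≫ sigmaOverFι C i)
    refine ⟨sigmaOverF V, c, l, inferInstance, inferInstance, ⟨fun t => ?_⟩, ?_⟩
    · obtain ⟨i, hi⟩ := pt.surjective (Points.ofPt g t)
      obtain ⟨z⟩ := hne i
      obtain ⟨r, -, hr⟩ := (ofPt_eq_iff (sV i) z t).1 ((hW i z).trans hi)
      refine ⟨(sigmaOverFι V i).left r, ?_⟩
      rw [← Scheme.Hom.comp_apply, ← Over.comp_left, hc i]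
      exact hr
    · refine (existsUnique_sigmaOverF_desc V fun i => (yon S).map (w i) ≫ g).unique (fun i => ?_) fun i => ?_
      · rw [← Category.assoc, hl, ← (sV i).w, ← hφ i, ← hΦ i, Functor.map_comp, Functor.map_comp]
        simp only [Category.assoc]
      · rw [← Category.assoc, ← Functor.map_comp, hc]
  exact ⟨M, ⟨asIso Φ⟩⟩

theorem isRepresentable_of_discrete {X : Sp S} (hX : IsAlgSpace X) (hd : IsDecent X) [DiscreteTopology (Points X)] :
    X.obj.IsRepresentable := by
  obtain ⟨M, ⟨e⟩⟩ := exists_iso_yon_of_discrete hX hd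
  exact isRepresentable_of_iso e

/-- A space etale over a field is a scheme. -/
theorem isRepresentable_of_etale_field {X : Sp S} (hX : IsAlgSpace X) {K : Type u} [Field K]
    {str : Spec (CommRingCat.of K) ⟶ S} (f : X ⟶ (yon S).obj (Over.mk str)) (hf : IsEtaleMor f) :
    X.obj.IsRepresentable := by
  obtain ⟨U, a, ha, has⟩ := hX.atlas
  obtain ⟨c, hc⟩ := (yon S).map_surjective (a ≫ f)
  have : Etale c.left := (repWith_yon_map_iff _ _).1 (hc ▸ hf a ha)
  have : DiscreteTopology U.left := discreteTopology_of_etale_field (K := K) c.left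
  have : DiscreteTopology (Points X) := discreteTopology_iff_isOpen_singleton.2 fun x =>
    (isQuotientMap_ofPt ha has).isOpen_preimage.1 (isOpen_discrete _)
  exact isRepresentable_of_discrete hX (isDecent_of_isQuasiSeparatedMor hX f
    (isQuasiSeparatedMor_of_etale_field hX f hf))

/-- A space with a monomorphism into a discrete scheme is a scheme. -/
theorem isRepresentable_of_mono_discrete {X : Sp S} (hX : IsAlgSpace X) {Y : Over S} [DiscreteTopology Y.left]
    (f : X ⟶ (yon S).obj Y) [Mono f] : X.obj.IsRepresentable := by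
  have hq : IsQuasiSeparatedMor f := repWith_iso _
  have hd := isDecent_of_isQuasiSeparatedMor hX f hq
  have hcont : Continuous ((Points.schemeHomeo Y).symm ∘ Points.map f) :=
    (Points.schemeHomeo Y).symm.continuous.comp (Points.continuous_map f)
  have hi : Function.Injective ((Points.schemeHomeo Y).symm ∘ Points.map f) :=
    (Points.schemeHomeo Y).symm.injective.comp fun x y e => by
      have sq : IsPullback (𝟙 X) (𝟙 X) f f := IsKernelPair.id_of_mono f
      obtain ⟨z, h₁, h₂⟩ := exists_point_of_isPullback sq x y e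
      rw [← h₁, ← h₂]
  have : DiscreteTopology (Points X) := DiscreteTopology.of_continuous_injective hcont hi
  exact isRepresentable_of_discrete hX hd

end Groth.Agent.AlgSpFin
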