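import Groth.Agent.AlgSpFin.DimZero
import Groth.Agent.AlgSpFin.FieldSpace
import Groth.Agent.AlgSpFin.DiscreteScheme

/-!
Zero-dimensional spaces locally of finite type over a field.
-/

set_option autoImplicit false
set_option backward.isDefEq.respectTransparency.types false

universe u

open CategoryTheory CategoryTheory.Limits AlgebraicGeometry Opposite AlgSp TopologicalSpace

namespace Groth.Agent.AlgSpFin

open Groth.Agent.AlgSpLib

variable {S : Scheme.{u}}

/-- A space with a chart locally quasi-finite over a field is quasi-separated over it. -/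
theorem isQuasiSeparatedMor_of_qf_field {P : Sp S} (hP : IsAlgSpace P) {K : Type u} [Field K]
    {str : Spec (CommRingCat.of K) ⟶ S} (f : P ⟶ (yon S).obj (Over.mk str)) {U : Over S} {a : (yon S).obj U ⟶ P}
    (ha : RepWith @Etale a) (has : RepWith @Surjective a) {c : U ⟶ Over.mk str} [LocallyQuasiFinite c.left]
    (hc : (yon S).map c = a ≫ f) :
    IsQuasiSeparatedMor f := by
  have sU := IsPullback.of_hasPullback c c
  have sV : IsPullback ((yon S).map (pullback.fst c c)) ((yon S).map (pullback.snd c c)) (a ≫ f) (a ≫ f) :=
    hc ▸ yon_isPullback sU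
  have sB := IsPullback.of_hasPullback f f
  let b := sB.lift ((yon S).map (pullback.fst c c) ≫ a) ((yon S).map (pullback.snd c c) ≫ a)
      (by rw [Category.assoc, Category.assoc, sV.w])
  have hB := isAlgSpace_pullback f f hP hP
  have hcov := AlgSpPts.isFpqcCover_chart (hB (IsAlgSpace.yon_obj _)) b (exists_chart_of_isPullback sB sV ha ha)
    (exists_chart_of_isPullback sB sV has has)
  obtain ⟨R, m, e, sR⟩ := representable_diagonal hP f b
  have : Mono ((yon S).map m) := MorphismProperty.of_isPullback (P := MorphismProperty.monomorphisms (Sp S)) sR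
    (show Mono (pullback.diagonal f) from inferInstance)
  have : Mono m := (yon S).mono_of_mono_map this
  have : Mono m.left := (inferInstance : Mono ((Over.forget S).map m))
  have : DiscreteTopology (pullback c c).left := by
    have : LocallyQuasiFinite (pullback.fst c c).left :=
      MorphismProperty.of_isPullback (P := @LocallyQuasiFinite) (left_isPullback sU).flip inferInstance
    let d : (pullback c c).left ⟶ Spec (CommRingCat.of K) := (pullback.fst c c).left ≫ c.left
    have : LocallyQuasiFinite d := MorphismProperty.comp_mem @LocallyQuasiFinite _ _ ‹_› ‹_›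
    have : IsLocallyArtinian (pullback c c).left := IsLocallyArtinian.of_locallyQuasiFinite d
    infer_instance
  have hm : QuasiCompact m.left := quasiCompact_of_mono_discrete m.left
  have := FpqcDescent.quasiCompact_descendsAlong.{u}
  refine repWith_of_fpqc hcov (𝟙 _) (representable_diagonal hP f) fun W ψ hW W' fst snd sd => ?_
  obtain ⟨-, i, l, hl⟩ := hW
  rw [Category.comp_id] at hl
  obtain ⟨r, hr⟩ := (yon S).map_surjective l
  subst hr hl
  obtain ⟨g, hg₁, hg₂⟩ := exists_lift sR fst (snd ≫ r) (by
    rw [Functor.map_comp, Category.assoc]; exact sd.w)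
  have sl : IsPullback ((yon S).map g) ((yon S).map snd) ((yon S).map m) ((yon S).map r) :=
    IsPullback.of_right (by rw [hg₁]; exact sd) (by rw [← Functor.map_comp, hg₂, Functor.map_comp]) sR
  exact MorphismProperty.of_isPullback (P := @QuasiCompact) (left_isPullback (isPullback_of_yon sl)) hm

/-- A space of dimension at most zero locally of finite type over a field is a separated scheme. -/
theorem exists_scheme_of_lft_field_dim_le (k : Type u) [Field k] (X : Space (Spec (CommRingCat.of k)))
    (p : X.obj ⟶ (yon (Spec (CommRingCat.of k))).obj (Over.mk (𝟙 _))) (hp : LocP @LocallyOfFiniteType p)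
    (hd : AlgSp.dim X.obj ≤ 0) :
    ∃ (U : Over (Spec (CommRingCat.of k))) (_ : (yon _).obj U ≅ X.obj), U.left.IsSeparated ∧
      ∀ V : U.left.Opens, IsCompact (V : Set U.left) → IsAffineOpen V := by
  let T₀ : Over (Spec (CommRingCat.of k)) := Over.mk (𝟙 _)
  have : IsLocallyNoetherian T₀.left := inferInstanceAs (IsLocallyNoetherian (Spec (CommRingCat.of k)))
  have : JacobsonSpace T₀.left := inferInstanceAs (JacobsonSpace (Spec (CommRingCat.of k)))
  obtain ⟨U, a, ha, has⟩ := X.property.atlas
  obtain ⟨c, hc⟩ := (yon _).map_surjective (a ≫ p)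
  have : LocallyOfFiniteType c.left :=
    hp a (𝟙 _) c ha (repWith_id _ _) (by rw [Category.comp_id, hc])
  obtain ⟨_, _⟩ := chart_noetherian_jacobson (T₀ := T₀) p hp ha
  have hU : ∀ u : U.left, IsOpen ({u} : Set U.left) := fun u => (isOpen_singleton_iff_localDim u).2
    (le_antisymm ((dim_le_iff_forall_localDim 0).1
      ((show topologicalKrullDim U.left ≤ AlgSp.dim X.obj from le_iSup_of_le U (le_iSup_of_le a (le_iSup_of_le ha le_rfl))).trans hd) u) (FibreDim.le_localDim fun O _ hu =>
        have : Nonempty O := ⟨⟨u, hu⟩⟩
        zero_le_dim_of_nonempty))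
  have : DiscreteTopology U.left := discreteTopology_iff_isOpen_singleton.2 hU
  have : LocallyQuasiFinite c.left :=
    locallyQuasiFinite_iff_isDiscrete_preimage_singleton.2 fun _ => ⟨inferInstance⟩
  have hq := isQuasiSeparatedMor_of_qf_field (K := k) X.property p ha has hc
  have : DiscreteTopology (Points X.obj) := discreteTopology_iff_isOpen_singleton.2 fun x => by
    obtain ⟨u, rfl⟩ := surjective_ofPt has x
    have := isOpenMap_ofPt_of_etale ha _ (hU u)
    rwa [Set.image_singleton] at this
  obtain ⟨M, ⟨e⟩⟩ := exists_iso_yon_of_discrete X.property (isDecent_of_isQuasiSeparatedMor X.property p hq)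
  have hinj : Function.Injective (Points.ofPt e.hom) := fun x y h => by
    refine (Points.schemeEquiv M).injective (injective_map_of_mono e.hom ?_)
    show Points.map e.hom (Points.ofPt (𝟙 _) x) = Points.map e.hom (Points.ofPt (𝟙 _) y)
    rw [Points.map_ofPt, Points.map_ofPt, Category.id_comp]
    exact h
  have : DiscreteTopology M.left := DiscreteTopology.of_continuous_injective (Points.continuous_ofPt e.hom) hinj
  exact ⟨M, e, isSeparated_of_forall_closed fun x y h => Set.mem_singleton_iff.1 (h.mem_open (isOpen_discrete {x}) rfl),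
    isAffineOpen_of_isCompact fun x y h => Set.mem_singleton_iff.1 (h.mem_open (isOpen_discrete {x}) rfl)⟩

/-- A zero-dimensional space locally of finite type over a field is a separated scheme. -/
theorem exists_scheme_of_lft_field_dim_zero (k : Type u) [Field k] (X : Space (Spec (CommRingCat.of k)))
    (p : X.obj ⟶ (yon (Spec (CommRingCat.of k))).obj (Over.mk (𝟙 _))) (hp : LocP @LocallyOfFiniteType p)
    (hd : AlgSp.dim X.obj = 0) :
    ∃ (U : Over (Spec (CommRingCat.of k))) (_ : (yon _).obj U ≅ X.obj), U.left.IsSeparated ∧
      ∀ V : U.left.Opens, IsCompact (V : Set U.left) → IsAffineOpen V :=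
  exists_scheme_of_lft_field_dim_le k X p hp hd.le

end Groth.Agent.AlgSpFin
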