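import Groth.Agent.AlgSpFin.DecentPoint

/-!
Elementary etale neighbourhoods form a cofiltered category.
-/

set_option autoImplicit false
set_option backward.isDefEq.respectTransparency.types false

universe u

open CategoryTheory CategoryTheory.Limits AlgebraicGeometry Opposite AlgSp

namespace Groth.Agent.AlgSpFin

open Groth.Agent.AlgSpLib

variable {S : Scheme.{u}}

/-- The spectrum of the residue field of a point, over the base. -/
noncomputable abbrev resPt (U : Over S) (u : U.left) : Over S := Over.mk (U.left.fromSpecResidueField u ≫ U.hom)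

noncomputable abbrev resIncl (U : Over S) (u : U.left) : resPt U u ⟶ U := Over.homMk (U.left.fromSpecResidueField u) rfl

theorem resPt_eq_closedPoint {U : Over S} {u : U.left} (t : (resPt U u).left) :
    t = (IsLocalRing.closedPoint (U.left.residueField u) : PrimeSpectrum (U.left.residueField u)) :=
  @Subsingleton.elim ↥(Spec (U.left.residueField u)) inferInstance _ _

/-- A section over the residue field gives an elementary neighbourhood. -/
theorem isElemEtaleNbhd_of_section {X : Sp S} {x : Points X} {U U₁ : Over S}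
    {a : (yon S).obj U ⟶ X} {a₁ : (yon S).obj U₁ ⟶ X} (ha : RepWith @Etale a) {u₁ : U₁.left}
    (h₁ : IsElemEtaleNbhd a₁ u₁ x) (h : U ⟶ U₁) (hh : (yon S).map h ≫ a₁ = a) (s : resPt U₁ u₁ ⟶ U)
    (hs : s ≫ h = resIncl U₁ u₁) :
    IsElemEtaleNbhd a (s.left (IsLocalRing.closedPoint (U₁.left.residueField u₁))) x ∧
      h.left (s.left (IsLocalRing.closedPoint (U₁.left.residueField u₁))) = u₁ := by
  let t₀ : (resPt U₁ u₁).left := (IsLocalRing.closedPoint (U₁.left.residueField u₁) :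
    PrimeSpectrum (U₁.left.residueField u₁))
  have hv : h.left (s.left t₀) = u₁ := by
    rw [← Scheme.Hom.comp_apply, ← Over.comp_left, hs]
    exact Scheme.fromSpecResidueField_apply _ _
  refine ⟨⟨ha, ?_, ?_⟩, hv⟩
  · show Points.ofPt a (s.left t₀) = x
    rw [← hh, ofPt_comp, hv]
    exact h₁.ofPt_eq
  · let v := s.left t₀
    show Mono (FieldPt.ofPt a v).toHom
    rw [FieldPt.toHom_ofPt]
    -- the two points have the same residue field
    have hm₁ : Mono ((yon S).map (resIncl U₁ u₁) ≫ a₁) := by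
      have := h₁.mono
      rwa [FieldPt.toHom_ofPt] at this
    obtain ⟨σ₀, hσ₀⟩ : ∃ σ₀ : (resPt U₁ u₁).left ⟶ (resPt U v).left, σ₀ ≫ U.left.fromSpecResidueField v = s.left := by
      obtain ⟨φ, hφ⟩ : ∃ φ : U.left.residueField v ⟶ U₁.left.residueField u₁,
          Spec.map φ ≫ U.left.fromSpecResidueField v = s.left := by
        have e := (Scheme.SpecToEquivOfField (U₁.left.residueField u₁) U.left).symm_apply_apply s.left
        exact ⟨_, e⟩
      exact ⟨Spec.map φ, hφ⟩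
    obtain ⟨τ₀, hτ₀⟩ : ∃ τ₀ : (resPt U v).left ⟶ (resPt U₁ u₁).left,
        τ₀ ≫ U₁.left.fromSpecResidueField u₁ = U.left.fromSpecResidueField v ≫ h.left := by
      refine ⟨Spec.map (h.left.residueFieldMap v) ≫ Spec.map (U₁.left.residueFieldCongr hv.symm).hom, ?_⟩
      rw [Category.assoc, Scheme.residueFieldCongr_fromSpecResidueField,
        Scheme.Hom.SpecMap_residueFieldMap_fromSpecResidueField]
    have : Mono (U₁.left.fromSpecResidueField u₁) := inferInstance
    have hst : σ₀ ≫ τ₀ = 𝟙 _ := (cancel_mono (U₁.left.fromSpecResidueField u₁)).1 (by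
      rw [Category.assoc, hτ₀, reassoc_of% hσ₀, ← Over.comp_left, hs, Category.id_comp]; rfl)
    let σ' : Spec (U₁.left.residueField u₁) ⟶ Spec (U.left.residueField v) := σ₀
    have : Flat σ' := BddFibLib.flat_to_field _
    have : Surjective σ' := ⟨fun y => ⟨IsLocalRing.closedPoint (U₁.left.residueField u₁), Subsingleton.elim _ _⟩⟩
    have : QuasiCompact σ' := quasiCompact_of_field (K := U₁.left.residueField u₁) σ'
    have : Epi σ₀ := Flat.epi_of_flat_of_surjective σ'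
    have : IsSplitMono σ₀ := ⟨⟨τ₀, hst⟩⟩
    have : IsIso σ₀ := isIso_of_epi_of_isSplitMono σ₀
    have hi : IsIso τ₀ := by
      rw [show τ₀ = inv σ₀ from IsIso.eq_inv_of_hom_inv_id hst]
      infer_instance
    let τ : resPt U v ⟶ resPt U₁ u₁ := Over.homMk τ₀ (by
      show τ₀ ≫ U₁.left.fromSpecResidueField u₁ ≫ U₁.hom = U.left.fromSpecResidueField v ≫ U.hom
      rw [reassoc_of% hτ₀, Over.w h])
    have : IsIso τ := by
      have : IsIso ((Over.forget S).map τ) := hi
      exact isIso_of_reflects_iso τ (Over.forget S)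
    have e : resIncl U v ≫ h = τ ≫ resIncl U₁ u₁ := Over.OverMorphism.ext hτ₀.symm
    show Mono ((yon S).map (resIncl U v) ≫ a)
    rw [← hh, ← Category.assoc, ← Functor.map_comp, e, Functor.map_comp, Category.assoc]
    exact mono_comp _ _

/-- Two elementary neighbourhoods are dominated by a third; parallel maps are equalised. -/
theorem exists_dominate {X : Sp S} (hX : IsAlgSpace X) {x : Points X} {U₁ U₂ : Over S}
    {a₁ : (yon S).obj U₁ ⟶ X} {a₂ : (yon S).obj U₂ ⟶ X} {u₁ : U₁.left} {u₂ : U₂.left}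
    (h₁ : IsElemEtaleNbhd a₁ u₁ x) (h₂ : IsElemEtaleNbhd a₂ u₂ x) :
    ∃ (U : Over S) (a : (yon S).obj U ⟶ X) (v : U.left) (g₁ : U ⟶ U₁) (g₂ : U ⟶ U₂),
      IsElemEtaleNbhd a v x ∧ (yon S).map g₁ ≫ a₁ = a ∧ (yon S).map g₂ ≫ a₂ = a ∧
        g₁.left v = u₁ ∧ g₂.left v = u₂ := by
  have := h₂.mono
  obtain ⟨c, hc, -⟩ := existsUnique_factor_of_mono hX (FieldPt.ofPt a₂ u₂) (FieldPt.ofPt a₁ u₁)
    (h₂.ofPt_eq.trans h₁.ofPt_eq.symm)
  rw [FieldPt.toHom_ofPt, FieldPt.toHom_ofPt] at hc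
  let c' : resPt U₁ u₁ ⟶ resPt U₂ u₂ := c
  have hc' : (yon S).map c' ≫ (yon S).map (resIncl U₂ u₂) ≫ a₂ = (yon S).map (resIncl U₁ u₁) ≫ a₁ := hc
  obtain ⟨U, g₁, g₂, sU⟩ := exists_isPullback h₁.etale.1 a₂
  have : Etale g₁.left := prop_snd sU.flip h₂.etale
  obtain ⟨s, hs₁, hs₂⟩ := exists_lift sU ((yon S).map (resIncl U₁ u₁)) (c' ≫ resIncl U₂ u₂) (by
    rw [(yon S).map_comp c' (resIncl U₂ u₂), Category.assoc, hc'])
  have ha : RepWith @Etale ((yon S).map g₁ ≫ a₁) := repWith_yon_comp g₁ this h₁.etale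
  obtain ⟨hv, hv'⟩ := isElemEtaleNbhd_of_section ha h₁ g₁ rfl s ((yon S).map_injective (by rw [Functor.map_comp, hs₁]))
  refine ⟨U, _, _, g₁, g₂, hv, rfl, sU.w.symm, hv', ?_⟩
  rw [← Scheme.Hom.comp_apply, ← Over.comp_left, hs₂, Over.comp_left, Scheme.Hom.comp_apply]
  exact Scheme.fromSpecResidueField_apply _ _

/-- Parallel maps of elementary neighbourhoods are equalised. -/
theorem exists_equalize {X : Sp S} {x : Points X} {U₁ U₂ : Over S} {a₁ : (yon S).obj U₁ ⟶ X}
    {a₂ : (yon S).obj U₂ ⟶ X} {u₁ : U₁.left} {u₂ : U₂.left} (b c : U₁ ⟶ U₂)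
    (h₁ : IsElemEtaleNbhd a₁ u₁ x) (h₂ : IsElemEtaleNbhd a₂ u₂ x) (hb : (yon S).map b ≫ a₂ = a₁)
    (hc : (yon S).map c ≫ a₂ = a₁) (hbu : b.left u₁ = u₂) (hcu : c.left u₁ = u₂) :
    ∃ (U : Over S) (a : (yon S).obj U ⟶ X) (v : U.left) (g : U ⟶ U₁),
      IsElemEtaleNbhd a v x ∧ (yon S).map g ≫ a₁ = a ∧ g.left v = u₁ ∧ g ≫ b = g ≫ c := by
  obtain ⟨R, r₁, r₂, sR⟩ := exists_isPullback h₂.etale.1 a₂
  obtain ⟨d, hd₁, hd₂⟩ := exists_lift sR (𝟙 _) (𝟙 U₂) (by rw [CategoryTheory.Functor.map_id])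
  obtain ⟨g, hg₁, hg₂⟩ := exists_lift sR ((yon S).map b) c (by rw [hb, hc])
  have hg₁' : g ≫ r₁ = b := (yon S).map_injective (by rw [Functor.map_comp, hg₁])
  have hd₁' : d ≫ r₁ = 𝟙 _ := (yon S).map_injective (by rw [Functor.map_comp, hd₁, CategoryTheory.Functor.map_id])
  have : Etale r₁.left := prop_snd sR.flip h₂.etale
  have : Etale d.left := by
    have : Etale (d.left ≫ r₁.left) := by
      rw [← Over.comp_left, hd₁']
      exact inferInstanceAs (Etale (𝟙 U₂.left))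
    exact Etale.of_comp d.left r₁.left
  obtain ⟨E, e₁, e₂, sE⟩ : ∃ (E : Over S) (e₁ : E ⟶ U₁) (e₂ : E ⟶ U₂), IsPullback e₁ e₂ g d :=
    ⟨_, _, _, IsPullback.of_hasPullback g d⟩
  have : Etale e₁.left := MorphismProperty.of_isPullback (P := @Etale) (left_isPullback sE).flip inferInstance
  have hbc : resIncl U₁ u₁ ≫ b = resIncl U₁ u₁ ≫ c := by
    have fact : ∀ (k : U₁ ⟶ U₂), k.left u₁ = u₂ → ∃ m : resPt U₁ u₁ ⟶ resPt U₂ u₂,
        m ≫ resIncl U₂ u₂ = resIncl U₁ u₁ ≫ k := fun k hk => by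
      have e : (Spec.map (k.left.residueFieldMap u₁) ≫ Spec.map (U₂.left.residueFieldCongr hk.symm).hom) ≫
          U₂.left.fromSpecResidueField u₂ = U₁.left.fromSpecResidueField u₁ ≫ k.left := by
        rw [Category.assoc, Scheme.residueFieldCongr_fromSpecResidueField,
          Scheme.Hom.SpecMap_residueFieldMap_fromSpecResidueField]
      refine ⟨Over.homMk (Spec.map (k.left.residueFieldMap u₁) ≫
        Spec.map (U₂.left.residueFieldCongr hk.symm).hom) ?_, Over.OverMorphism.ext e⟩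
      show _ ≫ U₂.left.fromSpecResidueField u₂ ≫ U₂.hom = U₁.left.fromSpecResidueField u₁ ≫ U₁.hom
      rw [← Category.assoc, e, Category.assoc, Over.w k]
    obtain ⟨m, hm⟩ := fact b hbu
    obtain ⟨n, hn⟩ := fact c hcu
    have := h₂.mono
    rw [FieldPt.toHom_ofPt] at this
    have : Mono ((yon S).map (resIncl U₂ u₂) ≫ a₂) := this
    have : m = n := (yon S).map_injective ((cancel_mono ((yon S).map (resIncl U₂ u₂) ≫ a₂)).1 (by
      rw [← Category.assoc, ← Category.assoc, ← Functor.map_comp, ← Functor.map_comp, hm, hn, Functor.map_comp,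
        Functor.map_comp, Category.assoc, Category.assoc, hb, hc]))
    rw [← hm, ← hn, this]
  obtain ⟨s, hs₁, hs₂⟩ : ∃ s, s ≫ e₁ = resIncl U₁ u₁ ∧ s ≫ e₂ = resIncl U₁ u₁ ≫ b := by
    refine ⟨sE.lift (resIncl U₁ u₁) (resIncl U₁ u₁ ≫ b) ?_, sE.lift_fst _ _ _, sE.lift_snd _ _ _⟩
    apply (yon S).map_injective
    apply sR.hom_ext
    · simp only [Functor.map_comp, Category.assoc, hg₁, hd₁, Category.comp_id]
    · simp only [← Functor.map_comp, Category.assoc, hg₂, hd₂, Category.comp_id, hbc]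
  have ha : RepWith @Etale ((yon S).map e₁ ≫ a₁) := repWith_yon_comp e₁ ‹_› h₁.etale
  obtain ⟨hv, hv'⟩ := isElemEtaleNbhd_of_section ha h₁ e₁ rfl s hs₁
  refine ⟨E, _, _, e₁, hv, rfl, hv', ?_⟩
  rw [← hg₁', ← hg₂, ← Category.assoc, ← Category.assoc, sE.w, Category.assoc, Category.assoc, hd₁', hd₂]

end Groth.Agent.AlgSpFin
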