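import Groth.Agent.AlgSpPts.SchDenseSep
import Groth.Prelude.Def_AlgSpRep

/-!
Surjective flat finitely presented maps representable by algebraic spaces are epimorphisms.
-/

set_option autoImplicit false
set_option backward.isDefEq.respectTransparency.types false

universe u

open CategoryTheory CategoryTheory.Limits AlgebraicGeometry AlgSp

namespace Groth.Agent.AlgSpFin

variable {S : Scheme.{u}}

/-- Surjective flat finitely presented maps representable by algebraic spaces are epimorphisms. -/
theorem epi_of_repBySpWith {F G : Sp S} (a : F ⟶ G)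
    (ha : RepBySpWith (IsSurjectiveMor ⊓ LocP @Flat ⊓ LocP @LocallyOfFinitePresentation) a.hom) : Epi a := by
  refine ⟨fun {Z} u v e => AlgSpLib.hom_ext_yon fun T ξ => ?_⟩
  have sq := IsPullback.of_hasPullback a ξ
  obtain ⟨h, hA, ⟨hs, hf⟩, hp⟩ := ha (U := T) ξ.hom _ _ (sq.map (sheafToPresheaf (J S) _))
  have : Epi (pullback.snd a ξ) := Groth.Agent.AlgSpPts.epi_of_flat_lfp hA (IsAlgSpace.yon_obj T) hs hf hp
  rw [← cancel_epi (pullback.snd a ξ), ← reassoc_of% sq.w, ← reassoc_of% sq.w, e]

end Groth.Agent.AlgSpFin
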