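import Groth.Agent.AlgSpFin.EtPointSmall
import Groth.Agent.EtSite.AllPoints
import Groth.Agent.EtSite.PullStalk

/-!
Every point of the small etale site of an algebraic space is geometric.
-/

set_option autoImplicit false
set_option backward.isDefEq.respectTransparency.types false

universe u

open CategoryTheory CategoryTheory.Limits AlgebraicGeometry Opposite AlgSp

namespace Groth.Agent.AlgSpFin

open Groth.Agent.AlgSpLib

variable {S : Scheme.{u}} {X : Space S} {U : Over S} (φ : (yon S).obj U ⟶ X.obj) (hφ : RepWith @Etale φ)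

/-- The projection to the chart. -/
noncomputable def chartProj (V : U.left.Etale) : (EtOver.ofChart φ hφ).obj V ⟶ EtOver.mk φ hφ :=
  EtOver.homMk (EtOver.homOfEtale V) rfl

theorem chartProj_nat {V V' : U.left.Etale} (q : V ⟶ V') :
    (EtOver.ofChart φ hφ).map q ≫ chartProj φ hφ V' = chartProj φ hφ V :=
  EtOver.hom_ext _ _ (Over.OverMorphism.ext (MorphismProperty.Over.w q))

theorem exists_ofChart_hom {E : EtOver X.obj} (g : E ⟶ EtOver.mk φ hφ) :
    ∃ (V : U.left.Etale) (k : (EtOver.ofChart φ hφ).obj V ⟶ E) (k' : E ⟶ (EtOver.ofChart φ hφ).obj V),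
      k ≫ g = chartProj φ hφ V ∧ k' ≫ k = 𝟙 E ∧ k' ≫ chartProj φ hφ V = g := by
  have : Etale g.hom.left.left := EtOver.etale_left g
  let m : E.obj.left.left ⟶ U.left := g.hom.left.left
  let V : U.left.Etale := MorphismProperty.Over.mk ⊤ m ‹_›
  have hm : m ≫ U.hom = E.obj.left.hom := Over.w g.hom.left
  let o : EtOver.overOfEtale V ⟶ E.obj.left := Over.homMk (𝟙 _) (by
    show 𝟙 _ ≫ E.obj.left.hom = m ≫ U.hom
    rw [Category.id_comp, hm])
  let o' : E.obj.left ⟶ EtOver.overOfEtale V := Over.homMk (𝟙 E.obj.left.left) (by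
    show 𝟙 _ ≫ m ≫ U.hom = E.obj.left.hom
    rw [Category.id_comp, hm])
  have ho : o ≫ g.hom.left = EtOver.homOfEtale V := Over.OverMorphism.ext (Category.id_comp _)
  have ho' : o' ≫ EtOver.homOfEtale V = g.hom.left := Over.OverMorphism.ext (Category.id_comp _)
  refine ⟨V, EtOver.homMk o ?_, EtOver.homMk o' ?_, EtOver.hom_ext _ _ ho,
    EtOver.hom_ext _ _ (Over.OverMorphism.ext (Category.id_comp _)), EtOver.hom_ext _ _ ho'⟩
  · show (yon S).map o ≫ E.obj.hom = (yon S).map (EtOver.homOfEtale V) ≫ φ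
    rw [← ho, Functor.map_comp, Category.assoc]
    exact congrArg ((yon S).map o ≫ ·) (EtOver.w g).symm
  · show (yon S).map o' ≫ (yon S).map (EtOver.homOfEtale V) ≫ φ = E.obj.hom
    rw [← Category.assoc, ← Functor.map_comp, ho']
    exact EtOver.w g

theorem exists_ofChart_map {V V' : U.left.Etale} (h : (EtOver.ofChart φ hφ).obj V ⟶ (EtOver.ofChart φ hφ).obj V')
    (hh : h ≫ chartProj φ hφ V' = chartProj φ hφ V) : ∃ q : V ⟶ V', (EtOver.ofChart φ hφ).map q = h := by
  have e : h.hom.left.left ≫ V'.hom = V.hom := congrArg (fun z => z.hom.left.left) hh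
  exact ⟨MorphismProperty.Over.homMk h.hom.left.left e trivial, EtOver.hom_ext _ _ (Over.OverMorphism.ext rfl)⟩

variable (P : GrothendieckTopology.Point.{u} (etTop X.obj)) (a : P.fiber.obj (EtOver.mk φ hφ))

/-- The fibre of the induced point of the chart. -/
noncomputable def chartFiber : U.left.Etale ⥤ Type u where
  obj V := {y : P.fiber.obj ((EtOver.ofChart φ hφ).obj V) // P.fiber.map (chartProj φ hφ V) y = a}
  map {V V'} q := ↾fun y => ⟨P.fiber.map ((EtOver.ofChart φ hφ).map q) y.1, by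
    rw [← Functor.map_comp_apply, chartProj_nat]
    exact y.2⟩
  map_id V := by
    ext y
    exact (congrArg (fun z => P.fiber.map z y.1) ((EtOver.ofChart φ hφ).map_id V)).trans
      (ConcreteCategory.congr_hom (P.fiber.map_id _) y.1)
  map_comp q q' := by
    ext y
    exact (congrArg (fun z => P.fiber.map z y.1) ((EtOver.ofChart φ hφ).map_comp q q')).trans
      (Functor.map_comp_apply P.fiber _ _ y.1)

/-- Forgetting the chart. -/
noncomputable def chartElements : (chartFiber φ hφ P a).Elements ⥤ P.fiber.Elements where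
  obj c := ⟨(EtOver.ofChart φ hφ).obj c.1, c.2.1⟩
  map f := CategoryOfElements.homMk _ _ ((EtOver.ofChart φ hφ).map f.1) (congrArg Subtype.val f.2)
  map_id c := CategoryOfElements.ext _ _ _ ((EtOver.ofChart φ hφ).map_id _)
  map_comp f g := CategoryOfElements.ext _ _ _ ((EtOver.ofChart φ hφ).map_comp _ _)

theorem exists_chartElt (M : P.fiber.Elements) (g : M.1 ⟶ EtOver.mk φ hφ) (hg : P.fiber.map g M.2 = a) :
    ∃ (c : (chartFiber φ hφ P a).Elements) (k : (chartElements φ hφ P a).obj c ⟶ M),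
      k.1 ≫ g = chartProj φ hφ c.1 := by
  obtain ⟨V, k, k', hk, hk', hk''⟩ := exists_ofChart_hom φ hφ g
  refine ⟨⟨V, ⟨P.fiber.map k' M.2, by rw [← Functor.map_comp_apply, hk'']; exact hg⟩⟩,
    CategoryOfElements.homMk _ _ k ?_, hk⟩
  show P.fiber.map k (P.fiber.map k' M.2) = M.2
  rw [← Functor.map_comp_apply, hk']
  exact ConcreteCategory.congr_hom (P.fiber.map_id _) _

theorem exists_chartElt_over (M : P.fiber.Elements) :
    ∃ c : (chartFiber φ hφ P a).Elements, Nonempty ((chartElements φ hφ P a).obj c ⟶ M) := by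
  let A : P.fiber.Elements := ⟨_, a⟩
  obtain ⟨c, k, -⟩ := exists_chartElt φ hφ P a (IsCofiltered.min M A) (IsCofiltered.minToRight M A).1
    (IsCofiltered.minToRight M A).2
  exact ⟨c, ⟨k ≫ IsCofiltered.minToLeft M A⟩⟩

theorem exists_chart_lift_hom {c c' : (chartFiber φ hφ P a).Elements}
    (f : (chartElements φ hφ P a).obj c ⟶ (chartElements φ hφ P a).obj c')
    (hf : f.1 ≫ chartProj φ hφ c'.1 = chartProj φ hφ c.1) :
    ∃ q : c ⟶ c', (chartElements φ hφ P a).map q = f := by
  obtain ⟨q, hq⟩ := exists_ofChart_map φ hφ f.1 hf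
  exact ⟨CategoryOfElements.homMk _ _ q (Subtype.ext ((congrArg (fun z => P.fiber.map z c.2.1) hq).trans f.2)),
    CategoryOfElements.ext _ _ _ hq⟩

theorem exists_refinement {M : P.fiber.Elements} {c c' : (chartFiber φ hφ P a).Elements}
    (s : M ⟶ (chartElements φ hφ P a).obj c) (s' : M ⟶ (chartElements φ hφ P a).obj c') :
    ∃ (d : (chartFiber φ hφ P a).Elements) (q : d ⟶ c) (q' : d ⟶ c') (k : (chartElements φ hφ P a).obj d ⟶ M),
      (chartElements φ hφ P a).map q = k ≫ s ∧ (chartElements φ hφ P a).map q' = k ≫ s' := by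
  let A : P.fiber.Elements := ⟨_, a⟩
  let t : M ⟶ A := s ≫ CategoryOfElements.homMk _ _ (chartProj φ hφ c.1) c.2.2
  let t' : M ⟶ A := s' ≫ CategoryOfElements.homMk _ _ (chartProj φ hφ c'.1) c'.2.2
  obtain ⟨d, k, hk⟩ := exists_chartElt φ hφ P a (IsCofiltered.eq t t') ((IsCofiltered.eqHom t t').1 ≫ t.1)
    ((IsCofiltered.eqHom t t' ≫ t).2)
  have hkk : k.1 ≫ (IsCofiltered.eqHom t t').1 ≫ t'.1 = chartProj φ hφ d.1 := by
    refine Eq.trans ?_ hk
    exact congrArg (fun z => k.1 ≫ z) (congrArg Subtype.val (IsCofiltered.eq_condition t t')).symm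
  obtain ⟨q, hq⟩ := exists_chart_lift_hom φ hφ P a (k ≫ IsCofiltered.eqHom t t' ≫ s)
    (((Category.assoc _ _ _).trans (congrArg (fun z => k.1 ≫ z) (Category.assoc _ _ _))).trans hk)
  obtain ⟨q', hq'⟩ := exists_chart_lift_hom φ hφ P a (k ≫ IsCofiltered.eqHom t t' ≫ s')
    (((Category.assoc _ _ _).trans (congrArg (fun z => k.1 ≫ z) (Category.assoc _ _ _))).trans hkk)
  exact ⟨d, q, q', k ≫ IsCofiltered.eqHom t t', hq.trans (Category.assoc _ _ _).symm,
    hq'.trans (Category.assoc _ _ _).symm⟩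

instance : (chartElements φ hφ P a).Faithful :=
  ⟨fun h => CategoryOfElements.ext _ _ _ ((EtOver.ofChart φ hφ).map_injective (congrArg Subtype.val h :))⟩

instance : IsCofiltered (chartFiber φ hφ P a).Elements :=
  have : Nonempty (chartFiber φ hφ P a).Elements :=
    ⟨(exists_chartElt_over φ hφ P a ⟨_, a⟩).choose⟩
  have : IsCofilteredOrEmpty (chartFiber φ hφ P a).Elements :=
    { cone_objs := fun c c' => by
        obtain ⟨d, q, q', -⟩ := exists_refinement φ hφ P a
          (IsCofiltered.minToLeft ((chartElements φ hφ P a).obj c) ((chartElements φ hφ P a).obj c'))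
          (IsCofiltered.minToRight _ _)
        exact ⟨d, q, q', trivial⟩
      cone_maps := fun c c' f f' => by
        let G := chartElements φ hφ P a
        let h := IsCofiltered.eqHom (G.map f) (G.map f')
        obtain ⟨d, q, -, k, hq, -⟩ := exists_refinement φ hφ P a h h
        refine ⟨d, q, G.map_injective ?_⟩
        rw [Functor.map_comp, Functor.map_comp, hq, Category.assoc, Category.assoc, IsCofiltered.eq_condition] }
  { }

instance : (chartElements φ hφ P a).Initial :=
  Functor.initial_of_exists_of_isCofiltered _ (exists_chartElt_over φ hφ P a) fun {M c} s s' => by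
    obtain ⟨d, q, -, k, hq, -⟩ := exists_refinement φ hφ P a (IsCofiltered.eqHom s s') (IsCofiltered.eqHom s s')
    exact ⟨d, q, by rw [hq, Category.assoc, Category.assoc, IsCofiltered.eq_condition]⟩

instance : InitiallySmall.{u} (chartFiber φ hφ P a).Elements := by
  let G := fromInitialModel.{u} P.fiber.Elements
  let A : P.fiber.Elements := ⟨_, a⟩
  let c : (Σ j, G.obj j ⟶ A) → (chartFiber φ hφ P a).Elements := fun z =>
    (exists_chartElt φ hφ P a (G.obj z.1) z.2.1 z.2.2).choose
  refine initiallySmall_of_small_weakly_initial_set (Set.range c) fun i => ?_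
  obtain ⟨f⟩ : Nonempty (CostructuredArrow G ((chartElements φ hφ P a).obj i)) := IsConnected.is_nonempty
  let t : G.obj f.left ⟶ A := f.hom ≫ CategoryOfElements.homMk _ _ (chartProj φ hφ i.1) i.2.2
  obtain ⟨k, hk⟩ := (exists_chartElt φ hφ P a (G.obj f.left) t.1 t.2).choose_spec
  obtain ⟨q, -⟩ := exists_chart_lift_hom φ hφ P a (k ≫ f.hom) ((Category.assoc _ _ _).trans hk)
  exact ⟨_, ⟨⟨f.left, t⟩, rfl⟩, ⟨q⟩⟩

/-- The induced point of the chart. -/
noncomputable def chartPoint : GrothendieckTopology.Point.{u} U.left.smallEtaleTopology where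
  fiber := chartFiber φ hφ P a
  jointly_surjective {V} R hR y := by
    let Z : (Σ W, {f : W ⟶ V // R f}) → U.left.Etale := fun z => z.1
    have eR : Sieve.ofArrows Z (fun z => z.2.1) = R := le_antisymm
      ((Sieve.generate_le_iff _ _).2 fun W f hf => by
        obtain ⟨z⟩ := hf
        exact z.2.2)
      (fun W f hf => Sieve.ofArrows_mk Z (fun z => z.2.1) ⟨W, f, hf⟩)
    obtain ⟨E, g, hg, e, he⟩ := P.jointly_surjective _
      (EtOver.ofChart_sieve_mem φ hφ Z (fun z => z.2.1) (eR.symm ▸ hR)) y.1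
    obtain ⟨⟨W, f, hf⟩, q, rfl⟩ := (Sieve.mem_ofArrows_iff _ _ _).1 hg
    rw [Functor.map_comp_apply] at he
    exact ⟨W, f, hf, ⟨P.fiber.map q e, by
      rw [← chartProj_nat φ hφ f, Functor.map_comp_apply, he]
      exact y.2⟩, Subtype.ext he⟩

section
variable {Ω : Type u} [Field Ω] [IsAlgClosed Ω] (ξ : Spec (CommRingCat.of Ω) ⟶ U.left)

/-- The point of `X` under a geometric point of the chart. -/
noncomputable abbrev chartGeomPt : FieldPt X.obj :=
  @FieldPt.mk S X.obj Ω _ (ξ ≫ U.hom)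
    ((J S).uliftYonedaEquiv ((yon S).map (Over.homMk ξ rfl : Over.mk (ξ ≫ U.hom) ⟶ U) ≫ φ))

theorem chartGeomPt_toHom :
    (chartGeomPt φ ξ).toHom = (yon S).map (Over.homMk ξ rfl : (chartGeomPt φ ξ).pt ⟶ U) ≫ φ :=
  (J S).uliftYonedaEquiv.symm_apply_apply _

/-- Neighbourhoods in the chart as neighbourhoods in the space. -/
noncomputable def chartNbhd : (Scheme.pointSmallEtale ξ).fiber.Elements ⥤ EtNbhd (chartGeomPt φ ξ) where
  obj c := ⟨(EtOver.ofChart φ hφ).obj c.1, ⟨Over.homMk c.2.left (by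
      show c.2.left ≫ c.1.hom ≫ U.hom = ξ ≫ U.hom
      rw [← Category.assoc, show c.2.left ≫ c.1.hom = ξ from Over.w c.2]), by
      show (yon S).map _ ≫ (yon S).map (EtOver.homOfEtale c.1) ≫ φ = _
      rw [← Category.assoc, ← Functor.map_comp, chartGeomPt_toHom]
      congr 2
      exact Over.OverMorphism.ext (Over.w c.2)⟩⟩
  map f := CategoryOfElements.homMk _ _ ((EtOver.ofChart φ hφ).map f.1)
    (Subtype.ext (Over.OverMorphism.ext (congrArg (fun z => z.left) f.2)))
  map_id c := CategoryOfElements.ext _ _ _ ((EtOver.ofChart φ hφ).map_id _)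
  map_comp f g := CategoryOfElements.ext _ _ _ ((EtOver.ofChart φ hφ).map_comp _ _)

theorem exists_chartNbhd_over (M : EtNbhd (chartGeomPt φ ξ)) :
    ∃ c, Nonempty ((chartNbhd φ hφ ξ).obj c ⟶ M) := by
  obtain ⟨W, w₁, w₂, sW⟩ := exists_isPullback (X.property.representable_from_yon φ) M.1.obj.hom
  obtain ⟨l, hl₁, hl₂⟩ := exists_lift sW ((yon S).map (Over.homMk ξ rfl : (chartGeomPt φ ξ).pt ⟶ U)) M.2.1
    ((chartGeomPt_toHom φ ξ).symm.trans M.2.2.symm)
  have : Etale w₁.left := prop_snd sW.flip M.1.property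
  let V : U.left.Etale := MorphismProperty.Over.mk ⊤ w₁.left this
  have hl : (l ≫ w₁).left = ξ := congrArg (fun z => z.left) ((yon S).map_injective (((yon S).map_comp l w₁).trans hl₁))
  let o : EtOver.overOfEtale V ⟶ W := Over.homMk (𝟙 W.left) (by
    show 𝟙 _ ≫ W.hom = w₁.left ≫ U.hom
    rw [Category.id_comp, Over.w w₁])
  have e₂ : EtOver.homOfEtale V = o ≫ w₁ := Over.OverMorphism.ext (Category.id_comp _).symm
  let k : (EtOver.ofChart φ hφ).obj V ⟶ M.1 := EtOver.homMk (o ≫ w₂) (by
    show (yon S).map _ ≫ _ = (yon S).map (EtOver.homOfEtale V) ≫ φ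
    rw [e₂]
    exact ((congrArg (fun z => z ≫ M.1.obj.hom) ((yon S).map_comp o w₂)).trans ((Category.assoc _ _ _).trans
      ((congrArg (fun z => (yon S).map o ≫ z) sW.w.symm).trans (Category.assoc _ _ _).symm))).trans
      (congrArg (fun z => z ≫ φ) ((yon S).map_comp o w₁).symm))
  exact ⟨⟨V, Over.homMk l.left hl⟩, ⟨CategoryOfElements.homMk _ _ k (Subtype.ext (Over.OverMorphism.ext
    ((congrArg (fun z => l.left ≫ z) (Category.id_comp w₂.left)).trans (congrArg (fun z => z.left) hl₂))))⟩⟩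

theorem initial_chartNbhd : (chartNbhd φ hφ ξ).Initial := by
  have := isCofiltered_etNbhd X (chartGeomPt φ ξ) ‹_›
  refine Functor.initial_of_exists_of_isCofiltered _ (exists_chartNbhd_over φ hφ ξ) fun {M c} s s' => ?_
  let e := IsCofiltered.eqHom s s'
  have : Etale e.1.hom.left.left := EtOver.etale_left e.1
  let m : (IsCofiltered.eq s s').1.obj.left.left ⟶ c.1.left := e.1.hom.left.left
  have : Etale c.1.hom := c.1.prop
  have : Etale m := ‹Etale e.1.hom.left.left›
  let V : U.left.Etale := MorphismProperty.Over.mk ⊤ (m ≫ c.1.hom) inferInstance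
  have hm : (IsCofiltered.eq s s').2.1.left ≫ m = c.2.left :=
    congrArg (fun z => z.left) (congrArg Subtype.val e.2)
  let t : (Scheme.pointSmallEtale ξ).fiber.obj V := Over.homMk (IsCofiltered.eq s s').2.1.left (by
    show (IsCofiltered.eq s s').2.1.left ≫ m ≫ c.1.hom = ξ
    rw [← Category.assoc, hm]
    exact Over.w c.2)
  refine ⟨⟨V, t⟩, CategoryOfElements.homMk _ _ (MorphismProperty.Over.homMk m rfl trivial)
    (Over.OverMorphism.ext hm), CategoryOfElements.ext _ _ _ (EtOver.hom_ext _ _ (Over.OverMorphism.ext ?_))⟩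
  exact congrArg (fun z => z.1.hom.left.left) (IsCofiltered.eq_condition s s')

end

/-- Every point of the small etale site is geometric. -/
theorem exists_geometric_sheafFiber_iso (X : Space S) (P : GrothendieckTopology.Point.{u} (etTop X.obj)) :
    ∃ p : FieldPt X.obj, p.IsGeometric ∧
      Nonempty (P.sheafFiber (A := Type (u + 1)) ≅ stalkEtFunctor (Type (u + 1)) p) := by
  obtain ⟨U, φ, hφ, hφs⟩ := X.property.atlas
  obtain ⟨⟨E, e⟩⟩ := IsCofiltered.nonempty (C := P.fiber.Elements)
  obtain ⟨W, w₁, w₂, sW⟩ := exists_isPullback (X.property.representable_from_yon φ) E.obj.hom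
  have : Etale w₂.left := prop_snd sW hφ
  have : Surjective w₂.left := prop_snd sW hφs
  let F : EtOver X.obj := EtOver.mk ((yon S).map w₂ ≫ E.obj.hom)
    (repWith_yon_comp (P := @Etale) w₂ ‹_› E.property)
  let g : F ⟶ E := EtOver.homMk w₂ rfl
  obtain ⟨E', h, hh, a', -⟩ := P.jointly_surjective (Sieve.ofArrows (fun _ : PUnit.{u + 1} => F) fun _ => g)
    (Precoverage.generate_mem_toGrothendieck ((ofArrows_mem_etPre_iff _ _).2 fun x =>
      ⟨⟨⟩, w₂.left.surjective x⟩)) e
  obtain ⟨-, k, -⟩ := (Sieve.mem_ofArrows_iff _ _ _).1 hh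
  let q : F ⟶ EtOver.mk φ hφ := EtOver.homMk w₁ sW.w
  let a := P.fiber.map (k ≫ q) a'
  let Q := chartPoint φ hφ P a
  obtain ⟨s, hs⟩ := EtSite.AllPoints.exists_section Q
  let ξ := EtSite.AllPoints.geom Q
  have ε : chartFiber φ hφ P a ≅ (Scheme.pointSmallEtale ξ).fiber :=
    NatIso.ofComponents (fun V => (Equiv.ofBijective (EtSite.AllPoints.toGeom Q ⟨s, hs⟩ V)
      ⟨EtSite.AllPoints.toGeom_injective Q _ V, EtSite.AllPoints.toGeom_surjective Q _ V⟩).toIso)
      fun f => by ext v; exact EtSite.AllPoints.toGeom_map Q ⟨s, hs⟩ f v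
  refine ⟨chartGeomPt φ ξ, inferInstanceAs (IsAlgClosed (AlgebraicClosure _)), ⟨?_⟩⟩
  have := initial_chartNbhd φ hφ ξ
  let M := CategoryOfElements.map ε.hom ⋙ chartNbhd φ hφ ξ
  have : (CategoryOfElements.map ε.hom).IsEquivalence :=
    (CategoryTheory.Equivalence.mk (CategoryOfElements.map ε.hom) (CategoryOfElements.map ε.inv)
        (NatIso.ofComponents (fun p => CategoryOfElements.isoMk _ _ (Iso.refl _) (by
            erw [CategoryTheory.Functor.map_id]; exact (ε.hom_inv_id_app_apply p.1 p.2).symm))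
          (fun f => Subtype.ext ((Category.comp_id _).trans (Category.id_comp _).symm)))
        (NatIso.ofComponents (fun p => CategoryOfElements.isoMk _ _ (Iso.refl _) (by
            erw [CategoryTheory.Functor.map_id]; exact ε.inv_hom_id_app_apply p.1 p.2))
          (fun f => Subtype.ext ((Category.comp_id _).trans (Category.id_comp _).symm)))).isEquivalence_functor
  have : M.Initial := inferInstanceAs ((CategoryOfElements.map ε.hom ⋙ chartNbhd φ hφ ξ).Initial)
  refine Functor.isoWhiskerLeft (sheafToPresheaf (etTop X.obj) (Type (u + 1))) ?_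
  exact (Functor.isoWhiskerLeft ((Functor.whiskeringLeft _ _ _).obj (CategoryOfElements.π P.fiber).op)
      (Functor.Final.colimIso (E := Type (u + 1)) (chartElements φ hφ P a).op).symm).trans
    (Functor.isoWhiskerLeft ((Functor.whiskeringLeft _ _ _).obj (EtNbhd.toEtOver (chartGeomPt φ ξ)).op)
      (Functor.Final.colimIso (E := Type (u + 1)) M.op))

end Groth.Agent.AlgSpFin
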