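import Groth.Agent.AlgSpFin.EtSupport

/-!
The vanishing locus of a section and the supports of sheaves.
-/

set_option autoImplicit false
set_option backward.isDefEq.respectTransparency.types false

universe u

open CategoryTheory CategoryTheory.Limits AlgebraicGeometry Opposite AlgSp TopologicalSpace

namespace Groth.Agent.AlgSpFin

open Groth.Agent.AlgSpLib

variable {S : Scheme.{u}} {X : Space S}

/-- The largest open subscheme on which a section vanishes. -/
theorem exists_vanishing_open (F : AbEt X.obj) (U : EtOver X.obj) (σ : ↥(F.obj.obj (op U))) :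
    ∃ W : Opens ↥U.obj.left.left,
      (∀ (V : EtOver X.obj) (φ : V ⟶ U),
          (F.obj.map φ.op).hom σ = 0 ↔ Set.range (fun v => φ.hom.left.left v) ⊆ (W : Set ↥U.obj.left.left)) ∧
      (∀ p : FieldPt X.obj, p.IsGeometric → ∀ l : (FieldPt.liftsTo p).obj U,
          (stalkEtι p F ⟨U, l⟩).hom σ = 0 ↔ l.1.left (IsLocalRing.closedPoint p.K) ∈ W) := by
  let W : Opens ↥U.obj.left.left :=
    ⟨{z | ∃ (V : EtOver X.obj) (φ : V ⟶ U), z ∈ Set.range (fun v => φ.hom.left.left v) ∧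
      (F.obj.map φ.op).hom σ = 0}, isOpen_iff_forall_mem_open.2 fun z ⟨V, φ, hz, h0⟩ =>
        ⟨_, fun z' hz' => ⟨V, φ, hz', h0⟩, by
          have := EtOver.etale_left φ
          exact φ.hom.left.left.isOpenMap.isOpen_range, hz⟩⟩
  refine ⟨W, fun V φ => ⟨fun h0 _ hz => ⟨V, φ, hz, h0⟩, fun hr => ?_⟩,
    fun p hp l => stalk_eq_zero_iff hp F ⟨U, l⟩ σ⟩
  refine eq_zero_of_locally F _ fun v => ?_
  obtain ⟨V', φ', ⟨v', hv'⟩, h0⟩ := hr ⟨v, rfl⟩
  obtain ⟨z, hz, -⟩ := Scheme.exists_preimage_of_isPullback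
    (left_isPullback (IsPullback.of_hasPullback φ.hom.left φ'.hom.left)) v v' hv'.symm
  refine ⟨EtOver.pullbackObj φ φ', EtOver.pullbackFst φ φ', ⟨z, hz⟩, ?_⟩
  show (F.obj.map φ.op ≫ F.obj.map (EtOver.pullbackFst φ φ').op).hom σ = 0
  rw [← F.obj.map_comp, ← op_comp, EtOver.pullback_condition, op_comp, F.obj.map_comp]
  show (F.obj.map (EtOver.pullbackSnd φ φ').op).hom ((F.obj.map φ'.op).hom σ) = 0
  rw [h0, map_zero]

/-- Every point of a chart carries a geometric point with a lift. -/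
theorem exists_geometric_over (U : EtOver X.obj) (u : U.obj.left.left) :
    ∃ (p : FieldPt X.obj) (_ : p.IsGeometric) (l : (FieldPt.liftsTo p).obj U),
      Points.mk p = Points.ofPt U.obj.hom u ∧ l.1.left (IsLocalRing.closedPoint p.K : PrimeSpectrum p.K) = u := by
  let K := AlgebraicClosure (U.obj.left.left.residueField u)
  let e : Spec (CommRingCat.of K) ⟶ U.obj.left.left :=
    Spec.map (CommRingCat.ofHom (algebraMap (U.obj.left.left.residueField u) K)) ≫ U.obj.left.left.fromSpecResidueField u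
  let str := e ≫ U.obj.left.hom
  let a : Over.mk str ⟶ U.obj.left := Over.homMk e rfl
  let p : FieldPt X.obj := ⟨K, str, (J S).uliftYonedaEquiv ((yon S).map a ≫ U.obj.hom)⟩
  have hp : p.toHom = (yon S).map a ≫ U.obj.hom := Equiv.symm_apply_apply _ _
  have he : e (IsLocalRing.closedPoint K : PrimeSpectrum K) = u := by
    show (_ ≫ _ : Spec (CommRingCat.of K) ⟶ _) _ = u
    rw [Scheme.Hom.comp_apply]
    exact Scheme.fromSpecResidueField_apply _ _
  refine ⟨p, (inferInstanceAs (IsAlgClosed K) : IsAlgClosed p.K), ⟨a, hp.symm⟩, ?_, he⟩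
  rw [← Points.ofPt_toHom p (IsLocalRing.closedPoint K : PrimeSpectrum K), hp, ofPt_comp]
  exact congrArg (Points.ofPt U.obj.hom) he

/-- The support of an abelian sheaf through supports of sections. -/
theorem mem_support_iff (F : AbEt X.obj) (x : Points X.obj) :
    (∃ p : FieldPt X.obj, p.IsGeometric ∧ Points.mk p = x ∧ ¬ IsZero (stalkEt p F)) ↔
      ∃ (U : EtOver X.obj) (σ : ↥(F.obj.obj (op U))) (u : ↥U.obj.left.left),
        Points.ofPt U.obj.hom u = x ∧
          ∀ (V : EtOver X.obj) (φ : V ⟶ U), (F.obj.map φ.op).hom σ = 0 →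
            u ∉ Set.range (fun v => φ.hom.left.left v) := by
  constructor
  · rintro ⟨p, hp, rfl, hne⟩
    have : IsCofiltered (EtNbhd p) := isCofiltered_etNbhd X p hp
    have : PreservesFilteredColimitsOfSize.{u, u + 1} (CategoryTheory.forget AddCommGrpCat.{u + 1}) :=
      preservesFilteredColimitsOfSize_of_univLE.{u + 1, u + 1} _
    obtain ⟨s, hs⟩ : ∃ s : ↥(stalkEt p F), s ≠ 0 := by
      by_contra h
      simp only [not_exists, not_not] at h
      have : Subsingleton ↥(stalkEt p F) := ⟨fun a b => (h a).trans (h b).symm⟩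
      exact hne (AddCommGrpCat.isZero_of_subsingleton _)
    obtain ⟨j, σ, hσ⟩ := Concrete.colimit_exists_rep (stalkEtDiagram p F) s
    let c : p.pt.left := (IsLocalRing.closedPoint p.K : PrimeSpectrum p.K)
    refine ⟨j.unop.1, σ, j.unop.2.1.left c, ?_, fun V φ h0 hu => hs ?_⟩
    · rw [← ofPt_comp, j.unop.2.2, Points.ofPt_toHom]
    · rw [← hσ]
      exact (stalk_eq_zero_iff hp F j.unop σ).2 ⟨V, φ, hu, h0⟩
  · rintro ⟨U, σ, u, rfl, h⟩
    obtain ⟨p, hp, l, hpx, hlu⟩ := exists_geometric_over U u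
    refine ⟨p, hp, hpx, fun hz => ?_⟩
    have := AddCommGrpCat.subsingleton_of_isZero hz
    obtain ⟨V, φ, hu, h0⟩ := (stalk_eq_zero_iff hp F ⟨U, l⟩ σ).1 (Subsingleton.elim _ _)
    exact h V φ h0 (hlu ▸ hu)

/-- The support of a sheaf of rings is closed. -/
theorem isClosed_support_ring (O' : EtSh X.obj CommRingCat.{u + 1}) :
    IsClosed {x : Points X.obj |
      ∃ p : FieldPt X.obj, p.IsGeometric ∧ Points.mk p = x ∧ Nontrivial ↥(stalkEt p O')} := by
  rw [← isOpen_compl_iff, isOpen_iff_forall_mem_open]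
  intro x hx
  obtain ⟨U₀, a, ha, has⟩ := X.property.atlas
  obtain ⟨u₀, rfl⟩ := surjective_ofPt has x
  obtain ⟨p, hp, -, hpx, -⟩ := exists_geometric_over (EtOver.mk a ha) u₀
  have : IsCofiltered (EtNbhd p) := isCofiltered_etNbhd X p hp
  have : PreservesFilteredColimitsOfSize.{u, u + 1} (CategoryTheory.forget CommRingCat.{u + 1}) :=
    preservesFilteredColimitsOfSize_of_univLE.{u + 1, u + 1} _
  obtain ⟨l₀, hl₀⟩ := exists_lift_at hp (EtOver.mk a ha) u₀ hpx.symm
  let N : EtNbhd p := ⟨EtOver.mk a ha, l₀⟩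
  have hsub : ¬ Nontrivial ↥(stalkEt p O') := fun h => hx ⟨p, hp, hpx, h⟩
  rw [not_nontrivial_iff_subsingleton] at hsub
  obtain ⟨j, f, g, hfg⟩ := (Concrete.colimit_rep_eq_iff_exists (stalkEtDiagram p O') (i := op N) (j := op N) 1 0).1
    (Subsingleton.elim _ _)
  have h10 : (1 : ↥(O'.obj.obj (op j.unop.1))) = 0 :=
    (map_one ((stalkEtDiagram p O').map f).hom).symm.trans (hfg.trans (map_zero _))
  let c : p.pt.left := (IsLocalRing.closedPoint p.K : PrimeSpectrum p.K)
  refine ⟨Set.range (Points.ofPt j.unop.1.obj.hom), ?_, (isOpenMap_ofPt_of_etale j.unop.1.property).isOpen_range,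
    ⟨j.unop.2.1.left c, by rw [← ofPt_comp, j.unop.2.2, Points.ofPt_toHom, hpx]; rfl⟩⟩
  rintro _ ⟨v, rfl⟩ ⟨q, hq, hqv, hnt⟩
  obtain ⟨l, -⟩ := exists_lift_at hq j.unop.1 v hqv.symm
  refine zero_ne_one (α := ↥(stalkEt q O')) ?_
  rw [← map_one (stalkEtι q O' ⟨j.unop.1, l⟩).hom, ← map_zero (stalkEtι q O' ⟨j.unop.1, l⟩).hom]
  exact congrArg _ h10.symm

end Groth.Agent.AlgSpFin
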