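import Groth.Agent.AlgSpFin.EtPoint
import Groth.Agent.AlgSpFin.EtSupportStmts

/-!
Exactness of complexes of abelian sheaves is checked on geometric stalks.
-/

set_option autoImplicit false
set_option backward.isDefEq.respectTransparency.types false

universe u

open CategoryTheory CategoryTheory.Limits AlgebraicGeometry Opposite AlgSp

namespace Groth.Agent.AlgSpFin

open Groth.Agent.AlgSpLib

variable {S : Scheme.{u}} {X : Space S}

theorem isZero_of_stalks (F : AbEt X.obj)
    (h : ∀ p : FieldPt X.obj, p.IsGeometric → IsZero ((stalkEtFunctor AddCommGrpCat.{u + 1} p).obj F)) :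
    IsZero F := by
  rw [IsZero.iff_id_eq_zero]
  apply Sheaf.hom_ext
  ext V σ
  show σ = 0
  refine eq_zero_of_locally F σ fun v => ?_
  obtain ⟨p, hp, l, -, hlu⟩ := exists_geometric_over V.unop v
  have h0 : (stalkEtι p F ⟨V.unop, l⟩).hom σ = 0 :=
    (AddCommGrpCat.subsingleton_of_isZero (h p hp)).elim _ _
  obtain ⟨V', φ, hv, e⟩ := (stalk_eq_zero_iff hp F ⟨V.unop, l⟩ σ).1 h0
  exact ⟨V', φ, hlu ▸ hv, e⟩

theorem exact_iff_stalk (C : ShortComplex (AbEt X.obj)) :
    C.Exact ↔ ∀ p : FieldPt X.obj, p.IsGeometric →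
      ∀ y : ↥((stalkEtFunctor AddCommGrpCat.{u + 1} p).obj C.X₂),
        ((stalkEtFunctor AddCommGrpCat.{u + 1} p).map C.g) y = 0 →
          ∃ x : ↥((stalkEtFunctor AddCommGrpCat.{u + 1} p).obj C.X₁),
            ((stalkEtFunctor AddCommGrpCat.{u + 1} p).map C.f) x = y := by
  have hl : ∀ (p : FieldPt X.obj), p.IsGeometric → PreservesFiniteLimits (stalkEtFunctor AddCommGrpCat.{u + 1} p) :=
    fun p hp => preservesFiniteLimits_of_natIso (stalkEtFunctorIso p _ hp).symm
  have hr : ∀ (p : FieldPt X.obj), p.IsGeometric → PreservesFiniteColimits (stalkEtFunctor AddCommGrpCat.{u + 1} p) :=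
    fun p hp => preservesFiniteColimits_of_natIso (stalkEtFunctorIso p _ hp).symm
  constructor
  · intro h p hp
    have := hl p hp
    have := hr p hp
    have : (stalkEtFunctor AddCommGrpCat.{u + 1} p).Additive := Functor.additive_of_preserves_binary_products _
    exact ((C.map (stalkEtFunctor AddCommGrpCat.{u + 1} p)).ab_exact_iff).1 (h.map _)
  · intro h
    rw [ShortComplex.exact_iff_isZero_homology]
    refine isZero_of_stalks _ fun p hp => ?_
    have := hl p hp
    have := hr p hp
    have : (stalkEtFunctor AddCommGrpCat.{u + 1} p).Additive := Functor.additive_of_preserves_binary_products _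
    exact IsZero.of_iso ((ShortComplex.exact_iff_isZero_homology _).1
      ((C.map (stalkEtFunctor AddCommGrpCat.{u + 1} p)).ab_exact_iff.2 (h p hp)))
      (C.mapHomologyIso (stalkEtFunctor AddCommGrpCat.{u + 1} p)).symm

end Groth.Agent.AlgSpFin
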