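import Groth.Agent.AlgSpFin.EtPointSmall
import Groth.Agent.EtSite.LocalRing
import Groth.Prelude.Def_AlgSpOX

/-!
Etale local rings of an algebraic space are those of its charts.
-/

set_option autoImplicit false
set_option backward.isDefEq.respectTransparency.types false

universe v u

open CategoryTheory CategoryTheory.Limits AlgebraicGeometry Opposite AlgSp

namespace Groth.Agent.AlgSpFin

open Groth.Agent.AlgSpLib

/-- Two jointly surjective families of ring maps with the same kernels define an isomorphism. -/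
theorem ringEquiv_of_jointly {ι : Type*} {A : ι → Type*} [∀ i, CommRing (A i)] {R T : Type*} [CommRing R] [CommRing T]
    (g : ∀ i, A i →+* R) (h : ∀ i, A i →+* T) (hpair : ∀ r r' : R, ∃ i a b, g i a = r ∧ g i b = r')
    (hh : ∀ t : T, ∃ i a, h i a = t) (hsame : ∀ i j a b, g i a = g j b → h i a = h j b)
    (hinj : ∀ i a, h i a = 0 → g i a = 0) : Nonempty (R ≃+* T) := by
  have hg : ∀ r : R, ∃ i a, g i a = r := fun r => by
    obtain ⟨i, a, -, ha, -⟩ := hpair r r
    exact ⟨i, a, ha⟩
  choose i a ha using hg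
  let e : R → T := fun r => h (i r) (a r)
  have he : ∀ j b, e (g j b) = h j b := fun j b => hsame _ _ _ _ (ha _)
  let f : R →+* T :=
    { toFun := e
      map_one' := by rw [← map_one (g (i 0)), he, map_one]
      map_mul' := fun r r' => by
        obtain ⟨j, b, b', rfl, rfl⟩ := hpair r r'
        rw [← map_mul, he, he, he, map_mul]
      map_zero' := by rw [← map_zero (g (i 0)), he, map_zero]
      map_add' := fun r r' => by
        obtain ⟨j, b, b', rfl, rfl⟩ := hpair r r'
        rw [← map_add, he, he, he, map_add] }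
  refine ⟨RingEquiv.ofBijective f ⟨(injective_iff_map_eq_zero f).2 fun r hr => ?_, fun t => ?_⟩⟩
  · rw [← ha r]
    exact hinj _ _ hr
  · obtain ⟨j, b, rfl⟩ := hh t
    exact ⟨g j b, he j b⟩

variable {S : Scheme.{u}} {X : Space S}

/-- Every geometric point sees the etale local ring of a chart through it. -/
theorem exists_ringEquiv_etaleLocalRing (p : FieldPt X.obj) (hp : p.IsGeometric) :
    ∃ (U : Over S) (φ : (yon S).obj U ⟶ X.obj) (_ : RepWith @Etale φ) (α : p.pt ⟶ U),
      (yon S).map α ≫ φ = p.toHom ∧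
      ∀ [IsSepClosed p.K], Nonempty
        ((EtBase.etaleLocalRing (Ω := p.K) (α.left : Spec (CommRingCat.of p.K) ⟶ U.left) : CommRingCat.{u}) ≃+*
          ↥(OEtStalk p)) := by
  have : IsAlgClosed p.K := hp
  have := isCofiltered_etNbhd X p hp
  have : PreservesFilteredColimitsOfSize.{u, u + 1} (CategoryTheory.forget CommRingCat.{u + 1}) :=
    preservesFilteredColimitsOfSize_of_univLE.{u + 1, u + 1} _
  obtain ⟨U, φ, hφ, hφs⟩ := X.property.atlas
  obtain ⟨α, hα⟩ := exists_lift_geomPoint φ hφ hφs p.toHom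
  refine ⟨U, φ, hφ, α, hα, fun {_} => ?_⟩
  let ξ : Spec (CommRingCat.of p.K) ⟶ U.left := α.left
  let P := Scheme.pointSmallEtale ξ
  let D := stalkEtDiagram p (OEt X.obj)
  let lift : ∀ (V : U.left.Etale), P.fiber.obj V → (FieldPt.liftsTo p).obj ((EtOver.ofChart φ hφ).obj V) :=
    fun V t => ⟨Over.homMk t.left (by
      show t.left ≫ V.hom ≫ U.hom = p.str
      rw [← Category.assoc, show t.left ≫ V.hom = ξ from Over.w t]
      exact Over.w α), by
      show (yon S).map _ ≫ (yon S).map (EtOver.homOfEtale V) ≫ φ = p.toHom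
      rw [← Category.assoc, ← Functor.map_comp]
      refine Eq.trans ?_ hα
      congr 2
      exact Over.OverMorphism.ext (Over.w t)⟩
  let N : ∀ c : P.fiber.Elements, EtNbhd p := fun c => ⟨_, lift c.1 c.2⟩
  have hN : ∀ {c c' : P.fiber.Elements} (f : c ⟶ c'), (FieldPt.liftsTo p).map ((EtOver.ofChart φ hφ).map f.1) (lift c.1 c.2) =
      lift c'.1 c'.2 := fun {c c'} f =>
    Subtype.ext (Over.OverMorphism.ext (congrArg (fun z => z.left) f.2))
  let h : ∀ c : P.fiber.Elements, Γ(c.1.left, ⊤) →+* ↥(OEtStalk p) := fun c =>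
    (colimit.ι D (op (N c))).hom.comp (ULift.ringEquiv.symm.toRingHom : Γ(c.1.left, ⊤) →+* ULift.{u + 1} Γ(c.1.left, ⊤))
  have hmap : ∀ {c c' : P.fiber.Elements} (f : c ⟶ c') (s : Γ(c'.1.left, ⊤)), h c (f.1.left.appTop.hom s) = h c' s :=
    fun {c c'} f s => ConcreteCategory.congr_hom (colimit.w D (CategoryOfElements.homMk (N c) (N c')
      ((EtOver.ofChart φ hφ).map f.1) (hN f)).op) (ULift.up s)
  refine ringEquiv_of_jointly (fun c : P.fiber.Elements => EtSite.LocalRing.germ ξ c.1 c.2) h (fun r r' => ?_) (fun t => ?_)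
    (fun c c' s s' e => ?_) (fun c s e => ?_)
  · classical
    obtain ⟨V, t, hT⟩ := EtSite.LocalRing.exists_common ξ {r, r'}
    obtain ⟨a, ha⟩ := hT r (by simp)
    obtain ⟨b, hb⟩ := hT r' (by simp)
    exact ⟨⟨V, t⟩, a, b, ha, hb⟩
  · obtain ⟨M, σ, rfl⟩ := Concrete.colimit_exists_rep D t
    obtain ⟨W, w₁, w₂, sW⟩ := exists_isPullback (X.property.representable_from_yon φ) M.unop.1.obj.hom
    obtain ⟨l, hl₁, hl₂⟩ := exists_lift sW ((yon S).map α) M.unop.2.1 (hα.trans M.unop.2.2.symm)
    have : Etale w₁.left := prop_snd sW.flip M.unop.1.property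
    let V : U.left.Etale := MorphismProperty.Over.mk ⊤ w₁.left this
    have hl : (l ≫ w₁).left = ξ := congrArg (fun z => z.left) ((yon S).map_injective (((yon S).map_comp l w₁).trans hl₁))
    let c : P.fiber.Elements := ⟨V, Over.homMk l.left hl⟩
    let o : EtOver.overOfEtale V ⟶ W := Over.homMk (𝟙 W.left) (by
      show 𝟙 _ ≫ W.hom = w₁.left ≫ U.hom
      rw [Category.id_comp, Over.w w₁])
    have e₂ : EtOver.homOfEtale V = o ≫ w₁ := Over.OverMorphism.ext (Category.id_comp _).symm
    let w₂' : ((EtOver.ofChart φ hφ).obj V) ⟶ M.unop.1 := EtOver.homMk (o ≫ w₂) (by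
      show (yon S).map _ ≫ _ = (yon S).map (EtOver.homOfEtale V) ≫ φ
      rw [e₂]
      exact ((congrArg (fun z => z ≫ M.unop.1.obj.hom) ((yon S).map_comp o w₂)).trans ((Category.assoc _ _ _).trans
        ((congrArg (fun z => (yon S).map o ≫ z) sW.w.symm).trans (Category.assoc _ _ _).symm))).trans
        (congrArg (fun z => z ≫ φ) ((yon S).map_comp o w₁).symm))
    let f : N c ⟶ M.unop := CategoryOfElements.homMk _ _ w₂' (Subtype.ext (Over.OverMorphism.ext
      ((congrArg (fun z => l.left ≫ z) (Category.id_comp w₂.left)).trans (congrArg (fun z => z.left) hl₂))))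
    exact ⟨c, (o ≫ w₂).left.appTop.hom σ.down, ConcreteCategory.congr_hom (colimit.w D f.op) σ⟩
  · let m := IsCofiltered.min c c'
    have e₁ := EtSite.LocalRing.germ_map ξ (IsCofiltered.minToLeft c c').1 m.2 s
    have e₂ := EtSite.LocalRing.germ_map ξ (IsCofiltered.minToRight c c').1 m.2 s'
    rw [(IsCofiltered.minToLeft c c').2] at e₁
    rw [(IsCofiltered.minToRight c c').2] at e₂
    obtain ⟨Y, f, y, hy, hf⟩ := (P.toPresheafFiber_eq_iff' (P := EtBase.OO U.left) m.1 m.2 _ _).1
      (e₁.trans (e.trans e₂.symm))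
    rw [← hmap (IsCofiltered.minToLeft c c') s, ← hmap (IsCofiltered.minToRight c c') s',
      ← hmap (CategoryOfElements.homMk (⟨Y, y⟩ : P.fiber.Elements) m f hy),
      ← hmap (CategoryOfElements.homMk (⟨Y, y⟩ : P.fiber.Elements) m f hy)]
    exact congrArg _ hf
  · obtain ⟨k, f, g, hfg⟩ := (Concrete.colimit_rep_eq_iff_exists D (i := op (N c)) (j := op (N c))
      (ULift.up s) 0).1 (e.trans (map_zero _).symm)
    let M := k.unop
    let m : M.1.obj.left ⟶ EtOver.overOfEtale c.1 := f.unop.1.hom.left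
    have : Etale m.left := EtOver.etale_left f.unop.1
    have : Etale c.1.hom := c.1.prop
    let V : U.left.Etale := MorphismProperty.Over.mk ⊤ (m.left ≫ c.1.hom) inferInstance
    have hm : M.2.1.left ≫ m.left = c.2.left :=
      congrArg (fun z => z.left) (congrArg Subtype.val f.unop.2)
    let t : P.fiber.obj V := Over.homMk M.2.1.left (by
      show M.2.1.left ≫ m.left ≫ c.1.hom = ξ
      rw [← Category.assoc, hm]
      exact Over.w c.2)
    let q : V ⟶ c.1 := MorphismProperty.Over.homMk m.left rfl trivial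
    have h0 : m.left.appTop.hom s = 0 := congrArg ULift.down (hfg.trans (map_zero _))
    have e₁ := EtSite.LocalRing.germ_map ξ q t s
    rw [show P.fiber.map q t = c.2 from Over.OverMorphism.ext hm] at e₁
    rw [← e₁]
    show EtSite.LocalRing.germ ξ V t (m.left.appTop.hom s) = 0
    rw [h0]
    exact map_zero _

end Groth.Agent.AlgSpFin
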