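import Groth.Agent.AlgSpFin.FibreNoeth

/-!
Finitely many points of a fibre product over a quasi-finite point.
-/

set_option autoImplicit false
set_option backward.isDefEq.respectTransparency.types false

universe u

open CategoryTheory CategoryTheory.Limits AlgebraicGeometry Opposite AlgSp

namespace Groth.Agent.AlgSpFin

open Groth.Agent.AlgSpLib

variable {S : Scheme.{u}}

theorem finite_points_of_lqf_over_field {A B : Scheme.{u}} (f : A ⟶ B) [LocallyQuasiFinite f] [QuasiCompact f]
    [Finite B] : Finite A := by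
  have h : (Set.univ : Set A).Finite := by
    rw [← Set.preimage_univ (f := fun a => f a)]
    rw [← Set.iUnion_of_singleton B, Set.preimage_iUnion]
    exact Set.finite_iUnion fun b => f.finite_preimage_singleton b
  exact Set.finite_univ_iff.1 h

/-- Fibre squares over a monomorphism. -/
theorem isPullback_comp_mono {C : Type*} [Category C] {P A B D E : C} {a : P ⟶ A} {b : P ⟶ B} {f : A ⟶ D} {g : B ⟶ D}
    (sq : IsPullback a b f g) (m : D ⟶ E) [Mono m] : IsPullback a b (f ≫ m) (g ≫ m) :=
  IsPullback.of_isLimit' ⟨by rw [← Category.assoc, sq.w, Category.assoc]⟩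
    (PullbackCone.IsLimit.mk _
      (fun s => sq.lift s.fst s.snd (by rw [← cancel_mono m, Category.assoc, Category.assoc]; exact s.condition))
      (fun s => sq.lift_fst _ _ _) (fun s => sq.lift_snd _ _ _)
      (fun s l h₁ h₂ => sq.hom_ext (by rw [h₁, sq.lift_fst]) (by rw [h₂, sq.lift_snd])))

theorem finite_points_over {X Y Z W : Space S} (f : X ⟶ Y) (g : Z ⟶ Y) (p : W ⟶ X) (q : W ⟶ Z)
    (hW : IsPullback p.hom q.hom f.hom g.hom) (x : Points X.obj) (z : Points Z.obj)
    (hxz : Points.map f.hom x = Points.map g.hom z)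
    (hy : ∃ r : FieldPt Y.obj, Points.mk r = Points.map g.hom z ∧ Mono r.toHom)
    (hg : HasAtMor (fun U _ h u => ∃ W : U.Opens, u ∈ W ∧ LocallyQuasiFinite (W.ι ≫ h) ∧ LocallyOfFiniteType (W.ι ≫ h))
      g.hom z) :
    {w : Points W.obj | Points.map p.hom w = x ∧ Points.map q.hom w = z}.Finite := by
  obtain ⟨r, hr, hrm⟩ := hy
  obtain ⟨U, V, a, b, h, u, ha, hb, w, hu, O, huO, hq, hl⟩ := hg
  let rs : r.pt.left := (IsLocalRing.closedPoint r.K : PrimeSpectrum r.K)
  -- the chart over the point
  obtain ⟨V₀, c, d, sV⟩ := exists_isPullback hb.1 r.toHom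
  have : Etale d.left := prop_snd sV hb
  let O' : Over S := Over.mk (O.ι ≫ U.hom)
  let j : O' ⟶ U := Over.homMk O.ι rfl
  have sU := IsPullback.of_hasPullback (j ≫ h) c
  have sUl := left_isPullback sU
  have hq' : LocallyQuasiFinite (j ≫ h).left := hq
  have hl' : LocallyOfFiniteType (j ≫ h).left := hl
  have : LocallyQuasiFinite (pullback.snd (j ≫ h) c).left :=
    MorphismProperty.of_isPullback (P := @LocallyQuasiFinite) sUl hq'
  have : LocallyOfFiniteType (pullback.snd (j ≫ h) c).left :=
    MorphismProperty.of_isPullback (P := @LocallyOfFiniteType) sUl hl'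
  let u' : O'.left := ⟨u, huO⟩
  have hju : j.left u' = u := rfl
  obtain ⟨v₀, hv₀, -⟩ := (ofPt_eq_iff sV ((j ≫ h).left u') rs).1 (by
    rw [← ofPt_comp, Functor.map_comp, Category.assoc, ← w, ofPt_comp, hju, ← Points.map_ofPt, hu]
    exact hr.symm.trans (Points.ofPt_toHom r rs).symm)
  obtain ⟨u₀, hu₀, -⟩ := (ofPt_eq_iff (yon_isPullback sU) u' v₀).1 (by
    rw [← Category.comp_id ((yon S).map (j ≫ h)), ofPt_comp, ← Category.comp_id ((yon S).map c), ofPt_comp, hv₀])
  let U₀ := pullback (j ≫ h) c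
  have : IsLocallyArtinian r.pt.left := inferInstanceAs (IsLocallyArtinian (Spec (CommRingCat.of r.K)))
  have : LocallyQuasiFinite d.left := locallyQuasiFinite_of_formallyUnramified _
  have hlqf : LocallyQuasiFinite ((pullback.snd (j ≫ h) c).left ≫ d.left) := inferInstance
  have : IsLocallyArtinian U₀.left := IsLocallyArtinian.of_locallyQuasiFinite ((pullback.snd (j ≫ h) c).left ≫ d.left)
  have hcl : IsClosedImmersion (U₀.left.fromSpecResidueField u₀) :=
    isClosed_singleton_iff_isClosedImmersion.1 (isClosed_discrete _)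
  -- a representative of the point with finite residue field
  let e : (yon S).obj U₀ ⟶ Z.obj := (yon S).map (pullback.fst (j ≫ h) c ≫ j) ≫ a
  let z' : FieldPt Z.obj := FieldPt.ofPt e u₀
  let m : z'.pt ⟶ U₀ := Over.homMk (U₀.left.fromSpecResidueField u₀) rfl
  let σ : z'.pt ⟶ r.pt := m ≫ pullback.snd (j ≫ h) c ≫ d
  have hσ : (yon S).map σ ≫ r.toHom = z'.toHom ≫ g.hom := by
    rw [FieldPt.toHom_ofPt]
    simp only [σ, e, Functor.map_comp, Category.assoc]
    show _ = (yon S).map m ≫ _
    rw [← sV.w, w, ← reassoc_of% ((yon S).map_comp (pullback.snd (j ≫ h) c) c), ← sU.w]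
    simp only [Functor.map_comp, Category.assoc]
  let zs : z'.pt.left := (IsLocalRing.closedPoint z'.K : PrimeSpectrum z'.K)
  have hz' : Points.ofPt z'.toHom zs = z := by
    rw [Points.ofPt_toHom]
    show Points.ofPt e u₀ = z
    rw [ofPt_comp, ← hu]
    exact congrArg (Points.ofPt a) ((congrArg j.left hu₀).trans hju)
  -- a representative of the other point
  obtain ⟨x', hx'⟩ := exists_ofPt x
  let xs : x'.pt.left := (IsLocalRing.closedPoint x'.K : PrimeSpectrum x'.K)
  let fx : FieldPt Y.obj := x'.map f.hom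
  have hfx : fx.toHom = x'.toHom ≫ f.hom := FieldPt.toHom_map _ _
  have := hrm
  obtain ⟨τ', hτ'⟩ := exists_factor_of_mono fx r (by
    rw [hr, ← hxz, ← hx' xs, Points.map_ofPt]
    rw [← hfx]
    exact (Points.ofPt_toHom fx xs).symm)
  let τ : x'.pt ⟶ r.pt := τ'
  have hτ : (yon S).map τ ≫ r.toHom = x'.toHom ≫ f.hom := hτ'.trans hfx
  have sT := IsPullback.of_hasPullback σ τ
  have sY : IsPullback ((yon S).map (pullback.fst σ τ)) ((yon S).map (pullback.snd σ τ))
      (z'.toHom ≫ g.hom) (x'.toHom ≫ f.hom) := by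
    rw [← hσ, ← hτ]
    exact isPullback_comp_mono (yon_isPullback sT) r.toHom
  let π : (yon S).obj (pullback σ τ) ⟶ W.obj := hW.lift ((yon S).map (pullback.snd σ τ) ≫ x'.toHom)
    ((yon S).map (pullback.fst σ τ) ≫ z'.toHom) (by rw [Category.assoc, Category.assoc, sY.w])
  -- it has finitely many points
  have hσq : LocallyQuasiFinite σ.left := by
    have : IsClosedImmersion m.left := hcl
    show LocallyQuasiFinite (m.left ≫ ((pullback.snd (j ≫ h) c).left ≫ d.left))
    infer_instance
  have hσc : IsAffineHom σ.left := by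
    have : IsAffine z'.pt.left := inferInstanceAs (IsAffine (Spec (CommRingCat.of z'.K)))
    have : IsAffine r.pt.left := inferInstanceAs (IsAffine (Spec (CommRingCat.of r.K)))
    infer_instance
  have : LocallyQuasiFinite (pullback.snd σ τ).left :=
    MorphismProperty.of_isPullback (P := @LocallyQuasiFinite) (left_isPullback sT) hσq
  have : IsAffineHom (pullback.snd σ τ).left :=
    MorphismProperty.of_isPullback (P := @IsAffineHom) (left_isPullback sT) hσc
  have : Finite x'.pt.left := inferInstanceAs (Finite (PrimeSpectrum x'.K))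
  have : Finite (pullback σ τ).left := finite_points_of_lqf_over_field (pullback.snd σ τ).left
  refine (Set.finite_range (Points.ofPt π)).subset ?_
  rintro v ⟨hvx, hvz⟩
  have sP := IsPullback.of_hasPullback p.hom x'.toHom
  obtain ⟨v₁, hv₁, -⟩ := exists_point_of_isPullback sP v (Points.ofPt (𝟙 _) xs)
    (by rw [hvx, map_ofPt_id, hx'])
  have sQ := IsPullback.of_hasPullback (pullback.fst p.hom x'.toHom ≫ q.hom) z'.toHom
  obtain ⟨v₂, hv₂, -⟩ := exists_point_of_isPullback sQ v₁ (Points.ofPt (𝟙 _) zs) (by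
    rw [Points.map_comp, hv₁, hvz, map_ofPt_id, hz'])
  have big : IsPullback (pullback.snd (pullback.fst p.hom x'.toHom ≫ q.hom) z'.toHom)
      (pullback.fst (pullback.fst p.hom x'.toHom ≫ q.hom) z'.toHom ≫ pullback.snd p.hom x'.toHom)
      (z'.toHom ≫ g.hom) (x'.toHom ≫ f.hom) :=
    (sQ.paste_horiz (sP.paste_horiz hW.flip).flip).flip
  let i := sY.isoIsPullback _ _ big
  have hi : i.hom ≫ pullback.fst (pullback.fst p.hom x'.toHom ≫ q.hom) z'.toHom ≫ pullback.fst p.hom x'.toHom = π := by
    apply hW.hom_ext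
    · rw [hW.lift_fst, ← IsPullback.isoIsPullback_hom_snd _ _ sY big]
      simp only [Category.assoc, i]
      rw [sP.w]
    · rw [hW.lift_snd, ← IsPullback.isoIsPullback_hom_fst _ _ sY big]
      simp only [Category.assoc, i]
      rw [sQ.w]
  obtain ⟨t, ht⟩ := exists_ofScheme (Points.map i.inv v₂)
  refine ⟨t, ?_⟩
  rw [← map_ofPt_id π t, ht, ← hi, ← Points.map_comp, Iso.inv_hom_id_assoc, Points.map_comp, hv₂, hv₁]

end Groth.Agent.AlgSpFin
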