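import Groth.Agent.AlgSpFin.DecentPoint
import Groth.Agent.AlgSpFin.DecentEtale
import Groth.Agent.AlgSpFin.FinitePts
import Groth.Agent.Weighting.Geom

/-!
Finiteness of fibres of separated etale morphisms descends along specializations.
-/

set_option autoImplicit false
set_option backward.isDefEq.respectTransparency.types false

universe u

open CategoryTheory CategoryTheory.Limits AlgebraicGeometry IsLocalRing

namespace Groth.Agent.AlgSpFin

/-- A specialization of a field point is realised on a valuation ring of the field. -/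
theorem exists_valuation_lift {P : Scheme.{u}} (Ω : Type u) [Field Ω] (σ : Spec (CommRingCat.of Ω) ⟶ P) {t : P}
    (h : σ (closedPoint Ω : PrimeSpectrum Ω) ⤳ t) :
    ∃ (A : ValuationSubring Ω) (g : Spec (CommRingCat.of A) ⟶ P),
      g (closedPoint A : PrimeSpectrum A) = t ∧ Spec.map (CommRingCat.ofHom A.toSubring.subtype) ≫ g = σ := by
  let a : P.presheaf.stalk t ⟶ CommRingCat.of Ω := P.presheaf.stalkSpecializes h ≫ Scheme.stalkClosedPointTo σ
  obtain ⟨A, hA, hAloc⟩ := exists_factor_valuationRing a.hom
  let b : P.presheaf.stalk t ⟶ CommRingCat.of A := CommRingCat.ofHom (a.hom.codRestrict A.toSubring hA)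
  refine ⟨A, Spec.map b ≫ P.fromSpecStalk t, ?_, ?_⟩
  · rw [Scheme.Hom.comp_apply]
    have : Spec.map b (closedPoint (CommRingCat.of A)) = closedPoint (P.presheaf.stalk t) :=
      (isLocalHom_iff_comap_closedPoint (S := A) (a.hom.codRestrict A.toSubring hA)).mp hAloc
    exact (congrArg (P.fromSpecStalk t) this).trans Scheme.fromSpecStalk_closedPoint
  · rw [← Spec.map_comp_assoc, show b ≫ CommRingCat.ofHom A.toSubring.subtype = a from rfl]
    simp only [a, Spec.map_comp, Category.assoc, Scheme.SpecMap_stalkSpecializes_fromSpecStalk]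
    exact Scheme.Spec_stalkClosedPointTo_fromSpecStalk σ

/-- The residue field of a point of an etale scheme over an algebraically closed field is that field. -/
theorem exists_section_of_etale {Ω : Type u} [Field Ω] [IsAlgClosed Ω] {P : Scheme.{u}}
    (f : P ⟶ Spec (CommRingCat.of Ω)) [Etale f] (p : P) :
    ∃ σ : Spec (CommRingCat.of Ω) ⟶ P, σ ≫ f = 𝟙 _ ∧ σ (closedPoint Ω : PrimeSpectrum Ω) = p := by
  have : LocallyQuasiFinite f := Groth.Agent.AlgSpLib.locallyQuasiFinite_of_formallyUnramified _
  obtain ⟨φ, hφ⟩ : ∃ φ : CommRingCat.of Ω ⟶ P.residueField p,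
      Spec.map φ = P.fromSpecResidueField p ≫ f := ⟨Spec.preimage _, Spec.map_preimage _⟩
  have : DiscreteTopology P := discreteTopology_of_etale_field (K := Ω) f
  have : IsClosedImmersion (P.fromSpecResidueField p) := isClosed_singleton_iff_isClosedImmersion.1 (isClosed_discrete _)
  have : LocallyOfFiniteType (Spec.map φ) := by rw [hφ]; infer_instance
  have hft : φ.hom.FiniteType := (HasRingHomProperty.Spec_iff (P := @LocallyOfFiniteType)).1 this
  algebraize [φ.hom]
  have : Module.Finite Ω (P.residueField p) := finite_of_finite_type_of_isJacobsonRing _ _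
  have hb : Function.Bijective φ.hom :=
    IsAlgClosed.algebraMap_bijective_of_isIntegral (k := Ω) (K := P.residueField p)
  let e := (RingEquiv.ofBijective φ.hom hb).toCommRingCatIso
  have he : e.hom = φ := rfl
  refine ⟨Spec.map e.inv ≫ P.fromSpecResidueField p, ?_, ?_⟩
  · rw [Category.assoc, ← hφ, ← he, ← Spec.map_comp, Iso.hom_inv_id, Spec.map_id]
  · rw [Scheme.Hom.comp_apply]
    exact Scheme.fromSpecResidueField_apply _ _

/-- A separated etale morphism with finite fibre over a point has finite fibres over its specializations. -/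
theorem finite_fibre_of_generization {R V : Scheme.{u}} (s : R ⟶ V) [Etale s] [IsSeparated s] {η v : V} (h : η ⤳ v)
    (hfin : (s ⁻¹' {η}).Finite) : (s ⁻¹' {v}).Finite := by
  let Ω := AlgebraicClosure (V.residueField η)
  let σ₀ : Spec (CommRingCat.of Ω) ⟶ V :=
    Spec.map (CommRingCat.ofHom (algebraMap (V.residueField η) Ω)) ≫ V.fromSpecResidueField η
  have hσ₀ : σ₀ (closedPoint Ω : PrimeSpectrum Ω) = η := by
    rw [Scheme.Hom.comp_apply]; exact Scheme.fromSpecResidueField_apply _ _
  obtain ⟨A, g, hgc, hgη⟩ := exists_valuation_lift Ω σ₀ (t := v) (by rwa [hσ₀])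
  let jA : Spec (CommRingCat.of Ω) ⟶ Spec (CommRingCat.of A) := Spec.map (CommRingCat.ofHom A.toSubring.subtype)
  let sT := pullback.snd s g
  have : Etale sT := MorphismProperty.pullback_snd _ _ ‹_›
  have : IsSeparated sT := MorphismProperty.pullback_snd _ _ ‹_›
  -- finiteness of the geometric generic fibre
  let TΩ := pullback sT jA
  have : Etale (pullback.snd sT jA) := MorphismProperty.pullback_snd _ _ ‹_›
  have hTfin : Finite TΩ := by
    let F := pullback s (V.fromSpecResidueField η)
    have hF : Finite F := by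
      have hinj : Function.Injective (pullback.fst s (V.fromSpecResidueField η)) :=
        (pullback.fst s (V.fromSpecResidueField η)).isEmbedding.injective
      have : (Set.univ : Set F).Finite := (hfin.preimage hinj.injOn).subset fun z _ => by
        show s (pullback.fst s _ z) = η
        rw [← Scheme.Hom.comp_apply, pullback.condition, Scheme.Hom.comp_apply]
        exact Scheme.fromSpecResidueField_apply _ _
      exact Set.finite_univ_iff.1 this
    let qF := pullback.snd s (V.fromSpecResidueField η)
    have : Etale qF := MorphismProperty.pullback_snd _ _ ‹_›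
    have : DiscreteTopology F := discreteTopology_of_etale_field (K := V.residueField η) qF
    have : Finite (Spec (V.residueField η)) := inferInstanceAs (Finite (PrimeSpectrum (V.residueField η)))
    have : DiscreteTopology (Spec (V.residueField η)) := inferInstanceAs (DiscreteTopology (PrimeSpectrum (V.residueField η)))
    have : IsFinite qF := isFinite_of_etale_discrete qF
    have sTΩ : IsPullback (pullback.fst sT jA ≫ pullback.fst s g) (pullback.snd sT jA) s σ₀ := by
      rw [← hgη]
      exact (IsPullback.of_hasPullback sT jA).paste_horiz (IsPullback.of_hasPullback s g)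
    have sF' := IsPullback.of_hasPullback qF (Spec.map (CommRingCat.ofHom (algebraMap (V.residueField η) Ω)))
    have sF'' := sF'.paste_horiz (IsPullback.of_hasPullback s (V.fromSpecResidueField η))
    have : IsFinite (pullback.snd qF (Spec.map (CommRingCat.ofHom (algebraMap (V.residueField η) Ω)))) :=
      MorphismProperty.pullback_snd _ _ inferInstance
    have : Finite (Spec (CommRingCat.of Ω)) := inferInstanceAs (Finite (PrimeSpectrum Ω))
    have := finite_points_of_lqf_over_field (pullback.snd qF (Spec.map (CommRingCat.ofHom (algebraMap (V.residueField η) Ω))))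
    exact Finite.of_injective _ (sTΩ.isoIsPullback _ _ sF'').hom.homeomorph.injective
  -- generizations
  choose τ hτ hτp using fun p : TΩ => exists_section_of_etale (pullback.snd sT jA) p
  have hgen : ∀ r : {r : R // s r = v}, ∃ (t : ↥(pullback s g)) (p : TΩ),
      pullback.fst s g t = r.1 ∧ sT t = (closedPoint A : PrimeSpectrum A) ∧ pullback.fst sT jA p ⤳ t := by
    intro r
    obtain ⟨t, ht₁, ht₂⟩ := Scheme.Pullback.exists_preimage_pullback (f := s) (g := g) r.1
      (closedPoint A : PrimeSpectrum A) (r.2.trans hgc.symm)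
    obtain ⟨z, hzt, hz⟩ := Flat.generalizingMap sT (show jA (closedPoint Ω : PrimeSpectrum Ω) ⤳ sT t by
      rw [ht₂]
      exact IsLocalRing.specializes_closedPoint _)
    obtain ⟨p, hp, -⟩ := Scheme.Pullback.exists_preimage_pullback (f := sT) (g := jA) z
      (closedPoint Ω : PrimeSpectrum Ω) hz
    exact ⟨t, p, ht₁, ht₂, hp ▸ hzt⟩
  choose t p ht₁ ht₂ hpt using hgen
  let σ : {r : R // s r = v} → (Spec (CommRingCat.of Ω) ⟶ pullback s g) := fun r => τ (p r) ≫ pullback.fst sT jA
  have hσ : ∀ r, σ r ≫ sT = jA := fun r => by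
    simp only [σ]
    rw [Category.assoc, pullback.condition, reassoc_of% (hτ (p r))]
  have hσt : ∀ r, σ r (closedPoint Ω : PrimeSpectrum Ω) ⤳ t r := fun r => by
    simp only [σ]
    rw [Scheme.Hom.comp_apply, hτp]
    exact hpt r
  have hlift : ∀ r, ∃ L : Spec (CommRingCat.of A) ⟶ pullback s g,
      L (closedPoint A : PrimeSpectrum A) = t r ∧ jA ≫ L = σ r ∧ L ≫ sT = 𝟙 _ := by
    intro r
    obtain ⟨A', g', hg'c, hg'⟩ := exists_valuation_lift Ω (σ r) (hσt r)
    obtain ⟨φ, hφ⟩ : ∃ φ : CommRingCat.of A ⟶ CommRingCat.of A', Spec.map φ = g' ≫ sT :=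
      ⟨Spec.preimage _, Spec.map_preimage _⟩
    have hinc : φ ≫ CommRingCat.ofHom A'.toSubring.subtype = CommRingCat.ofHom A.toSubring.subtype := by
      apply Spec.map_injective
      rw [Spec.map_comp, hφ, reassoc_of% hg', hσ]
    have hφv : ∀ x : A, ((φ.hom x : A') : Ω) = (x : Ω) := fun x => RingHom.congr_fun (congrArg CommRingCat.Hom.hom hinc) x
    have hle : A ≤ A' := fun x hx => by
      have := (φ.hom ⟨x, hx⟩).2
      rwa [hφv] at this
    have hloc : IsLocalHom φ.hom := by
      refine (isLocalHom_iff_comap_closedPoint φ.hom).2 ?_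
      show Spec.map φ (closedPoint A' : PrimeSpectrum A') = _
      rw [hφ, Scheme.Hom.comp_apply, hg'c, ht₂]
    have hge : A' ≤ A := by
      intro x hx
      by_contra hxA
      have hx0 : x ≠ 0 := fun h0 => hxA (h0 ▸ A.zero_mem)
      have h' : x⁻¹ ∈ A := (A.mem_or_inv_mem x).resolve_left hxA
      have hu : IsUnit (φ.hom ⟨x⁻¹, h'⟩) := by
        refine IsUnit.of_mul_eq_one (⟨x, hx⟩ : A') (Subtype.ext ?_)
        show ((φ.hom ⟨x⁻¹, h'⟩ : A') : Ω) * x = 1
        rw [hφv]
        exact inv_mul_cancel₀ hx0
      obtain ⟨w, hw⟩ := (isUnit_of_map_unit φ.hom _ hu).exists_right_inv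
      refine hxA ?_
      have e' : x⁻¹ * (w : Ω) = 1 := congrArg (fun z : A => (z : Ω)) hw
      rw [show x = (w : Ω) from (inv_mul_eq_one₀ hx0).1 e']
      exact w.2
    obtain rfl : A = A' := le_antisymm hle hge
    have hid : φ = 𝟙 _ := CommRingCat.hom_ext (RingHom.ext fun x => Subtype.ext (hφv x))
    refine ⟨g', hg'c, hg', ?_⟩
    rw [← hφ, hid, Spec.map_id]
  choose L hLc hLη hLid using hlift
  have : Finite {r : R // s r = v} := by
    refine Finite.of_injective p fun r r' e => Subtype.ext ?_
    have hσe : σ r = σ r' := by simp only [σ, e]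
    have : IsDominant jA := ⟨by
      have hj : jA (closedPoint Ω : PrimeSpectrum Ω) = (⟨⊥, Ideal.isPrime_bot⟩ : PrimeSpectrum A) := by
        refine PrimeSpectrum.ext ?_
        show Ideal.comap A.toSubring.subtype (maximalIdeal Ω) = ⊥
        rw [IsLocalRing.maximalIdeal_eq_bot]
        exact (RingHom.injective_iff_ker_eq_bot _).mp Subtype.val_injective
      have hr : ((⟨⊥, Ideal.isPrime_bot⟩ : PrimeSpectrum A) : ↥(Spec (CommRingCat.of A))) ∈ Set.range jA := ⟨_, hj⟩
      refine fun x => closure_mono (Set.singleton_subset_iff.2 hr) (specializes_iff_mem_closure.1 ?_)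
      exact (PrimeSpectrum.le_iff_specializes (⟨⊥, Ideal.isPrime_bot⟩ : PrimeSpectrum A) (x : PrimeSpectrum A)).1 bot_le⟩
    have hL : L r = L r' := ext_of_isDominant_of_isSeparated sT (by rw [hLid, hLid]) jA (by rw [hLη, hLη, hσe])
    rw [← ht₁ r, ← ht₁ r', ← hLc r, ← hLc r', hL]
  exact Set.finite_coe_iff.1 (this : Finite ↥(s ⁻¹' {v}))

end Groth.Agent.AlgSpFin
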