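import Groth.Agent.AlgSpFin.InjEtaleBase
import Groth.Agent.AlgSpFin.EtaleFibres
import Groth.Prelude.Def_AlgSpOX3

/-!
The category of etale neighbourhoods of a geometric point.
-/

set_option autoImplicit false
set_option backward.isDefEq.respectTransparency.types false

universe u

open CategoryTheory CategoryTheory.Limits AlgebraicGeometry Opposite AlgSp

namespace Groth.Agent.AlgSpFin

open Groth.Agent.AlgSpLib

variable {S : Scheme.{u}} {X : Sp S}

/-- Geometric lifts pass to a member of an etale covering. -/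
theorem exists_lift_cover (p : FieldPt X) (hp : p.IsGeometric) (N : EtNbhd p) {ι : Type u} (Ui : ι → EtOver X)
    (g : ∀ i, Ui i ⟶ N.1) (hcov : Presieve.ofArrows Ui g ∈ etPre X N.1) :
    ∃ (i : ι) (ui : (FieldPt.liftsTo p).obj (Ui i)), (FieldPt.liftsTo p).map (g i) ui = N.2 := by
  obtain ⟨N, u, hu⟩ := N
  obtain ⟨i, y, hy⟩ := (ofArrows_mem_etPre_iff Ui g).1 hcov (u.left (IsLocalRing.closedPoint p.K : PrimeSpectrum p.K))
  have : IsAlgClosed p.K := hp
  obtain ⟨W, w₁, w₂, sW⟩ : ∃ (W : Over S) (w₁ : W ⟶ p.pt) (w₂ : W ⟶ (Ui i).obj.left),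
      IsPullback w₁ w₂ u (g i).hom.left := ⟨_, _, _, IsPullback.of_hasPullback _ _⟩
  have : Etale (g i).hom.left.left := EtOver.etale_left (g i)
  have : Etale w₁.left := MorphismProperty.of_isPullback (left_isPullback sW).flip this
  let wK : W.left ⟶ Spec (CommRingCat.of p.K) := w₁.left
  have : Etale wK := ‹Etale w₁.left›
  obtain ⟨w, -, -⟩ := Scheme.exists_preimage_of_isPullback (left_isPullback sW)
    (IsLocalRing.closedPoint p.K : PrimeSpectrum p.K) y hy.symm
  obtain ⟨σ, hσ, -⟩ := exists_section_of_etale wK w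
  let s : p.pt ⟶ W := Over.homMk σ (by
    show σ ≫ W.hom = p.str
    rw [← Over.w w₁]
    show σ ≫ wK ≫ p.str = p.str
    rw [reassoc_of% hσ])
  have hs : s ≫ w₁ = 𝟙 _ := Over.OverMorphism.ext hσ
  have e : (s ≫ w₂) ≫ (g i).hom.left = u := by rw [Category.assoc, ← sW.w, reassoc_of% hs]
  refine ⟨i, ⟨s ≫ w₂, ?_⟩, Subtype.ext e⟩
  rw [← hu, ← e, Functor.map_comp _ (s ≫ w₂), Category.assoc, EtOver.w (g i)]

/-- Etale neighbourhoods of a geometric point form a cofiltered category. -/
theorem isCofiltered_etNbhd {S : Scheme.{u}} (X : Space S) (p : FieldPt X.obj) (hp : p.IsGeometric) :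
    IsCofiltered (EtNbhd p) := by
  have : IsAlgClosed p.K := hp
  have : Nonempty (EtNbhd p) := by
    obtain ⟨U, a, ha, has⟩ := X.property.atlas
    obtain ⟨α, hα⟩ := exists_lift_geomPoint a ha has p.toHom
    exact ⟨⟨EtOver.mk a ha, α, hα⟩⟩
  have : IsCofilteredOrEmpty (EtNbhd p) := by
    refine { cone_objs := fun M N => ?_, cone_maps := fun M N f f' => ?_ }
    · obtain ⟨M, u, hu⟩ := M
      obtain ⟨N, v, hv⟩ := N
      obtain ⟨W, w₁, w₂, sW⟩ := exists_isPullback (X.property.representable_from_yon M.obj.hom) N.obj.hom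
      have hW : RepWith @Etale ((yon S).map w₁ ≫ M.obj.hom) :=
        repWith_yon_comp (P := @Etale) w₁ (prop_snd sW.flip N.property) M.property
      obtain ⟨l, hl₁, hl₂⟩ := exists_lift sW ((yon S).map u) v (hu.trans hv.symm)
      let E : EtOver X.obj := EtOver.mk ((yon S).map w₁ ≫ M.obj.hom) hW
      refine ⟨⟨E, l, ?_⟩, CategoryOfElements.homMk _ _ (EtOver.homMk w₁ rfl) ?_,
        CategoryOfElements.homMk _ _ (EtOver.homMk w₂ sW.w.symm) ?_, trivial⟩
      · show (yon S).map l ≫ (yon S).map w₁ ≫ M.obj.hom = _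
        rw [reassoc_of% hl₁]
        exact hu
      · exact Subtype.ext ((yon S).map_injective (((yon S).map_comp l w₁).trans hl₁))
      · exact Subtype.ext hl₂
    · obtain ⟨M, u, hu⟩ := M
      obtain ⟨N, v, hv⟩ := N
      obtain ⟨R, r₁, r₂, sR⟩ := exists_isPullback N.property.1 N.obj.hom
      have hR : RepWith @Etale ((yon S).map r₁ ≫ N.obj.hom) :=
        repWith_yon_comp (P := @Etale) r₁ (prop_snd sR.flip N.property) N.property
      let Rs : EtOver X.obj := EtOver.mk ((yon S).map r₁ ≫ N.obj.hom) hR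
      obtain ⟨d, hd₁, hd₂⟩ := exists_lift sR ((yon S).map (𝟙 N.obj.left)) (𝟙 _) rfl
      obtain ⟨m, hm₁, hm₂⟩ := exists_lift sR ((yon S).map f.1.hom.left) f'.1.hom.left
        ((EtOver.w f.1).trans (EtOver.w f'.1).symm)
      have hd₁' : d ≫ r₁ = 𝟙 _ := (yon S).map_injective (by rw [Functor.map_comp]; exact hd₁)
      have hm₁' : m ≫ r₁ = f.1.hom.left := (yon S).map_injective (by rw [Functor.map_comp]; exact hm₁)
      let dE : N ⟶ Rs := EtOver.homMk d (by
        show (yon S).map d ≫ (yon S).map r₁ ≫ N.obj.hom = _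
        rw [reassoc_of% hd₁, CategoryTheory.Functor.map_id, Category.id_comp])
      let mE : M ⟶ Rs := EtOver.homMk m (by
        show (yon S).map m ≫ (yon S).map r₁ ≫ N.obj.hom = _
        rw [reassoc_of% hm₁]
        exact EtOver.w f.1)
      have huf : u ≫ f.1.hom.left = v := congrArg Subtype.val f.2
      have huf' : u ≫ f'.1.hom.left = v := congrArg Subtype.val f'.2
      have hcomm : u ≫ m = v ≫ d := by
        apply (yon S).map_injective
        apply sR.hom_ext
        · rw [← Functor.map_comp, ← Functor.map_comp, Category.assoc, Category.assoc, hm₁', hd₁', Category.comp_id,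
            huf]
        · rw [← Functor.map_comp, ← Functor.map_comp, Category.assoc, Category.assoc, hm₂, hd₂, Category.comp_id,
            huf']
      refine ⟨⟨EtOver.pullbackObj mE dE, pullback.lift u v hcomm, ?_⟩,
        CategoryOfElements.homMk _ _ (EtOver.pullbackFst mE dE) (Subtype.ext (pullback.lift_fst _ _ _)), ?_⟩
      · show (yon S).map (pullback.lift u v hcomm) ≫ (yon S).map (pullback.fst m d) ≫ M.obj.hom = _
        rw [← Category.assoc, ← Functor.map_comp, pullback.lift_fst]
        exact hu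
      · apply CategoryOfElements.ext
        apply EtOver.hom_ext
        show pullback.fst m d ≫ f.1.hom.left = pullback.fst m d ≫ f'.1.hom.left
        rw [← hm₁', ← hm₂, ← Category.assoc, ← Category.assoc, pullback.condition, Category.assoc, Category.assoc,
          hd₁', hd₂]
  exact { }

end Groth.Agent.AlgSpFin
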