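import Groth.Agent.AlgSpFin.EtSupport
import Groth.Agent.AlgSpFin.EtNbhdCof
import Mathlib.CategoryTheory.Sites.Point.Skyscraper

/-!
Geometric points as points of the small etale site.
-/

set_option autoImplicit false
set_option backward.isDefEq.respectTransparency.types false

universe u

open CategoryTheory CategoryTheory.Limits AlgebraicGeometry Opposite AlgSp

namespace Groth.Agent.AlgSpFin

open Groth.Agent.AlgSpLib

variable {S : Scheme.{u}} {X : Space S} (p : FieldPt X.obj)

/-- The fibre functor at a point, one universe up. -/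
noncomputable abbrev fibreFunctor : EtOver X.obj ⥤ Type (u + 1) :=
  FieldPt.liftsTo p ⋙ uliftFunctor.{u + 1}

/-- Neighbourhoods as elements of the fibre functor. -/
noncomputable def toFibreElements : EtNbhd p ⥤ (fibreFunctor p).Elements where
  obj N := ⟨N.1, ULift.up N.2⟩
  map f := ⟨f.1, congrArg ULift.up f.2⟩

instance : (toFibreElements p).IsEquivalence where
  faithful := ⟨fun h => CategoryOfElements.ext _ _ _ (congrArg (fun z => z.1) h :)⟩
  full := ⟨fun g => ⟨⟨g.1, congrArg ULift.down g.2⟩, rfl⟩⟩
  essSurj := ⟨fun N => ⟨⟨N.1, N.2.down⟩, ⟨Iso.refl _⟩⟩⟩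

/-- A geometric point as a point of the small etale site. -/
noncomputable def etPoint (hp : p.IsGeometric) : GrothendieckTopology.Point.{u + 1} (etTop X.obj) where
  fiber := fibreFunctor p
  isCofiltered :=
    haveI := isCofiltered_etNbhd X p hp
    IsCofiltered.of_equivalence (toFibreElements p).asEquivalence
  initiallySmall :=
    haveI := essentiallySmallSelf.{u + 1} (fibreFunctor p).Elements
    initiallySmall_of_essentiallySmall _
  jointly_surjective {E} R hR x := by
    obtain ⟨R', hR', hle⟩ := Precoverage.mem_toGrothendieck_iff_of_isStableUnderComposition.1 hR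
    obtain ⟨ι₀, V, ψ, rfl⟩ := R'.exists_eq_ofArrows
    let N : EtNbhd p := ⟨E, x.down⟩
    obtain ⟨k, v, hv⟩ := (ofArrows_mem_etPre_iff V ψ).1 hR'
      (N.2.1.left (IsLocalRing.closedPoint p.K : PrimeSpectrum p.K))
    obtain ⟨⟨V', l⟩, f, hV', hf⟩ := exists_nbhd_hom hp N (ψ k) ⟨v, hv⟩
    cases hV'
    have hf' := eq_of_heq hf
    exact ⟨V k, ψ k, hle _ _ ⟨k⟩, ULift.up l, congrArg ULift.up (hf' ▸ f.2)⟩

variable (A : Type*) [Category.{u + 1} A] [HasColimitsOfSize.{u + 1, u + 1} A]
  [HasColimitsOfShape (EtNbhd p)ᵒᵖ A]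

/-- The stalk functor on presheaves is the fibre functor of the point. -/
noncomputable def stalkEtPshFunctorIso (hp : p.IsGeometric) :
    stalkEtPshFunctor A p ≅ (etPoint p hp).presheafFiber :=
  haveI : HasColimitsOfShape (fibreFunctor p).Elementsᵒᵖ A :=
    inferInstanceAs (HasColimitsOfShape (etPoint p hp).fiber.Elementsᵒᵖ A)
  Functor.isoWhiskerLeft ((Functor.whiskeringLeft _ _ A).obj (CategoryOfElements.π (fibreFunctor p)).op)
    (Functor.Final.colimIso (E := A) (toFibreElements p).op)

/-- The stalk functor on sheaves is the fibre functor of the point. -/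
noncomputable def stalkEtFunctorIso (hp : p.IsGeometric) :
    stalkEtFunctor A p ≅ (etPoint p hp).sheafFiber :=
  Functor.isoWhiskerLeft (sheafToPresheaf (etTop X.obj) A) (stalkEtPshFunctorIso p A hp)

end Groth.Agent.AlgSpFin
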