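import Groth.Agent.AlgSpFin.EtPoint
import Mathlib.AlgebraicGeometry.Sites.EtalePoint

/-!
The etale neighbourhoods of a geometric point are initially small.
-/

set_option autoImplicit false
set_option backward.isDefEq.respectTransparency.types false

universe u

open CategoryTheory CategoryTheory.Limits AlgebraicGeometry Opposite AlgSp

namespace Groth.Agent.AlgSpFin

open Groth.Agent.AlgSpLib

variable {S : Scheme.{u}} {X : Space S}

theorem initiallySmall_etNbhd (p : FieldPt X.obj) (hp : p.IsGeometric) : InitiallySmall.{u} (EtNbhd p) := by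
  have : IsAlgClosed p.K := hp
  have := isCofiltered_etNbhd X p hp
  obtain ⟨U, φ, hφ, hφs⟩ := X.property.atlas
  obtain ⟨α, hα⟩ := exists_lift_geomPoint φ hφ hφs p.toHom
  let F : U.left.AffineEtale ⥤ EtOver X.obj := Scheme.AffineEtale.Spec U.left ⋙ EtOver.ofChart φ hφ
  refine initiallySmall_of_essentiallySmall_weakly_initial_objectProperty
    (Functor.Elements.precomp F (FieldPt.liftsTo p)).essImage ?_
  rintro ⟨E, v, hv⟩
  obtain ⟨W, w₁, w₂, sW⟩ := exists_isPullback (X.property.representable_from_yon φ) E.obj.hom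
  have : Etale w₁.left := prop_snd sW.flip E.property
  obtain ⟨l, hl₁, hl₂⟩ := exists_lift sW ((yon S).map α) v (hα.trans hv.symm)
  let c : p.pt.left := (IsLocalRing.closedPoint p.K : PrimeSpectrum p.K)
  obtain ⟨R, j, _, hj, -⟩ := Scheme.exists_affine_mem_range_and_range_subset (x := l.left c) (U := ⊤) (by simp)
  have hsub : Set.range l.left ⊆ Set.range j := by
    rintro _ ⟨a, rfl⟩
    rwa [Subsingleton.elim (α := PrimeSpectrum p.K) a c]
  have : Etale (j ≫ w₁.left) := inferInstance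
  let A : U.left.AffineEtale := Scheme.AffineEtale.mk (j ≫ w₁.left)
  let jO : Over.mk ((j ≫ w₁.left) ≫ U.hom) ⟶ W :=
    Over.homMk j (by show j ≫ W.hom = (j ≫ w₁.left) ≫ U.hom; rw [Category.assoc, Over.w w₁])
  let y : p.pt ⟶ Over.mk ((j ≫ w₁.left) ≫ U.hom) :=
    Over.homMk (IsOpenImmersion.lift j l.left hsub) (by
      show IsOpenImmersion.lift j l.left hsub ≫ (j ≫ w₁.left) ≫ U.hom = p.pt.hom
      rw [Category.assoc, IsOpenImmersion.lift_fac_assoc, Over.w w₁]
      exact Over.w l)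
  have hy : y ≫ jO = l := Over.OverMorphism.ext (IsOpenImmersion.lift_fac _ _ hsub)
  have hjO : (Over.homMk (j ≫ w₁.left) rfl : Over.mk ((j ≫ w₁.left) ≫ U.hom) ⟶ U) = jO ≫ w₁ :=
    Over.OverMorphism.ext rfl
  let M : (F ⋙ FieldPt.liftsTo p).Elements :=
    ⟨A, ⟨y, by
      show (yon S).map y ≫ (yon S).map (Over.homMk (j ≫ w₁.left) rfl) ≫ φ = p.toHom
      rw [hjO, ← Category.assoc, ← Functor.map_comp, reassoc_of% hy, Functor.map_comp, hl₁]
      exact hα⟩⟩
  refine ⟨_, ⟨M, ⟨Iso.refl _⟩⟩, ⟨CategoryOfElements.homMk _ _ (EtOver.homMk (jO ≫ w₂) ?_) ?_⟩⟩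
  · show (yon S).map (jO ≫ w₂) ≫ E.obj.hom = (yon S).map (Over.homMk (j ≫ w₁.left) rfl) ≫ φ
    rw [hjO, Functor.map_comp, Functor.map_comp]
    exact (Category.assoc _ _ _).trans ((congrArg (fun z => (yon S).map jO ≫ z) sW.w.symm).trans (Category.assoc _ _ _).symm)
  · exact Subtype.ext (show y ≫ jO ≫ w₂ = v by rw [reassoc_of% hy, hl₂])

end Groth.Agent.AlgSpFin
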