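import Groth.Agent.AlgSpFin.EtLocalRing
import Groth.Prelude.Def_EtBase

/-!
Etale local rings of algebraic spaces are strictly henselian.
-/

set_option autoImplicit false
set_option backward.isDefEq.respectTransparency.types false

universe v u

open CategoryTheory CategoryTheory.Limits AlgebraicGeometry Opposite AlgSp

namespace Groth.Agent.AlgSpFin

theorem henselianLocalRing_of_equiv {A : Type u} {B : Type v} [CommRing A] [CommRing B] [HenselianLocalRing A]
    [IsLocalRing B] (e : A ≃+* B) : HenselianLocalRing B where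
  is_henselian f hf a₀ h1 h2 := by
    have hm : ∀ a : A, e a ∈ IsLocalRing.maximalIdeal B ↔ a ∈ IsLocalRing.maximalIdeal A := fun a => by
      simp only [IsLocalRing.mem_maximalIdeal, mem_nonunits_iff]
      exact not_congr (isUnit_map_iff e a)
    have hb : ∀ (p : Polynomial B) (b : B), (p.map e.symm.toRingHom).eval (e.symm b) = e.symm (p.eval b) :=
      fun p b => Polynomial.eval_map_apply e.symm.toRingHom b
    obtain ⟨a, ha, ha'⟩ := HenselianLocalRing.is_henselian (f.map e.symm.toRingHom) (hf.map _) (e.symm a₀)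
      (by rw [← hm, hb, e.apply_symm_apply]; exact h1)
      (by rw [Polynomial.derivative_map, hb]; exact h2.map e.symm)
    refine ⟨e a, ?_, ?_⟩
    · have := hb f (e a)
      rw [e.symm_apply_apply] at this
      rw [Polynomial.IsRoot, ← e.apply_symm_apply (f.eval (e a)), ← this, ha, map_zero]
    · have := (hm _).2 ha'
      rwa [map_sub, e.apply_symm_apply] at this

theorem isSepClosed_of_equiv {K : Type u} {L : Type v} [Field K] [Field L] [IsSepClosed K] (e : K ≃+* L) :
    IsSepClosed L :=
  IsSepClosed.of_exists_root _ fun p _ hp hs => by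
    obtain ⟨x, hx⟩ := IsSepClosed.exists_root (p.map e.symm.toRingHom) (by
      rw [Polynomial.degree_map]; exact hp.degree_pos.ne') (hs.map)
    refine ⟨e x, ?_⟩
    have h2 : (p.map e.symm.toRingHom).eval (e.symm (e x)) = e.symm (p.eval (e x)) :=
      Polynomial.eval_map_apply e.symm.toRingHom (e x)
    rw [e.symm_apply_apply, hx] at h2
    rw [← e.apply_symm_apply (p.eval (e x)), ← h2, map_zero]

theorem isStrictlyHenselian_OEtStalk {S : Scheme.{u}} {X : Space S} (p : FieldPt X.obj) (hp : p.IsGeometric) :
    IsLocalRing ↥(OEtStalk p) ∧ EtCoh.IsStrictlyHenselianLocalRing ↥(OEtStalk p) := by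
  have : IsAlgClosed p.K := hp
  obtain ⟨U, φ, -, α, -, h⟩ := exists_ringEquiv_etaleLocalRing p hp
  obtain ⟨e⟩ := h
  have : IsLocalRing ↥(OEtStalk p) := e.isLocalRing
  obtain ⟨_, hs⟩ := EtSite.LocalRing.isStrictlyHenselian (Ω := p.K) (α.left : Spec (CommRingCat.of p.K) ⟶ U.left)
  exact ⟨this, henselianLocalRing_of_equiv e, @isSepClosed_of_equiv _ _ _ _ hs (IsLocalRing.ResidueField.mapEquiv e)⟩

end Groth.Agent.AlgSpFin
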