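import Groth.Agent.AlgSpFin.EtSupportStmts

/-!
Injectivity and surjectivity are checked on geometric stalks.
-/

set_option autoImplicit false
set_option backward.isDefEq.respectTransparency.types false

universe u

open CategoryTheory CategoryTheory.Limits AlgebraicGeometry Opposite AlgSp TopologicalSpace

namespace Groth.Agent.AlgSpFin

open Groth.Agent.AlgSpLib

variable {S : Scheme.{u}} {X : Space S} {F G : EtSh X.obj (Type (u + 1))} (a : F ⟶ G)

theorem stalkEt_map_ι (p : FieldPt X.obj) (N : EtNbhd p) (t : F.obj.obj (op N.1)) :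
    (stalkEtFunctor (Type (u + 1)) p).map a (stalkEtι p F N t) = stalkEtι p G N (a.hom.app (op N.1) t) :=
  ConcreteCategory.congr_hom (colimit.ι_map (Functor.whiskerLeft (EtNbhd.toEtOver p).op a.hom) (op N)) t

/-- Monomorphisms and epimorphisms of sheaves of sets on stalks. -/
theorem mono_epi_iff_stalk :
    (Mono a ↔ ∀ p : FieldPt X.obj, p.IsGeometric →
        Function.Injective ((stalkEtFunctor (Type (u + 1)) p).map a)) ∧
    (Epi a ↔ ∀ p : FieldPt X.obj, p.IsGeometric →
        Function.Surjective ((stalkEtFunctor (Type (u + 1)) p).map a)) := by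
  refine ⟨⟨fun _ p hp => ?_, fun h => ?_⟩, ⟨fun _ p hp => ?_, fun h => ?_⟩⟩
  · have : IsCofiltered (EtNbhd p) := isCofiltered_etNbhd X p hp
    intro s t e
    obtain ⟨i, σ₀, rfl⟩ := Concrete.colimit_exists_rep (stalkEtDiagram p F) s
    obtain ⟨j, τ₀, rfl⟩ := Concrete.colimit_exists_rep (stalkEtDiagram p F) t
    have e' := (stalkEt_map_ι a p i.unop σ₀).symm.trans (e.trans (stalkEt_map_ι a p j.unop τ₀))
    obtain ⟨k, f, g, hfg⟩ := (Concrete.colimit_rep_eq_iff_exists (stalkEtDiagram p G) (i := i) (j := j) _ _).1 e'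
    refine Concrete.colimit_rep_eq_of_exists (stalkEtDiagram p F) _ _ ⟨k, f, g, ?_⟩
    have hm : Mono (a.hom.app (op k.unop.1)) :=
      (NatTrans.mono_iff_mono_app _).1 (inferInstance : Mono ((sheafToPresheaf _ _).map a)) _
    refine (CategoryTheory.mono_iff_injective _).1 hm ?_
    exact (ConcreteCategory.congr_hom (a.hom.naturality f.unop.1.op) σ₀).trans
      (hfg.trans (ConcreteCategory.congr_hom (a.hom.naturality g.unop.1.op) τ₀).symm)
  · have : Mono ((sheafToPresheaf _ _).map a) := by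
      rw [NatTrans.mono_iff_mono_app]
      intro U
      rw [CategoryTheory.mono_iff_injective]
      intro σ τ e
      have key : ∀ u : U.unop.obj.left.left, ∃ (V : EtOver X.obj) (φ : V ⟶ U.unop),
          u ∈ Set.range (fun v => φ.hom.left.left v) ∧ F.obj.map φ.op σ = F.obj.map φ.op τ := fun u => by
        obtain ⟨p, hp, l, -, hlu⟩ := exists_geometric_over U.unop u
        have : IsCofiltered (EtNbhd p) := isCofiltered_etNbhd X p hp
        have e' : stalkEtι p F ⟨U.unop, l⟩ σ = stalkEtι p F ⟨U.unop, l⟩ τ := h p hp (by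
          rw [stalkEt_map_ι, stalkEt_map_ι]
          exact congrArg _ e)
        obtain ⟨k, f, g, hfg⟩ := (Concrete.colimit_rep_eq_iff_exists (stalkEtDiagram p F)
          (i := op (⟨U.unop, l⟩ : EtNbhd p)) (j := op (⟨U.unop, l⟩ : EtNbhd p)) σ τ).1 e'
        refine ⟨(IsFiltered.coeq f g).unop.1, ((f ≫ IsFiltered.coeqHom f g).unop).1,
          ⟨(IsFiltered.coeq f g).unop.2.1.left (IsLocalRing.closedPoint p.K : PrimeSpectrum p.K), ?_⟩, ?_⟩
        · rw [← hlu]
          exact congrArg (fun z => z.left (IsLocalRing.closedPoint p.K : PrimeSpectrum p.K))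
            (congrArg Subtype.val (f ≫ IsFiltered.coeqHom f g).unop.2)
        · show (stalkEtDiagram p F).map (f ≫ IsFiltered.coeqHom f g) σ =
            (stalkEtDiagram p F).map (f ≫ IsFiltered.coeqHom f g) τ
          conv_rhs => rw [IsFiltered.coeq_condition]
          rw [Functor.map_comp, Functor.map_comp]
          exact congrArg _ hfg
      choose V φ hu hφ using key
      have hcov : Presieve.ofArrows V φ ∈ etPre X.obj U.unop :=
        (ofArrows_mem_etPre_iff V φ).2 fun u => ⟨u, hu u⟩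
      have hs : Presieve.IsSheaf (etTop X.obj) F.obj := (isSheaf_iff_isSheaf_of_type _ _).1 F.property
      refine (Presieve.isSeparatedFor_iff_generate.2
        (hs _ (Precoverage.generate_mem_toGrothendieck hcov)).isSeparatedFor).ext fun {W} g hg => ?_
      obtain ⟨u⟩ := hg
      exact hφ u
    exact (sheafToPresheaf _ _).mono_of_mono_map this
  · have : Sheaf.IsLocallySurjective a := (Sheaf.isLocallySurjective_iff_epi a).2 inferInstance
    intro s
    obtain ⟨i, σ, rfl⟩ := Concrete.colimit_exists_rep (stalkEtDiagram p G) s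
    obtain ⟨R, hR, hle⟩ := Precoverage.mem_toGrothendieck_iff_of_isStableUnderComposition.1
      (Presheaf.imageSieve_mem (etTop X.obj) a.hom (U := op i.unop.1) σ)
    obtain ⟨ι₀, V, ψ, rfl⟩ := R.exists_eq_ofArrows
    obtain ⟨k, v, hv⟩ := (ofArrows_mem_etPre_iff V ψ).1 hR (i.unop.2.1.left (IsLocalRing.closedPoint p.K : PrimeSpectrum p.K))
    obtain ⟨t, ht⟩ := hle _ _ ⟨k⟩
    obtain ⟨⟨V', l⟩, f, hV', hf⟩ := exists_nbhd_hom hp i.unop (ψ k) ⟨v, hv⟩
    cases hV'
    have hf' := eq_of_heq hf
    refine ⟨stalkEtι p F ⟨V k, l⟩ t, (stalkEt_map_ι a p (⟨V k, l⟩ : EtNbhd p) t).trans ?_⟩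
    rw [ht, ← hf']
    exact ConcreteCategory.congr_hom (colimit.w (stalkEtDiagram p G) f.op) σ
  · rw [← Sheaf.isLocallySurjective_iff_epi]
    refine ⟨fun {U} σ => ?_⟩
    have key : ∀ u : U.obj.left.left, ∃ (V : EtOver X.obj) (φ : V ⟶ U),
        u ∈ Set.range (fun v => φ.hom.left.left v) ∧ Presheaf.imageSieve a.hom σ φ := fun u => by
      obtain ⟨p, hp, l, -, hlu⟩ := exists_geometric_over U u
      have : IsCofiltered (EtNbhd p) := isCofiltered_etNbhd X p hp
      obtain ⟨s, hs⟩ := h p hp (stalkEtι p G ⟨U, l⟩ σ)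
      obtain ⟨j, t, rfl⟩ := Concrete.colimit_exists_rep (stalkEtDiagram p F) s
      obtain ⟨k, f, g, hfg⟩ := (Concrete.colimit_rep_eq_iff_exists (stalkEtDiagram p G) (i := j)
        (j := op (⟨U, l⟩ : EtNbhd p)) _ σ).1 ((stalkEt_map_ι a p j.unop t).symm.trans hs)
      refine ⟨k.unop.1, g.unop.1, ⟨k.unop.2.1.left (IsLocalRing.closedPoint p.K : PrimeSpectrum p.K), ?_⟩,
        ⟨(stalkEtDiagram p F).map f t, ?_⟩⟩
      · rw [← hlu]
        exact congrArg (fun z => z.left (IsLocalRing.closedPoint p.K : PrimeSpectrum p.K))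
          (congrArg Subtype.val g.unop.2)
      · exact (ConcreteCategory.congr_hom (a.hom.naturality f.unop.1.op) t).trans hfg
    choose V φ hu hφ using key
    refine (etTop X.obj).superset_covering ?_ (Precoverage.generate_mem_toGrothendieck
      ((ofArrows_mem_etPre_iff V φ).2 fun u => ⟨u, hu u⟩ : Presieve.ofArrows V φ ∈ etPre X.obj U))
    rw [Sieve.generate_le_iff]
    rintro W _ ⟨u⟩
    exact hφ u

end Groth.Agent.AlgSpFin
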