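import Groth.Agent.AlgSpFin.EtNbhdCof
import Groth.Prelude.Def_AlgSpOX

/-!
Supports of sections and of sheaves on the small etale site.
-/

set_option autoImplicit false
set_option backward.isDefEq.respectTransparency.types false

universe u

open CategoryTheory CategoryTheory.Limits AlgebraicGeometry Opposite AlgSp

namespace Groth.Agent.AlgSpFin

open Groth.Agent.AlgSpLib

variable {S : Scheme.{u}} {X : Space S}

theorem exists_section_through {p : FieldPt X.obj} [IsAlgClosed p.K] {W : Over S} (q : W ⟶ p.pt) [Etale q.left]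
    (w : W.left) : ∃ s : p.pt ⟶ W, s ≫ q = 𝟙 _ ∧ s.left (IsLocalRing.closedPoint p.K : PrimeSpectrum p.K) = w := by
  let qK : W.left ⟶ Spec (CommRingCat.of p.K) := q.left
  have : Etale qK := ‹Etale q.left›
  obtain ⟨σ, hσ, hσw⟩ := exists_section_of_etale qK w
  refine ⟨Over.homMk σ ?_, Over.OverMorphism.ext hσ, hσw⟩
  show σ ≫ W.hom = p.str
  rw [← Over.w q]
  show σ ≫ qK ≫ p.str = p.str
  rw [reassoc_of% hσ]

/-- A geometric point lifts to a point of an etale chart over it. -/
theorem exists_lift_at {p : FieldPt X.obj} (hp : p.IsGeometric) (E : EtOver X.obj) (u : E.obj.left.left)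
    (hu : Points.ofPt E.obj.hom u = Points.mk p) :
    ∃ l : (FieldPt.liftsTo p).obj E, l.1.left (IsLocalRing.closedPoint p.K : PrimeSpectrum p.K) = u := by
  have : IsAlgClosed p.K := hp
  obtain ⟨W, w₁, w₂, sW⟩ := exists_isPullback E.property.1 p.toHom
  have : Etale w₂.left := prop_snd sW E.property
  let c : p.pt.left := (IsLocalRing.closedPoint p.K : PrimeSpectrum p.K)
  obtain ⟨w, hw₁, -⟩ := (ofPt_eq_iff sW u c).1 (hu.trans (Points.ofPt_toHom p c).symm)
  obtain ⟨s, hs, hsw⟩ := exists_section_through w₂ w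
  refine ⟨⟨s ≫ w₁, ?_⟩, ?_⟩
  · rw [Functor.map_comp, Category.assoc, sW.w, ← Category.assoc, ← Functor.map_comp, hs,
      CategoryTheory.Functor.map_id, Category.id_comp]
  · show w₁.left (s.left c) = u
    rw [hsw, hw₁]

/-- A lift passes through a morphism whose image contains its point. -/
theorem exists_nbhd_hom {p : FieldPt X.obj} (hp : p.IsGeometric) (N : EtNbhd p) {V : EtOver X.obj} (φ : V ⟶ N.1)
    (hv : N.2.1.left (IsLocalRing.closedPoint p.K : PrimeSpectrum p.K) ∈ Set.range (fun v => φ.hom.left.left v)) :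
    ∃ (N' : EtNbhd p) (f : N' ⟶ N) (hN : N'.1 = V), HEq f.1 φ := by
  have : IsAlgClosed p.K := hp
  obtain ⟨N, u, hu⟩ := N
  obtain ⟨v, hv⟩ := hv
  obtain ⟨W, w₁, w₂, sW⟩ : ∃ (W : Over S) (w₁ : W ⟶ p.pt) (w₂ : W ⟶ V.obj.left),
      IsPullback w₁ w₂ u φ.hom.left := ⟨_, _, _, IsPullback.of_hasPullback _ _⟩
  have : Etale φ.hom.left.left := EtOver.etale_left φ
  have : Etale w₁.left := MorphismProperty.of_isPullback (left_isPullback sW).flip this
  obtain ⟨w, -, -⟩ := Scheme.exists_preimage_of_isPullback (left_isPullback sW)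
    (IsLocalRing.closedPoint p.K : PrimeSpectrum p.K) v hv.symm
  obtain ⟨s, hs, -⟩ := exists_section_through w₁ w
  have e : (s ≫ w₂) ≫ φ.hom.left = u := by rw [Category.assoc, ← sW.w, reassoc_of% hs]
  exact ⟨⟨V, s ≫ w₂, by rw [← hu, ← e, Functor.map_comp _ (s ≫ w₂), Category.assoc, EtOver.w φ]⟩,
    CategoryOfElements.homMk _ _ φ (Subtype.ext e), rfl, HEq.rfl⟩

/-- A section of a separated presheaf vanishing locally vanishes. -/
theorem eq_zero_of_locally (F : AbEt X.obj) {V : EtOver X.obj} (σ : ↥(F.obj.obj (op V)))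
    (h : ∀ v : V.obj.left.left, ∃ (V' : EtOver X.obj) (ψ : V' ⟶ V), v ∈ Set.range (fun z => ψ.hom.left.left z) ∧
      (F.obj.map ψ.op).hom σ = 0) : σ = 0 := by
  choose V' ψ hv h0 using h
  have hcov : Presieve.ofArrows V' ψ ∈ etPre X.obj V :=
    (ofArrows_mem_etPre_iff V' ψ).2 fun v => ⟨v, hv v⟩
  have hs : Presieve.IsSheaf (etTop X.obj) (F.obj ⋙ CategoryTheory.forget AddCommGrpCat) :=
    (isSheaf_iff_isSheaf_of_type _ _).1 ((Presheaf.isSheaf_iff_isSheaf_forget _ F.obj (CategoryTheory.forget AddCommGrpCat)).1 F.property)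
  have hs' := (hs _ (Precoverage.generate_mem_toGrothendieck hcov)).isSeparatedFor
  refine Presieve.IsSeparatedFor.ext (Presieve.isSeparatedFor_iff_generate.2 hs') fun {W} g hg => ?_
  obtain ⟨v⟩ := hg
  show (F.obj.map (ψ v).op).hom σ = (F.obj.map (ψ v).op).hom 0
  rw [h0 v, map_zero]

/-- Vanishing in the stalk is vanishing on a neighbourhood. -/
theorem stalk_eq_zero_iff {p : FieldPt X.obj} (hp : p.IsGeometric) (F : AbEt X.obj) (N : EtNbhd p)
    (σ : ↥(F.obj.obj (op N.1))) :
    (stalkEtι p F N).hom σ = 0 ↔ ∃ (V : EtOver X.obj) (φ : V ⟶ N.1),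
      N.2.1.left (IsLocalRing.closedPoint p.K : PrimeSpectrum p.K) ∈ Set.range (fun v => φ.hom.left.left v) ∧
        (F.obj.map φ.op).hom σ = 0 := by
  have := isCofiltered_etNbhd X p hp
  have : PreservesFilteredColimitsOfSize.{u, u + 1} (CategoryTheory.forget AddCommGrpCat.{u + 1}) :=
    preservesFilteredColimitsOfSize_of_univLE.{u + 1, u + 1} _
  constructor
  · intro h
    obtain ⟨j, f, g, hf⟩ := (Concrete.colimit_rep_eq_iff_exists (stalkEtDiagram p F) (i := op N) (j := op N) σ 0).1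
      (h.trans (map_zero _).symm)
    replace hf := hf.trans (map_zero _)
    refine ⟨j.unop.1, f.unop.1, ?_, hf⟩
    exact ⟨j.unop.2.1.left (IsLocalRing.closedPoint p.K : PrimeSpectrum p.K),
      congrArg (fun l => l.left (IsLocalRing.closedPoint p.K : PrimeSpectrum p.K)) (congrArg Subtype.val f.unop.2)⟩
  · rintro ⟨V, φ, hv, h0⟩
    obtain ⟨N', f, rfl, hf⟩ := exists_nbhd_hom hp N φ hv
    cases hf
    have e := ConcreteCategory.congr_hom (colimit.w (stalkEtDiagram p F) f.op) σ
    refine e.symm.trans ?_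
    show (stalkEtι p F N').hom ((F.obj.map f.1.op).hom σ) = 0
    rw [h0, map_zero]

end Groth.Agent.AlgSpFin
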