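import Groth.Agent.AlgSpFin.EtSupportStmts

/-!
Supports and morphisms, subsheaves of the final object.
-/

set_option autoImplicit false
set_option backward.isDefEq.respectTransparency.types false

universe u

open CategoryTheory CategoryTheory.Limits AlgebraicGeometry Opposite AlgSp TopologicalSpace

namespace Groth.Agent.AlgSpFin

open Groth.Agent.AlgSpLib

variable {S : Scheme.{u}} {X : Space S}

/-- Supports and epimorphisms or monomorphisms of abelian sheaves. -/
theorem support_mor {F G : AbEt X.obj} (a : F ⟶ G) (x : Points X.obj) :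
    (Epi a → (∃ p : FieldPt X.obj, p.IsGeometric ∧ Points.mk p = x ∧ ¬ IsZero (stalkEt p G)) →
        ∃ p : FieldPt X.obj, p.IsGeometric ∧ Points.mk p = x ∧ ¬ IsZero (stalkEt p F)) ∧
    (Mono a → (∃ p : FieldPt X.obj, p.IsGeometric ∧ Points.mk p = x ∧ ¬ IsZero (stalkEt p F)) →
        ∃ p : FieldPt X.obj, p.IsGeometric ∧ Points.mk p = x ∧ ¬ IsZero (stalkEt p G)) := by
  refine ⟨fun _ h => ?_, fun _ h => ?_⟩
  · obtain ⟨U, σ, u, rfl, hσ⟩ := (mem_support_iff G x).1 h
    have : Sheaf.IsLocallySurjective a := (Sheaf.isLocallySurjective_iff_epi' AddCommGrpCat.{u + 1} a).2 inferInstance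
    have hsieve := Presheaf.imageSieve_mem (etTop X.obj) a.hom σ
    obtain ⟨p, hp, l, hpx, hlu⟩ := exists_geometric_over U u
    obtain ⟨R, hR, hle⟩ := Precoverage.mem_toGrothendieck_iff_of_isStableUnderComposition.1 hsieve
    obtain ⟨ι₀, V, ψ, rfl⟩ := R.exists_eq_ofArrows
    obtain ⟨i, v, hv⟩ := (ofArrows_mem_etPre_iff V ψ).1 hR u
    obtain ⟨t, ht⟩ := hle _ _ ⟨i⟩
    refine (mem_support_iff F _).2 ⟨V i, t, v, ?_, fun W φ h0 ⟨w, hw⟩ => hσ W (φ ≫ ψ i) ?_ ⟨w, ?_⟩⟩
    · rw [← EtOver.w (ψ i), ofPt_comp]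
      exact congrArg (Points.ofPt U.obj.hom) hv
    · rw [op_comp, G.obj.map_comp]
      show (G.obj.map φ.op).hom ((G.obj.map (ψ i).op).hom σ) = 0
      rw [← show (a.hom.app (op (V i))).hom t = (G.obj.map (ψ i).op).hom σ from ht]
      have e := ConcreteCategory.congr_hom (a.hom.naturality φ.op) t
      refine e.symm.trans ?_
      show (a.hom.app (op W)).hom ((F.obj.map φ.op).hom t) = 0
      rw [h0, map_zero]
    · show (ψ i).hom.left.left (φ.hom.left.left w) = u
      rw [show φ.hom.left.left w = v from hw, hv]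
  · obtain ⟨U, σ, u, rfl, hσ⟩ := (mem_support_iff F x).1 h
    refine (mem_support_iff G _).2 ⟨U, (a.hom.app (op U)).hom σ, u, rfl, fun V φ h0 => hσ V φ ?_⟩
    have : Mono (a.hom.app (op V)) := by
      have : Mono ((sheafToPresheaf _ _).map a) := inferInstance
      exact (NatTrans.mono_iff_mono_app _).1 this (op V)
    apply (AddCommGrpCat.mono_iff_injective (a.hom.app (op V))).1 this
    refine (ConcreteCategory.congr_hom (a.hom.naturality φ.op) σ).trans (h0.trans (map_zero _).symm)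

/-- Subsheaves of the final object are the open subsets of the space of points. -/
theorem existsUnique_open_of_subsingleton (F : EtSh X.obj (Type (u + 1)))
    (hF : ∀ E : EtOver X.obj, Subsingleton (F.obj.obj (op E))) :
    ∃! W : Set (Points X.obj), IsOpen W ∧
      ∀ E : EtOver X.obj, Nonempty (F.obj.obj (op E)) ↔ Set.range (Points.ofPt E.obj.hom) ⊆ W := by
  let W : Set (Points X.obj) :=
    ⋃ E : {E : EtOver X.obj // Nonempty (F.obj.obj (op E))}, Set.range (Points.ofPt E.1.obj.hom)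
  have hW : IsOpen W := isOpen_iUnion fun E => (isOpenMap_ofPt_of_etale E.1.property).isOpen_range
  have hs : Presieve.IsSheaf (etTop X.obj) F.obj := (isSheaf_iff_isSheaf_of_type _ _).1 F.property
  have hmain : ∀ E : EtOver X.obj, Nonempty (F.obj.obj (op E)) ↔ Set.range (Points.ofPt E.obj.hom) ⊆ W := by
    refine fun E => ⟨fun h => Set.subset_iUnion_of_subset ⟨E, h⟩ subset_rfl, fun h => ?_⟩
    have key : ∀ u : E.obj.left.left, ∃ (V : EtOver X.obj) (φ : V ⟶ E),
        u ∈ Set.range (fun v => φ.hom.left.left v) ∧ Nonempty (F.obj.obj (op V)) := fun u => by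
      obtain ⟨⟨E', ⟨s⟩⟩, u', hu'⟩ := Set.mem_iUnion.1 (h ⟨u, rfl⟩)
      obtain ⟨P, p₁, p₂, sP⟩ := exists_isPullback E.property.1 E'.obj.hom
      obtain ⟨z, hz₁, -⟩ := (ofPt_eq_iff sP u u').1 hu'.symm
      let V : EtOver X.obj := EtOver.mk ((yon S).map p₁ ≫ E.obj.hom)
        (repWith_yon_comp (P := @Etale) p₁ (prop_snd sP.flip E'.property) E.property)
      exact ⟨V, EtOver.homMk p₁ rfl, ⟨z, hz₁⟩, ⟨F.obj.map (EtOver.homMk p₂ sP.w.symm : V ⟶ E').op s⟩⟩
    choose V φ hu hne using key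
    have hcov : Presieve.ofArrows V φ ∈ etPre X.obj E := (ofArrows_mem_etPre_iff V φ).2 fun u => ⟨u, hu u⟩
    have hsf := Presieve.isSheafFor_iff_generate (Presieve.ofArrows V φ) |>.2
      (hs _ (Precoverage.generate_mem_toGrothendieck hcov))
    have hne' : ∀ {W : EtOver X.obj} (g : W ⟶ E), Presieve.ofArrows V φ g → Nonempty (F.obj.obj (op W)) := by
      rintro W g ⟨i⟩
      exact hne i
    let x : Presieve.FamilyOfElements F.obj (Presieve.ofArrows V φ) := fun W g hg => (hne' g hg).some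
    exact ⟨hsf.amalgamate x fun _ _ _ _ _ _ _ _ _ _ => (hF _).elim _ _⟩
  refine ⟨W, ⟨hW, hmain⟩, fun W' ⟨hW', h'⟩ => ?_⟩
  refine Set.Subset.antisymm (fun x hx => ?_) (Set.iUnion_subset fun E => (h' E.1).1 E.2)
  obtain ⟨U, a, ha, has⟩ := X.property.atlas
  obtain ⟨u, rfl⟩ := surjective_ofPt has x
  let O : U.left.Opens := ⟨Points.ofPt a ⁻¹' W', hW'.preimage (Points.continuous_ofPt a)⟩
  let o : Over.mk (O.ι ≫ U.hom) ⟶ U := Over.homMk O.ι rfl
  let E : EtOver X.obj := EtOver.mk ((yon S).map o ≫ a)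
    (repWith_yon_comp (P := @Etale) o (inferInstanceAs (Etale O.ι)) ha)
  refine Set.mem_iUnion.2 ⟨⟨E, (h' E).2 ?_⟩, ⟨u, hx⟩, ofPt_comp o a _⟩
  rintro _ ⟨z, rfl⟩
  exact (ofPt_comp o a z).symm ▸ z.2

end Groth.Agent.AlgSpFin
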