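import Groth.Agent.GenericFinite.Basic
import Mathlib.AlgebraicGeometry.Morphisms.Etale
import Mathlib.AlgebraicGeometry.IdealSheaf.Subscheme

/-!
Separated etale schemes with finite fibres over Noetherian schemes are quasi-compact.
-/

set_option autoImplicit false
set_option backward.isDefEq.respectTransparency.types false

universe u

open CategoryTheory CategoryTheory.Limits AlgebraicGeometry TopologicalSpace

namespace Groth.Agent.AlgSpFin

/-- Near a maximal point the preimage is quasi-compact. -/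
theorem exists_compact_preimage_nhd {R A : Scheme.{u}} (s : R ⟶ A) [Etale s] [IsSeparated s] [IsNoetherian A]
    (hfin : ∀ a, (s ⁻¹' {a}).Finite) (η : A) (hmax : ∀ a : A, a ⤳ η → a = η) :
    ∃ N : A.Opens, η ∈ N ∧ IsCompact (s ⁻¹' (N : Set A)) := by
  choose B hB hrB _ using fun r : R => exists_isAffineOpen_mem_and_subset (X := R) (U := ⊤) (x := r) trivial
  let V : R.Opens := ⟨⋃ r ∈ (hfin η).toFinset, (B r : Set R), isOpen_biUnion fun r _ => (B r).2⟩
  have hVc : IsCompact (V : Set R) := (hfin η).toFinset.isCompact_biUnion fun r _ => (hB r).isCompact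
  have hηV : ∀ r, s r = η → r ∈ V := fun r hr =>
    Set.mem_biUnion ((hfin η).mem_toFinset.2 hr) (hrB r)
  have : CompactSpace V.toScheme := isCompact_iff_compactSpace.1 hVc
  let g := V.ι ≫ s
  have : QuasiCompact g := by
    have : QuasiCompact (terminal.from V.toScheme) :=
      (HasAffineProperty.iff_of_isAffine (P := @QuasiCompact)).2 ‹CompactSpace V.toScheme›
    have : QuasiCompact (g ≫ terminal.from A) := by rwa [Subsingleton.elim (g ≫ terminal.from A) (terminal.from _)]
    exact QuasiCompact.of_comp g (terminal.from A)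
  have hηc := GenericFinite.mem_components_of_forall hmax
  have hgfin : (g ⁻¹' {η}).Finite :=
    ((hfin η).preimage (fun _ _ _ _ h => V.ι.isOpenEmbedding.injective h)).subset fun z hz => hz
  obtain ⟨N₁, -, hN₁, hf⟩ := (GenericFinite.finite_preimage_iff g η hηc).1 hgfin
  let C := irreducibleComponents A \ {closure {η}}
  have hCf : C.Finite := NoetherianSpace.finite_irreducibleComponents.sdiff
  have hCc : IsClosed (⋃₀ C) := by
    rw [Set.sUnion_eq_biUnion]
    exact hCf.isClosed_biUnion fun Z hZ => isClosed_of_mem_irreducibleComponents Z hZ.1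
  let N : A.Opens := N₁ ⊓ ⟨(⋃₀ C)ᶜ, hCc.isOpen_compl⟩
  have hηN : η ∈ N := by
    refine ⟨hN₁, ?_⟩
    rintro ⟨Z, ⟨hZ, hne⟩, hηZ⟩
    obtain ⟨z, hz⟩ := QuasiSober.sober hZ.1 (isClosed_of_mem_irreducibleComponents Z hZ)
    have := hmax z (hz.specializes hηZ)
    exact hne (hz.def.symm.trans (by rw [this]))
  have hN : ∀ y ∈ N, η ⤳ y := fun y hy => by
    by_contra h
    refine hy.2 ⟨irreducibleComponent y, ⟨irreducibleComponent_mem_irreducibleComponents y, fun e => h ?_⟩,
      mem_irreducibleComponent⟩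
    exact specializes_iff_mem_closure.2 ((show irreducibleComponent y = closure {η} from e) ▸ mem_irreducibleComponent)
  have hfN : IsFinite (g ∣_ N) := GenericFinite.isFinite_restrict_of_le g inf_le_left hf
  refine ⟨N, hηN, ?_⟩
  have hsub : s ⁻¹' (N : Set A) ⊆ V := by
    by_contra hne
    obtain ⟨r, hr, hrV⟩ := Set.not_subset.1 hne
    -- the part of the preimage outside `V` is open
    let m : (g ⁻¹ᵁ N).toScheme ⟶ (s ⁻¹ᵁ N).toScheme :=
      IsOpenImmersion.lift (s ⁻¹ᵁ N).ι ((g ⁻¹ᵁ N).ι ≫ V.ι) (by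
        rw [Scheme.Opens.range_ι]
        rintro _ ⟨z, rfl⟩
        exact z.2)
    have hm : m ≫ (s ⁻¹ᵁ N).ι = (g ⁻¹ᵁ N).ι ≫ V.ι := IsOpenImmersion.lift_fac _ _ _
    have hms : m ≫ (s ∣_ N) = g ∣_ N := by
      rw [← cancel_mono N.ι, Category.assoc, morphismRestrict_ι, morphismRestrict_ι, ← Category.assoc, hm,
        Category.assoc]
    have : IsFinite (m ≫ (s ∣_ N)) := hms ▸ hfN
    have : IsSeparated (s ∣_ N) := IsZariskiLocalAtTarget.restrict ‹_› _
    have : IsFinite m := IsFinite.of_comp m (s ∣_ N)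
    have hcl := m.isClosedMap.isClosed_range
    let O : Set R := (s ⁻¹ᵁ N).ι '' (Set.range m)ᶜ
    have hO : IsOpen O := (s ⁻¹ᵁ N).ι.isOpenEmbedding.isOpenMap _ hcl.isOpen_compl
    have hrO : r ∈ O := ⟨⟨r, hr⟩, fun ⟨z, hz⟩ => hrV (by
      have h2 := congrArg (s ⁻¹ᵁ N).ι hz
      rw [← Scheme.Hom.comp_apply, hm, Scheme.Hom.comp_apply] at h2
      exact (show r = _ from h2.symm) ▸ ((g ⁻¹ᵁ N).ι z).2), rfl⟩
    have hη : η ∈ s '' O := (hN (s r) hr).mem_open (s.isOpenMap _ hO) ⟨r, hrO, rfl⟩
    obtain ⟨_, ⟨⟨r', hr'⟩, hnot, rfl⟩, hr'η⟩ := hη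
    refine hnot ⟨⟨⟨r', hηV r' hr'η⟩, hr'⟩, (s ⁻¹ᵁ N).ι.isOpenEmbedding.injective ?_⟩
    rw [← Scheme.Hom.comp_apply, hm]
    rfl
  have hc := g.isCompact_preimage (NoetherianSpace.isCompact (N : Set A))
  have hc' := hc.image V.ι.continuous
  convert hc'
  ext x
  exact ⟨fun hx => ⟨⟨x, hsub hx⟩, hx, rfl⟩, fun ⟨z, hz, e⟩ => e ▸ hz⟩

/-- A separated etale scheme with finite fibres over a Noetherian scheme is quasi-compact. -/
theorem compactSpace_of_etale_finite_fibres {R A : Scheme.{u}} (s : R ⟶ A) [Etale s] [IsSeparated s] [IsNoetherian A]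
    (hfin : ∀ a, (s ⁻¹' {a}).Finite) : CompactSpace R := by
  suffices ∀ Z : Closeds A, IsCompact (s ⁻¹' (Z : Set A)) from ⟨by simpa using this ⊤⟩
  intro Z
  induction Z using WellFoundedLT.induction with
  | _ Z ih =>
    rcases (Z : Set A).eq_empty_or_nonempty with h | ⟨z, hz⟩
    · rw [h, Set.preimage_empty]
      exact isCompact_empty
    let I := Scheme.IdealSheafData.vanishingIdeal Z
    have : IsClosedImmersion I.subschemeι := inferInstance
    have hr : Set.range I.subschemeι = Z := by
      rw [Scheme.IdealSheafData.range_subschemeι]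
      exact Scheme.IdealSheafData.coe_support_vanishingIdeal _
    have : IsNoetherian I.subscheme := by
      have : IsLocallyNoetherian I.subscheme := LocallyOfFiniteType.isLocallyNoetherian I.subschemeι
      have : CompactSpace I.subscheme := QuasiCompact.compactSpace_of_compactSpace I.subschemeι
      exact { }
    obtain ⟨z', rfl⟩ : z ∈ Set.range I.subschemeι := hr.symm ▸ hz
    obtain ⟨η, hη, hmax⟩ : ∃ η : I.subscheme, η ⤳ z' ∧ ∀ a, a ⤳ η → a = η := by
      obtain ⟨η, hη⟩ := QuasiSober.sober (isIrreducible_irreducibleComponent (x := z')) isClosed_irreducibleComponent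
      refine ⟨η, hη.specializes mem_irreducibleComponent, fun a ha => GenericFinite.eq_of_specializes ?_ ha⟩
      rw [hη.def]
      exact irreducibleComponent_mem_irreducibleComponents z'
    let s' := pullback.snd s I.subschemeι
    have : Etale s' := MorphismProperty.pullback_snd _ _ ‹_›
    have : IsSeparated s' := MorphismProperty.pullback_snd _ _ ‹_›
    have hinj : Function.Injective (pullback.fst s I.subschemeι) :=
      (pullback.fst s I.subschemeι).isClosedEmbedding.injective
    obtain ⟨N, hηN, hNc⟩ := exists_compact_preimage_nhd s' (fun a => by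
      refine ((hfin (I.subschemeι a)).preimage hinj.injOn).subset fun p (hp : s' p = a) => ?_
      show s (pullback.fst s I.subschemeι p) = _
      rw [← Scheme.Hom.comp_apply, pullback.condition, Scheme.Hom.comp_apply]
      exact congrArg _ hp) η hmax
    have hcl : IsClosed (I.subschemeι '' (N : Set I.subscheme)ᶜ) :=
      I.subschemeι.isClosedEmbedding.isClosedMap _ N.2.isClosed_compl
    let Z' : Closeds A := ⟨_, hcl⟩
    have hlt : Z' < Z := by
      refine lt_of_le_of_ne ?_ fun e => ?_
      · rintro _ ⟨y, -, rfl⟩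
        show I.subschemeι y ∈ (Z : Set A)
        rw [← hr]
        exact ⟨y, rfl⟩
      · have : I.subschemeι η ∈ (Z' : Set A) := e ▸ hr ▸ ⟨η, rfl⟩
        obtain ⟨y, hy, he⟩ := this
        exact hy (I.subschemeι.isClosedEmbedding.injective he ▸ hηN)
    have h := (hNc.image (pullback.fst s I.subschemeι).continuous).union (ih Z' hlt)
    convert h using 1
    ext x
    constructor
    · intro hx
      obtain ⟨y, hy⟩ : s x ∈ Set.range I.subschemeι := hr.symm ▸ hx
      by_cases hyN : y ∈ N
      · obtain ⟨p, hp, hp'⟩ := Scheme.Pullback.exists_preimage_pullback x y hy.symm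
        exact Or.inl ⟨p, (show s' p ∈ N from hp' ▸ hyN), hp⟩
      · exact Or.inr ⟨y, hyN, hy⟩
    · rintro (⟨p, -, rfl⟩ | ⟨y, -, hy⟩)
      · show s (pullback.fst s I.subschemeι p) ∈ (Z : Set A)
        rw [← hr, ← Scheme.Hom.comp_apply, pullback.condition, Scheme.Hom.comp_apply]
        exact ⟨_, rfl⟩
      · exact hr ▸ ⟨y, hy⟩

end Groth.Agent.AlgSpFin
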