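import Groth.Agent.AlgSpFin.DecentTopo
import Groth.Agent.AlgSpFin.CodimZero
import Groth.Agent.AlgSpFin.Decent
import Groth.Agent.GeomUnib.SectionBaseChange
import Groth.Agent.GeomUnib.SectionRestrict

/-!
Local dimensions along etale morphisms of schemes.
-/

set_option autoImplicit false
set_option backward.isDefEq.respectTransparency.types false

universe u

open CategoryTheory CategoryTheory.Limits AlgebraicGeometry Opposite AlgSp

namespace Groth.Agent.AlgSpFin

open Groth.Agent.AlgSpLib

/-- Etale morphisms preserve the local dimension. -/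
theorem localDim_of_etale {A B : Scheme.{u}} (e : A ⟶ B) [Etale e] (z : A) :
    FlatMor.localDim A z = FlatMor.localDim B (e z) := by
  let T : Over B := Over.mk (𝟙 B)
  let T' : Over B := Over.mk e
  let k : T' ⟶ T := Over.homMk e (Category.comp_id e)
  have hk : RepWith @Etale ((yon B).map k) := (repWith_yon_map_iff @Etale k).2 ‹Etale e›
  have h₁ := localDim_eq_of_isDecent (IsAlgSpace.yon_obj T) (isDecent_yon T) hk (z : T'.left)
  have h₂ := localDim_eq_of_isDecent (IsAlgSpace.yon_obj T) (isDecent_yon T) (a := 𝟙 _) (repWith_id _ T)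
    (e z : T.left)
  rw [← Category.comp_id ((yon B).map k), ofPt_comp] at h₁
  exact h₁.trans h₂.symm

/-- Etale morphisms preserve the dimension of local rings. -/
theorem stalkDim_of_etale {A B : Scheme.{u}} (e : A ⟶ B) [Etale e] (z : A) :
    ringKrullDim ↥(A.presheaf.stalk z) = ringKrullDim ↥(B.presheaf.stalk (e z)) := by
  have : LocallyQuasiFinite e := locallyQuasiFinite_of_formallyUnramified e
  rw [ringKrullDim_stalk_eq_coheight, ringKrullDim_stalk_eq_coheight]
  refine congrArg _ (le_antisymm (Order.coheight_le_coheight_apply_of_strictMono e ?_ z) ?_)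
  · intro a c hac
    have hs : c ⤳ a := Scheme.le_iff_specializes.1 hac.le
    have hec : e c ⤳ e a := hs.map e.continuous
    refine lt_of_le_not_ge (Scheme.le_iff_specializes.2 hec) fun h => hac.not_ge ?_
    have heq : e c = e a := (hec.antisymm (Scheme.le_iff_specializes.1 h)).eq
    have : DiscreteTopology (e ⁻¹' {e a}) := (e.isDiscrete_preimage_singleton (e a)).to_subtype
    have h1 : (⟨c, heq⟩ : e ⁻¹' {e a}) ⤳ ⟨a, rfl⟩ := (subtype_specializes_iff _ _).2 hs
    exact le_of_eq (congrArg Subtype.val (specializes_iff_eq.1 h1))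
  · refine Order.coheight_le fun p hp => ?_
    obtain ⟨n, hn⟩ : ∃ n, p.length = n := ⟨_, rfl⟩
    rw [hn]
    induction n generalizing p z with
    | zero => exact bot_le
    | succ n ih =>
      have hne : p.length ≠ 0 := by omega
      let y := (p.tail hne).head
      have hy : e z < y := by
        rw [← hp]
        exact p.strictMono (show (0 : Fin (p.length + 1)) < _ by simp [Fin.lt_def])
      obtain ⟨z', hz', hzy⟩ := Flat.generalizingMap e (Scheme.le_iff_specializes.1 hy.le)
      have hlt : z < z' := lt_of_le_not_ge (Scheme.le_iff_specializes.2 hz') fun h => hy.not_ge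
        (Scheme.le_iff_specializes.2 (hzy ▸ (Scheme.le_iff_specializes.1 h).map e.continuous))
      push_cast
      refine le_trans ?_ (Order.coheight_add_one_le hlt)
      gcongr
      exact ih z' (p.tail hne) hzy.symm (by simp [RelSeries.tail_length, hn])

/-- The fibre dimension only depends on the etale germ at the source. -/
theorem fibreDimAt_etale_comp {A B C : Scheme.{u}} (e : A ⟶ B) [Etale e] (h : B ⟶ C) (z : A) :
    FlatMor.fibreDimAt (e ≫ h) z = FlatMor.fibreDimAt h (e z) := by
  have key : ∀ {c : C} (a : (e ≫ h).fiber c) (b : h.fiber c), e ((e ≫ h).fiberι c a) = h.fiberι c b →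
      FlatMor.localDim ((e ≫ h).fiber c) a = FlatMor.localDim (h.fiber c) b := by
    intro c a b hab
    obtain ⟨m, hm, hsq⟩ : ∃ m : (e ≫ h).fiber c ⟶ h.fiber c, m ≫ h.fiberι c = (e ≫ h).fiberι c ≫ e ∧
        IsPullback m ((e ≫ h).fiberι c) (h.fiberι c) e := by
      let m : (e ≫ h).fiber c ⟶ h.fiber c := pullback.lift ((e ≫ h).fiberι c ≫ e) ((e ≫ h).fiberToSpecResidueField c)
        (by rw [Category.assoc]; exact (e ≫ h).fiber_fac c)
      have hm : m ≫ h.fiberι c = (e ≫ h).fiberι c ≫ e := pullback.lift_fst _ _ _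
      refine ⟨m, hm, (IsPullback.of_bot (v₂₁ := h.fiberToSpecResidueField c) ?_ hm.symm
        (IsPullback.of_hasPullback h (C.fromSpecResidueField c))).flip⟩
      rw [show m ≫ h.fiberToSpecResidueField c = (e ≫ h).fiberToSpecResidueField c from pullback.lift_snd _ _ _]
      exact IsPullback.of_hasPullback _ _
    have : Etale m := MorphismProperty.of_isPullback (P := @Etale) hsq.flip ‹_›
    obtain rfl : m a = b := (h.fiberι c).isEmbedding.injective (by
      rw [← Scheme.Hom.comp_apply, hm, Scheme.Hom.comp_apply, hab])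
    exact localDim_of_etale m a
  exact key ((e ≫ h).asFiber z) (h.asFiber (e z))
    ((congrArg e ((e ≫ h).fiberι_asFiber z)).trans (h.fiberι_asFiber (e z)).symm)

/-- The local dimension of an open subspace. -/
theorem localDim_of_isOpenEmbedding {A B : Type*} [TopologicalSpace A] [TopologicalSpace B] {i : A → B}
    (hi : Topology.IsOpenEmbedding i) (x : A) : FlatMor.localDim A x = FlatMor.localDim B (i x) := by
  refine le_antisymm (FibreDim.le_localDim fun O hO hx => ?_) (FibreDim.le_localDim fun O hO hx => ?_)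
  · refine (FibreDim.localDim_le (hO.preimage hi.continuous) hx).trans ?_
    rw [← FibreDim.dim_image hi.isEmbedding]
    exact FibreDim.dim_mono (Set.image_preimage_subset _ _)
  · refine (FibreDim.localDim_le (hi.isOpenMap _ hO) ⟨x, hx, rfl⟩).trans ?_
    rw [FibreDim.dim_image hi.isEmbedding]

/-- The fibre dimension computed on the set-theoretic fibre. -/
theorem fibreDimAt_eq_set {A B : Scheme.{u}} (h : A ⟶ B) (x : A) :
    FlatMor.fibreDimAt h x = FlatMor.localDim ↥(h.base ⁻¹' {h.base x}) ⟨x, rfl⟩ := by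
  have e : h.fiberHomeo (h x) (h.asFiber x) = ⟨x, rfl⟩ := Subtype.ext (h.fiberι_asFiber x)
  show FlatMor.localDim (h.fiber (h x)) (h.asFiber x) = _
  rw [FibreDim.localDim_homeo (h.fiberHomeo (h x)), e]

/-- The fibre dimension only depends on the etale germ at the target. -/
theorem fibreDimAt_comp_etale {A B C : Scheme.{u}} (k : A ⟶ B) (q : B ⟶ C) [Etale q] (z : A) :
    FlatMor.fibreDimAt (k ≫ q) z = FlatMor.fibreDimAt k z := by
  have : LocallyQuasiFinite q := locallyQuasiFinite_of_formallyUnramified q
  have hd : DiscreteTopology (q ⁻¹' {q (k z)}) := (q.isDiscrete_preimage_singleton (q (k z))).to_subtype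
  have hsub : k.base ⁻¹' {k.base z} ⊆ (k ≫ q).base ⁻¹' {(k ≫ q).base z} := fun a (ha : k a = k z) => by
    show (k ≫ q) a = (k ≫ q) z
    rw [Scheme.Hom.comp_apply, Scheme.Hom.comp_apply, ha]
  let f : ↥((k ≫ q).base ⁻¹' {(k ≫ q).base z}) → ↥(q ⁻¹' {q (k z)}) := fun a =>
    ⟨k a.1, show q (k a.1) = q (k z) by rw [← Scheme.Hom.comp_apply, ← Scheme.Hom.comp_apply]; exact a.2⟩
  have hf : Continuous f := (k.continuous.comp continuous_subtype_val).subtype_mk _
  have he : Topology.IsOpenEmbedding (Set.inclusion hsub) := by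
    refine ⟨Topology.IsEmbedding.inclusion hsub, ?_⟩
    convert (isOpen_discrete ({f ⟨z, rfl⟩} : Set ↥(q ⁻¹' {q (k z)}))).preimage hf using 1
    ext a
    exact ⟨fun ⟨c, hc⟩ => Subtype.ext (show k a.1 = k z by rw [← hc]; exact c.2),
      fun e => ⟨⟨a.1, congrArg Subtype.val (show f a = f ⟨z, rfl⟩ from e)⟩, rfl⟩⟩
  rw [fibreDimAt_eq_set, fibreDimAt_eq_set, localDim_of_isOpenEmbedding he]

end Groth.Agent.AlgSpFin
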