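import Groth.Agent.AlgSpLib.EtaleMono
import Groth.Agent.AlgSpPts.Basic

/-!
Etale universally injective morphisms of algebraic spaces are open immersions.
-/

set_option autoImplicit false
set_option backward.isDefEq.respectTransparency.types false

universe u

open CategoryTheory CategoryTheory.Limits AlgebraicGeometry Opposite AlgSp

namespace Groth.Agent.AlgSpFin

open Groth.Agent.AlgSpLib

variable {S : Scheme.{u}}

/-- An etale universally injective morphism is an open immersion. -/
theorem repWith_isOpenImmersion_of_etale_univInjective {X Y : Sp S} (hX : IsAlgSpace X) (hY : IsAlgSpace Y) (f : X ⟶ Y)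
    (het : IsEtaleMor f) (hinj : IsUnivInjectiveMor f) : RepWith @IsOpenImmersion f := by
  have he := (isEtaleMor_iff_locP hY).1 het
  have hP := isAlgSpace_pullback f f hX hX hY
  have hfst : LocP @Etale (pullback.fst f f) :=
    locP_baseChange hX hY hX (IsPullback.of_hasPullback f f).flip he
  have hd : LocP @Etale (pullback.diagonal f) := by
    refine locP_of_comp (Q := @Etale) hX hP hX ?_ hfst fun A B C k m hk hm => ?_
    · rw [pullback.diagonal_fst]
      exact (isEtaleMor_iff_locP hX).1 (isEtaleMor_of_repWith (repWith_iso (𝟙 X)))
    · have : Etale (k ≫ m) := hk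
      have : Etale m := hm
      exact Etale.of_comp k m
  have hs : UnivSp IsSurjectiveMor (pullback.diagonal f) := fun Z Z' _ g fst snd sq =>
    surjective_snd sq (AlgSpPts.surjective_diagonal_of_injective (AlgSpPts.injective_of_isUnivInjectiveMor hX hinj))
  have : IsIso (pullback.diagonal f) := isIso_of_etale_mono_surjective hX hP _ hd hs
  have : Mono f := (pullback.isIso_diagonal_iff f).1 this
  exact repWith_isOpenImmersion_of_etale_mono hX hY f he

end Groth.Agent.AlgSpFin
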