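import Groth.Agent.AlgSpFin.ResTrdeg
import Groth.Agent.FlatDescent.Scheme
import Mathlib.RingTheory.Ideal.KrullsHeightTheorem
import Mathlib.RingTheory.Ideal.GoingDown
import Groth.Prelude.Def_AlgSpMor5

/-!
The fibre dimension of a composition.
-/

set_option autoImplicit false
set_option backward.isDefEq.respectTransparency.types false

universe u

open CategoryTheory CategoryTheory.Limits AlgebraicGeometry

namespace Groth.Agent.AlgSpFin

/-- Going down passes to quotients. -/
theorem hasGoingDown_quotient {R S : Type u} [CommRing R] [CommRing S] [Algebra R S] [Algebra.HasGoingDown R S]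
    (J : Ideal R) : Algebra.HasGoingDown (R ⧸ J) (S ⧸ J.map (algebraMap R S)) where
  exists_ideal_le_liesOver_of_lt {p} _ Q _ hlt := by
    let p' := p.comap (Ideal.Quotient.mk J)
    let Q' := Q.comap (Ideal.Quotient.mk (J.map (algebraMap R S)))
    have hle : p' ≤ Q'.under R := fun r hr => hlt.le hr
    obtain ⟨P, hP, hPp, hPo⟩ := Ideal.exists_ideal_le_liesOver_of_le (p := p') (q := Q'.under R) Q' hle
    have hJ : J.map (algebraMap R S) ≤ P := by
      rw [Ideal.map_le_iff_le_comap]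
      intro r hr
      have : r ∈ p' := by
        show Ideal.Quotient.mk J r ∈ p
        rw [Ideal.Quotient.eq_zero_iff_mem.2 hr]; exact p.zero_mem
      rw [hPo.over] at this
      exact this
    refine ⟨P.map (Ideal.Quotient.mk (J.map (algebraMap R S))), ?_,
      Ideal.map_isPrime_of_surjective Ideal.Quotient.mk_surjective (by rw [Ideal.mk_ker]; exact hJ), ⟨?_⟩⟩
    · exact (Ideal.map_mono hP).trans Ideal.map_comap_le
    · ext r
      obtain ⟨r, rfl⟩ := Ideal.Quotient.mk_surjective r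
      show r ∈ p' ↔ Ideal.Quotient.mk (J.map (algebraMap R S)) (algebraMap R S r) ∈ P.map _
      rw [← Ideal.mem_comap, Ideal.comap_map_of_surjective _ Ideal.Quotient.mk_surjective, ← RingHom.ker_eq_comap_bot,
        Ideal.mk_ker, sup_eq_left.2 hJ, hPo.over]
      rfl

/-- The dimension inequality for local homomorphisms of Noetherian local rings, with equality under going down. -/
theorem ringKrullDim_local_le {A B : Type u} [CommRing A] [CommRing B] [Algebra A B] [IsLocalRing A] [IsLocalRing B]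
    [IsLocalHom (algebraMap A B)] [IsNoetherianRing A] [IsNoetherianRing B] :
    ringKrullDim B ≤ ringKrullDim A + ringKrullDim (B ⧸ (IsLocalRing.maximalIdeal A).map (algebraMap A B)) ∧
      (Algebra.HasGoingDown A B → ringKrullDim B =
        ringKrullDim A + ringKrullDim (B ⧸ (IsLocalRing.maximalIdeal A).map (algebraMap A B))) := by
  let p := IsLocalRing.maximalIdeal A
  let P := IsLocalRing.maximalIdeal B
  have hle : p.map (algebraMap A B) ≤ P :=
    Ideal.map_le_iff_le_comap.2 (IsLocalRing.maximalIdeal_comap (algebraMap A B)).ge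
  have : P.LiesOver p := ⟨(IsLocalRing.maximalIdeal_comap (algebraMap A B)).symm⟩
  have : Nontrivial (B ⧸ p.map (algebraMap A B)) :=
    Ideal.Quotient.nontrivial_iff.2 fun h => (IsLocalRing.maximalIdeal.isMaximal B).ne_top (top_le_iff.1 (h ▸ hle))
  have : IsLocalRing (B ⧸ p.map (algebraMap A B)) :=
    IsLocalRing.of_surjective' _ Ideal.Quotient.mk_surjective
  have hmax : P.map (Ideal.Quotient.mk (p.map (algebraMap A B))) = IsLocalRing.maximalIdeal _ := by
    refine IsLocalRing.eq_maximalIdeal ?_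
    refine (Ideal.map_eq_top_or_isMaximal_of_surjective _ Ideal.Quotient.mk_surjective
      (IsLocalRing.maximalIdeal.isMaximal B)).resolve_left fun h => ?_
    have := congrArg (Ideal.comap (Ideal.Quotient.mk (p.map (algebraMap A B)))) h
    rw [Ideal.comap_map_of_surjective _ Ideal.Quotient.mk_surjective, ← RingHom.ker_eq_comap_bot, Ideal.mk_ker,
      sup_eq_left.2 hle, Ideal.comap_top] at this
    exact (IsLocalRing.maximalIdeal.isMaximal B).ne_top this
  rw [← IsLocalRing.maximalIdeal_height_eq_ringKrullDim (R := B), ← IsLocalRing.maximalIdeal_height_eq_ringKrullDim (R := A),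
    ← IsLocalRing.maximalIdeal_height_eq_ringKrullDim (R := B ⧸ p.map (algebraMap A B)), ← hmax, ← WithBot.coe_add]
  exact ⟨WithBot.coe_le_coe.2 (Ideal.height_le_height_add_of_liesOver p P),
    fun h => congrArg _ (Ideal.height_eq_height_add_of_liesOver_of_hasGoingDown p P)⟩

/-- The same over a quotient of the base. -/
theorem ringKrullDim_quotient_le {R S : Type u} [CommRing R] [CommRing S] [Algebra R S] [IsLocalRing R] [IsLocalRing S]
    [IsLocalHom (algebraMap R S)] (J : Ideal R) (hJ : J ≠ ⊤) [IsNoetherianRing (R ⧸ J)]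
    [IsNoetherianRing (S ⧸ J.map (algebraMap R S))] :
    ringKrullDim (S ⧸ J.map (algebraMap R S)) ≤
        ringKrullDim (R ⧸ J) + ringKrullDim (S ⧸ (IsLocalRing.maximalIdeal R).map (algebraMap R S)) ∧
      (Module.Flat R S → ringKrullDim (S ⧸ J.map (algebraMap R S)) =
        ringKrullDim (R ⧸ J) + ringKrullDim (S ⧸ (IsLocalRing.maximalIdeal R).map (algebraMap R S))) := by
  have : Nontrivial (R ⧸ J) := Ideal.Quotient.nontrivial_iff.2 hJ
  have : IsLocalRing (R ⧸ J) := IsLocalRing.of_surjective' _ Ideal.Quotient.mk_surjective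
  have hJm : J.map (algebraMap R S) ≤ IsLocalRing.maximalIdeal S :=
    (Ideal.map_mono (IsLocalRing.le_maximalIdeal hJ)).trans
      (Ideal.map_le_iff_le_comap.2 (IsLocalRing.maximalIdeal_comap (algebraMap R S)).ge)
  have : Nontrivial (S ⧸ J.map (algebraMap R S)) := Ideal.Quotient.nontrivial_iff.2 fun h =>
    (IsLocalRing.maximalIdeal.isMaximal S).ne_top (top_le_iff.1 (h ▸ hJm))
  have : IsLocalRing (S ⧸ J.map (algebraMap R S)) := IsLocalRing.of_surjective' _ Ideal.Quotient.mk_surjective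
  have hsA : IsLocalHom (Ideal.Quotient.mk J) := IsLocalHom.of_surjective _ Ideal.Quotient.mk_surjective
  have hsB : IsLocalHom (Ideal.Quotient.mk (J.map (algebraMap R S))) := IsLocalHom.of_surjective _ Ideal.Quotient.mk_surjective
  have : IsLocalHom (algebraMap (R ⧸ J) (S ⧸ J.map (algebraMap R S))) := ⟨fun a ha => by
    obtain ⟨r, rfl⟩ := Ideal.Quotient.mk_surjective a
    have h1 : IsUnit (algebraMap R S r) :=
      IsUnit.of_map (Ideal.Quotient.mk (J.map (algebraMap R S))) _ ha
    exact (IsUnit.of_map (algebraMap R S) r h1).map _⟩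
  have e : ringKrullDim ((S ⧸ J.map (algebraMap R S)) ⧸
      (IsLocalRing.maximalIdeal (R ⧸ J)).map (algebraMap (R ⧸ J) (S ⧸ J.map (algebraMap R S)))) =
      ringKrullDim (S ⧸ (IsLocalRing.maximalIdeal R).map (algebraMap R S)) := by
    have hm : (IsLocalRing.maximalIdeal (R ⧸ J)).map (algebraMap (R ⧸ J) (S ⧸ J.map (algebraMap R S))) =
        ((IsLocalRing.maximalIdeal R).map (algebraMap R S)).map (Ideal.Quotient.mk (J.map (algebraMap R S))) := by
      rw [← IsLocalRing.maximalIdeal_comap (Ideal.Quotient.mk J), Ideal.map_map]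
      conv_lhs => rw [← Ideal.map_comap_of_surjective (Ideal.Quotient.mk J) Ideal.Quotient.mk_surjective
        (IsLocalRing.maximalIdeal (R ⧸ J)), Ideal.map_map]
      rfl
    rw [hm]
    exact ringKrullDim_eq_of_ringEquiv ((DoubleQuot.quotQuotEquivQuotSup _ _).trans (Ideal.quotEquivOfEq
      (sup_eq_right.2 (Ideal.map_mono (IsLocalRing.le_maximalIdeal hJ)))))
  obtain ⟨h₁, h₂⟩ := ringKrullDim_local_le (A := R ⧸ J) (B := S ⧸ J.map (algebraMap R S))
  rw [e] at h₁ h₂
  exact ⟨h₁, fun hf => h₂ (hasGoingDown_quotient J)⟩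

/-- The fibre local ring as a quotient. -/
theorem ringKrullDim_fibre_stalk {Y S : Scheme.{u}} (g : Y ⟶ S) [LocallyOfFiniteType g] (y : Y) :
    ringKrullDim ↥((g.fiber (g y)).presheaf.stalk (g.asFiber y)) =
        ringKrullDim (Y.presheaf.stalk y ⧸ Groth.FlatDescent.maxExt g y) ∧
      IsNoetherianRing (Y.presheaf.stalk y ⧸ Groth.FlatDescent.maxExt g y) ∧
      Groth.FlatDescent.maxExt g y ≠ ⊤ := by
  have : LocallyOfFiniteType (g.fiberToSpecResidueField (g y)) := MorphismProperty.pullback_snd _ _ ‹_›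
  have : IsLocallyNoetherian (g.fiber (g y)) :=
    LocallyOfFiniteType.isLocallyNoetherian (g.fiberToSpecResidueField (g y))
  suffices h : ∀ (s : S) (z : g.fiber s),
      ringKrullDim ↥((g.fiber s).presheaf.stalk z) =
          ringKrullDim (Y.presheaf.stalk (g.fiberι s z) ⧸ Groth.FlatDescent.maxExt g (g.fiberι s z)) ∧
        (IsNoetherianRing ↥((g.fiber s).presheaf.stalk z) →
          IsNoetherianRing (Y.presheaf.stalk (g.fiberι s z) ⧸ Groth.FlatDescent.maxExt g (g.fiberι s z))) ∧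
        Groth.FlatDescent.maxExt g (g.fiberι s z) ≠ ⊤ by
    obtain ⟨h1, h2, h3⟩ := h (g y) (g.asFiber y)
    replace h2 := h2 inferInstance
    rw [g.fiberι_asFiber] at h1 h2 h3
    exact ⟨h1, h2, h3⟩
  intro s z
  let e : (Y.presheaf.stalk (g.fiberι s z) ⧸ Groth.FlatDescent.maxExt g (g.fiberι s z)) ≃+*
      (g.fiber s).presheaf.stalk z :=
    (Ideal.quotEquivOfEq (Groth.FlatDescent.ker_stalkMap_fiberι g s z).symm).trans
      (RingHom.quotientKerEquivOfSurjective ((g.fiberι s).stalkMap_surjective z))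
  exact ⟨(ringKrullDim_eq_of_ringEquiv e).symm, fun _ => isNoetherianRing_of_ringEquiv _ e.symm,
    fun h => (Ideal.Quotient.nontrivial_iff.1 e.toEquiv.nontrivial) h⟩

/-- The fibre dimension of a composition is at most the sum, with equality for a flat first morphism. -/
theorem fibreDimAt_comp {X Y S : Scheme.{u}} (f : X ⟶ Y) (g : Y ⟶ S) [LocallyOfFiniteType f]
    [LocallyOfFiniteType g] (x : X) :
    FlatMor.fibreDimAt (f ≫ g) x ≤ FlatMor.fibreDimAt f x + FlatMor.fibreDimAt g (f x) ∧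
      ((f.stalkMap x).hom.Flat →
        FlatMor.fibreDimAt (f ≫ g) x = FlatMor.fibreDimAt f x + FlatMor.fibreDimAt g (f x)) := by
  obtain ⟨n₃, t₃, d₃, -⟩ := exists_fibreDimAt_eq_stalk_add (f ≫ g) x
  obtain ⟨n₂, t₂, d₂, -⟩ := exists_fibreDimAt_eq_stalk_add g (f x)
  obtain ⟨n₁, t₁, d₁, -⟩ := exists_fibreDimAt_eq_stalk_add f x
  have hn : n₃ = n₂ + n₁ := by
    rw [resTrdeg_comp, t₁, t₂, ← Nat.cast_add] at t₃
    exact (Nat.cast_inj.1 t₃).symm
  obtain ⟨e₃, N₃, -⟩ := ringKrullDim_fibre_stalk (f ≫ g) x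
  obtain ⟨e₂, N₂, hJ⟩ := ringKrullDim_fibre_stalk g (f x)
  obtain ⟨e₁, -, -⟩ := ringKrullDim_fibre_stalk f x
  algebraize [(f.stalkMap x).hom]
  have hloc : IsLocalHom (algebraMap (Y.presheaf.stalk (f x)) (X.presheaf.stalk x)) :=
    inferInstanceAs (IsLocalHom (f.stalkMap x).hom)
  have hK : Groth.FlatDescent.maxExt (f ≫ g) x =
      (Groth.FlatDescent.maxExt g (f x)).map (algebraMap (Y.presheaf.stalk (f x)) (X.presheaf.stalk x)) := by
    show Ideal.map ((f ≫ g).stalkMap x).hom _ = Ideal.map (f.stalkMap x).hom (Ideal.map (g.stalkMap (f x)).hom _)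
    rw [Ideal.map_map, Scheme.Hom.stalkMap_comp]
    rfl
  rw [hK] at e₃ N₃
  obtain ⟨h₁, h₂⟩ := ringKrullDim_quotient_le (R := Y.presheaf.stalk (f x)) (S := X.presheaf.stalk x) _ hJ
  rw [← e₃, ← e₂] at h₁ h₂
  replace h₁ := h₁.trans_eq (congrArg _ e₁.symm)
  replace h₂ := fun hf => (h₂ hf).trans (congrArg _ e₁.symm)
  rw [d₃, d₂, d₁, hn, Nat.cast_add]
  refine ⟨?_, fun hf => ?_⟩
  · refine (add_le_add h₁ le_rfl).trans_eq ?_
    abel
  · rw [h₂ hf]
    abel

end Groth.Agent.AlgSpFin

namespace Groth.Agent.AlgSpFin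

open Opposite AlgSp Groth.Agent.AlgSpLib

/-- The relative dimension of a composition of morphisms of spaces. -/
theorem relDim_comp {S : Scheme.{u}} {X Y Z : Space S} (f : X ⟶ Y) (g : Y ⟶ Z)
    (hf : LocP @LocallyOfFiniteType f.hom) (hg : LocP @LocallyOfFiniteType g.hom) (x : Points X.obj)
    (p q : WithBot ℕ∞) (hp : HasAtMor (fun _ _ h u => FlatMor.fibreDimAt h u = p) f.hom x)
    (hq : HasAtMor (fun _ _ h u => FlatMor.fibreDimAt h u = q) g.hom (Points.map f.hom x)) :
    HasAtMor (fun _ _ h u => FlatMor.fibreDimAt h u ≤ p + q) (f ≫ g).hom x ∧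
      (LocPAt (fun h u => (Scheme.Hom.stalkMap h u).hom.Flat) f.hom x →
        HasAtMor (fun _ _ h u => FlatMor.fibreDimAt h u = p + q) (f ≫ g).hom x) := by
  obtain ⟨U, V, W, a, b, c, h, k, u, ha, hb, hc, w, w', ww, rfl, hu⟩ := exists_chart_comp f g x
  have : LocallyOfFiniteType h.left := hf a b h ha hb w
  have : LocallyOfFiniteType k.left := hg b c k hb hc w'
  have hp' := (hasAtMor_fibreDim_iff hf (· = p) ha hb w u).1 hp
  rw [← hu] at hq
  have hq' := (hasAtMor_fibreDim_iff hg (· = q) hb hc w' (h.left u)).1 hq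
  obtain ⟨h₁, h₂⟩ := fibreDimAt_comp h.left k.left u
  rw [hp', hq', ← Over.comp_left] at h₁ h₂
  exact ⟨⟨U, W, a, c, h ≫ k, u, ha, hc, ww, rfl, h₁⟩,
    fun hfl => ⟨U, W, a, c, h ≫ k, u, ha, hc, ww, rfl, h₂ (hfl a b h u ha hb w rfl)⟩⟩

end Groth.Agent.AlgSpFin
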