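import Groth.Agent.AlgSpFin.FibreDimComp
import Groth.Agent.CyclePull.RelDim

/-!
Relative dimensions of compositions.
-/

universe u

open CategoryTheory AlgebraicGeometry

namespace Groth.Agent.AlgSpFin

/-- Bounds on and values of the relative dimension of a composition. -/
theorem relDim_bound_comp {X Y Z : Scheme.{u}} (f : X ⟶ Y) (g : Y ⟶ Z) [LocallyOfFiniteType f]
    [LocallyOfFiniteType g] (d e : ℕ) :
    ((∀ x, FlatMor.fibreDimAt f x ≤ d) → (∀ y, FlatMor.fibreDimAt g y ≤ e) →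
        ∀ x, FlatMor.fibreDimAt (f ≫ g) x ≤ (d + e : ℕ)) ∧
      (Cyc.HasRelDim f d → Cyc.HasRelDim g e → Flat f → Cyc.HasRelDim (f ≫ g) (d + e)) := by
  refine ⟨fun h₁ h₂ x => ?_, fun hr hs _ => CyclePull.hasRelDim_comp f g hr hs⟩
  rw [Nat.cast_add]
  exact (fibreDimAt_comp f g x).1.trans (add_le_add (h₁ x) (h₂ (f x)))

end Groth.Agent.AlgSpFin
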