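import Groth.Agent.AlgSpFin.RelDim
import Groth.Agent.GeomUnib.FibreDimNhds
import Groth.Agent.S0404
import Groth.Agent.AlgSpPts.Qc

/-!
Semicontinuity of the dimension of the fibres.
-/

set_option autoImplicit false
set_option backward.isDefEq.respectTransparency.types false

universe u

open CategoryTheory CategoryTheory.Limits AlgebraicGeometry Opposite AlgSp TopologicalSpace

namespace Groth.Agent.AlgSpFin

open Groth.Agent.AlgSpLib

variable {S : Scheme.{u}}

/-- The dimension of a fibre is bounded iff the relative dimensions along it are. -/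
theorem dim_fibre_le_iff {X Y : Space S} (f : X ⟶ Y) (hf : LocP @LocallyOfFiniteType f.hom) (k : FieldPt Y.obj)
    {Xk : Sp S} {fst : Xk ⟶ X.obj} {snd : Xk ⟶ (yon S).obj k.pt} (h : IsPullback fst snd f.hom k.toHom)
    (c : WithBot ℕ∞) :
    AlgSp.dim Xk ≤ c ↔ ∀ x : Points X.obj, Points.map f.hom x = Points.mk k →
      HasAtMor (fun _ _ h u => FlatMor.fibreDimAt h u ≤ c) f.hom x := by
  have hXk := isAlgSpace_of_isPullback h X.property (IsAlgSpace.yon_obj k.pt) Y.property
  let s : k.pt.left := (IsLocalRing.closedPoint k.K : PrimeSpectrum k.K)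
  have : Subsingleton k.pt.left := inferInstanceAs (Subsingleton (PrimeSpectrum k.K))
  have hs : Points.map k.toHom (Points.ofPt (𝟙 _) s) = Points.mk k := by
    rw [Points.map_ofPt, Category.id_comp]
    exact Points.ofPt_toHom k s
  have hf' := locP_baseChange X.property Y.property (IsAlgSpace.yon_obj k.pt) h hf
  have key : ∀ (U : Over S) (a : (yon S).obj U ⟶ Xk), RepWith @Etale a → ∀ u : U.left,
      HasAtMor (fun _ _ h u => FlatMor.fibreDimAt h u ≤ c) f.hom (Points.map fst (Points.ofPt a u)) ↔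
        FlatMor.localDim U.left u ≤ c := fun U a ha u => by
    obtain ⟨g, hg⟩ := (yon S).map_surjective (a ≫ snd)
    rw [hasAtMor_fibreDim_baseChange_iff (Y' := ⟨_, IsAlgSpace.yon_obj k.pt⟩) (X' := ⟨Xk, hXk⟩) f hf h (· ≤ c),
      hasAtMor_fibreDim_iff hf' (· ≤ c) ha (repWith_id _ k.pt) (h := g) (by rw [Category.comp_id, hg]),
      fibreDimAt_to_field]
  simp only [AlgSp.dim, iSup_le_iff, dim_le_iff_forall_localDim]
  refine ⟨fun hd x hx => ?_, fun hd U a ha u => ?_⟩
  · obtain ⟨p, hp, -⟩ := exists_point_of_isPullback h x (Points.ofPt (𝟙 _) s) (hx.trans hs.symm)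
    obtain ⟨U, a, ha, has⟩ := hXk.atlas
    obtain ⟨u, rfl⟩ := surjective_ofPt has p
    rw [← hp, key U a ha u]
    exact hd U a ha u
  · refine (key U a ha u).1 (hd _ ?_)
    obtain ⟨t, ht⟩ := exists_ofScheme (Points.map snd (Points.ofPt a u))
    rw [← Points.map_comp, h.w, Points.map_comp, ← ht, ← hs]
    congr 2
    exact Subsingleton.elim (α := k.pt.left) _ _

/-- The dimension of a scheme fibre is bounded iff the fibre dimensions along it are. -/
theorem dim_fiber_le_iff {A B : Scheme.{u}} (h : A ⟶ B) (b : B) (c : WithBot ℕ∞) :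
    topologicalKrullDim (h.fiber b) ≤ c ↔ ∀ a : A, h a = b → FlatMor.fibreDimAt h a ≤ c := by
  rw [dim_le_iff_forall_localDim]
  refine ⟨?_, fun hd t => ?_⟩
  · rintro hd a rfl
    exact hd (h.asFiber a)
  · have hb : h (h.fiberι b t) = b := (h.range_fiberι b).le ⟨t, rfl⟩
    have key : ∀ {b' : B} (t' : h.fiber b'), h (h.fiberι b' t') = b' →
        FlatMor.localDim (h.fiber b') t' = FlatMor.fibreDimAt h (h.fiberι b' t') := by
      intro b' t' e
      obtain ⟨a, ha⟩ : ∃ a, a = h.fiberι b' t' := ⟨_, rfl⟩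
      rw [← ha]
      rw [← ha] at e
      subst e
      show _ = FlatMor.localDim (h.fiber (h a)) (h.asFiber a)
      congr 1
      exact (h.fiberι _).isEmbedding.injective (ha.symm.trans (h.fiberι_asFiber a).symm)
    rw [key t hb]
    exact hd _ hb

/-- Every point has a field point and a fibre over it. -/
theorem exists_fibre {X Y : Space S} (f : X ⟶ Y) (y : Points Y.obj) :
    ∃ (k : FieldPt Y.obj) (Xk : Sp S) (fst : Xk ⟶ X.obj) (snd : Xk ⟶ (yon S).obj k.pt),
      Points.mk k = y ∧ IsPullback fst snd f.hom k.toHom := by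
  obtain ⟨k, rfl⟩ := Points.mk_surjective y
  exact ⟨k, _, _, _, rfl, IsPullback.of_hasPullback _ _⟩

/-- Fibre dimensions are bounded by a natural number for finite type morphisms. -/
theorem exists_bound_fibreDim {X Y : Space S} (f : X ⟶ Y) (hf : IsFiniteTypeMor f.hom) (k : FieldPt Y.obj)
    {Xk : Sp S} {fst : Xk ⟶ X.obj} {snd : Xk ⟶ (yon S).obj k.pt} (h : IsPullback fst snd f.hom k.toHom) :
    ∃ n : ℕ, AlgSp.dim Xk ≤ (n : WithBot ℕ∞) := by
  have hXk := isAlgSpace_of_isPullback h X.property (IsAlgSpace.yon_obj k.pt) Y.property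
  have hc : IsQuasiCompactSp Xk := hf.2 (IsAlgSpace.yon_obj k.pt)
    ⟨k.pt, 𝟙 _, repWith_id _ _, repWith_id _ _, inferInstanceAs (CompactSpace (PrimeSpectrum k.K))⟩ k.toHom fst snd h
  obtain ⟨U, a, hU, ha, has⟩ := (isQuasiCompactSp_iff_affine hXk).1 hc
  have := hU
  obtain ⟨g, hg⟩ := (yon S).map_surjective (a ≫ snd)
  have hf' := locP_baseChange X.property Y.property (IsAlgSpace.yon_obj k.pt) h hf.1
  have : LocallyOfFiniteType g.left := hf' a (𝟙 _) g ha (repWith_id _ _) (by rw [Category.comp_id, hg])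
  obtain ⟨n, hn⟩ := GeomUnib.FibreDimNhds.exists_bound_fdim g.left (isCompact_univ (X := U.left))
  refine ⟨n, (dim_fibre_le_iff f hf.1 k h _).2 fun x hx => ?_⟩
  let s : k.pt.left := (IsLocalRing.closedPoint k.K : PrimeSpectrum k.K)
  obtain ⟨p, rfl, -⟩ := exists_point_of_isPullback h x (Points.ofPt (𝟙 _) s) (hx.trans (by
    rw [Points.map_ofPt, Category.id_comp]; exact (Points.ofPt_toHom k s).symm))
  obtain ⟨u, rfl⟩ := surjective_ofPt has p
  rw [hasAtMor_fibreDim_baseChange_iff (Y' := ⟨_, IsAlgSpace.yon_obj k.pt⟩) (X' := ⟨Xk, hXk⟩) f hf.1 h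
      (· ≤ (n : WithBot ℕ∞)),
    hasAtMor_fibreDim_iff hf' (· ≤ (n : WithBot ℕ∞)) ha (repWith_id _ k.pt) (h := g) (by rw [Category.comp_id, hg])]
  obtain ⟨m, hm, ⟨w, -, -, hw⟩, -⟩ := FibreDim.exists_fibreDimAt_eq g.left u
  rw [hm, ← hw]
  exact hn w trivial

/-- For flat morphisms of finite presentation, exceeding a dimension is an open condition on the base. -/
theorem isOpen_lt_dim_fibre {X Y : Space S} (f : X ⟶ Y) (hfl : LocP @Flat f.hom)
    (hfp : IsFinitePresentationMor f.hom) (d : WithBot ℕ∞) :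
    IsOpen {y : Points Y.obj | ∀ (k : FieldPt Y.obj), Points.mk k = y →
      ∀ (Xk : Sp S) (fst : Xk ⟶ X.obj) (snd : Xk ⟶ (yon S).obj k.pt),
        IsPullback fst snd f.hom k.toHom → d < AlgSp.dim Xk} := by
  obtain ⟨hlfp, hqc, -⟩ := hfp
  have hf : LocP @LocallyOfFiniteType f.hom := locP_mono (fun _ _ k hk => by
    have : LocallyOfFinitePresentation k := hk
    infer_instance) hlfp
  refine isOpen_iff_forall_mem_open.2 fun y hy => ?_
  obtain ⟨V₀, b₀, hb₀, hb₀s⟩ := Y.property.atlas
  obtain ⟨v₀, hv₀⟩ := surjective_ofPt hb₀s y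
  obtain ⟨B, hB, hvB, -⟩ := exists_isAffineOpen_mem_and_subset (X := V₀.left) (U := ⊤) (x := v₀) trivial
  let V : Over S := Over.mk (B.ι ≫ V₀.hom)
  let b : (yon S).obj V ⟶ Y.obj := (yon S).map (Over.homMk B.ι rfl : V ⟶ V₀) ≫ b₀
  have hb : RepWith @Etale b := repWith_yon_comp (P := @Etale) _ (inferInstanceAs (Etale B.ι)) hb₀
  have : IsAffine V.left := hB
  let v : V.left := ⟨v₀, hvB⟩
  have hbv : Points.ofPt b v = y := (ofPt_comp _ b₀ v).trans hv₀
  have sP := IsPullback.of_hasPullback f.hom b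
  have hP := isAlgSpace_of_isPullback sP X.property (IsAlgSpace.yon_obj V) Y.property
  have hPc : IsQuasiCompactSp (pullback f.hom b) := hqc (IsAlgSpace.yon_obj V)
    ⟨V, 𝟙 _, repWith_id _ V, repWith_id _ V, inferInstance⟩ b (pullback.fst f.hom b) (pullback.snd f.hom b) sP
  obtain ⟨U, a, hU, ha, has⟩ := (isQuasiCompactSp_iff_affine hP).1 hPc
  have := hU
  obtain ⟨h, hh⟩ := (yon S).map_surjective (a ≫ pullback.snd f.hom b)
  have ha' : RepWith @Etale (a ≫ pullback.fst f.hom b) := repWith_comp ha (repWith_baseChange sP.flip hb)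
  have w : (a ≫ pullback.fst f.hom b) ≫ f.hom = (yon S).map h ≫ b := by
    rw [Category.assoc, sP.w, hh, Category.assoc]
  have : LocallyOfFinitePresentation h.left := hlfp _ b h ha' hb w
  have : Flat h.left := hfl _ b h ha' hb w
  have hiff : ∀ v' : V.left, (∀ (k : FieldPt Y.obj), Points.mk k = Points.ofPt b v' →
      ∀ (Xk : Sp S) (fst : Xk ⟶ X.obj) (snd : Xk ⟶ (yon S).obj k.pt),
        IsPullback fst snd f.hom k.toHom → d < AlgSp.dim Xk) ↔ d < topologicalKrullDim (h.left.fiber v') := by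
    intro v'
    have hle : topologicalKrullDim (h.left.fiber v') ≤ d ↔ ∀ x, Points.map f.hom x = Points.ofPt b v' →
        HasAtMor (fun _ _ h u => FlatMor.fibreDimAt h u ≤ d) f.hom x := by
      rw [dim_fiber_le_iff]
      refine ⟨fun hd x hx => ?_, ?_⟩
      · obtain ⟨p, rfl, hp⟩ := exists_point_of_isPullback sP x (Points.ofPt (𝟙 _) v')
          (hx.trans (by rw [Points.map_ofPt, Category.id_comp]))
        obtain ⟨u, rfl⟩ := surjective_ofPt has p
        rw [Points.map_ofPt, hasAtMor_fibreDim_iff hf (· ≤ d) ha' hb w]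
        refine hd u ((Points.schemeEquiv V).injective ?_)
        show Points.ofPt (𝟙 _) (h.left u) = Points.ofPt (𝟙 _) v'
        rw [← hp, Points.map_ofPt, ← hh, ← ofPt_comp, Category.comp_id]
      · rintro hd u rfl
        rw [← hasAtMor_fibreDim_iff hf (· ≤ d) ha' hb w]
        exact hd _ (by rw [Points.map_ofPt, w, ofPt_comp])
    constructor
    · intro h1
      obtain ⟨k, Xk, fst, snd, hk, hX⟩ := exists_fibre f (Points.ofPt b v')
      refine lt_of_not_ge fun h2 => (h1 k hk Xk fst snd hX).not_ge ((dim_fibre_le_iff f hf k hX d).2 ?_)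
      rw [hk]
      exact hle.1 h2
    · intro h1 k hk Xk fst snd hX
      refine lt_of_not_ge fun h2 => h1.not_ge (hle.2 ?_)
      rw [← hk]
      exact (dim_fibre_le_iff f hf k hX d).1 h2
  refine ⟨Points.ofPt b '' {v' | d < topologicalKrullDim (h.left.fiber v')}, ?_,
    isOpenMap_ofPt_of_etale hb _ (S0404.result h.left d), ⟨v, (hiff v).1 (hbv ▸ hy), hbv⟩⟩
  rintro _ ⟨v', hv', rfl⟩
  exact (hiff v').2 hv'

/-- Dimensions below zero are empty. -/
theorem lt_zero_iff_eq_bot (e : WithBot ℕ∞) : e < (((0 : ℕ) : ℕ∞) : WithBot ℕ∞) ↔ e = ⊥ := by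
  induction e with
  | bot => simp [WithBot.bot_lt_coe]
  | coe e => simp

/-- For proper morphisms, staying below a dimension is an open condition on the base. -/
theorem isOpen_dim_fibre_lt {X Y : Space S} (f : X ⟶ Y) (hf : IsProperMor f.hom) (d : WithBot ℕ∞) :
    IsOpen {y : Points Y.obj | ∀ (k : FieldPt Y.obj), Points.mk k = y →
      ∀ (Xk : Sp S) (fst : Xk ⟶ X.obj) (snd : Xk ⟶ (yon S).obj k.pt),
        IsPullback fst snd f.hom k.toHom → AlgSp.dim Xk < d} := by
  have hcl : IsClosedMap (Points.map f.hom) :=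
    hf.2.2 Y.property (𝟙 _) (𝟙 _) f.hom (IsPullback.of_horiz_isIso ⟨by rw [Category.id_comp, Category.comp_id]⟩)
  have hle : ∀ m : WithBot ℕ∞,
      IsOpen {x : Points X.obj | HasAtMor (fun _ _ h u => FlatMor.fibreDimAt h u ≤ m) f.hom x} →
      IsOpen {y : Points Y.obj | ∀ (k : FieldPt Y.obj), Points.mk k = y →
        ∀ (Xk : Sp S) (fst : Xk ⟶ X.obj) (snd : Xk ⟶ (yon S).obj k.pt),
          IsPullback fst snd f.hom k.toHom → AlgSp.dim Xk ≤ m} := by
    intro m ho
    have e : {y : Points Y.obj | ∀ (k : FieldPt Y.obj), Points.mk k = y →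
        ∀ (Xk : Sp S) (fst : Xk ⟶ X.obj) (snd : Xk ⟶ (yon S).obj k.pt),
          IsPullback fst snd f.hom k.toHom → AlgSp.dim Xk ≤ m} =
        (Points.map f.hom '' {x | HasAtMor (fun _ _ h u => FlatMor.fibreDimAt h u ≤ m) f.hom x}ᶜ)ᶜ := by
      ext y
      constructor
      · rintro hy ⟨x, hx, rfl⟩
        obtain ⟨k, Xk, fst, snd, hk, hX⟩ := exists_fibre f (Points.map f.hom x)
        exact hx ((dim_fibre_le_iff f hf.2.1.1 k hX m).1 (hy k hk Xk fst snd hX) x hk.symm)
      · intro hy k hk Xk fst snd hX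
        refine (dim_fibre_le_iff f hf.2.1.1 k hX m).2 fun x hx => by_contra fun hc => hy ⟨x, hc, ?_⟩
        rw [hx, hk]
    rw [e]
    exact (hcl _ ho.isClosed_compl).isOpen_compl
  induction d with
  | bot =>
    convert isOpen_empty
    refine Set.eq_empty_iff_forall_notMem.2 fun y hy => ?_
    obtain ⟨k, Xk, fst, snd, hk, hX⟩ := exists_fibre f y
    exact not_lt_bot (hy k hk Xk fst snd hX)
  | coe d =>
    induction d using ENat.recTopCoe with
    | top =>
      convert isOpen_univ
      refine Set.eq_univ_of_forall fun y k _ Xk fst snd hX => ?_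
      obtain ⟨n, hn⟩ := exists_bound_fibreDim f hf.2.1 k hX
      exact hn.trans_lt (WithBot.coe_lt_coe.2 (ENat.natCast_lt_top n))
    | coe n =>
      cases n with
      | zero =>
        have he : {x : Points X.obj | HasAtMor (fun _ _ h u => FlatMor.fibreDimAt h u ≤ ⊥) f.hom x} = ∅ := by
          refine Set.eq_empty_iff_forall_notMem.2 fun x hx => ?_
          obtain ⟨U, V, a, b, h, u, ha, hb, w, -, hd⟩ := hx
          have : LocallyOfFiniteType h.left := hf.2.1.1 a b h ha hb w
          obtain ⟨n, hn, -⟩ := FibreDim.exists_fibreDimAt_eq h.left u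
          rw [hn] at hd
          simp at hd
        have := hle ⊥ (by rw [he]; exact isOpen_empty)
        simpa only [lt_zero_iff_eq_bot, le_bot_iff] using this
      | succ n =>
        have hstep : ∀ e : WithBot ℕ∞, e < (((n + 1 : ℕ) : ℕ∞) : WithBot ℕ∞) ↔ e ≤ (n : WithBot ℕ∞) := by
          intro e
          induction e with
          | bot => simp
          | coe e =>
            induction e using ENat.recTopCoe with
            | top => exact ⟨fun h => absurd (WithBot.coe_lt_coe.1 h) (not_lt.2 le_top), fun h =>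
                absurd (WithBot.coe_le_coe.1 h) (not_le.2 (ENat.natCast_lt_top n))⟩
            | coe e =>
              show (((e : ℕ∞) : WithBot ℕ∞) < _) ↔ _ ≤ ((n : ℕ∞) : WithBot ℕ∞)
              rw [WithBot.coe_lt_coe, WithBot.coe_le_coe, Nat.cast_lt, Nat.cast_le, Nat.lt_succ_iff]
        simp only [hstep]
        exact hle _ (isOpen_fibreDim_le f hf.2.1.1 n)

/-- For proper flat morphisms of finite presentation, each dimension is an open condition on the base. -/
theorem isOpen_dim_fibre_eq {X Y : Space S} (f : X ⟶ Y) (hp : IsProperMor f.hom) (hfl : LocP @Flat f.hom)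
    (hfp : IsFinitePresentationMor f.hom) (d : WithBot ℕ∞) :
    IsOpen {y : Points Y.obj | ∀ (k : FieldPt Y.obj), Points.mk k = y →
      ∀ (Xk : Sp S) (fst : Xk ⟶ X.obj) (snd : Xk ⟶ (yon S).obj k.pt),
        IsPullback fst snd f.hom k.toHom → AlgSp.dim Xk = d} := by
  refine isOpen_iff_forall_mem_open.2 fun y hy => ?_
  obtain ⟨k, Xk, fst, snd, hk, hX⟩ := exists_fibre f y
  obtain ⟨n, hn⟩ := exists_bound_fibreDim f hp.2.1 k hX
  have hd := hy k hk Xk fst snd hX
  induction d with
  | bot =>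
    refine ⟨_, fun z hz l hl Xl fl sl hl' => ?_, isOpen_dim_fibre_lt f hp 0, fun l hl Xl fl sl hl' => ?_⟩
    · exact (lt_zero_iff_eq_bot _).1 (by simpa using hz l hl Xl fl sl hl')
    · rw [hy l hl Xl fl sl hl']; exact bot_lt_iff_ne_bot.2 (by simp)
  | coe d =>
    induction d using ENat.recTopCoe with
    | top => exact absurd (hd ▸ hn) (not_le.2 (WithBot.coe_lt_coe.2 (ENat.natCast_lt_top n)))
    | coe m =>
      have hup := isOpen_dim_fibre_lt f hp (((m + 1 : ℕ) : ℕ∞) : WithBot ℕ∞)
      cases m with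
      | zero =>
        refine ⟨_ ∩ _, fun z hz l hl Xl fl sl hl' => ?_, hup.inter (isOpen_lt_dim_fibre f hfl hfp ⊥),
          fun l hl Xl fl sl hl' => ?_, fun l hl Xl fl sl hl' => ?_⟩
        · have h1 := hz.1 l hl Xl fl sl hl'
          have h2 := hz.2 l hl Xl fl sl hl'
          revert h1 h2
          generalize AlgSp.dim Xl = e
          induction e with
          | bot => simp
          | coe e =>
            induction e using ENat.recTopCoe with
            | top => simp
            | coe e => simp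
        · rw [hy l hl Xl fl sl hl']; simp
        · rw [hy l hl Xl fl sl hl']; simp
      | succ m =>
        refine ⟨_ ∩ _, fun z hz l hl Xl fl sl hl' => ?_,
          hup.inter (isOpen_lt_dim_fibre f hfl hfp ((m : ℕ∞) : WithBot ℕ∞)),
          fun l hl Xl fl sl hl' => ?_, fun l hl Xl fl sl hl' => ?_⟩
        · have h1 := hz.1 l hl Xl fl sl hl'
          have h2 := hz.2 l hl Xl fl sl hl'
          revert h1 h2
          generalize AlgSp.dim Xl = e
          induction e with
          | bot => simp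
          | coe e =>
            induction e using ENat.recTopCoe with
            | top => simp
            | coe e =>
              simp only [WithBot.coe_lt_coe, Nat.cast_lt, WithBot.coe_inj, Nat.cast_inj]
              omega
        · rw [hy l hl Xl fl sl hl', WithBot.coe_lt_coe, Nat.cast_lt]; omega
        · rw [hy l hl Xl fl sl hl', WithBot.coe_lt_coe, Nat.cast_lt]; omega

end Groth.Agent.AlgSpFin
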