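import Groth.Agent.AlgSpFin.QfPoint

/-!
Conditions for isolated points of fibres of morphisms locally of finite type.
-/

set_option autoImplicit false
set_option backward.isDefEq.respectTransparency.types false

universe u

open CategoryTheory CategoryTheory.Limits AlgebraicGeometry Opposite AlgSp TopologicalSpace Topology

namespace Groth.Agent.AlgSpFin

open Groth.Agent.AlgSpLib

variable {S : Scheme.{u}} {X Y : Space S} (f : X ⟶ Y) (hf : LocP @LocallyOfFiniteType f.hom) (r : FieldPt Y.obj)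
  (Xk : Space S) (fst : Xk ⟶ X) (snd : Xk.obj ⟶ (yon S).obj r.pt) (hsq : IsPullback fst.hom snd f.hom r.toHom)

include hsq

/-- The points of the fibre product map onto the fibre. -/
theorem range_fibre_fst : Set.range (Points.map fst.hom) = Points.map f.hom ⁻¹' {Points.mk r} := by
  refine Set.Subset.antisymm ?_ fun x hx => ?_
  · rintro _ ⟨z, rfl⟩
    obtain ⟨t, ht⟩ := (Points.schemeEquiv r.pt).surjective (Points.map snd z)
    show Points.map f.hom (Points.map fst.hom z) = Points.mk r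
    rw [← Points.map_comp, show fst.hom ≫ f.hom = _ from hsq.w, Points.map_comp, ← ht]
    show Points.map r.toHom (Points.ofPt (𝟙 _) t) = Points.mk r
    rw [Points.map_ofPt, Category.id_comp, Points.ofPt_toHom]
  · obtain ⟨z, hz, -⟩ := exists_point_of_isPullback hsq x (Points.ofPt (𝟙 _) (IsLocalRing.closedPoint r.K)) (by
      rw [Points.map_ofPt, Category.id_comp, Points.ofPt_toHom]; exact hx)
    exact ⟨z, hz⟩

include hf

/-- The list of conditions for a point of the fibre to be isolated. -/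
theorem isolated_conditions (x : Points X.obj) (hx : x ∈ Points.map f.hom ⁻¹' {Points.mk r}) (xt : Points Xk.obj)
    (hxt : Points.map fst.hom xt = x) :
    ((IsOpen ({xt} : Set (Points Xk.obj)) ↔
      IsClosed ({xt} : Set (Points Xk.obj)) ∧ ∀ x' : Points Xk.obj, x' ⤳ xt → x' = xt) ∧
    (IsOpen ({xt} : Set (Points Xk.obj)) ↔ HasAt (fun U u => FlatMor.localDim ↥U u = 0) Xk.obj xt) ∧
    (HasAt (fun U u => FlatMor.localDim ↥U u = 0) Xk.obj xt ↔
      HasAtMor (nearBy (@LocallyQuasiFinite ⊓ @LocallyOfFiniteType)) f.hom x) ∧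
    (IsDecent Xk.obj → (FlatMor.localDim (Points Xk.obj) xt = 0 ↔ IsOpen ({xt} : Set (Points Xk.obj)))) ∧
    (IsDecent Y.obj →
      (IsOpen ({⟨x, hx⟩} : Set ↥(Points.map f.hom ⁻¹' {Points.mk r})) ↔ IsOpen ({xt} : Set (Points Xk.obj))) ∧
      ((IsClosed ({⟨x, hx⟩} : Set ↥(Points.map f.hom ⁻¹' {Points.mk r})) ∧
          ∀ x' : ↥(Points.map f.hom ⁻¹' {Points.mk r}), x' ⤳ ⟨x, hx⟩ → x' = ⟨x, hx⟩) ↔
        IsClosed ({xt} : Set (Points Xk.obj)) ∧ ∀ x' : Points Xk.obj, x' ⤳ xt → x' = xt)) ∧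
    (IsDecent Y.obj → IsDecent X.obj →
      (FlatMor.localDim ↥(Points.map f.hom ⁻¹' {Points.mk r}) ⟨x, hx⟩ = 0 ↔
        IsOpen ({⟨x, hx⟩} : Set ↥(Points.map f.hom ⁻¹' {Points.mk r}))))) := by
  obtain ⟨_, _⟩ := fieldPt_base r
  have hp : LocP @LocallyOfFiniteType snd := locP_baseChange X.property Y.property (IsAlgSpace.yon_obj _) hsq hf
  obtain ⟨h1, h2, h3⟩ := isolated_point_iff_of_jacobson (T₀ := r.pt) Xk snd hp xt
  have hA := isOpen_fibrePoint_iff_qf f hf r Xk fst snd hsq xt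
  rw [hxt] at hA
  exact ⟨h1, h2, h2.symm.trans hA, h3, fun hdY => ⟨(fibre_point_iff f hf hdY hx).1.trans hA.symm,
    (fibre_point_iff f hf hdY hx).2.1.trans (hA.symm.trans h1)⟩, fun hdY => (fibre_point_iff f hf hdY hx).2.2⟩

/-- The list of conditions for a fibre to be discrete. -/
theorem discrete_conditions (hy : Points.mk r ∈ Set.range (Points.map f.hom)) :
    (DiscreteTopology (Points Xk.obj) ↔ AlgSp.dim Xk.obj = 0) ∧
    (AlgSp.dim Xk.obj = 0 ↔ ∀ x : Points X.obj, Points.map f.hom x = Points.mk r →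
      HasAtMor (nearBy (@LocallyQuasiFinite ⊓ @LocallyOfFiniteType)) f.hom x) ∧
    (DiscreteTopology (Points Xk.obj) → topologicalKrullDim (Points Xk.obj) = 0) ∧
    (IsDecent Xk.obj → topologicalKrullDim (Points Xk.obj) = 0 → DiscreteTopology (Points Xk.obj)) ∧
    (IsDecent Xk.obj → Finite (Points Xk.obj) → DiscreteTopology (Points Xk.obj)) ∧
    (Finite (Points Xk.obj) → (Points.map f.hom ⁻¹' {Points.mk r}).Finite) ∧
    (DiscreteTopology ↥(Points.map f.hom ⁻¹' {Points.mk r}) →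
      topologicalKrullDim ↥(Points.map f.hom ⁻¹' {Points.mk r}) = 0) ∧
    (IsDecent Y.obj →
      (DiscreteTopology ↥(Points.map f.hom ⁻¹' {Points.mk r}) ↔ DiscreteTopology (Points Xk.obj))) ∧
    (IsDecent Y.obj → IsDecent X.obj →
      (topologicalKrullDim ↥(Points.map f.hom ⁻¹' {Points.mk r}) = 0 →
          DiscreteTopology ↥(Points.map f.hom ⁻¹' {Points.mk r})) ∧
        ((Points.map f.hom ⁻¹' {Points.mk r}).Finite →
          DiscreteTopology ↥(Points.map f.hom ⁻¹' {Points.mk r}))) := by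
  obtain ⟨_, _⟩ := fieldPt_base r
  have hp : LocP @LocallyOfFiniteType snd := locP_baseChange X.property Y.property (IsAlgSpace.yon_obj _) hsq hf
  have hr := range_fibre_fst f r Xk fst snd hsq
  obtain ⟨x₀, hx₀⟩ := hy
  obtain ⟨z₀, -⟩ := hr.ge (show x₀ ∈ Points.map f.hom ⁻¹' {Points.mk r} from hx₀)
  have : Nonempty (Points Xk.obj) := ⟨z₀⟩
  have : Nonempty ↥(Points.map f.hom ⁻¹' {Points.mk r}) := ⟨⟨x₀, hx₀⟩⟩
  obtain ⟨g1, g2, g3, g4⟩ := dim_zero_iff_of_jacobson (T₀ := r.pt) Xk snd hp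
  have hqf : DiscreteTopology (Points Xk.obj) ↔ ∀ x : Points X.obj, Points.map f.hom x = Points.mk r →
      HasAtMor (nearBy (@LocallyQuasiFinite ⊓ @LocallyOfFiniteType)) f.hom x := by
    refine ⟨fun h x hx => ?_, fun h => discreteTopology_iff_isOpen_singleton.2 fun z =>
      (isOpen_fibrePoint_iff_qf f hf r Xk fst snd hsq z).2 (h _ (hr.le ⟨z, rfl⟩))⟩
    obtain ⟨z, rfl⟩ := hr.ge (show x ∈ Points.map f.hom ⁻¹' {Points.mk r} from hx)
    exact (isOpen_fibrePoint_iff_qf f hf r Xk fst snd hsq z).1 (isOpen_discrete _)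
  have hF : IsDecent Y.obj → (DiscreteTopology ↥(Points.map f.hom ⁻¹' {Points.mk r}) ↔
      DiscreteTopology (Points Xk.obj)) := fun hdY => by
    rw [hqf, discreteTopology_iff_isOpen_singleton]
    exact ⟨fun h x hx => (fibre_point_iff f hf hdY (show x ∈ Points.map f.hom ⁻¹' {Points.mk r} from hx)).1.1 (h _),
      fun h x => (fibre_point_iff f hf hdY x.2).1.2 (h _ x.2)⟩
  refine ⟨g1, g1.symm.trans hqf, g2, g3, fun hd hfin => g1.2 (g4 hd hfin), fun hfin => hr ▸ Set.finite_range _,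
    fun h => le_antisymm dim_le_zero_of_discrete zero_le_dim_of_nonempty, hF, fun hdY hdX => ⟨fun h => ?_, fun hfin => ?_⟩⟩
  · refine discreteTopology_iff_isOpen_singleton.2 fun x => ((fibre_point_iff f hf hdY x.2).2.2 hdX).1
      (le_antisymm ((iInf_le _ ⟨⊤, trivial⟩).trans ?_) (FibreDim.le_localDim fun O _ hu =>
        have : Nonempty O := ⟨⟨_, hu⟩⟩
        zero_le_dim_of_nonempty))
    exact (topologicalKrullDim_subspace_le _ _).trans h.le
  · obtain ⟨p, P, q, π, sq, hinj, hr', hdP⟩ := exists_mono_fibre f hdY (Points.mk r)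
    obtain ⟨_, _⟩ := fieldPt_base p
    have hπ : LocP @LocallyOfFiniteType π := locP_baseChange X.property Y.property (IsAlgSpace.yon_obj _) sq hf
    have : Finite (Points P.obj) :=
      Set.finite_univ_iff.1 (Set.Finite.of_finite_image (by rw [Set.image_univ, hr']; exact hfin) hinj.injOn)
    have : Nonempty (Points P.obj) := ⟨(hr'.ge hx₀).choose⟩
    obtain ⟨k1, -, -, k4⟩ := dim_zero_iff_of_jacobson (T₀ := p.pt) P π hπ
    have hdis := k1.2 (k4 (hdP hdX) ‹_›)
    refine discreteTopology_iff_isOpen_singleton.2 fun x => (fibre_point_iff f hf hdY x.2).1.2 ?_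
    obtain ⟨z, hz⟩ := hr'.ge x.2
    rw [← hz]
    exact (isOpen_fibrePoint_iff_qf f hf p P q π sq z).1 (isOpen_discrete _)

end Groth.Agent.AlgSpFin
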