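import Groth.Agent.AlgSpFin.QfPoint
import Groth.Agent.AlgSpFin.QfPointStmts
import Groth.Agent.S15346
import Groth.Agent.FEtGalois.Normal
import Groth.Prelude.Def_AlgSpDec
import Mathlib.RingTheory.Artinian.Ring

/-!
Fibres over monomorphic quasi-compact field points embed.
-/

set_option autoImplicit false
set_option backward.isDefEq.respectTransparency.types false

universe u

open CategoryTheory CategoryTheory.Limits AlgebraicGeometry Opposite AlgSp TopologicalSpace Topology

namespace Groth.Agent.AlgSpFin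

open Groth.Agent.AlgSpLib

variable {S : Scheme.{u}}

/-- A monomorphism from a reduced zero-dimensional scheme is surjective on stalks. -/
theorem surjectiveOnStalks_of_mono_etale {K : Type u} [Field K] {P V : Scheme.{u}} (e : P ⟶ Spec (CommRingCat.of K))
    [Etale e] (m : P ⟶ V) [Mono m] : SurjectiveOnStalks m := by
  refine ⟨fun p s => ?_⟩
  have : IsIso (Spec.map (m.residueFieldMap p)) := S15346.isIso_residueFieldMap m p
  have : IsIso (m.residueFieldMap p) := by
    have : IsIso (Scheme.Spec.map (m.residueFieldMap p).op) := ‹IsIso (Spec.map (m.residueFieldMap p))›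
    exact (isIso_op_iff _).1 (isIso_of_fully_faithful Scheme.Spec (m.residueFieldMap p).op)
  have : LocallyQuasiFinite e := locallyQuasiFinite_of_formallyUnramified _
  have : IsReduced P := FEtGalois.isReduced_of_etale e
  have : IsLocallyArtinian P := IsLocallyArtinian.of_locallyQuasiFinite e
  have : Ring.KrullDimLE 0 (P.presheaf.stalk p) := by
    rw [Ring.KrullDimLE, Order.krullDimLE_iff, ← ringKrullDim, ringKrullDim_stalk_eq_coheight,
      Order.coheight_eq_zero.2 fun q hq => le_of_eq ((Scheme.le_iff_specializes.1 hq).mem_open (isOpen_discrete {p}) rfl)]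
    rfl
  have hf : IsField (P.presheaf.stalk p) := Ring.KrullDimLE.isField_of_isReduced
  obtain ⟨r, hr⟩ := (ConcreteCategory.bijective_of_isIso (m.residueFieldMap p)).2 (P.residue p s)
  obtain ⟨t, rfl⟩ := V.residue_surjective _ r
  refine ⟨t, ?_⟩
  have h2 : (P.residue p).hom (m.stalkMap p t) = (P.residue p).hom s := by
    rw [← hr, ← CommRingCat.comp_apply, ← Scheme.residue_residueFieldMap]
    rfl
  let := hf.toField
  exact (P.residue p).hom.injective h2

/-- The scheme of a monomorphic quasi-compact field point over an etale chart is preimmersed. -/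
theorem isPreimmersion_point_chart {Y : Sp S} (hY : IsAlgSpace Y) (r : FieldPt Y) (hq : RepWith @QuasiCompact r.toHom)
    [Mono r.toHom] {V P : Over S} {b : (yon S).obj V ⟶ Y} (hb : RepWith @Etale b) {m : P ⟶ V} {e : P ⟶ r.pt}
    (sP : IsPullback ((yon S).map m) ((yon S).map e) b r.toHom) : IsPreimmersion m.left := by
  have : Mono ((yon S).map m) :=
    MorphismProperty.of_isPullback (P := MorphismProperty.monomorphisms (Sp S)) sP.flip ‹Mono r.toHom›
  have : Mono m := (yon S).mono_of_mono_map this
  have : Mono m.left := (inferInstance : Mono ((Over.forget S).map m))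
  have : QuasiCompact m.left := prop_snd sP.flip hq
  have : Etale e.left := prop_snd sP hb
  have : LocallyQuasiFinite e.left := locallyQuasiFinite_of_formallyUnramified _
  have : IsLocallyArtinian r.pt.left := inferInstanceAs (IsLocallyArtinian (Spec (CommRingCat.of r.K)))
  have : IsLocallyArtinian P.left := IsLocallyArtinian.of_locallyQuasiFinite e.left
  have : DiscreteTopology P.left := inferInstance
  have hpt : ∀ p : P.left, Points.ofPt b (m.left p) = Points.mk r := fun p => by
    rw [← ofPt_comp m b p, sP.w, ofPt_comp, Points.ofPt_toHom]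
  refine { toSurjectiveOnStalks := surjectiveOnStalks_of_mono_etale (K := r.K) e.left m.left, isEmbedding := ?_ }
  refine ⟨⟨le_antisymm m.left.continuous.le_induced fun s _ => ?_⟩, m.left.injective⟩
  rw [← s.biUnion_of_singleton]
  refine @isOpen_biUnion _ _ (TopologicalSpace.induced m.left inferInstance) _ _ fun p _ => ?_
  obtain ⟨O, hO, hpO, -⟩ := exists_isAffineOpen_mem_and_subset (X := V.left) (U := ⊤) (x := m.left p) trivial
  let ι : Over.mk (O.ι ≫ V.hom) ⟶ V := Over.homMk O.ι rfl
  have hb' : RepWith @Etale ((yon S).map ι ≫ b) :=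
    repWith_yon_comp (P := @Etale) ι (inferInstanceAs (Etale O.ι)) hb
  have hfinP : (m.left ⁻¹' (O : Set V.left)).Finite :=
    (QuasiCompact.isCompact_preimage _ O.2 hO.isCompact).finite_of_discrete
  let B := m.left '' ((m.left ⁻¹' (O : Set V.left)) \ {p})
  have hfibre : {t : (Over.mk (O.ι ≫ V.hom)).left | Points.ofPt ((yon S).map ι ≫ b) t =
      Points.mk r}.Finite := by
    refine (hfinP.image m.left).preimage (f := O.ι) O.ι.isOpenEmbedding.injective.injOn |>.subset fun t ht => ?_
    have ht' : Points.ofPt b (O.ι t) = Points.mk r := (ofPt_comp ι b t).symm.trans ht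
    obtain ⟨w, hw, -⟩ := (ofPt_eq_iff sP (O.ι t) (IsLocalRing.closedPoint r.K : PrimeSpectrum r.K)).1
      (ht'.trans (Points.ofPt_toHom r _).symm)
    exact ⟨w, show m.left w ∈ (O : Set V.left) by rw [hw]; exact t.2, hw⟩
  refine ⟨(O : Set V.left) \ closure B, O.2.sdiff isClosed_closure, Set.ext fun q => ⟨fun hq' => ?_, ?_⟩⟩
  · by_contra hne
    exact hq'.2 (subset_closure ⟨q, ⟨hq'.1, hne⟩, rfl⟩)
  · rintro rfl
    refine ⟨hpO, fun hcl => ?_⟩
    have hBf : B.Finite := hfinP.sdiff.image _
    rw [← B.biUnion_of_singleton, hBf.closure_biUnion] at hcl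
    obtain ⟨_, ⟨w, ⟨hwO, hne⟩, rfl⟩, hs⟩ := Set.mem_iUnion₂.1 hcl
    refine hne (m.left.injective ?_)
    let t₁ : (Over.mk (O.ι ≫ V.hom)).left := ⟨m.left w, hwO⟩
    let t₂ : (Over.mk (O.ι ≫ V.hom)).left := ⟨m.left q, hpO⟩
    have h1 : Points.ofPt ((yon S).map ι ≫ b) t₁ = Points.mk r := (ofPt_comp ι b t₁).trans (hpt w)
    have h2 : Points.ofPt ((yon S).map ι ≫ b) t₂ = Points.mk r := (ofPt_comp ι b t₂).trans (hpt q)
    exact congrArg O.ι (eq_of_specializes_of_finite_fibre hY hb' (h1.trans h2.symm)
      (O.ι.isOpenEmbedding.isInducing.specializes_iff.1 (specializes_iff_mem_closure.2 hs))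
      (by rw [h1]; exact hfibre))

/-- The fibre over a monomorphic quasi-compact field point embeds. -/
theorem isEmbedding_fibre {X Y : Space S} (f : X ⟶ Y) (r : FieldPt Y.obj) (hm : Mono r.toHom)
    (hq : RepWith @QuasiCompact r.toHom) (Xk : Space S) (fst : Xk ⟶ X) (snd : Xk.obj ⟶ (yon S).obj r.pt)
    (hsq : IsPullback fst.hom snd f.hom r.toHom) :
    IsEmbedding (Points.map fst.hom) ∧ Set.range (Points.map fst.hom) = Points.map f.hom ⁻¹' {Points.mk r} := by
  have : Mono fst.hom := MorphismProperty.of_isPullback (P := MorphismProperty.monomorphisms (Sp S)) hsq.flip hm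
  refine ⟨⟨⟨le_antisymm (Points.continuous_map fst.hom).le_induced fun s hs => ?_⟩, injective_map_of_mono fst.hom⟩,
    range_fibre_fst f r Xk fst snd hsq⟩
  obtain ⟨U, V, a, b, h, ha, has, hb, -, w⟩ := exists_chart X.property Y.property f.hom
  obtain ⟨P, m, e, sP⟩ := exists_isPullback hb.1 r.toHom
  have := isPreimmersion_point_chart Y.property r hq hb sP
  -- the chart of the fibre
  have sW := IsPullback.of_hasPullback h m
  have : IsPreimmersion (pullback.fst h m).left :=
    MorphismProperty.of_isPullback (P := @IsPreimmersion) (left_isPullback sW).flip ‹_›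
  have sW' : IsPullback ((yon S).map (pullback.fst h m)) ((yon S).map (pullback.snd h m ≫ e)) (a ≫ f.hom) r.toHom := by
    rw [w, Functor.map_comp]
    exact (yon_isPullback sW).paste_vert sP
  obtain ⟨c, hc₁, hc₂⟩ : ∃ c : (yon S).obj (pullback h m) ⟶ Xk.obj,
      c ≫ fst.hom = (yon S).map (pullback.fst h m) ≫ a ∧ c ≫ snd = (yon S).map (pullback.snd h m ≫ e) :=
    ⟨hsq.lift _ _ ((Category.assoc _ _ _).trans sW'.w), hsq.lift_fst _ _ _, hsq.lift_snd _ _ _⟩
  have sc : IsPullback ((yon S).map (pullback.fst h m)) c a fst.hom :=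
    IsPullback.of_bot (by rw [hc₂]; exact sW') hc₁.symm hsq
  let g := (pullback.fst h m).left
  obtain ⟨M, hM, hMe⟩ := g.isEmbedding.isInducing.isOpen_iff.1 (hs.preimage (Points.continuous_ofPt c))
  refine ⟨Points.ofPt a '' M, isOpenMap_ofPt_of_etale ha _ hM, Set.ext fun z => ⟨?_, fun hz => ?_⟩⟩
  · rintro ⟨u, hu, he⟩
    obtain ⟨z', hz₁, hz₂⟩ := exists_point_of_isPullback sc (Points.ofPt (𝟙 _) u) z (by
      rw [Points.map_ofPt, Category.id_comp]; exact he)
    obtain ⟨t, rfl⟩ := (Points.schemeEquiv (pullback h m)).surjective z'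
    have h1 : Points.ofPt c t = z := by
      rw [← hz₂]
      show _ = Points.map c (Points.ofPt (𝟙 _) t)
      rw [Points.map_ofPt, Category.id_comp]
    have h2 : g t = u := by
      have : Points.map ((yon S).map (pullback.fst h m)) (Points.ofPt (𝟙 _) t) = Points.ofPt (𝟙 _) u := hz₁
      rw [Points.map_ofPt, Category.id_comp] at this
      refine (Points.schemeEquiv U).injective ?_
      show Points.ofPt (𝟙 _) (g t) = Points.ofPt (𝟙 _) u
      rw [← ofPt_comp (pullback.fst h m) (𝟙 _) t, Category.comp_id]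
      exact this
    rw [← h1]
    exact hMe.le (show t ∈ g ⁻¹' M by rw [Set.mem_preimage, h2]; exact hu)
  · obtain ⟨u, hu⟩ := surjective_ofPt has (Points.map fst.hom z)
    obtain ⟨z', hz₁, hz₂⟩ := exists_point_of_isPullback sc (Points.ofPt (𝟙 _) u) z (by
      rw [Points.map_ofPt, Category.id_comp]; exact hu)
    obtain ⟨t, rfl⟩ := (Points.schemeEquiv (pullback h m)).surjective z'
    have h1 : Points.ofPt c t = z := by
      rw [← hz₂]
      show _ = Points.map c (Points.ofPt (𝟙 _) t)
      rw [Points.map_ofPt, Category.id_comp]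
    refine ⟨g t, hMe.ge (show t ∈ Points.ofPt c ⁻¹' s by rw [Set.mem_preimage, h1]; exact hz), ?_⟩
    show Points.ofPt a ((pullback.fst h m).left t) = _
    rw [← ofPt_comp, ← hc₁, ← Points.map_ofPt, h1]

end Groth.Agent.AlgSpFin
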