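import Groth.Agent.AlgSpFin.RelDim
import Groth.Agent.AlgSpPts.MonoPoint
import Groth.Agent.AlgSpPts.NoethSp
import Groth.Agent.HenselLib.FaithfulDescent

/-!
Locally Noetherian fibres descend along field extensions.
-/

set_option autoImplicit false
set_option backward.isDefEq.respectTransparency.types false

universe u

open CategoryTheory CategoryTheory.Limits AlgebraicGeometry Opposite AlgSp

namespace Groth.Agent.AlgSpFin

open Groth.Agent.AlgSpLib

variable {S : Scheme.{u}}

/-- Local Noetherianity descends along affine faithfully flat morphisms. -/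
theorem isLocallyNoetherian_of_affine_flat {A B : Scheme.{u}} (f : A ⟶ B) [Flat f] [IsAffineHom f] [Surjective f]
    [IsLocallyNoetherian A] : IsLocallyNoetherian B := by
  refine ⟨fun V => ?_⟩
  let g := f ∣_ V.1
  have : IsAffine V.1.toScheme := V.2
  have : Flat g := IsZariskiLocalAtTarget.restrict (P := @Flat) ‹_› _
  have : Surjective g := IsZariskiLocalAtTarget.restrict (P := @Surjective) ‹_› _
  have : IsAffine (f ⁻¹ᵁ V.1).toScheme := V.2.preimage f
  have : IsLocallyNoetherian (f ⁻¹ᵁ V.1).toScheme := isLocallyNoetherian_of_isOpenImmersion (f ⁻¹ᵁ V.1).ι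
  have : IsNoetherianRing Γ((f ⁻¹ᵁ V.1).toScheme, ⊤) :=
    IsLocallyNoetherian.component_noetherian ⟨⊤, isAffineOpen_top _⟩
  have hff := HasRingHomProperty.appTop (P := @Flat) g ‹_›
  have hsur : Surjective (Spec.map g.appTop) := by
    have e : Spec.map g.appTop = (f ⁻¹ᵁ V.1).toScheme.isoSpec.inv ≫ g ≫ V.1.toScheme.isoSpec.hom := by
      rw [← Scheme.isoSpec_hom_naturality, Iso.inv_hom_id_assoc]
    rw [e]
    infer_instance
  letI := g.appTop.hom.toAlgebra
  have : Module.Flat Γ(V.1.toScheme, ⊤) Γ((f ⁻¹ᵁ V.1).toScheme, ⊤) := hff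
  have : Module.FaithfullyFlat Γ(V.1.toScheme, ⊤) Γ((f ⁻¹ᵁ V.1).toScheme, ⊤) :=
    Module.FaithfullyFlat.of_comap_surjective fun p => hsur.surj p
  have := HenselLib.isNoetherianRing_of_faithfullyFlat Γ(V.1.toScheme, ⊤) Γ((f ⁻¹ᵁ V.1).toScheme, ⊤)
  exact isNoetherianRing_of_ringEquiv _ V.1.topIso.commRingCatIsoToRingEquiv

/-- Locally Noetherian fibres descend along maps of field points. -/
theorem isLocNoethSp_of_fieldExt {X Y : Space S} (f : X ⟶ Y) (p₀ p : FieldPt Y.obj) (σ : p.pt ⟶ p₀.pt)
    (hσ : (yon S).map σ ≫ p₀.toHom = p.toHom) {P : Sp S} {pfst : P ⟶ X.obj} {psnd : P ⟶ (yon S).obj p.pt}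
    (hP : IsPullback pfst psnd f.hom p.toHom) (hN : IsLocNoethSp P) {Q : Sp S} {qfst : Q ⟶ X.obj}
    {qsnd : Q ⟶ (yon S).obj p₀.pt} (hQ : IsPullback qfst qsnd f.hom p₀.toHom) : IsLocNoethSp Q := by
  have hQa := isAlgSpace_of_isPullback hQ X.property (IsAlgSpace.yon_obj p₀.pt) Y.property
  obtain ⟨U, a, ha, has⟩ := hQa.atlas
  obtain ⟨g, hg⟩ := (yon S).map_surjective (a ≫ qsnd)
  let τ : P ⟶ Q := hQ.lift pfst (psnd ≫ (yon S).map σ) (by rw [Category.assoc, hσ]; exact hP.w)
  have sτ : IsPullback τ psnd qsnd ((yon S).map σ) :=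
    IsPullback.of_right (by rw [hQ.lift_fst, hσ]; exact hP) (hQ.lift_snd _ _ _) hQ
  have sU := IsPullback.of_hasPullback g σ
  let e : (yon S).obj (pullback g σ) ⟶ P := sτ.lift ((yon S).map (pullback.fst g σ) ≫ a)
    ((yon S).map (pullback.snd g σ)) (by rw [Category.assoc, ← hg, (yon_isPullback sU).w])
  have se : IsPullback ((yon S).map (pullback.fst g σ)) e a τ :=
    IsPullback.of_bot (by rw [sτ.lift_snd, ← hg]; exact yon_isPullback sU) (sτ.lift_fst _ _ _).symm sτ
  have he : RepWith @Etale e := repWith_baseChange se ha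
  have : IsLocallyNoetherian (pullback g σ).left := AlgSpPts.isLocallyNoetherian_of_chart hN he
  have : IsAffineHom σ.left := by
    have : IsAffine p.pt.left := inferInstanceAs (IsAffine (Spec (CommRingCat.of p.K)))
    have : IsAffine p₀.pt.left := inferInstanceAs (IsAffine (Spec (CommRingCat.of p₀.K)))
    infer_instance
  let σ' : Spec (CommRingCat.of p.K) ⟶ Spec (CommRingCat.of p₀.K) := σ.left
  have : Flat σ.left := GeomUnib.SectionBC.flat_to_field σ'
  have : Surjective σ.left := ⟨fun y => ⟨(IsLocalRing.closedPoint p.K : PrimeSpectrum p.K),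
    Subsingleton.elim (α := PrimeSpectrum p₀.K) _ _⟩⟩
  have sL := left_isPullback sU
  have : Flat (pullback.fst g σ).left := MorphismProperty.of_isPullback (P := @Flat) sL.flip ‹_›
  have : IsAffineHom (pullback.fst g σ).left := MorphismProperty.of_isPullback (P := @IsAffineHom) sL.flip ‹_›
  have : Surjective (pullback.fst g σ).left := MorphismProperty.of_isPullback (P := @Surjective) sL.flip ‹_›
  exact ⟨U, a, ha, has, isLocallyNoetherian_of_affine_flat (pullback.fst g σ).left⟩

/-- A field point over a monomorphism point with the same image factors through it. -/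
theorem exists_factor_of_mono {Y : Space S} (p p₀ : FieldPt Y.obj) [Mono p₀.toHom]
    (h : Points.mk p = Points.mk p₀) : ∃ σ : p.pt ⟶ p₀.pt, (yon S).map σ ≫ p₀.toHom = p.toHom := by
  have sT := IsPullback.of_hasPullback p₀.toHom p.toHom
  have hT := isAlgSpace_of_isPullback sT (IsAlgSpace.yon_obj p₀.pt) (IsAlgSpace.yon_obj p.pt) Y.property
  let s : p.pt.left := (IsLocalRing.closedPoint p.K : PrimeSpectrum p.K)
  let s₀ : p₀.pt.left := (IsLocalRing.closedPoint p₀.K : PrimeSpectrum p₀.K)
  obtain ⟨z, -, -⟩ := exists_point_of_isPullback sT (Points.ofPt (𝟙 _) s₀) (Points.ofPt (𝟙 _) s) (by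
    rw [Points.map_ofPt, Points.map_ofPt, Category.id_comp, Category.id_comp]
    exact (Points.ofPt_toHom p₀ s₀).trans (h.symm.trans (Points.ofPt_toHom p s).symm))
  have : Mono (pullback.snd p₀.toHom p.toHom) :=
    MorphismProperty.pullback_snd (P := MorphismProperty.monomorphisms (Sp S)) _ _ ‹Mono p₀.toHom›
  rcases AlgSpPts.isEmpty_or_isIso_of_mono (k := p.K) p.pt.hom hT (pullback.snd p₀.toHom p.toHom) with he | hi
  · exact he.elim z
  obtain ⟨σ, hσ⟩ := (yon S).map_surjective (inv (pullback.snd p₀.toHom p.toHom) ≫ pullback.fst p₀.toHom p.toHom)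
  exact ⟨σ, by rw [hσ, Category.assoc, pullback.condition, IsIso.inv_hom_id_assoc]⟩

/-- Locally Noetherian fibres pass to residue fields of etale neighbourhoods. -/
theorem isLocNoethSp_chart_fibre {X Y : Space S} (f : X ⟶ Y) (p : FieldPt Y.obj) {P : Sp S} {pfst : P ⟶ X.obj}
    {psnd : P ⟶ (yon S).obj p.pt} (hP : IsPullback pfst psnd f.hom p.toHom) (hN : IsLocNoethSp P) {V : Over S}
    (b : (yon S).obj V ⟶ Y.obj) (hb : RepWith @Etale b) (v : V.left) (hv : Points.ofPt b v = Points.mk p) {Q : Sp S}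
    {qfst : Q ⟶ X.obj} {qsnd : Q ⟶ (yon S).obj (FieldPt.ofPt b v).pt}
    (hQ : IsPullback qfst qsnd f.hom (FieldPt.ofPt b v).toHom) : IsLocNoethSp Q := by
  obtain ⟨W, c, d, sW⟩ := exists_isPullback hb.1 p.toHom
  have : Etale d.left := prop_snd sW hb
  let s : p.pt.left := (IsLocalRing.closedPoint p.K : PrimeSpectrum p.K)
  obtain ⟨w, hw, -⟩ := (ofPt_eq_iff sW v s).1 (hv.trans (Points.ofPt_toHom p s).symm)
  have : IsLocallyArtinian p.pt.left := inferInstanceAs (IsLocallyArtinian (Spec (CommRingCat.of p.K)))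
  have : LocallyQuasiFinite d.left := locallyQuasiFinite_of_formallyUnramified _
  have : IsLocallyArtinian W.left := IsLocallyArtinian.of_locallyQuasiFinite d.left
  have hcl : IsClosedImmersion (W.left.fromSpecResidueField w) :=
    isClosed_singleton_iff_isClosedImmersion.1 (isClosed_discrete _)
  -- the residue field point of the fibre square
  let r : FieldPt Y.obj := FieldPt.ofPt ((yon S).map d ≫ p.toHom) w
  let m : r.pt ⟶ W := Over.homMk (W.left.fromSpecResidueField w) rfl
  have hr : r.toHom = (yon S).map (m ≫ d) ≫ p.toHom := by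
    rw [FieldPt.toHom_ofPt, Functor.map_comp, Category.assoc]
  let v₀ : FieldPt Y.obj := FieldPt.ofPt b v
  let k : v₀.pt ⟶ V := Over.homMk (V.left.fromSpecResidueField v) rfl
  have hk : v₀.toHom = (yon S).map k ≫ b := FieldPt.toHom_ofPt _ _
  -- the map to the residue field of the chart point
  let σl : r.pt.left ⟶ v₀.pt.left :=
    Spec.map (c.left.residueFieldMap w) ≫ Spec.map (V.left.residueFieldCongr hw.symm).hom
  have hσl : σl ≫ k.left = m.left ≫ c.left := by
    subst hw
    simp [σl, k, m, v₀, r]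
    erw [Spec.map_id, Category.id_comp]
    exact Scheme.Hom.SpecMap_residueFieldMap_fromSpecResidueField _ _
  let σ : r.pt ⟶ v₀.pt := Over.homMk σl (by
    rw [← Over.w k, ← Category.assoc, hσl, Category.assoc, Over.w c, Over.w m])
  have hσk : σ ≫ k = m ≫ c := Over.OverMorphism.ext hσl
  have hσ : (yon S).map σ ≫ v₀.toHom = r.toHom := by
    rw [hk, ← Category.assoc, ← Functor.map_comp, hσk, Functor.map_comp, Category.assoc, sW.w, hr,
      Functor.map_comp, Category.assoc]
  -- the fibre over it is of finite type over the given one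
  have sR := IsPullback.of_hasPullback psnd ((yon S).map (m ≫ d))
  have hPa := isAlgSpace_of_isPullback hP X.property (IsAlgSpace.yon_obj p.pt) Y.property
  have hR : IsPullback (pullback.fst psnd ((yon S).map (m ≫ d)) ≫ pfst) (pullback.snd psnd ((yon S).map (m ≫ d)))
      f.hom r.toHom := by rw [hr]; exact sR.paste_horiz hP
  have hRa := isAlgSpace_of_isPullback hR X.property (IsAlgSpace.yon_obj r.pt) Y.property
  have hmd : LocallyOfFiniteType (m ≫ d).left := by
    have : IsClosedImmersion m.left := hcl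
    show LocallyOfFiniteType (m.left ≫ d.left)
    infer_instance
  have hl : LocP @LocallyOfFiniteType (pullback.fst psnd ((yon S).map (m ≫ d))) :=
    locP_baseChange (IsAlgSpace.yon_obj r.pt) (IsAlgSpace.yon_obj p.pt) hPa sR.flip ((locP_yon_map_iff _).2 hmd)
  obtain ⟨U, U', a, a', g, ha, has, ha', -, w'⟩ := exists_chart hRa hPa (pullback.fst psnd ((yon S).map (m ≫ d)))
  have : LocallyOfFiniteType g.left := hl a a' g ha ha' w'
  have : IsLocallyNoetherian U'.left := AlgSpPts.isLocallyNoetherian_of_chart hN ha'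
  have hNR : IsLocNoethSp (pullback psnd ((yon S).map (m ≫ d))) :=
    ⟨U, a, ha, has, LocallyOfFiniteType.isLocallyNoetherian g.left⟩
  exact isLocNoethSp_of_fieldExt f v₀ r σ hσ hR hNR hQ

end Groth.Agent.AlgSpFin
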