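import Groth.Agent.AlgSpFin.FinitePieceCover
import Groth.Agent.AlgSpFin.DenseScheme
import Groth.Agent.AlgSpFin.DecentTopo

/-!
Finiteness over a dense open subspace of a decent space.
-/

set_option autoImplicit false
set_option backward.isDefEq.respectTransparency.types false

universe u

open CategoryTheory CategoryTheory.Limits AlgebraicGeometry Opposite AlgSp

namespace Groth.Agent.AlgSpFin

open Groth.Agent.AlgSpLib

variable {S : Scheme.{u}}

/-- With finitely many points of codimension zero, a dense set open in a decent space contains all of them, and a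
set is dense as soon as it contains them. -/
theorem codimZero_dense {Y : Sp S} (hY : IsAlgSpace Y) (hd : IsDecent Y)
    (hfin : {y : Points Y | HasAt (fun U u => ringKrullDim ↥(U.presheaf.stalk u) = 0) Y y}.Finite) :
    (∀ (D : Set (Points Y)), IsOpen D → Dense D →
        ∀ y, HasAt (fun U u => ringKrullDim ↥(U.presheaf.stalk u) = 0) Y y → y ∈ D) ∧
      ∀ (D : Set (Points Y)), (∀ y, HasAt (fun U u => ringKrullDim ↥(U.presheaf.stalk u) = 0) Y y → y ∈ D) → Dense D := by
  have := quasiSober_points_of_isDecent hY hd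
  have hgen : ∀ p : Points Y, ∃ η, HasAt (fun U u => ringKrullDim ↥(U.presheaf.stalk u) = 0) Y η ∧ η ⤳ p := fun p => by
    obtain ⟨η, hη⟩ := QuasiSober.sober (irreducibleComponent_mem_irreducibleComponents p).1
      isClosed_irreducibleComponent
    exact ⟨η, (exists_component_iff hY hd η).1 ⟨_, irreducibleComponent_mem_irreducibleComponents p, hη⟩,
      hη.specializes mem_irreducibleComponent⟩
  refine ⟨fun D hD hDd y hy => ?_, fun D hD p => ?_⟩
  · let O : Set (Points Y) :=
      (⋃ η ∈ {η | HasAt (fun U u => ringKrullDim ↥(U.presheaf.stalk u) = 0) Y η} \ {y}, closure {η})ᶜ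
    have hO : IsOpen O := ((hfin.subset Set.sdiff_subset).isClosed_biUnion fun _ _ => isClosed_closure).isOpen_compl
    have hyO : y ∈ O := by
      intro hmem
      obtain ⟨η, ⟨hη, hne⟩, hcl⟩ := Set.mem_iUnion₂.1 hmem
      obtain ⟨T, hT, hyT⟩ := (exists_component_iff hY hd y).2 hy
      have hs : η ⤳ y := specializes_iff_mem_closure.2 hcl
      have hle : T ⊆ closure {η} := by
        rw [← hyT.def]
        exact specializes_iff_closure_subset.1 hs
      have heq : closure {η} ⊆ T := hT.2 isIrreducible_singleton.closure hle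
      refine hne (points_antisymm hY hd hs ?_)
      exact specializes_iff_mem_closure.2 (by rw [hyT.def]; exact heq (subset_closure rfl))
    obtain ⟨d, hdO, hdD⟩ := hDd.inter_open_nonempty O hO ⟨y, hyO⟩
    obtain ⟨η, hη, hηd⟩ := hgen d
    obtain rfl : η = y := by_contra fun hne =>
      hdO (Set.mem_iUnion₂.2 ⟨η, ⟨hη, hne⟩, specializes_iff_mem_closure.1 hηd⟩)
    exact hηd.mem_open hD hdD
  · obtain ⟨η, hη, hηp⟩ := hgen p
    exact closure_mono (Set.singleton_subset_iff.2 (hD η hη)) (specializes_iff_mem_closure.1 hηp)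

/-- Generically finite morphisms are finite over a dense open subspace. -/
theorem exists_dense_open_finite_of_fibres {X Y : Space S} (f : X ⟶ Y) (hf : LocP @LocallyOfFiniteType f.hom)
    (hY : IsDecent Y.obj)
    (hX0 : {x : Points X.obj | HasAt (fun U u => ringKrullDim ↥(U.presheaf.stalk u) = 0) X.obj x}.Finite)
    (hY0 : {y : Points Y.obj | HasAt (fun U u => ringKrullDim ↥(U.presheaf.stalk u) = 0) Y.obj y}.Finite)
    (hpre : ∀ x : Points X.obj, HasAt (fun U u => ringKrullDim ↥(U.presheaf.stalk u) = 0) X.obj x ↔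
      HasAt (fun U u => ringKrullDim ↥(U.presheaf.stalk u) = 0) Y.obj (Points.map f.hom x))
    (hqs : IsQuasiCompactMor f.hom ∨ IsSeparatedMor f.hom) :
    ∃ (W X' : Space S) (j : W ⟶ Y) (fst : X' ⟶ W) (snd : X' ⟶ X), RepWith @IsOpenImmersion j.hom ∧
      Dense (Set.range (Points.map j.hom)) ∧ IsPullback fst.hom snd.hom j.hom f.hom ∧ IsFiniteMor fst.hom := by
  obtain ⟨M₀, Φ₀, hΦ₀, hD⟩ := exists_dense_open_scheme Y.property hY
  have hgenD := codimZero_dense Y.property hY hY0
  have hΦe : RepWith @Etale Φ₀ := repWith_mono (fun _ _ k hk => by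
    have : IsOpenImmersion k := hk
    infer_instance) hΦ₀
  have hΦm : Mono Φ₀ := mono_of_repWith hΦ₀ fun _ _ k hk => by
    have : IsOpenImmersion k := hk
    infer_instance
  have hΦinj : Function.Injective (Points.ofPt Φ₀) := fun p q e => by
    refine (Points.schemeEquiv M₀).injective (injective_map_of_mono Φ₀ ?_)
    show Points.map Φ₀ (Points.ofPt (𝟙 _) p) = Points.map Φ₀ (Points.ofPt (𝟙 _) q)
    rw [Points.map_ofPt, Points.map_ofPt, Category.id_comp]
    exact e
  obtain ⟨n, pt, hpt⟩ := hY0.fin_param.imp fun n h => (h.imp fun f hf => hf.2)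
  let ι : Type u := ULift.{u} (Fin n)
  have hpt0 : ∀ i : ι, HasAt (fun U u => ringKrullDim ↥(U.presheaf.stalk u) = 0) Y.obj (pt i.down) :=
    fun i => hpt.le ⟨i.down, rfl⟩
  have hm : ∀ i : ι, ∃ m : M₀.left, Points.ofPt Φ₀ m = pt i.down := fun i => by
    have := hgenD.1 _ (by rw [range_map_yon]; exact (isOpenMap_ofPt_of_etale hΦe).isOpen_range) hD _ (hpt0 i)
    rwa [range_map_yon] at this
  choose m₀ hm₀ using hm
  have hmmax : ∀ i : ι, ∀ z, z ⤳ m₀ i → z = m₀ i := fun i =>
    (hasAt_dim_zero_iff hΦe (m₀ i)).1 ((hm₀ i).symm ▸ hpt0 i)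
  -- the neighbourhoods
  let O : ι → M₀.left.Opens := fun i =>
    ⟨(⋃ k ∈ {k : ι | m₀ k ≠ m₀ i}, closure {m₀ k})ᶜ,
      ((Set.toFinite _).isClosed_biUnion fun _ _ => isClosed_closure).isOpen_compl⟩
  have hmO : ∀ i, m₀ i ∈ O i := fun i h => by
    obtain ⟨k, hk, hcl⟩ := Set.mem_iUnion₂.1 h
    exact hk (hmmax i _ (specializes_iff_mem_closure.2 hcl))
  choose N hN hmN hNO using fun i => exists_isAffineOpen_mem_and_subset (hmO i)
  let V : ι → Over S := fun i => Over.mk ((N i).ι ≫ M₀.hom)
  let b : ∀ i, (yon S).obj (V i) ⟶ Y.obj := fun i => (yon S).map (Over.homMk (N i).ι rfl : V i ⟶ M₀) ≫ Φ₀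
  have hb : ∀ i, RepWith @Etale (b i) := fun i =>
    repWith_yon_comp (P := @Etale) _ (inferInstanceAs (Etale (N i).ι)) hΦe
  let v : ∀ i, (V i).left := fun i => ⟨m₀ i, hmN i⟩
  have hbpt : ∀ i (z : (V i).left), Points.ofPt (b i) z = Points.ofPt Φ₀ z.1 := fun i z => ofPt_comp _ _ z
  have hbv : ∀ i (z : (V i).left), HasAt (fun U u => ringKrullDim ↥(U.presheaf.stalk u) = 0) Y.obj
      (Points.ofPt (b i) z) ↔ z = v i := by
    intro i z
    refine ⟨fun h => ?_, fun h => by rw [h, hbpt]; exact (hm₀ i).symm ▸ hpt0 i⟩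
    obtain ⟨k, hk⟩ := hpt.ge h
    have hz : z.1 = m₀ ⟨k⟩ := hΦinj (by rw [← hbpt, hm₀ ⟨k⟩, hk])
    have hki : m₀ ⟨k⟩ = m₀ i := by_contra fun hne =>
      hNO i z.2 (Set.mem_iUnion₂.2 ⟨⟨k⟩, hne, by rw [hz]; exact subset_closure rfl⟩)
    exact Subtype.ext (hz.trans hki)
  have hVmax : ∀ i, ∀ z : (V i).left, z ⤳ v i → z = v i := fun i z hz =>
    Subtype.ext (hmmax i z.1 (hz.map continuous_subtype_val))
  have piece : ∀ i, ∃ (V' : (V i).left.Opens) (M : Over S) (m : M ⟶ Over.mk (V'.ι ≫ (V i).hom))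
      (ψ : (yon S).obj M ⟶ X.obj), v i ∈ V' ∧ IsFinite m.left ∧
        IsPullback ψ ((yon S).map m) f.hom
          ((yon S).map (Over.homMk V'.ι rfl : Over.mk (V'.ι ≫ (V i).hom) ⟶ V i) ≫ b i) := by
    intro i
    have sP := IsPullback.of_hasPullback f.hom (b i)
    have hP := isAlgSpace_of_isPullback sP X.property (IsAlgSpace.yon_obj (V i)) Y.property
    have : IsAffine (V i).left := hN i
    have hbase : RepWith @Etale (pullback.fst f.hom (b i)) := repWith_baseChange sP.flip (hb i)
    have key : ∀ (U : Over S) (a : (yon S).obj U ⟶ pullback f.hom (b i)), RepWith @Etale a → ∀ h : U ⟶ V i,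
        a ≫ pullback.snd f.hom (b i) = (yon S).map h →
          ∀ u : U.left, ((∀ z : U.left, z ⤳ u → z = u) ↔ h.left u = v i) := by
      intro U a ha h hh u
      rw [← hasAt_dim_zero_iff (repWith_comp ha hbase) u, hpre, Points.map_ofPt, Category.assoc, sP.w,
        ← Category.assoc, hh, ofPt_comp, hbv]
    have hcase : IsQuasiCompactMor (pullback.snd f.hom (b i)) ∨ IsSeparatedMor (pullback.snd f.hom (b i)) ∧
        {p : Points (pullback f.hom (b i)) |
          Points.map (pullback.snd f.hom (b i)) p = Points.ofPt (𝟙 _) (v i)}.Finite := by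
      refine hqs.imp (isQuasiCompactMor_baseChange sP) fun h => ⟨repWith_diagonal_baseChange sP h, ?_⟩
      have : Mono (b i) := by
        have : Mono ((Over.forget S).map (Over.homMk (N i).ι rfl : V i ⟶ M₀)) :=
          show Mono (N i).ι from inferInstance
        have := (Over.forget S).mono_of_mono_map this
        exact mono_comp _ _
      have : Mono (pullback.fst f.hom (b i)) :=
        MorphismProperty.pullback_fst (P := MorphismProperty.monomorphisms (Sp S)) _ _ ‹Mono (b i)›
      refine (hX0.preimage (injective_map_of_mono (pullback.fst f.hom (b i))).injOn).subset fun p hp => ?_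
      show HasAt (fun U u => ringKrullDim ↥(U.presheaf.stalk u) = 0) X.obj (Points.map (pullback.fst f.hom (b i)) p)
      rw [hpre, ← Points.map_comp, sP.w, Points.map_comp,
        show Points.map (pullback.snd f.hom (b i)) p = Points.ofPt (𝟙 _) (v i) from hp, Points.map_ofPt,
        Category.id_comp]
      exact (hbv i _).2 rfl
    obtain ⟨V', M, m, φ, hv, hm, sM⟩ := exists_finite_cover_piece hP (pullback.snd f.hom (b i))
      (locP_baseChange X.property Y.property (IsAlgSpace.yon_obj _) sP hf) (hVmax i) key hcase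
    exact ⟨V', M, m, φ ≫ pullback.fst f.hom (b i), hv, hm, sM.flip.paste_horiz sP⟩
  choose V' M m ψ hvV hmfin sB using piece
  let Z : ι → Over S := fun i => Over.mk ((V' i).ι ≫ (V i).hom)
  let c : ∀ i, (yon S).obj (Z i) ⟶ Y.obj := fun i =>
    (yon S).map (Over.homMk (V' i).ι rfl : Z i ⟶ V i) ≫ b i
  have hc : ∀ i, RepWith @Etale (c i) := fun i =>
    repWith_yon_comp (P := @Etale) _ (inferInstanceAs (Etale (V' i).ι)) (hb i)
  obtain ⟨W, j, hj, hjr⟩ := exists_open_subspace Y (⋃ i, Set.range (Points.ofPt (c i)))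
    (isOpen_iUnion fun i => (isOpenMap_ofPt_of_etale (hc i)).isOpen_range)
  choose β hβ using fun i => exists_factor_of_range hj (c i) fun t => by
    rw [hjr]; exact Set.mem_iUnion.2 ⟨i, t, rfl⟩
  have : Mono j.hom := mono_of_repWith hj fun _ _ k hk => by
    have : IsOpenImmersion k := hk
    infer_instance
  have sX := IsPullback.of_hasPullback j.hom f.hom
  have hX' := isAlgSpace_of_isPullback sX W.property X.property Y.property
  refine ⟨W, ⟨pullback j.hom f.hom, hX'⟩, j, ObjectProperty.homMk (pullback.fst j.hom f.hom),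
    ObjectProperty.homMk (pullback.snd j.hom f.hom), hj, ?_, sX, ?_⟩
  · rw [hjr]
    refine hgenD.2 _ fun y hy => ?_
    obtain ⟨k, rfl⟩ := hpt.ge hy
    refine Set.mem_iUnion.2 ⟨⟨k⟩, ⟨v ⟨k⟩, hvV ⟨k⟩⟩, ?_⟩
    rw [ofPt_comp]
    exact (hbpt _ _).trans (hm₀ ⟨k⟩)
  · let q : ∀ i, (yon S).obj (M i) ⟶ pullback j.hom f.hom := fun i =>
      sX.lift ((yon S).map (m i) ≫ β i) (ψ i) (by rw [Category.assoc, hβ]; exact (sB i).w.symm)
    have sq : ∀ i, IsPullback (q i) ((yon S).map (m i)) (pullback.fst j.hom f.hom) (β i) := fun i =>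
      IsPullback.of_right (by rw [sX.lift_snd, hβ]; exact sB i) (sX.lift_fst _ _ _) sX.flip
    refine isFiniteMor_of_etale_family hX' W.property (pullback.fst j.hom f.hom) Z β
      (fun i => repWith_of_comp_mono (β i) j.hom (by rw [hβ]; exact hc i)) (fun y' => ?_)
      (fun i => (yon S).obj (M i)) (fun i => (yon S).map (m i)) q sq
      (fun i => (isFiniteMor_iff_repWith _).2 ((repWith_yon_map_iff @IsFinite (m i)).2 (hmfin i)))
    obtain ⟨i, t, ht⟩ := Set.mem_iUnion.1
      (show Points.map j.hom y' ∈ ⋃ i, Set.range (Points.ofPt (c i)) from hjr ▸ ⟨y', rfl⟩)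
    refine ⟨i, Points.ofPt (𝟙 _) t, injective_map_of_mono j.hom ?_⟩
    rw [Points.map_ofPt, Category.id_comp, Points.map_ofPt, hβ, ht]

end Groth.Agent.AlgSpFin
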