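import Groth.Agent.AlgSpFin.DecentTopo
import Groth.Prelude.Def_AlgSp3
import Groth.Prelude.Def_AlgSp4

/-!
Dimension functions descend along surjective finite morphisms.
-/

set_option autoImplicit false
set_option backward.isDefEq.respectTransparency.types false

universe u

open CategoryTheory CategoryTheory.Limits AlgebraicGeometry Opposite AlgSp TopologicalSpace

namespace Groth.Agent.AlgSpFin

open Groth.Agent.AlgSpLib

variable {S : Scheme.{u}}

/-- Finite morphisms are closed. -/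
theorem isClosedMap_of_isFiniteMor {X Y : Sp S} (hY : IsAlgSpace Y) {f : X ⟶ Y} (hf : IsFiniteMor f) :
    IsClosedMap (Points.map f) := by
  intro T hT
  obtain ⟨V₀, b₀, hb₀, hbs⟩ := hY.atlas
  rw [← isOpen_compl_iff, ← (isQuotientMap_ofPt hb₀ hbs).isOpen_preimage, Set.preimage_compl, isOpen_compl_iff]
  refine isClosed_of_closure_subset fun v hv => ?_
  obtain ⟨O, hO, hvO, -⟩ := exists_isAffineOpen_mem_and_subset (X := V₀.left) (U := ⊤) (x := v) trivial
  let Z : Over S := Over.mk (O.ι ≫ V₀.hom)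
  let ι : Z ⟶ V₀ := Over.homMk O.ι rfl
  obtain ⟨W, i, fst, sq, -, hi⟩ := hf (show IsAffine Z.left from hO) ((yon S).map ι ≫ b₀)
  have hcl : IsClosed (i.left '' (Points.ofPt fst ⁻¹' T)) :=
    i.left.isClosedMap _ (hT.preimage (Points.continuous_ofPt fst))
  have hpre : i.left '' (Points.ofPt fst ⁻¹' T) = ι.left ⁻¹' (Points.ofPt b₀ ⁻¹' (Points.map f '' T)) := by
    ext z
    constructor
    · rintro ⟨w, hw, rfl⟩
      refine ⟨Points.ofPt fst w, hw, ?_⟩
      rw [Points.map_ofPt, sq.w, ofPt_comp, ofPt_comp]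
    · rintro ⟨y, hy, he⟩
      obtain ⟨z', hz₁, hz₂⟩ := exists_point_of_isPullback sq y (Points.ofPt (𝟙 _) z) (by
        rw [Points.map_ofPt, Category.id_comp, he, ofPt_comp])
      obtain ⟨w, rfl⟩ := (Points.schemeEquiv W).surjective z'
      refine ⟨w, ?_, ?_⟩
      · have : Points.ofPt fst w = y := by
          rw [← hz₁]
          show _ = Points.map fst (Points.ofPt (𝟙 _) w)
          rw [Points.map_ofPt, Category.id_comp]
        show Points.ofPt fst w ∈ T
        rw [this]; exact hy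
      · refine (Points.schemeEquiv Z).injective ?_
        show Points.ofPt (𝟙 _) (i.left w) = Points.ofPt (𝟙 _) z
        rw [← hz₂, ← ofPt_comp i (𝟙 _) w, Category.comp_id]
        show _ = Points.map ((yon S).map i) (Points.ofPt (𝟙 _) w)
        rw [Points.map_ofPt, Category.id_comp]
  rw [hpre] at hcl
  by_contra hn
  obtain ⟨z, hz₁, hz₂⟩ := mem_closure_iff.1 hv (ι.left '' (ι.left ⁻¹' (Points.ofPt b₀ ⁻¹' (Points.map f '' T)))ᶜ)
    (O.ι.isOpenEmbedding.isOpenMap _ hcl.isOpen_compl) ⟨⟨v, hvO⟩, hn, rfl⟩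
  obtain ⟨t, ht, rfl⟩ := hz₁
  exact ht hz₂

/-- Dimension functions descend along finite surjections. -/
theorem dimFun_of_finite_surjective {X Y : Space S} (f : Y ⟶ X) (hf : IsFiniteMor f.hom)
    (hs : Function.Surjective (Points.map f.hom)) (δ : Points X.obj → ℤ)
    (hδ : ∀ a b : Points Y.obj, a ⤳ b → a ≠ b → δ (Points.map f.hom b) < δ (Points.map f.hom a) ∧
      ((∀ c : Points Y.obj, a ⤳ c → c ⤳ b → c = a ∨ c = b) →
        δ (Points.map f.hom a) = δ (Points.map f.hom b) + 1))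
    (a b : Points X.obj) (hab : a ⤳ b) (hne : a ≠ b) :
    δ b < δ a ∧ ((∀ c : Points X.obj, a ⤳ c → c ⤳ b → c = a ∨ c = b) → δ a = δ b + 1) := by
  obtain ⟨a', rfl⟩ := hs a
  obtain ⟨b', hb', rfl⟩ : ∃ b', a' ⤳ b' ∧ Points.map f.hom b' = b := by
    have hc := isClosedMap_of_isFiniteMor X.property hf (closure {a'}) isClosed_closure
    obtain ⟨b', hb', e⟩ := hab.mem_closed hc ⟨a', subset_closure rfl, rfl⟩
    exact ⟨b', specializes_iff_mem_closure.2 hb', e⟩
  have hne' : a' ≠ b' := fun e => hne (congrArg _ e)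
  refine ⟨(hδ a' b' hb' hne').1, fun hmin => (hδ a' b' hb' hne').2 fun c h₁ h₂ => ?_⟩
  rcases hmin _ (h₁.map (Points.continuous_map f.hom)) (h₂.map (Points.continuous_map f.hom)) with e | e
  · by_cases hc : a' = c
    · exact Or.inl hc.symm
    · exact absurd (hδ a' c h₁ hc).1 (by rw [e]; exact lt_irrefl _)
  · by_cases hc : c = b'
    · exact Or.inr hc
    · exact absurd (hδ c b' h₂ hc).1 (by rw [e]; exact lt_irrefl _)

end Groth.Agent.AlgSpFin
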