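import Groth.Agent.AlgSpFin.SchemePiece
import Groth.Agent.GrpdBasic.Saturation

/-!
The relation of a chart over a point with finite nearby fibres.
-/

set_option autoImplicit false
set_option backward.isDefEq.respectTransparency.types false

universe u

open CategoryTheory CategoryTheory.Limits AlgebraicGeometry Opposite AlgSp

namespace Groth.Agent.AlgSpFin

open Groth.Agent.AlgSpLib

variable {S : Scheme.{u}}

/-- Where the chart is finite over the base, the relation has finite fibres. -/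
theorem finite_relation_fibre {X : Sp S} {V U R : Over S} {f : X ⟶ (yon S).obj V} {a : (yon S).obj U ⟶ X}
    {h : U ⟶ V} (hah : a ≫ f = (yon S).map h) {s t : R ⟶ U}
    (sR : IsPullback ((yon S).map s) ((yon S).map t) a a) (V₁ : V.left.Opens) [IsFinite (h.left ∣_ V₁)] {v : V.left}
    (hv : v ∈ V₁) : ((t.left ≫ h.left) ⁻¹' {v}).Finite := by
  have hst : s.left ≫ h.left = t.left ≫ h.left := congrArg CommaMorphism.left
    (show s ≫ h = t ≫ h from (yon S).map_injective (by
      rw [Functor.map_comp, Functor.map_comp, ← hah, reassoc_of% sR.w]))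
  let l : R.left ⟶ pullback h.left h.left := pullback.lift s.left t.left hst
  have : Mono l := ⟨fun {T} p q e => by
    have hs : p ≫ s.left = q ≫ s.left := by
      rw [show s.left = l ≫ pullback.fst _ _ from (pullback.lift_fst _ _ _).symm, reassoc_of% e]
    have ht : p ≫ t.left = q ≫ t.left := by
      rw [show t.left = l ≫ pullback.snd _ _ from (pullback.lift_snd _ _ _).symm, reassoc_of% e]
    have hq : q ≫ R.hom = p ≫ R.hom := by rw [← Over.w s, ← Category.assoc, ← hs, Category.assoc]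
    let p' : Over.mk (p ≫ R.hom) ⟶ R := Over.homMk p rfl
    let q' : Over.mk (p ≫ R.hom) ⟶ R := Over.homMk q hq
    have : p' = q' := (yon S).map_injective (sR.hom_ext
      (by rw [← Functor.map_comp, ← Functor.map_comp]; exact congrArg _ (Over.OverMorphism.ext hs))
      (by rw [← Functor.map_comp, ← Functor.map_comp]; exact congrArg _ (Over.OverMorphism.ext ht)))
    exact congrArg CommaMorphism.left this⟩
  let h₁ := h.left ∣_ V₁
  let j : pullback h₁ h₁ ⟶ pullback h.left h.left :=
    pullback.map h₁ h₁ h.left h.left (h.left ⁻¹ᵁ V₁).ι (h.left ⁻¹ᵁ V₁).ι V₁.ι (morphismRestrict_ι _ _)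
      (morphismRestrict_ι _ _)
  have hfin : ((pullback.fst h₁ h₁ ≫ h₁) ⁻¹' {(⟨v, hv⟩ : V₁.toScheme)}).Finite :=
    (pullback.fst h₁ h₁ ≫ h₁).finite_preimage_singleton _
  refine ((hfin.image j).preimage l.injective.injOn).subset fun r (hr : (t.left ≫ h.left) r = v) => ?_
  have hw : l r ∈ Set.range j := by
    rw [show Set.range j = pullback.fst h.left h.left ⁻¹' Set.range (h.left ⁻¹ᵁ V₁).ι ∩
      pullback.snd h.left h.left ⁻¹' Set.range (h.left ⁻¹ᵁ V₁).ι from Scheme.Pullback.range_map _ _ _ _ _ _ _ _ _,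
      Scheme.Opens.range_ι]
    constructor
    · show h.left (pullback.fst h.left h.left (l r)) ∈ V₁
      rw [← Scheme.Hom.comp_apply, ← Scheme.Hom.comp_apply, pullback.lift_fst_assoc, hst, hr]
      exact hv
    · show h.left (pullback.snd h.left h.left (l r)) ∈ V₁
      rw [← Scheme.Hom.comp_apply, ← Scheme.Hom.comp_apply, pullback.lift_snd_assoc, hr]
      exact hv
  obtain ⟨z, hz⟩ := hw
  refine ⟨z, V₁.ι.isOpenEmbedding.injective ?_, hz⟩
  have e : (pullback.fst h₁ h₁ ≫ h₁) ≫ V₁.ι = j ≫ pullback.snd h.left h.left ≫ h.left := by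
    rw [Category.assoc, morphismRestrict_ι, ← pullback.condition]
    simp only [j, pullback.map]
    erw [pullback.lift_fst_assoc]
    simp only [Category.assoc]
  rw [← Scheme.Hom.comp_apply, e, Scheme.Hom.comp_apply, hz, ← Scheme.Hom.comp_apply, ← Category.assoc,
    pullback.lift_snd]
  exact hr

/-- A map finite on a compact open containing all points over an open of the target, in a scheme whose nonempty
opens meet that compact open there, is finite over that open. -/
theorem isFinite_of_compact_piece {R V : Scheme.{u}} (r : R ⟶ V) [IsSeparated r] (C : R.Opens) (V' : V.Opens)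
    (hC : IsFinite ((C.ι ≫ r) ∣_ V'))
    (hmeet : ∀ O : R.Opens, (O : Set R).Nonempty → (∀ z ∈ O, r z ∈ V') → ∃ z ∈ O, z ∈ C) :
    IsFinite (r ∣_ V') := by
  have : IsFinite ((C.ι ∣_ (r ⁻¹ᵁ V')) ≫ (r ∣_ V')) := morphismRestrict_comp C.ι r V' ▸ hC
  have : IsFinite (C.ι ∣_ (r ⁻¹ᵁ V')) := IsFinite.of_comp _ (r ∣_ V')
  let k := C.ι ∣_ (r ⁻¹ᵁ V')
  let O : R.Opens := (r ⁻¹ᵁ V').ι ''ᵁ ⟨(Set.range k)ᶜ, k.isClosedMap.isClosed_range.isOpen_compl⟩
  have hsurj : Set.range k = Set.univ := by
    by_contra hne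
    obtain ⟨z, hz⟩ := (Set.ne_univ_iff_exists_notMem _).1 hne
    obtain ⟨_, ⟨y, hy, rfl⟩, hyC⟩ := hmeet O ⟨_, z, hz, rfl⟩ (by rintro _ ⟨y, -, rfl⟩; exact y.2)
    refine hy ⟨⟨⟨y.1, hyC⟩, y.2⟩, Subtype.ext ?_⟩
    rw [morphismRestrict_base_coe]
    rfl
  have : IsIso k := isIso_of_isOpenImmersion_of_opensRange_eq_top _ (TopologicalSpace.Opens.ext hsurj)
  exact (MorphismProperty.cancel_left_of_respectsIso @IsFinite k (r ∣_ V')).1 ‹_›

end Groth.Agent.AlgSpFin
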