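import Groth.Agent.AlgSpFin.SchemePoint
import Groth.Agent.AlgSpFin.RelFibre
import Groth.Agent.AlgSpFin.CompactRel

/-!
Finite fibres over points of codimension zero.
-/

set_option autoImplicit false
set_option backward.isDefEq.respectTransparency.types false

universe u

open CategoryTheory CategoryTheory.Limits AlgebraicGeometry Opposite AlgSp

namespace Groth.Agent.AlgSpFin

open Groth.Agent.AlgSpLib

variable {S : Scheme.{u}}

/-- A point with finite fibre, maximal in an affine base, has a neighbourhood with a finite piece over it. -/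
theorem exists_finite_piece_of_fibre {P : Sp S} (hP : IsAlgSpace P) {V : Over S} [IsAffine V.left]
    (π : P ⟶ (yon S).obj V) (hl : LocP @LocallyOfFiniteType π) (hq : IsQuasiSeparatedMor π) {v : V.left}
    (hmax : ∀ a : V.left, a ⤳ v → a = v) (hfin : {p | Points.map π p = Points.ofPt (𝟙 _) v}.Finite) :
    ∃ (V' : V.left.Opens) (M : Over S) (m : M ⟶ Over.mk (V'.ι ≫ V.hom)) (φ : (yon S).obj M ⟶ P),
      v ∈ V' ∧ IsFinite m.left ∧ RepWith @IsOpenImmersion φ ∧
        φ ≫ π = (yon S).map (m ≫ Over.homMk V'.ι rfl) ∧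
        ∀ p, Points.map π p = Points.ofPt (𝟙 _) v → p ∈ Set.range (Points.map φ) := by
  obtain ⟨U, a, hU, ha, hsub⟩ := exists_affine_chart_finite hP _ hfin
  have := hU
  obtain ⟨h, hh⟩ := (yon S).map_surjective (a ≫ π)
  have hd := isDecent_of_isQuasiSeparatedMor hP π hq
  have hmap : ∀ z : U.left, Points.map π (Points.ofPt a z) = Points.ofPt (𝟙 _) (h.left z) := fun z => by
    rw [Points.map_ofPt, ← hh, ← ofPt_comp, Category.comp_id]
  have hfibU : (h.left ⁻¹' {v}).Finite :=
    (hfin.biUnion fun p _ => finite_fibre_of_isDecent hP hd ha p).subset fun z (hz : h.left z = v) =>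
      Set.mem_biUnion (x := Points.ofPt a z) (by show Points.map π _ = _; rw [hmap, hz]) rfl
  have : LocallyOfFiniteType h.left := hl a (𝟙 _) h ha (repWith_id _ V) (by rw [Category.comp_id, hh])
  have hvc := GenericFinite.mem_components_of_forall hmax
  obtain ⟨V₁, -, hv₁, hf₁⟩ := (GenericFinite.finite_preimage_iff h.left v hvc).1 hfibU
  obtain ⟨R, s, t, sR⟩ := exists_isPullback ha.1 a
  have : Etale t.left := prop_snd sR ha
  have := isSeparated_snd_of_affine sR
  have : CompactSpace R.left := compactSpace_pullback_of_qs π hq sR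
  have := hf₁
  obtain ⟨V₂, -, hv₂, hf₂⟩ := (GenericFinite.finite_preimage_iff (t.left ≫ h.left) v hvc).1
    (finite_relation_fibre hh.symm sR V₁ hv₁)
  obtain ⟨V', hV', hvV', hV'le⟩ := exists_isAffineOpen_mem_and_subset (show v ∈ V₁ ⊓ V₂ from ⟨hv₁, hv₂⟩)
  obtain ⟨M, m, φ, hm, hφ, hφw, hφc⟩ := exists_finite_piece hP ha hh.symm sR V' hV'
    (GenericFinite.isFinite_restrict_of_le h.left (fun z hz => (hV'le hz).1) hf₁)
    (GenericFinite.isFinite_restrict_of_le _ (fun z hz => (hV'le hz).2) hf₂)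
  refine ⟨V', M, m, φ, hvV', hm, hφ, hφw, fun p hp => ?_⟩
  obtain ⟨z, rfl⟩ := hsub hp
  rw [hmap] at hp
  exact hφc z ((Points.schemeEquiv V).injective hp ▸ hvV')

/-- A finite morphism has finite fibres. -/
theorem finite_fibre_of_isFiniteMor {X Y : Sp S} (hY : IsAlgSpace Y) {f : X ⟶ Y} (hf : IsFiniteMor f)
    (y : Points Y) : (Points.map f ⁻¹' {y}).Finite := by
  obtain ⟨V₀, b₀, -, hbs⟩ := hY.atlas
  obtain ⟨v₀, rfl⟩ := surjective_ofPt hbs y
  obtain ⟨B, hB, hvB, -⟩ := exists_isAffineOpen_mem_and_subset (X := V₀.left) (U := ⊤) (x := v₀) trivial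
  let V : Over S := Over.mk (B.ι ≫ V₀.hom)
  let b : (yon S).obj V ⟶ Y := (yon S).map (Over.homMk B.ι rfl : V ⟶ V₀) ≫ b₀
  obtain ⟨W, i, fst, sW, -, hi⟩ := hf (Z := V) hB b
  let v : V.left := ⟨v₀, hvB⟩
  refine ((i.left.finite_preimage_singleton v).image (Points.ofPt fst)).subset fun x (hx : Points.map f x = _) => ?_
  obtain ⟨z, hz₁, hz₂⟩ := exists_point_of_isPullback sW x (Points.ofPt (𝟙 _) v)
    (by rw [hx, Points.map_ofPt, Category.id_comp]; exact (ofPt_comp (Over.homMk B.ι rfl : V ⟶ V₀) b₀ v).symm)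
  obtain ⟨w, rfl⟩ := exists_ofScheme z
  rw [Points.map_ofPt, Category.id_comp] at hz₁
  rw [Points.map_ofPt, Category.id_comp, ← Category.comp_id ((yon S).map i), ofPt_comp] at hz₂
  exact ⟨w, (Points.schemeEquiv V).injective hz₂, hz₁⟩

/-- A finite map of schemes gives a finite morphism of spaces. -/
theorem isFiniteMor_yon {M V : Over S} (m : M ⟶ V) [IsFinite m.left] : IsFiniteMor ((yon S).map m) :=
  fun Z hZ g => by
    obtain ⟨g', rfl⟩ := (yon S).map_surjective g
    have sP := IsPullback.of_hasPullback m g'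
    have : IsFinite (pullback.snd m g').left :=
      MorphismProperty.of_isPullback (P := @IsFinite) (left_isPullback sP) inferInstance
    exact ⟨_, pullback.snd m g', _, yon_isPullback sP, isAffine_of_isAffineHom (pullback.snd m g').left, this⟩

/-- Over a point of codimension zero, a finite fibre spreads to a finite morphism of open pieces. -/
theorem finite_fibre_iff_finite_nbhd {X Y : Space S} (f : X ⟶ Y) (hqs : IsQuasiSeparatedMor f.hom)
    (hft : LocP @LocallyOfFiniteType f.hom) (hY : IsQuasiSeparatedSp Y.obj) (y : Points Y.obj)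
    (hy : HasAt (fun U u => ringKrullDim ↥(U.presheaf.stalk u) = 0) Y.obj y) :
    (Points.map f.hom ⁻¹' {y}).Finite ↔
      ∃ (X' Y' : Space S) (i : X' ⟶ X) (j : Y' ⟶ Y) (f' : X' ⟶ Y'), RepWith @IsOpenImmersion i.hom ∧
        RepWith @IsOpenImmersion j.hom ∧ f' ≫ j = i ≫ f ∧ y ∈ Set.range (Points.map j.hom) ∧
          Points.map f.hom ⁻¹' {y} ⊆ Set.range (Points.map i.hom) ∧ IsFiniteMor f'.hom := by
  refine ⟨fun hfin => ?_, ?_⟩
  · obtain ⟨M₀, φ₀, hφ₀, m₀, rfl⟩ := inOpenScheme_of_isQuasiSeparatedSp Y.property hY hy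
    obtain ⟨B, hB, hmB, -⟩ := exists_isAffineOpen_mem_and_subset (X := M₀.left) (U := ⊤) (x := m₀) trivial
    let V : Over S := Over.mk (B.ι ≫ M₀.hom)
    let jB : V ⟶ M₀ := Over.homMk B.ι rfl
    let b : (yon S).obj V ⟶ Y.obj := (yon S).map jB ≫ φ₀
    have hbo : RepWith @IsOpenImmersion b :=
      repWith_comp ((repWith_yon_map_iff @IsOpenImmersion jB).2 (inferInstanceAs (IsOpenImmersion B.ι))) hφ₀
    have hbe : RepWith @Etale b := repWith_mono (fun _ _ k hk => by
      have : IsOpenImmersion k := hk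
      infer_instance) hbo
    have : Mono b := mono_of_repWith hbo fun _ _ k hk => by
      have : IsOpenImmersion k := hk
      infer_instance
    have : IsAffine V.left := hB
    let v : V.left := ⟨m₀, hmB⟩
    have hbv : Points.ofPt b v = Points.ofPt φ₀ m₀ := ofPt_comp jB φ₀ v
    have sP := IsPullback.of_hasPullback f.hom b
    have hP := isAlgSpace_of_isPullback sP X.property (IsAlgSpace.yon_obj V) Y.property
    have hbi : RepWith @IsOpenImmersion (pullback.fst f.hom b) := repWith_baseChange sP.flip hbo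
    have : Mono (pullback.fst f.hom b) :=
      MorphismProperty.pullback_fst (P := MorphismProperty.monomorphisms (Sp S)) _ _ inferInstance
    obtain ⟨V', M, m, ψ, hvV', hm, hψ, hψw, hψc⟩ := exists_finite_piece_of_fibre hP (pullback.snd f.hom b)
      (locP_baseChange X.property Y.property (IsAlgSpace.yon_obj V) sP hft) (repWith_diagonal_baseChange sP hqs)
      ((hasAt_dim_zero_iff hbe v).1 (hbv ▸ hy))
      ((hfin.preimage (injective_map_of_mono (pullback.fst f.hom b)).injOn).subset fun p hp => by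
        show Points.map f.hom (Points.map (pullback.fst f.hom b) p) = _
        rw [← Points.map_comp, sP.w, Points.map_comp, hp, Points.map_ofPt, Category.id_comp, hbv])
    let jV : Over.mk (V'.ι ≫ V.hom) ⟶ V := Over.homMk V'.ι rfl
    refine ⟨⟨(yon S).obj M, IsAlgSpace.yon_obj M⟩, ⟨(yon S).obj (Over.mk (V'.ι ≫ V.hom)), IsAlgSpace.yon_obj _⟩,
      ObjectProperty.homMk (ψ ≫ pullback.fst f.hom b), ObjectProperty.homMk ((yon S).map jV ≫ b),
      ObjectProperty.homMk ((yon S).map m), repWith_comp hψ hbi,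
      repWith_comp ((repWith_yon_map_iff @IsOpenImmersion jV).2 (inferInstanceAs (IsOpenImmersion V'.ι))) hbo,
      ObjectProperty.hom_ext _ ?_, ?_, fun x (hx : Points.map f.hom x = _) => ?_, isFiniteMor_yon m⟩
    · show (yon S).map m ≫ (yon S).map jV ≫ b = (ψ ≫ pullback.fst f.hom b) ≫ f.hom
      rw [Category.assoc, sP.w, reassoc_of% hψw, ← Functor.map_comp_assoc]
    · refine ⟨Points.ofPt (𝟙 _) (⟨v, hvV'⟩ : V'.toScheme), ?_⟩
      show Points.map ((yon S).map jV ≫ b) _ = _
      rw [Points.map_ofPt, Category.id_comp, ofPt_comp, ← hbv]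
      rfl
    · obtain ⟨p, hp₁, hp₂⟩ := exists_point_of_isPullback sP x (Points.ofPt (𝟙 _) v)
        (by rw [hx, Points.map_ofPt, Category.id_comp, hbv])
      obtain ⟨q, hq⟩ := hψc p hp₂
      exact ⟨q, by show Points.map (ψ ≫ pullback.fst f.hom b) q = x; rw [Points.map_comp, hq, hp₁]⟩
  · rintro ⟨X', Y', i, j, f', hi, hj, hw, ⟨y', rfl⟩, hsub, hf'⟩
    have hw' : f'.hom ≫ j.hom = i.hom ≫ f.hom := congrArg InducedCategory.Hom.hom hw
    have : Mono j.hom := mono_of_repWith hj fun _ _ k hk => by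
      have : IsOpenImmersion k := hk
      infer_instance
    refine ((finite_fibre_of_isFiniteMor Y'.property hf' y').image (Points.map i.hom)).subset fun x hx => ?_
    obtain ⟨x', rfl⟩ := hsub hx
    refine ⟨x', injective_map_of_mono j.hom ?_, rfl⟩
    rw [← Points.map_comp, hw', Points.map_comp]
    exact hx

end Groth.Agent.AlgSpFin
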