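import Groth.Agent.GenericFinite.Basic
import Groth.Agent.AlgSpFin.DecentFibre
import Mathlib.AlgebraicGeometry.Morphisms.Etale

/-!
An etale separated morphism with finite fibres is finite over a nonempty open.
-/

set_option autoImplicit false
set_option backward.isDefEq.respectTransparency.types false

universe u

open CategoryTheory CategoryTheory.Limits AlgebraicGeometry TopologicalSpace

namespace Groth.Agent.AlgSpFin

variable {R U : Scheme.{u}}

/-- If the map is finite over no small affine open, more points of the fibres fit in a compact open. -/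
theorem exists_compact_open_card (s : R ⟶ U) [Etale s] [IsSeparated s] [IsAffine U]
    (hfin : ∀ x, (s ⁻¹' {x}).Finite)
    (hno : ∀ V : U.Opens, IsAffineOpen V → (V : Set U).Nonempty → ¬ IsFinite (s ∣_ V)) (k : ℕ) :
    ∀ V : U.Opens, (V : Set U).Nonempty → ∃ V' : U.Opens, V' ≤ V ∧ IsAffineOpen V' ∧ (V' : Set U).Nonempty ∧
      ∃ C : R.Opens, IsCompact (C : Set R) ∧ ∀ v ∈ V', k ≤ ((C : Set R) ∩ s ⁻¹' {v}).ncard := by
  induction k with
  | zero =>
    rintro V ⟨x, hx⟩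
    obtain ⟨A, hA, hxA, hAV⟩ := exists_isAffineOpen_mem_and_subset hx
    exact ⟨A, hAV, hA, ⟨x, hxA⟩, ⊥, isCompact_empty, fun v _ => Nat.zero_le _⟩
  | succ k ih =>
    intro V hV
    obtain ⟨V', hV'V, -, ⟨x, hx⟩, C, hC, hcard⟩ := ih V hV
    -- a generic point of the open
    obtain ⟨η, hη⟩ := QuasiSober.sober (irreducibleComponent_mem_irreducibleComponents x).1
      isClosed_irreducibleComponent
    have hηV : η ∈ V' := (hη.specializes mem_irreducibleComponent).mem_open V'.2 hx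
    have hηc : closure {η} ∈ irreducibleComponents U :=
      hη.def.symm ▸ irreducibleComponent_mem_irreducibleComponents x
    let g : (C : Scheme.{u}) ⟶ U := C.ι ≫ s
    have : CompactSpace (C : Scheme.{u}) := isCompact_iff_compactSpace.1 hC
    obtain ⟨B, hB, hηB, hgB⟩ := (GenericFinite.finite_preimage_iff g η hηc).1
      (((hfin η).preimage C.ι.isOpenEmbedding.injective.injOn).subset fun y hy => hy)
    obtain ⟨A, hA, hηA, hAle⟩ := exists_isAffineOpen_mem_and_subset (show η ∈ B ⊓ V' from ⟨hηB, hηV⟩)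
    have hgA : IsFinite (g ∣_ A) := GenericFinite.isFinite_restrict_of_le g (fun z hz => (hAle hz).1) hgB
    have : IsFinite ((C.ι ∣_ (s ⁻¹ᵁ A)) ≫ (s ∣_ A)) := morphismRestrict_comp C.ι s A ▸ hgA
    have : IsFinite (C.ι ∣_ (s ⁻¹ᵁ A)) := IsFinite.of_comp _ (s ∣_ A)
    by_cases hs : Set.range (C.ι ∣_ (s ⁻¹ᵁ A)) = Set.univ
    · have : Surjective (C.ι ∣_ (s ⁻¹ᵁ A)) := ⟨Set.range_eq_univ.1 hs⟩
      have : IsOpenImmersion (C.ι ∣_ (s ⁻¹ᵁ A)) := inferInstance
      have : IsIso (C.ι ∣_ (s ⁻¹ᵁ A)) := isIso_of_isOpenImmersion_of_opensRange_eq_top _ (Opens.ext hs)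
      exact (hno A hA ⟨η, hηA⟩ ((MorphismProperty.cancel_left_of_respectsIso @IsFinite (C.ι ∣_ (s ⁻¹ᵁ A)) (s ∣_ A)).1 ‹_›)).elim
    obtain ⟨r, hr⟩ := (Set.ne_univ_iff_exists_notMem _).1 hs
    let O : R.Opens := (s ⁻¹ᵁ A).ι ''ᵁ
      ⟨(Set.range (C.ι ∣_ (s ⁻¹ᵁ A)))ᶜ, (C.ι ∣_ (s ⁻¹ᵁ A)).isClosedMap.isClosed_range.isOpen_compl⟩
    have hOA : ∀ z ∈ O, s z ∈ A := by
      rintro _ ⟨z, -, rfl⟩
      exact z.2
    have hOC : ∀ z ∈ O, z ∉ C := by
      rintro _ ⟨z, hz, rfl⟩ hzC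
      refine hz ⟨⟨⟨z.1, hzC⟩, z.2⟩, Subtype.ext ?_⟩
      rw [morphismRestrict_base_coe]
      rfl
    obtain ⟨W, hW, hrW, hWO⟩ := exists_isAffineOpen_mem_and_subset
      (show (r : (s ⁻¹ᵁ A : R.Opens)).1 ∈ O from ⟨r, hr, rfl⟩)
    have himg : IsOpen (s '' (W : Set R)) := s.isOpenMap _ W.2
    obtain ⟨A', hA', hrA', hA'le⟩ := exists_isAffineOpen_mem_and_subset
      (show s r.1 ∈ (⟨s '' (W : Set R), himg⟩ : U.Opens) from ⟨r.1, hrW, rfl⟩)
    refine ⟨A', fun z hz => ?_, hA', ⟨_, hrA'⟩, C ⊔ W, hC.union hW.isCompact, fun v hv => ?_⟩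
    · obtain ⟨w, hw, rfl⟩ := hA'le hz
      exact hV'V (hAle (hOA w (hWO hw))).2
    · obtain ⟨w, hw, rfl⟩ := hA'le hv
      refine Nat.succ_le_of_lt (lt_of_le_of_lt (hcard _ (hAle (hOA w (hWO hw))).2) ?_)
      refine Set.ncard_lt_ncard ⟨Set.inter_subset_inter_left _ Set.subset_union_left, fun h => ?_⟩
        ((hfin _).subset Set.inter_subset_right)
      exact hOC w (hWO hw) (h ⟨Or.inr hw, rfl⟩).1

/-- An etale separated morphism with finite fibres is finite over a nonempty affine open. -/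
theorem exists_open_isFinite (s : R ⟶ U) [Etale s] [IsSeparated s] [IsAffine U] [Nonempty U]
    (hfin : ∀ x, (s ⁻¹' {x}).Finite) :
    ∃ V : U.Opens, IsAffineOpen V ∧ (V : Set U).Nonempty ∧ IsFinite (s ∣_ V) := by
  by_contra hcon
  have hno : ∀ V : U.Opens, IsAffineOpen V → (V : Set U).Nonempty → ¬ IsFinite (s ∣_ V) :=
    fun V h₁ h₂ h₃ => hcon ⟨V, h₁, h₂, h₃⟩
  let T := {V : U.Opens // IsAffineOpen V ∧ (V : Set U).Nonempty}
  have step : ∀ (k : ℕ) (V : T), ∃ V' : T, V'.1 ≤ V.1 ∧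
      ∀ v ∈ V'.1, k ≤ (s ⁻¹' {v}).ncard := fun k V => by
    obtain ⟨V', h₁, h₂, h₃, C, -, hC⟩ := exists_compact_open_card s hfin hno k V.1 V.2.2
    exact ⟨⟨V', h₂, h₃⟩, h₁, fun v hv => (hC v hv).trans (Set.ncard_le_ncard Set.inter_subset_right (hfin v))⟩
  choose next hle hnext using step
  let seq : ℕ → T := fun n => Nat.rec ⟨⊤, isAffineOpen_top U, Set.univ_nonempty⟩ (fun k V => next (k + 1) V) n
  have hanti : Antitone fun n => (seq n).1 := antitone_nat_of_succ_le fun n => hle (n + 1) (seq n)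
  obtain ⟨v, -, hv⟩ := exists_mem_iInter_of_fip isClosed_univ (fun n : ℕ => ((seq n).1 : Set U))
    (fun n => (seq n).1.2) (fun n => (seq n).2.1.isCompact) fun F => by
      obtain ⟨w, hw⟩ := (seq (F.sup id)).2.2
      exact ⟨w, Set.mem_univ _, Set.mem_iInter₂.2 fun i hi => hanti (Finset.le_sup (f := id) hi) hw⟩
  exact Nat.not_succ_le_self _ (hnext _ (seq (s ⁻¹' {v}).ncard) v (hv ((s ⁻¹' {v}).ncard + 1)))

end Groth.Agent.AlgSpFin
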