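import Groth.Agent.AlgSpFin.FinitePiece
import Groth.Agent.AlgSpFin.CompactRel
import Groth.Agent.AlgSpFin.MorCalc
import Groth.Agent.AlgSpFin.Basic
import Groth.Agent.AlgSpFin.ImmersionTop
import Groth.Agent.AlgSpLib.FpqcLocalRep

/-!
Finiteness over an open neighbourhood of a point of codimension zero.
-/

set_option autoImplicit false
set_option backward.isDefEq.respectTransparency.types false

universe u

open CategoryTheory CategoryTheory.Limits AlgebraicGeometry Opposite AlgSp

namespace Groth.Agent.AlgSpFin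

open Groth.Agent.AlgSpLib

variable {S : Scheme.{u}}

/-- An affine chart through a point of codimension zero, at a point without proper generalisations. -/
theorem exists_affine_chart_codimZero {Y : Sp S} {y : Points Y}
    (hy : HasAt (fun U u => ringKrullDim ↥(U.presheaf.stalk u) = 0) Y y) :
    ∃ (V : Over S) (b : (yon S).obj V ⟶ Y) (v : V.left), IsAffine V.left ∧ RepWith @Etale b ∧
      Points.ofPt b v = y ∧ ∀ a : V.left, a ⤳ v → a = v := by
  obtain ⟨V₀, b₀, v₀, hb₀, he, h0⟩ := hy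
  obtain ⟨B, hB, hvB, -⟩ := exists_isAffineOpen_mem_and_subset (X := V₀.left) (x := v₀) (U := ⊤) trivial
  let V : Over S := Over.mk (B.ι ≫ V₀.hom)
  let ι₀ : V ⟶ V₀ := Over.homMk B.ι rfl
  refine ⟨V, (yon S).map ι₀ ≫ b₀, ⟨v₀, hvB⟩, hB,
    repWith_yon_comp (P := @Etale) ι₀ (inferInstanceAs (Etale B.ι)) hb₀, by rw [ofPt_comp]; exact he, ?_⟩
  exact (forall_eq_iff_of_etale B.ι (⟨v₀, hvB⟩ : B.toScheme)).2 ((stalkDim_eq_zero_iff v₀).1 h0)

/-- Quasi-finite along the fibre over a point of codimension zero: finite over an open neighbourhood. -/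
theorem exists_finite_over_nhd {X Y : Space S} (f : X ⟶ Y) (hqs : IsQuasiSeparatedMor f.hom)
    (hft : IsFiniteTypeMor f.hom) (y : Points Y.obj)
    (hy : HasAt (fun U u => ringKrullDim ↥(U.presheaf.stalk u) = 0) Y.obj y)
    (hqf : ∀ x : Points X.obj, Points.map f.hom x = y → HasAtMor (fun U _ h u => ∃ W : U.Opens, u ∈ W ∧
      LocallyQuasiFinite (W.ι ≫ h) ∧ LocallyOfFiniteType (W.ι ≫ h)) f.hom x) :
    ∃ (Y' X' : Space S) (j : Y' ⟶ Y) (fst : X' ⟶ Y') (snd : X' ⟶ X), RepWith @IsOpenImmersion j.hom ∧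
      y ∈ Set.range (Points.map j.hom) ∧ IsPullback fst.hom snd.hom j.hom f.hom ∧ IsFiniteMor fst.hom := by
  obtain ⟨V, b, v, hV, hb, hv, hmax⟩ := exists_affine_chart_codimZero hy
  have sP := IsPullback.of_hasPullback f.hom b
  have hP := isAlgSpace_of_isPullback sP X.property (IsAlgSpace.yon_obj V) Y.property
  let π := pullback.snd f.hom b
  have hπs : IsQuasiSeparatedMor π := repWith_diagonal_baseChange sP hqs
  have hπc : IsQuasiCompactMor π := isQuasiCompactMor_baseChange sP hft.2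
  have := hV
  have hPc : IsQuasiCompactSp (pullback f.hom b) :=
    hπc (IsAlgSpace.yon_obj V) ⟨V, 𝟙 _, repWith_id _ V, repWith_id _ V, inferInstance⟩ (𝟙 _) (𝟙 _) π
      (IsPullback.of_horiz_isIso ⟨by rw [Category.id_comp, Category.comp_id]⟩)
  obtain ⟨U, a, hU, ha, has⟩ := (isQuasiCompactSp_iff_affine hP).1 hPc
  have := hU
  obtain ⟨h, hh⟩ := (yon S).map_surjective (a ≫ π)
  have ha' : RepWith @Etale (a ≫ pullback.fst f.hom b) := repWith_comp ha (repWith_baseChange sP.flip hb)
  have haf : (a ≫ pullback.fst f.hom b) ≫ f.hom = (yon S).map h ≫ b := by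
    rw [hh, Category.assoc, Category.assoc, sP.w]
  have hhl : LocallyOfFiniteType h.left := hft.1 _ _ h ha' hb haf
  have hfibU : (h.left ⁻¹' {v}).Finite := finite_fibre_of_quasiFinite h.left fun u hu => by
    obtain ⟨O, hO, hq, -⟩ := exists_open_quasiFinite ha' hb haf u (hqf _ (by
      rw [Points.map_ofPt, haf, ofPt_comp, hu, hv]))
    exact ⟨O, hO, hq⟩
  have hvc := GenericFinite.mem_components_of_forall hmax
  obtain ⟨V₁, -, hv₁, hf₁⟩ := (GenericFinite.finite_preimage_iff h.left v hvc).1 hfibU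
  obtain ⟨R, s, t, sR⟩ := exists_isPullback ha.1 a
  have : Etale t.left := prop_snd sR ha
  have := isSeparated_snd_of_affine sR
  have : CompactSpace R.left := compactSpace_pullback_of_qs π hπs sR
  have : LocallyQuasiFinite t.left := locallyQuasiFinite_of_formallyUnramified _
  have hfibR : ((t.left ≫ h.left) ⁻¹' {v}).Finite := t.left.finite_preimage hfibU
  obtain ⟨V₂, -, hv₂, hf₂⟩ := (GenericFinite.finite_preimage_iff (t.left ≫ h.left) v hvc).1 hfibR
  obtain ⟨V', hV', hvV', hV'le⟩ := exists_isAffineOpen_mem_and_subset (show v ∈ V₁ ⊓ V₂ from ⟨hv₁, hv₂⟩)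
  obtain ⟨M, m, φ, hm, hφ, hφw, hφc⟩ := exists_finite_piece hP ha hh.symm sR V' hV'
    (GenericFinite.isFinite_restrict_of_le h.left (fun z hz => (hV'le hz).1) hf₁)
    (GenericFinite.isFinite_restrict_of_le (t.left ≫ h.left) (fun z hz => (hV'le hz).2) hf₂)
  let VV : Over S := Over.mk (V'.ι ≫ V.hom)
  let jV : VV ⟶ V := Over.homMk V'.ι rfl
  have : Mono jV := (Over.forget S).mono_of_mono_map (show Mono V'.ι from inferInstance)
  have sM : IsPullback ((yon S).map m) φ ((yon S).map jV) π := by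
    refine isPullback_of_range hφ (by rw [hφw, Functor.map_comp]) fun x hx => ?_
    obtain ⟨u, rfl⟩ := surjective_ofPt has x
    refine hφc u ?_
    obtain ⟨z, hz⟩ := hx
    obtain ⟨r, rfl⟩ := exists_ofScheme z
    rw [Points.map_ofPt, Points.map_ofPt, Category.id_comp, ← hh, ← Category.comp_id ((yon S).map h),
      ← Category.comp_id ((yon S).map jV), ofPt_comp, ofPt_comp] at hz
    rw [← (Points.schemeEquiv V).injective hz]
    exact r.2
  have sB : IsPullback (φ ≫ pullback.fst f.hom b) ((yon S).map m) f.hom ((yon S).map jV ≫ b) :=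
    sM.flip.paste_horiz sP
  -- the open subspace
  let b' := (yon S).map jV ≫ b
  have hb' : RepWith @Etale b' := repWith_yon_comp (P := @Etale) jV (inferInstanceAs (Etale V'.ι)) hb
  obtain ⟨Y', j, hj, hjr⟩ := exists_open_subspace Y (Set.range (Points.ofPt b'))
    (isOpenMap_ofPt_of_etale hb').isOpen_range
  obtain ⟨β, hβ⟩ := exists_factor_of_range hj b' fun t => by rw [hjr]; exact ⟨t, rfl⟩
  have : Mono j.hom := mono_of_repWith hj fun _ _ k hk => by
    have : IsOpenImmersion k := hk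
    infer_instance
  have hβe : RepWith @Etale β := repWith_of_comp_mono β j.hom (by rw [hβ]; exact hb')
  have sX := IsPullback.of_hasPullback j.hom f.hom
  have hX' := isAlgSpace_of_isPullback sX Y'.property X.property Y.property
  let q := sX.lift ((yon S).map m ≫ β) (φ ≫ pullback.fst f.hom b) (by
    rw [Category.assoc, hβ]; exact sB.w.symm)
  have sq : IsPullback q ((yon S).map m) (pullback.fst j.hom f.hom) β :=
    IsPullback.of_right (by rw [sX.lift_snd, hβ]; exact sB) (sX.lift_fst _ _ _) sX.flip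
  refine ⟨Y', ⟨pullback j.hom f.hom, hX'⟩, j, ObjectProperty.homMk (pullback.fst j.hom f.hom),
    ObjectProperty.homMk (pullback.snd j.hom f.hom), hj, ?_, sX, ?_⟩
  · rw [hjr]
    exact ⟨⟨v, hvV'⟩, by rw [ofPt_comp]; exact hv⟩
  · refine isFiniteMor_of_etale_family hX' Y'.property (pullback.fst j.hom f.hom) (fun _ : PUnit.{u + 1} => VV)
      (fun _ => β) (fun _ => hβe) (fun y' => ⟨⟨⟩, ?_⟩) (fun _ => (yon S).obj M) (fun _ => (yon S).map m) (fun _ => q)
      (fun _ => sq) (fun _ => (isFiniteMor_iff_repWith _).2 ((repWith_yon_map_iff @IsFinite m).2 hm))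
    obtain ⟨t, ht⟩ : Points.map j.hom y' ∈ Set.range (Points.ofPt b') := hjr ▸ ⟨y', rfl⟩
    refine ⟨Points.ofPt (𝟙 _) t, injective_map_of_mono j.hom ?_⟩
    rw [Points.map_ofPt, Category.id_comp, Points.map_ofPt, hβ, ht]

end Groth.Agent.AlgSpFin
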