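import Groth.Agent.AlgSpFin.RepBySp
import Groth.Agent.AlgSpLib.Points
import Groth.Agent.AlgSpPts.Basic
import Groth.Prelude.Def_AlgSp3

/-!
Open subspaces from open sets of points.
-/

set_option autoImplicit false
set_option backward.isDefEq.respectTransparency false
set_option backward.isDefEq.respectTransparency.types false

universe u

open CategoryTheory CategoryTheory.Limits AlgebraicGeometry Opposite AlgSp

namespace Groth.Agent.AlgSpFin

open Groth.Agent.AlgSpLib

variable {S : Scheme.{u}}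

/-- The map of a scheme given by a section. -/
noncomputable def secHom (X : Sp S) {T : Over S} (x : X.obj.obj (op T)) : (yon S).obj T ⟶ X :=
  ObjectProperty.homMk (uliftYonedaEquiv.{u + 1}.symm x)

theorem secHom_map (X : Sp S) {T T' : Over S} (g : T' ⟶ T) (x : X.obj.obj (op T)) :
    secHom X (X.obj.map g.op x) = (yon S).map g ≫ secHom X x := by
  refine ObjectProperty.hom_ext _ ?_
  show uliftYonedaEquiv.{u + 1}.symm _ = (pyon S).map g ≫ uliftYonedaEquiv.{u + 1}.symm x
  exact uliftYonedaEquiv_symm_map g.op x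

/-- The presheaf of sections whose points land in a set of points. -/
def subPresheaf (X : Sp S) (W : Set (Points X)) : (Over S)ᵒᵖ ⥤ Type (u + 1) where
  obj T := {x : X.obj.obj T // ∀ t : T.unop.left, Points.ofPt (secHom X (T := T.unop) x) t ∈ W}
  map {T T'} g := ↾fun x => ⟨X.obj.map g x.1, fun t => by
    have : secHom X (T := T'.unop) (X.obj.map g x.1) = (yon S).map g.unop ≫ secHom X (T := T.unop) x.1 :=
      secHom_map X g.unop x.1
    rw [this, ofPt_comp]
    exact x.2 _⟩
  map_id T := by
    ext x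
    exact ConcreteCategory.congr_hom (X.obj.map_id T) x.1
  map_comp g h := by
    ext x
    exact ConcreteCategory.congr_hom (X.obj.map_comp g h) x.1

/-- Its inclusion. -/
def subInclusion (X : Sp S) (W : Set (Points X)) : subPresheaf X W ⟶ X.obj where
  app T := ↾Subtype.val

/-- An open set of points is the set of points of an open subspace. -/
theorem exists_open_subspace (X : Space S) (W : Set (Points X.obj)) (hW : IsOpen W) :
    ∃ (X' : Space S) (j : X' ⟶ X), RepWith @IsOpenImmersion j.hom ∧ Set.range (Points.map j.hom) = W := by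
  let F := X.obj
  -- the pullback to a scheme is an open subscheme
  have key : ∀ (T : Over S) (ξ : (pyon S).obj T ⟶ F.obj), ∃ (V : Over S) (k : V ⟶ T)
      (fst : (pyon S).obj V ⟶ subPresheaf F W), IsOpenImmersion k.left ∧
        IsPullback fst ((pyon S).map k) (subInclusion F W) ξ := by
    intro T ξ
    let g : (yon S).obj T ⟶ F := ObjectProperty.homMk ξ
    let O : T.left.Opens := ⟨Points.ofPt g ⁻¹' W, hW.preimage (Points.continuous_ofPt g)⟩
    let V : Over S := Over.mk (O.ι ≫ T.hom)
    let k : V ⟶ T := Over.homMk O.ι rfl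
    let x₀ : F.obj.obj (op V) := F.obj.map k.op (uliftYonedaEquiv.{u + 1} ξ)
    have hg : secHom F (uliftYonedaEquiv.{u + 1} ξ) = g :=
      ObjectProperty.hom_ext _ (uliftYonedaEquiv.{u + 1}.symm_apply_apply ξ)
    have hx₀ : secHom F x₀ = (yon S).map k ≫ g := by rw [secHom_map, hg]
    let y₀ : (subPresheaf F W).obj (op V) :=
      ⟨x₀, fun t => by
        show Points.ofPt (secHom F x₀) t ∈ W
        rw [hx₀, ofPt_comp]
        exact t.2⟩
    have w : uliftYonedaEquiv.{u + 1}.symm y₀ ≫ subInclusion F W = (pyon S).map k ≫ ξ := by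
      apply uliftYonedaEquiv.{u + 1}.injective
      rw [uliftYonedaEquiv_comp, Equiv.apply_symm_apply]
      exact uliftYonedaEquiv_naturality.{u + 1} (X := op T) (Y := op V) ξ k.op
    have : Mono k := (Over.forget S).mono_of_mono_map (show Mono O.ι from inferInstance)
    refine ⟨V, k, uliftYonedaEquiv.{u + 1}.symm y₀, inferInstanceAs (IsOpenImmersion O.ι),
      IsPullback.of_forall_isPullback_app fun Z => (Types.isPullback_iff _ _ _ _).2 ⟨?_, ?_, ?_⟩⟩
    · ext z; exact congrArg (fun φ : (pyon S).obj V ⟶ F.obj => φ.app Z z) w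
    · rintro z z' ⟨-, e⟩
      exact ULift.ext _ _ ((cancel_mono k).1 (congrArg ULift.down e))
    · intro y t e
      have ht : secHom F (T := Z.unop) y.1 = (yon S).map t.down ≫ g := by
        rw [← hg, ← secHom_map]
        refine congrArg (secHom F) ?_
        refine (show y.1 = ξ.app Z t from e).trans ?_
        exact (congrArg (fun φ : (pyon S).obj T ⟶ F.obj => φ.app Z t) (uliftYonedaEquiv.{u + 1}.symm_apply_apply ξ)).symm
      have hr : Set.range t.down.left ⊆ Set.range O.ι := by
        rintro _ ⟨z, rfl⟩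
        rw [Scheme.Opens.range_ι]
        have := y.2 z
        rwa [ht, ofPt_comp] at this
      let l : Z.unop ⟶ V := Over.homMk (IsOpenImmersion.lift O.ι t.down.left hr)
        (by simp only [V, Over.mk_hom, IsOpenImmersion.lift_fac_assoc, Over.w])
      have hl : l ≫ k = t.down := Over.OverMorphism.ext (IsOpenImmersion.lift_fac _ _ _)
      refine ⟨⟨l⟩, ?_, ULift.ext _ _ hl⟩
      refine Subtype.ext ?_
      have := congrArg (fun φ : (pyon S).obj V ⟶ F.obj => φ.app Z ⟨l⟩) w
      refine this.trans ?_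
      show ξ.app Z ⟨l ≫ k⟩ = y.1
      rw [hl]
      exact e.symm
  have hrel : (pyon S).relativelyRepresentable (subInclusion F W) := fun T ξ => by
    obtain ⟨V, k, fst, -, sq⟩ := key T ξ
    exact ⟨V, k, fst, sq⟩
  obtain ⟨hsh, halg⟩ :=
    isAlgSpaceP_of_repBySp (repBySp_of_relativelyRepresentable hrel) ((isAlgSpaceP_obj_iff F).2 X.property)
  let F' : Sp S := ⟨subPresheaf F W, hsh⟩
  let j : F' ⟶ F := ObjectProperty.homMk (subInclusion F W)
  have hj : RepWith @IsOpenImmersion j := repWith_of_exists fun T g => by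
    obtain ⟨V, k, fst, hk, sq⟩ := key T g.hom
    exact ⟨V, ObjectProperty.homMk fst, k,
      IsPullback.of_map_of_faithful (sheafToPresheaf (J S) (Type (u + 1))) sq, hk⟩
  refine ⟨⟨F', halg⟩, ObjectProperty.homMk j, hj, ?_⟩
  ext x
  constructor
  · rintro ⟨z, rfl⟩
    obtain ⟨r, rfl⟩ := Points.mk_surjective z
    let s : r.pt.left := (IsLocalRing.closedPoint r.K : PrimeSpectrum r.K)
    rw [← Points.ofPt_toHom r s, Points.map_ofPt]
    let y : (subPresheaf F W).obj (op r.pt) := uliftYonedaEquiv.{u + 1} r.toHom.hom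
    have hy : secHom F y.1 = r.toHom ≫ j := by
      refine ObjectProperty.hom_ext _ (uliftYonedaEquiv.{u + 1}.injective ?_)
      show uliftYonedaEquiv.{u + 1} (uliftYonedaEquiv.{u + 1}.symm y.1) = uliftYonedaEquiv.{u + 1} (r.toHom.hom ≫ subInclusion F W)
      rw [Equiv.apply_symm_apply, uliftYonedaEquiv_comp]
      rfl
    show Points.ofPt (r.toHom ≫ j) s ∈ W
    rw [← hy]
    exact y.2 s
  · intro hx
    obtain ⟨U₀, a₀, ha₀, ha₀s⟩ := X.property.atlas
    obtain ⟨u, rfl⟩ := surjective_ofPt ha₀s x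
    obtain ⟨V, k, fst, -, sq⟩ := key U₀ a₀.hom
    let O : U₀.left.Opens := ⟨Points.ofPt a₀ ⁻¹' W, hW.preimage (Points.continuous_ofPt a₀)⟩
    let V' : Over S := Over.mk (O.ι ≫ U₀.hom)
    let k' : V' ⟶ U₀ := Over.homMk O.ι rfl
    let y₀ : (subPresheaf F W).obj (op V') := ⟨uliftYonedaEquiv.{u + 1} ((yon S).map k' ≫ a₀).hom, fun t => by
      show Points.ofPt (secHom F _) t ∈ W
      rw [show secHom F (uliftYonedaEquiv.{u + 1} ((yon S).map k' ≫ a₀).hom) = (yon S).map k' ≫ a₀ from
        ObjectProperty.hom_ext _ (uliftYonedaEquiv.{u + 1}.symm_apply_apply _), ofPt_comp]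
      exact t.2⟩
    let ψ : (yon S).obj V' ⟶ F' := ObjectProperty.homMk (uliftYonedaEquiv.{u + 1}.symm y₀)
    have hψ : ψ ≫ j = (yon S).map k' ≫ a₀ := by
      refine ObjectProperty.hom_ext _ (uliftYonedaEquiv.{u + 1}.injective ?_)
      show uliftYonedaEquiv.{u + 1} (uliftYonedaEquiv.{u + 1}.symm y₀ ≫ subInclusion F W) = _
      rw [uliftYonedaEquiv_comp, Equiv.apply_symm_apply]
      rfl
    refine ⟨Points.ofPt ψ ⟨u, hx⟩, ?_⟩
    show Points.map j (Points.ofPt ψ ⟨u, hx⟩) = _
    rw [Points.map_ofPt, hψ, ofPt_comp]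
    rfl

end Groth.Agent.AlgSpFin
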