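import Groth.Agent.AlgSpLib.Basic
import Groth.Agent.GrpdBasic.NormOpen

/-!
An invariant affine open of the groupoid of a finite etale kernel pair.
-/

set_option autoImplicit false
set_option backward.isDefEq.respectTransparency.types false

universe u

open CategoryTheory CategoryTheory.Limits AlgebraicGeometry Opposite AlgSp

namespace Groth.Agent.AlgSpFin

open Groth.Agent.AlgSpLib

variable {S : Scheme.{u}}

/-- A point with orbit in an affine open has an affine saturated neighbourhood. -/
theorem exists_saturated_affine_open {X : Sp S} {Z R : Over S} (α : (yon S).obj Z ⟶ X) (s t : R ⟶ Z)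
    (sq : IsPullback ((yon S).map s) ((yon S).map t) α α) [IsFinite s.left] [Flat s.left]
    [LocallyOfFinitePresentation s.left] (u : Z.left) (V : Z.left.Opens) (hV : IsAffineOpen V)
    (huV : ∀ r : R.left, s.left r = u → t.left r ∈ V) :
    ∃ W : Z.left.Opens, IsAffineOpen W ∧ u ∈ W ∧ s.left ⁻¹ᵁ W = t.left ⁻¹ᵁ W := by
  have hext : ∀ {T : Scheme.{u}} (a b : T ⟶ R.left), a ≫ t.left = b ≫ t.left → a ≫ s.left = b ≫ s.left → a = b := by
    intro T a b ht hs
    have hb : b ≫ R.hom = a ≫ R.hom := by rw [← Over.w s, ← Category.assoc, ← hs, Category.assoc]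
    let a' : Over.mk (a ≫ R.hom) ⟶ R := Over.homMk a rfl
    let b' : Over.mk (a ≫ R.hom) ⟶ R := Over.homMk b hb
    have : a' = b' := (yon S).map_injective (sq.hom_ext
      (by rw [← Functor.map_comp, ← Functor.map_comp]; exact congrArg _ (Over.OverMorphism.ext hs))
      (by rw [← Functor.map_comp, ← Functor.map_comp]; exact congrArg _ (Over.OverMorphism.ext ht)))
    exact congrArg CommaMorphism.left this
  have hlift : ∀ {T : Over S} (a b : T ⟶ Z), (yon S).map a ≫ α = (yon S).map b ≫ α →
      ∃ r : T ⟶ R, r ≫ s = a ∧ r ≫ t = b := by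
    intro T a b h
    refine ⟨(yon S).preimage (sq.lift _ _ h), (yon S).map_injective ?_, (yon S).map_injective ?_⟩
    · rw [Functor.map_comp, (yon S).map_preimage, sq.lift_fst]
    · rw [Functor.map_comp, (yon S).map_preimage, sq.lift_snd]
  obtain ⟨e, hes, het⟩ := hlift (𝟙 Z) (𝟙 Z) rfl
  obtain ⟨i, his, hit⟩ := hlift t s sq.w.symm
  let P : Over S := Over.mk (pullback.fst s.left t.left ≫ R.hom)
  let p₁ : P ⟶ R := Over.homMk (pullback.fst s.left t.left) rfl
  let p₂ : P ⟶ R := Over.homMk (pullback.snd s.left t.left) (by
    show pullback.snd s.left t.left ≫ R.hom = pullback.fst s.left t.left ≫ R.hom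
    exact (congrArg (pullback.snd s.left t.left ≫ ·) (Over.w t)).symm.trans
      ((pullback.condition_assoc Z.hom).symm.trans (congrArg (pullback.fst s.left t.left ≫ ·) (Over.w s))))
  have hp : p₁ ≫ s = p₂ ≫ t := Over.OverMorphism.ext pullback.condition
  obtain ⟨c, hcs, hct⟩ := hlift (p₂ ≫ s) (p₁ ≫ t) (by
    rw [Functor.map_comp, Category.assoc, sq.w, ← Category.assoc, ← Functor.map_comp, ← hp,
      Functor.map_comp, Category.assoc, sq.w, ← Category.assoc, ← Functor.map_comp])
  have hcs' : c.left ≫ s.left = pullback.snd s.left t.left ≫ s.left := congrArg CommaMorphism.left hcs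
  have hct' : c.left ≫ t.left = pullback.fst s.left t.left ≫ t.left := congrArg CommaMorphism.left hct
  have hes' : e.left ≫ s.left = 𝟙 Z.left := congrArg CommaMorphism.left hes
  have het' : e.left ≫ t.left = 𝟙 Z.left := congrArg CommaMorphism.left het
  have his' : i.left ≫ s.left = t.left := congrArg CommaMorphism.left his
  have hit' : i.left ≫ t.left = s.left := congrArg CommaMorphism.left hit
  let G : Grpd.GroupoidScheme S :=
    { U := Z.left
      R := R.left
      pU := Z.hom
      pR := R.hom
      s := s.left
      t := t.left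
      e := e.left
      i := i.left
      c := c.left
      s_over := Over.w s
      t_over := Over.w t
      comp_s := fun α β h => by rw [Category.assoc, hcs', pullback.lift_snd_assoc]
      comp_t := fun α β h => by rw [Category.assoc, hct', pullback.lift_fst_assoc]
      assoc := fun α β γ h₁ h₂ => hext _ _
        (by simp [hct', pullback.lift_fst_assoc]) (by simp [hcs', pullback.lift_snd_assoc])
      e_s := hes'
      e_t := het'
      comp_e := fun α => hext _ _ (by rw [Category.assoc, hct']; erw [pullback.lift_fst_assoc])
        (by rw [Category.assoc, hcs']; erw [pullback.lift_snd_assoc]; simp [hes'])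
      e_comp := fun α => hext _ _ (by rw [Category.assoc, hct']; erw [pullback.lift_fst_assoc]; simp [het'])
        (by rw [Category.assoc, hcs']; erw [pullback.lift_snd_assoc])
      i_s := his'
      i_t := hit'
      comp_i := fun α => hext _ _ (by rw [Category.assoc, hct']; erw [pullback.lift_fst_assoc]; simp [het'])
        (by rw [Category.assoc, hcs']; erw [pullback.lift_snd_assoc]; simp [hes', his'])
      i_comp := fun α => hext _ _ (by rw [Category.assoc, hct']; erw [pullback.lift_fst_assoc]; simp [het', hit'])
        (by rw [Category.assoc, hcs']; erw [pullback.lift_snd_assoc]; simp [hes']) }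
  have : IsFinite G.s := inferInstanceAs (IsFinite s.left)
  have : Flat G.s := inferInstanceAs (Flat s.left)
  have : LocallyOfFinitePresentation G.s := inferInstanceAs (LocallyOfFinitePresentation s.left)
  exact GrpdBasic.exists_invariant_affine_open G u V hV huV

end Groth.Agent.AlgSpFin
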