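import Groth.Agent.AlgSpFin.FiniteOpen
import Groth.Agent.AlgSpFin.KernelGrpd
import Groth.Agent.AlgSpFin.DiscreteScheme
import Groth.Agent.FpqcDescent.Affine
import Mathlib.AlgebraicGeometry.Morphisms.LocalFlatDescent

/-!
Every nonempty open of a decent space contains a nonempty open affine subscheme.
-/

set_option autoImplicit false
set_option backward.isDefEq.respectTransparency.types false

universe u

open CategoryTheory CategoryTheory.Limits AlgebraicGeometry Opposite AlgSp

namespace Groth.Agent.AlgSpFin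

open Groth.Agent.AlgSpLib

variable {S : Scheme.{u}}

/-- Shrinking one leg of a fibre square through a monomorphism. -/
theorem isPullback_of_mono_factor {X : Sp S} {U U' V W : Over S} {a : (yon S).obj U ⟶ X}
    {b : (yon S).obj V ⟶ X} {fst : W ⟶ U} {snd : W ⟶ V}
    (sq : IsPullback ((yon S).map fst) ((yon S).map snd) a b) (j : U' ⟶ U) [Mono j] (fst' : W ⟶ U')
    (h : fst' ≫ j = fst) :
    IsPullback ((yon S).map fst') ((yon S).map snd) ((yon S).map j ≫ a) b := by
  have : Mono ((yon S).map j) := inferInstance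
  have w : (yon S).map fst' ≫ (yon S).map j ≫ a = (yon S).map snd ≫ b := by
    rw [← Category.assoc, ← Functor.map_comp, h]; exact sq.w
  refine IsPullback.of_isLimit' ⟨w⟩ (PullbackCone.IsLimit.mk w
    (fun c => sq.lift (c.fst ≫ (yon S).map j) c.snd (by rw [Category.assoc]; exact c.condition))
    (fun c => ?_) (fun c => sq.lift_snd _ _ _) (fun c k hk₁ hk₂ => ?_))
  · rw [← cancel_mono ((yon S).map j), Category.assoc, ← Functor.map_comp, h]
    exact sq.lift_fst _ _ _
  · refine sq.hom_ext ?_ (hk₂.trans (sq.lift_snd _ _ _).symm)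
    rw [sq.lift_fst, ← hk₁, Category.assoc, ← Functor.map_comp, h]

/-- The leg of the fibre square of an etale chart from an affine scheme is separated. -/
theorem isSeparated_snd_of_affine {X : Sp S} {U R : Over S} {a : (yon S).obj U ⟶ X} {s t : R ⟶ U}
    (sq : IsPullback ((yon S).map s) ((yon S).map t) a a) [IsAffine U.left] : IsSeparated t.left := by
  have : IsSeparated (U.hom ≫ terminal.from S) := by
    rw [Subsingleton.elim (U.hom ≫ terminal.from S) (terminal.from U.left)]; infer_instance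
  have : IsSeparated U.hom := IsSeparated.of_comp U.hom (terminal.from S)
  let l : R.left ⟶ pullback U.hom U.hom := pullback.lift s.left t.left ((Over.w s).trans (Over.w t).symm)
  have hl₁ : l ≫ pullback.fst U.hom U.hom = s.left := pullback.lift_fst _ _ _
  have hl₂ : l ≫ pullback.snd U.hom U.hom = t.left := pullback.lift_snd _ _ _
  have : Mono l := ⟨fun {T} p q e => by
    have hs : p ≫ s.left = q ≫ s.left := by rw [← hl₁, reassoc_of% e]
    have ht : p ≫ t.left = q ≫ t.left := by rw [← hl₂, reassoc_of% e]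
    have hq : q ≫ R.hom = p ≫ R.hom := by rw [← Over.w s, ← Category.assoc, ← hs, Category.assoc]
    let p' : Over.mk (p ≫ R.hom) ⟶ R := Over.homMk p rfl
    let q' : Over.mk (p ≫ R.hom) ⟶ R := Over.homMk q hq
    have : p' = q' := (yon S).map_injective (sq.hom_ext
      (by rw [← Functor.map_comp, ← Functor.map_comp]; exact congrArg _ (Over.OverMorphism.ext hs))
      (by rw [← Functor.map_comp, ← Functor.map_comp]; exact congrArg _ (Over.OverMorphism.ext ht)))
    exact congrArg CommaMorphism.left this⟩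
  rw [← hl₂]
  infer_instance

/-- An etale affine chart, finite over itself near a point, gives an open affine subscheme at that point. -/
theorem exists_affine_piece_of_finite {X : Sp S} (hX : IsAlgSpace X) {U : Over S} {a : (yon S).obj U ⟶ X}
    (ha : RepWith @Etale a) [IsAffine U.left] {R : Over S} {s t : R ⟶ U}
    (sR : IsPullback ((yon S).map s) ((yon S).map t) a a) (V : U.left.Opens) (hV : IsAffineOpen V)
    (hVfin : IsFinite (t.left ∣_ V)) (v₀ : U.left) (hv₀ : v₀ ∈ V) :
    ∃ (M : Over S) (φ : (yon S).obj M ⟶ X), IsAffine M.left ∧ Mono φ ∧ RepWith @Etale φ ∧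
      Points.ofPt a v₀ ∈ Set.range (Points.ofPt φ) ∧ Set.range (Points.ofPt φ) ⊆ Set.range (Points.ofPt a) := by
  have : Etale t.left := prop_snd sR ha
  let VV : Over S := Over.mk (V.ι ≫ U.hom)
  let jV : VV ⟶ U := Over.homMk V.ι rfl
  let aV := (yon S).map jV ≫ a
  have haV : RepWith @Etale aV := repWith_yon_comp (P := @Etale) jV (inferInstanceAs (Etale V.ι)) ha
  have : IsAffine VV.left := hV
  obtain ⟨RV, f₁, f₂, sV⟩ := exists_isPullback ha.1 aV
  have : Etale f₁.left := prop_snd sV.flip haV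
  have hf₂ : IsFinite f₂.left := by
    obtain ⟨l, hl₁, hl₂⟩ := exists_lift sR ((yon S).map f₁) (f₂ ≫ jV)
      (by rw [Functor.map_comp, Category.assoc]; exact sV.w)
    have sl : IsPullback l f₂ t jV := isPullback_of_yon (IsPullback.of_right (by rw [hl₁]; exact sV)
      (by rw [← Functor.map_comp, hl₂, Functor.map_comp]) sR)
    have key := (left_isPullback sl).flip.isoIsPullback_hom_fst _ _ (isPullback_morphismRestrict t.left V)
    rw [← key, MorphismProperty.cancel_left_of_respectsIso @IsFinite]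
    exact hVfin
  -- the saturation of that open
  let Gs : U.left.Opens := ⟨Points.ofPt a ⁻¹' (Points.ofPt a '' (V : Set U.left)),
    (isOpenMap_ofPt_of_etale ha _ V.2).preimage (Points.continuous_ofPt a)⟩
  let GG : Over S := Over.mk (Gs.ι ≫ U.hom)
  let jG : GG ⟶ U := Over.homMk Gs.ι rfl
  have : Mono jG := (Over.forget S).mono_of_mono_map (show Mono Gs.ι from inferInstance)
  let aG := (yon S).map jG ≫ a
  have haG : RepWith @Etale aG := repWith_yon_comp (P := @Etale) jG (inferInstanceAs (Etale Gs.ι)) ha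
  have hmemG : ∀ {W : Over S} {T : Over S} (p : W ⟶ U) (q : W ⟶ T) (b : (yon S).obj T ⟶ X),
      (yon S).map p ≫ a = (yon S).map q ≫ b → ∀ w, Points.ofPt b (q.left w) ∈ Points.ofPt a '' (V : Set U.left) →
        p.left w ∈ Gs := by
    intro W T p q b h w hw
    show Points.ofPt a (p.left w) ∈ Points.ofPt a '' (V : Set U.left)
    rwa [← ofPt_comp, h, ofPt_comp]
  have hrV : Set.range f₁.left ⊆ Set.range Gs.ι := by
    rintro _ ⟨z, rfl⟩
    rw [Scheme.Opens.range_ι]
    refine hmemG f₁ f₂ aV sV.w z ⟨(f₂.left z).1, (f₂.left z).2, ?_⟩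
    exact (ofPt_comp jV a (f₂.left z)).symm
  let e : RV ⟶ GG := Over.homMk (IsOpenImmersion.lift Gs.ι f₁.left hrV)
    (by simp only [GG, Over.mk_hom, IsOpenImmersion.lift_fac_assoc, Over.w])
  have he : e ≫ jG = f₁ := Over.OverMorphism.ext (IsOpenImmersion.lift_fac _ _ _)
  have he' : (yon S).map e ≫ aG = (yon S).map f₂ ≫ aV := by
    rw [← sV.w, ← he, Functor.map_comp, Category.assoc]
  have : Etale e.left := by
    have : Etale (e.left ≫ Gs.ι) := by
      rw [show e.left ≫ Gs.ι = f₁.left from congrArg CommaMorphism.left he]; infer_instance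
    exact Etale.of_comp e.left Gs.ι
  have : Surjective e.left := ⟨fun g => by
    obtain ⟨v, hv, hv'⟩ := (show Points.ofPt a g.1 ∈ Points.ofPt a '' (V : Set U.left) from g.2)
    obtain ⟨r, hr, -⟩ := (ofPt_eq_iff sV g.1 (⟨v, hv⟩ : V.toScheme)).1
      (hv'.symm.trans (ofPt_comp jV a (⟨v, hv⟩ : V.toScheme)).symm)
    refine ⟨r, Gs.ι.isOpenEmbedding.injective ?_⟩
    rw [← Scheme.Hom.comp_apply, show e.left ≫ Gs.ι = f₁.left from congrArg CommaMorphism.left he]
    exact hr⟩
  have : IsAffine RV.left := isAffine_of_isAffineHom f₂.left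
  have : QuasiSeparatedSpace GG.left := quasiSeparatedSpace_of_quasiSeparated Gs.ι
  have : QuasiCompact e.left := inferInstance
  -- the fibre square over the saturation is finite
  obtain ⟨RG, g₁, g₂, sG⟩ := exists_isPullback ha.1 aG
  have hg₂ : IsFinite g₂.left := by
    obtain ⟨P, p₁, p₂, sP⟩ : ∃ (P : Over S) (p₁ : P ⟶ RG) (p₂ : P ⟶ RV), IsPullback p₁ p₂ g₂ e :=
      ⟨_, _, _, IsPullback.of_hasPullback g₂ e⟩
    have sO : IsPullback ((yon S).map (p₁ ≫ g₁)) ((yon S).map p₂) a ((yon S).map f₂ ≫ aV) := by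
      rw [Functor.map_comp, ← he']; exact (yon_isPullback sP).paste_horiz sG
    obtain ⟨k, hk₁, hk₂⟩ := exists_lift sV ((yon S).map (p₁ ≫ g₁)) (p₂ ≫ f₂)
      (by rw [sO.w, Functor.map_comp, Category.assoc])
    have sk : IsPullback k p₂ f₂ f₂ := isPullback_of_yon (IsPullback.of_right (by rw [hk₁]; exact sO)
      (by rw [← Functor.map_comp, hk₂, Functor.map_comp]) sV)
    have hp₂ : IsFinite p₂.left := MorphismProperty.of_isPullback (P := @IsFinite) (left_isPullback sk) hf₂
    have := FpqcDescent.isFinite_descendsAlong.{u}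
    exact MorphismProperty.of_isPullback_of_descendsAlong (P := @IsFinite)
      (Q := (@Surjective ⊓ @Flat ⊓ @QuasiCompact : MorphismProperty Scheme.{u}))
      (left_isPullback sP).flip ⟨⟨‹Surjective e.left›, inferInstance⟩, inferInstance⟩ hp₂
  have : Etale g₂.left := prop_snd sG ha
  have hrG : Set.range g₁.left ⊆ Set.range Gs.ι := by
    rintro _ ⟨z, rfl⟩
    rw [Scheme.Opens.range_ι]
    refine hmemG g₁ g₂ aG sG.w z ?_
    rw [ofPt_comp]
    exact (g₂.left z).2
  let g₁' : RG ⟶ GG := Over.homMk (IsOpenImmersion.lift Gs.ι g₁.left hrG)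
    (by simp only [GG, Over.mk_hom, IsOpenImmersion.lift_fac_assoc, Over.w])
  have sG' := (isPullback_of_mono_factor sG jG g₁' (Over.OverMorphism.ext (IsOpenImmersion.lift_fac _ _ _))).flip
  -- an invariant affine open
  let g : GG.left := ⟨v₀, show Points.ofPt a v₀ ∈ Points.ofPt a '' (V : Set U.left) from ⟨v₀, hv₀, rfl⟩⟩
  have horb := (g₂.left.finite_preimage_singleton g).image fun r => (g₁'.left r).1
  obtain ⟨f, hfle, hfT⟩ := GrpdBasic.exists_basicOpen_subset_of_finite Gs horb.toFinset fun z hz => by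
    obtain ⟨r, -, rfl⟩ := horb.mem_toFinset.1 hz
    exact (g₁'.left r).2
  have hD : IsAffineOpen (Gs.ι ⁻¹ᵁ U.left.basicOpen f) :=
    ((isAffineOpen_top U.left).basicOpen f).preimage_of_isOpenImmersion Gs.ι
      (by rwa [Scheme.Opens.opensRange_ι])
  obtain ⟨W, hW, hgW, hinv⟩ := exists_saturated_affine_open aG g₂ g₁' sG' g _ hD fun r hr =>
    hfT _ (horb.mem_toFinset.2 ⟨r, hr, rfl⟩)
  let WW : Over S := Over.mk (W.ι ≫ GG.hom)
  let jW : WW ⟶ GG := Over.homMk W.ι rfl
  have : Mono jW := (Over.forget S).mono_of_mono_map (show Mono W.ι from inferInstance)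
  let aW := (yon S).map jW ≫ aG
  have haW : RepWith @Etale aW := repWith_yon_comp (P := @Etale) jW (inferInstanceAs (Etale W.ι)) haG
  have : IsAffine WW.left := hW
  obtain ⟨P, p, pW, sF⟩ : ∃ (P : Over S) (p : P ⟶ RG) (pW : P ⟶ WW), IsPullback p pW g₂ jW :=
    ⟨_, _, _, IsPullback.of_hasPullback g₂ jW⟩
  have : Etale pW.left := MorphismProperty.of_isPullback (P := @Etale) (left_isPullback sF) ‹_›
  have : IsFinite pW.left := MorphismProperty.of_isPullback (P := @IsFinite) (left_isPullback sF) hg₂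
  have sPW : IsPullback ((yon S).map (p ≫ g₁')) ((yon S).map pW) aG aW := by
    rw [Functor.map_comp]; exact (yon_isPullback sF).paste_horiz sG'.flip
  have hrW : Set.range (p ≫ g₁').left ⊆ Set.range W.ι := by
    rintro _ ⟨z, rfl⟩
    rw [Scheme.Opens.range_ι]
    have : p.left z ∈ g₂.left ⁻¹ᵁ W := by
      show g₂.left (p.left z) ∈ W
      rw [← Scheme.Hom.comp_apply, (left_isPullback sF).w]
      exact (pW.left z).2
    rw [hinv] at this
    exact this
  let q' : P ⟶ WW := Over.homMk (IsOpenImmersion.lift W.ι (p ≫ g₁').left hrW)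
    (by simp only [WW, Over.mk_hom, IsOpenImmersion.lift_fac_assoc]; exact Over.w (p ≫ g₁'))
  have sW := (isPullback_of_mono_factor sPW jW q' (Over.OverMorphism.ext (IsOpenImmersion.lift_fac _ _ _))).flip
  obtain ⟨C, hC, str, q, φ, -, hφ, hqs, hφm, -, hqf, hqfl, hqlfp, -⟩ := exists_affine_quotient aW pW q' sW
  have hker : IsPullback pW.left q'.left q.left q.left := left_isPullback (isPullback_of_yon
    (IsKernelPair.cancel_right_of_mono (f₂ := φ) (hφ.symm ▸ sW)))
  have : Etale q.left := MorphismProperty.of_isPullback_of_descendsAlong (P := @Etale)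
    (Q := (@Surjective ⊓ @Flat ⊓ @QuasiCompact : MorphismProperty Scheme.{u}))
    hker ⟨⟨hqs, hqfl⟩, inferInstance⟩ ‹Etale pW.left›
  refine ⟨Over.mk str, φ, inferInstanceAs (IsAffine (Spec _)), hφm, ?_, ⟨q.left ⟨g, hgW⟩, ?_⟩, ?_⟩
  · refine (locP_iff_repWith hX (hX.representable_from_yon φ)).1 (locP_of_source_chart hX
      ((repWith_yon_map_iff @Etale q).2 ‹_›) ((repWith_yon_map_iff @Surjective q).2 hqs) ?_)
    rw [hφ]
    exact (isEtaleMor_iff_locP hX).1 (isEtaleMor_of_repWith haW)
  · rw [← ofPt_comp, hφ]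
    show Points.ofPt ((yon S).map jW ≫ (yon S).map jG ≫ a) ⟨g, hgW⟩ = _
    rw [ofPt_comp, ofPt_comp]
    rfl
  · rintro _ ⟨m, rfl⟩
    obtain ⟨w, rfl⟩ := hqs.surj m
    rw [← ofPt_comp, hφ]
    show Points.ofPt ((yon S).map jW ≫ (yon S).map jG ≫ a) w ∈ _
    rw [ofPt_comp, ofPt_comp]
    exact ⟨_, rfl⟩

/-- Every nonempty open of a decent space contains a nonempty open affine subscheme. -/
theorem exists_affine_piece {X : Sp S} (hX : IsAlgSpace X) (hd : IsDecent X) {O : Set (Points X)} (hO : IsOpen O)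
    (hne : O.Nonempty) :
    ∃ (M : Over S) (φ : (yon S).obj M ⟶ X), IsAffine M.left ∧ Nonempty M.left ∧ Mono φ ∧ RepWith @Etale φ ∧
      ∀ m : M.left, Points.ofPt φ m ∈ O := by
  obtain ⟨U₀, a₀, ha₀, ha₀s⟩ := hX.atlas
  obtain ⟨x, hx⟩ := hne
  obtain ⟨u₀, hu₀⟩ := surjective_ofPt ha₀s x
  obtain ⟨B, hB, huB, hBO⟩ := exists_isAffineOpen_mem_and_subset (X := U₀.left)
    (U := ⟨Points.ofPt a₀ ⁻¹' O, hO.preimage (Points.continuous_ofPt a₀)⟩) (x := u₀)
    (show Points.ofPt a₀ u₀ ∈ O from hu₀ ▸ hx)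
  let U : Over S := Over.mk (B.ι ≫ U₀.hom)
  let ι₀ : U ⟶ U₀ := Over.homMk B.ι rfl
  let a : (yon S).obj U ⟶ X := (yon S).map ι₀ ≫ a₀
  have ha : RepWith @Etale a := repWith_yon_comp (P := @Etale) ι₀ (inferInstanceAs (Etale B.ι)) ha₀
  have : IsAffine U.left := hB
  have : Nonempty U.left := ⟨⟨u₀, huB⟩⟩
  have haO : ∀ v : U.left, Points.ofPt a v ∈ O := fun v => by
    show Points.ofPt ((yon S).map ι₀ ≫ a₀) v ∈ O
    rw [ofPt_comp]; exact hBO v.2
  -- a nonempty affine open over which the fibre square is finite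
  obtain ⟨R, s, t, sR⟩ := exists_isPullback ha.1 a
  have : Etale t.left := prop_snd sR ha
  have := isSeparated_snd_of_affine sR
  have hfib : ∀ v : U.left, (t.left ⁻¹' {v}).Finite := fun v => by
    let K : Over S := Over.mk (U.left.fromSpecResidueField v ≫ U.hom)
    let k : K ⟶ U := Over.homMk (U.left.fromSpecResidueField v) rfl
    have : Finite K.left := inferInstanceAs (Finite (PrimeSpectrum (U.left.residueField v)))
    have sF := IsPullback.of_hasPullback t k
    have sY : IsPullback ((yon S).map (pullback.fst t k ≫ s)) ((yon S).map (pullback.snd t k)) a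
        ((yon S).map k ≫ a) := by
      rw [Functor.map_comp]; exact (yon_isPullback sF).paste_horiz sR
    have := finite_pullback_of_isDecent hX hd sY ha
    refine (Set.finite_range (pullback.fst t k).left).subset fun r (hr : t.left r = v) => ?_
    obtain ⟨y, hy, -⟩ := Scheme.exists_preimage_of_isPullback (left_isPullback sF) r
      (IsLocalRing.closedPoint (U.left.residueField v)) (hr.trans (Scheme.fromSpecResidueField_apply _ _).symm)
    exact ⟨y, hy⟩
  obtain ⟨V, hV, ⟨v₀, hv₀⟩, hVfin⟩ := exists_open_isFinite t.left hfib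
  obtain ⟨M, φ, hM, hφm, hφe, ⟨m₀, -⟩, hsub⟩ := exists_affine_piece_of_finite hX ha sR V hV hVfin v₀ hv₀
  refine ⟨M, φ, hM, ⟨m₀⟩, hφm, hφe, fun m => ?_⟩
  obtain ⟨v, hv⟩ := hsub ⟨m, rfl⟩
  exact hv ▸ haO v

end Groth.Agent.AlgSpFin
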