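import Groth.Agent.AlgSpFin.CodimZero
import Groth.Agent.AlgSpFin.SchemePiece
import Groth.Agent.AlgSpFin.OpenSubspace
import Groth.Agent.S10540

/-!
Open pieces of spaces that are finite over an affine open of the target.
-/

set_option autoImplicit false
set_option backward.isDefEq.respectTransparency.types false

universe u

open CategoryTheory CategoryTheory.Limits AlgebraicGeometry Opposite AlgSp

namespace Groth.Agent.AlgSpFin

open Groth.Agent.AlgSpLib

variable {S : Scheme.{u}}

/-- Factorisation through an open subspace. -/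
theorem exists_factor_of_range {X' X : Sp S} {j : X' ⟶ X} (hj : RepWith @IsOpenImmersion j) {T : Over S}
    (g : (yon S).obj T ⟶ X) (h : ∀ t, Points.ofPt g t ∈ Set.range (Points.map j)) :
    ∃ l : (yon S).obj T ⟶ X', l ≫ j = g := by
  obtain ⟨V, fst, snd, sq⟩ := hj.1 g
  have : IsOpenImmersion fst.left := hj.2 g snd fst sq
  have : Surjective fst.left := ⟨fun t => by
    obtain ⟨x, hx⟩ := h t
    obtain ⟨p, -, hp⟩ := exists_point_of_isPullback sq x (Points.ofPt (𝟙 _) t)
      (by rw [hx, Points.map_ofPt, Category.id_comp])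
    obtain ⟨z, rfl⟩ := exists_ofScheme p
    refine ⟨z, (Points.schemeEquiv T).injective ?_⟩
    show Points.ofPt (𝟙 _) (fst.left z) = Points.ofPt (𝟙 _) t
    rw [← ofPt_comp, Category.comp_id, ← hp, Points.map_ofPt, Category.id_comp]⟩
  have : IsIso fst.left := isIso_of_isOpenImmersion_of_opensRange_eq_top _
    (TopologicalSpace.Opens.ext (Set.range_eq_univ.2 fst.left.surjective))
  have : IsIso ((Over.forget S).map fst) := ‹IsIso fst.left›
  have : IsIso fst := isIso_of_reflects_iso fst (Over.forget S)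
  refine ⟨inv ((yon S).map fst) ≫ snd, ?_⟩
  rw [Category.assoc, sq.w, IsIso.inv_hom_id_assoc]

/-- An open piece equal to a preimage is a base change. -/
theorem isPullback_of_range {X Y : Sp S} {f : X ⟶ Y} {M V : Over S} {φ : (yon S).obj M ⟶ X} {m : M ⟶ V}
    {b : (yon S).obj V ⟶ Y} [Mono b] (hφ : RepWith @IsOpenImmersion φ) (w : φ ≫ f = (yon S).map m ≫ b)
    (hrange : ∀ x, Points.map f x ∈ Set.range (Points.map b) → x ∈ Set.range (Points.map φ)) :
    IsPullback ((yon S).map m) φ b f := by
  have sP := IsPullback.of_hasPullback b f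
  let e := sP.lift ((yon S).map m) φ w.symm
  have he : e ≫ pullback.snd b f = φ := sP.lift_snd _ _ _
  have : Mono φ := mono_of_repWith hφ fun _ _ k hk => by
    have : IsOpenImmersion k := hk
    infer_instance
  have : Mono (pullback.snd b f) :=
    MorphismProperty.pullback_snd (P := MorphismProperty.monomorphisms (Sp S)) _ _ ‹Mono b›
  have : Mono (e ≫ pullback.snd b f) := by rw [he]; infer_instance
  have : Mono e := mono_of_mono e (pullback.snd b f)
  have : IsIso e := isIso_of_mono_of_lifts e fun T g => by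
    obtain ⟨l, hl⟩ := exists_factor_of_range hφ (g ≫ pullback.snd b f) fun t => hrange _ ⟨
      Points.map (pullback.fst b f) (Points.ofPt g t), by
        rw [Points.map_ofPt, Points.map_ofPt, Points.map_ofPt, Category.assoc, Category.assoc, pullback.condition]⟩
    exact ⟨l, by rw [← cancel_mono (pullback.snd b f), Category.assoc, he, hl]⟩
  exact sP.of_iso (asIso e).symm (Iso.refl _) (Iso.refl _) (Iso.refl _)
    (by simp [e]) (by simp [e]) (by simp) (by simp)

/-- A chart finite over an affine open of the target, with finite relation, gives an open piece finite over it. -/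
theorem exists_finite_piece' {X : Sp S} (hX : IsAlgSpace X) {V U R : Over S} {f : X ⟶ (yon S).obj V} [IsAffine V.left]
    {a : (yon S).obj U ⟶ X} (ha : RepWith @Etale a) [IsAffine U.left] {h : U ⟶ V} (hah : a ≫ f = (yon S).map h)
    {s t : R ⟶ U} (sR : IsPullback ((yon S).map s) ((yon S).map t) a a) (V' : V.left.Opens) (hV' : IsAffineOpen V')
    (hU : IsFinite (h.left ∣_ V')) (hR : IsFinite ((t.left ≫ h.left) ∣_ V')) :
    ∃ (M : Over S) (m : M ⟶ Over.mk (V'.ι ≫ V.hom)) (φ : (yon S).obj M ⟶ X), IsFinite m.left ∧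
      RepWith @IsOpenImmersion φ ∧ φ ≫ f = (yon S).map (m ≫ Over.homMk V'.ι rfl) ∧
      (∀ u : U.left, h.left u ∈ V' → Points.ofPt a u ∈ Set.range (Points.map φ)) ∧
      Set.range (Points.map φ) ⊆ Set.range (Points.ofPt a) := by
  let VV : Over S := Over.mk (V'.ι ≫ V.hom)
  let jV : VV ⟶ V := Over.homMk V'.ι rfl
  have : IsAffine VV.left := hV'
  let U' : Over S := Over.mk ((h.left ⁻¹ᵁ V').ι ≫ U.hom)
  let jU : U' ⟶ U := Over.homMk (h.left ⁻¹ᵁ V').ι rfl
  have : Mono jU := (Over.forget S).mono_of_mono_map (show Mono (h.left ⁻¹ᵁ V').ι from inferInstance)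
  let h' : U' ⟶ VV := Over.homMk (h.left ∣_ V') (by
    show (h.left ∣_ V') ≫ V'.ι ≫ V.hom = (h.left ⁻¹ᵁ V').ι ≫ U.hom
    rw [morphismRestrict_ι_assoc, Over.w])
  have hh' : h' ≫ jV = jU ≫ h := Over.OverMorphism.ext (morphismRestrict_ι _ _)
  have hh'f : IsFinite h'.left := hU
  have : IsAffine U'.left := isAffine_of_isAffineHom h'.left
  let a' := (yon S).map jU ≫ a
  have ha' : RepWith @Etale a' := repWith_yon_comp (P := @Etale) jU (inferInstanceAs (Etale (h.left ⁻¹ᵁ V').ι)) ha
  -- the relation on the piece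
  obtain ⟨P, p, t', sF⟩ : ∃ (P : Over S) (p : P ⟶ R) (t' : P ⟶ U'), IsPullback p t' t jU :=
    ⟨_, _, _, IsPullback.of_hasPullback t jU⟩
  have sP : IsPullback ((yon S).map (p ≫ s)) ((yon S).map t') a a' := by
    rw [Functor.map_comp]; exact (yon_isPullback sF).paste_horiz sR
  have hst : s ≫ h = t ≫ h := (yon S).map_injective (by
    rw [Functor.map_comp, Functor.map_comp, ← hah, reassoc_of% sR.w])
  have hr : Set.range (p ≫ s).left ⊆ Set.range (h.left ⁻¹ᵁ V').ι := by
    rintro _ ⟨z, rfl⟩
    rw [Scheme.Opens.range_ι]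
    show h.left ((p ≫ s).left z) ∈ V'
    rw [← Scheme.Hom.comp_apply, ← Over.comp_left, Category.assoc, hst, ← Category.assoc, sF.w, Category.assoc,
      Over.comp_left, Scheme.Hom.comp_apply, Over.comp_left, Scheme.Hom.comp_apply]
    exact (t'.left z).2
  let s' : P ⟶ U' := Over.homMk (IsOpenImmersion.lift (h.left ⁻¹ᵁ V').ι (p ≫ s).left hr)
    (by simp only [U', Over.mk_hom, IsOpenImmersion.lift_fac_assoc]; exact Over.w (p ≫ s))
  have sW := (isPullback_of_mono_factor sP jU s' (Over.OverMorphism.ext (IsOpenImmersion.lift_fac _ _ _))).flip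
  have : Etale t.left := prop_snd sR ha
  have : Etale t'.left := MorphismProperty.of_isPullback (P := @Etale) (left_isPullback sF) ‹_›
  have : IsFinite t'.left := by
    have key := (left_isPullback sF).paste_vert (isPullback_morphismRestrict h.left V').flip
    have e := key.flip.isoIsPullback_hom_fst _ _ (isPullback_morphismRestrict (t.left ≫ h.left) V')
    have : IsFinite (t'.left ≫ h'.left) := by
      show IsFinite (t'.left ≫ (h.left ∣_ V'))
      rw [← e, MorphismProperty.cancel_left_of_respectsIso @IsFinite]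
      exact hR
    exact IsFinite.of_comp t'.left h'.left
  obtain ⟨C, hC, str, q, φ, -, hφ, hqs, hφm, -, hqf, hqfl, hqlfp, -⟩ := exists_affine_quotient a' t' s' sW
  have hker : IsPullback t'.left s'.left q.left q.left := left_isPullback (isPullback_of_yon
    (IsKernelPair.cancel_right_of_mono (f₂ := φ) (hφ.symm ▸ sW)))
  have : Etale q.left := MorphismProperty.of_isPullback_of_descendsAlong (P := @Etale)
    (Q := (@Surjective ⊓ @Flat ⊓ @QuasiCompact : MorphismProperty Scheme.{u}))
    hker ⟨⟨hqs, hqfl⟩, inferInstance⟩ ‹Etale t'.left›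
  have hφe : LocP @Etale φ := locP_of_source_chart hX ((repWith_yon_map_iff @Etale q).2 ‹_›)
    ((repWith_yon_map_iff @Surjective q).2 hqs) (by
      rw [hφ]; exact (isEtaleMor_iff_locP hX).1 (isEtaleMor_of_repWith ha'))
  obtain ⟨g, hg⟩ := (yon S).map_surjective (φ ≫ f)
  have hqg : q ≫ g = h' ≫ jV := (yon S).map_injective (by
    rw [Functor.map_comp, hg, ← Category.assoc, hφ, Category.assoc, hah, hh', Functor.map_comp])
  have hrg : Set.range g.left ⊆ Set.range V'.ι := by
    rintro _ ⟨z, rfl⟩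
    obtain ⟨y, rfl⟩ := hqs.surj z
    rw [← Scheme.Hom.comp_apply, ← Over.comp_left, hqg]
    exact ⟨h'.left y, rfl⟩
  let m : Over.mk str ⟶ VV := Over.homMk (IsOpenImmersion.lift V'.ι g.left hrg)
    (by simp only [VV, Over.mk_hom, IsOpenImmersion.lift_fac_assoc]; exact Over.w g)
  have hm : m ≫ jV = g := Over.OverMorphism.ext (IsOpenImmersion.lift_fac _ _ _)
  have hqm : q.left ≫ m.left = h'.left := by
    rw [← cancel_mono V'.ι, Category.assoc]
    exact (congrArg (q.left ≫ ·) (congrArg CommaMorphism.left hm)).trans (congrArg CommaMorphism.left hqg)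
  refine ⟨Over.mk str, m, φ, ?_, repWith_isOpenImmersion_of_etale_mono (IsAlgSpace.yon_obj _) hX φ hφe,
    by rw [hm, hg], fun u hu => ?_, ?_⟩
  · have : IsFinite (q.left ≫ m.left) := by rw [hqm]; exact hh'f
    have : IsAffine (Over.mk str).left := inferInstanceAs (IsAffine (Spec _))
    have : UniversallyClosed m.left := UniversallyClosed.of_comp_surjective q.left m.left
    have : IsIntegralHom m.left := (IsIntegralHom.iff_universallyClosed_and_isAffineHom).2 ⟨‹_›, inferInstance⟩
    have : LocallyOfFiniteType m.left :=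
      EtLocal.desc (P := @LocallyOfFiniteType) q.left m.left ‹_› hqs inferInstance
    exact (IsFinite.iff_isIntegralHom_and_locallyOfFiniteType _).2 ⟨‹_›, inferInstance⟩
  · refine ⟨Points.ofPt (𝟙 _) (q.left ⟨u, hu⟩), ?_⟩
    rw [Points.map_ofPt, Category.id_comp, ← ofPt_comp, hφ, ofPt_comp]
    rfl
  · rintro _ ⟨z, rfl⟩
    obtain ⟨c, rfl⟩ := exists_ofScheme z
    obtain ⟨d, rfl⟩ := hqs.surj c
    exact ⟨jU.left d, by rw [Points.map_ofPt, Category.id_comp, ← ofPt_comp jU a, ← ofPt_comp q φ, hφ]⟩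

/-- A chart finite over an affine open of the target, with finite relation, gives an open piece finite over it. -/
theorem exists_finite_piece {X : Sp S} (hX : IsAlgSpace X) {V U R : Over S} {f : X ⟶ (yon S).obj V} [IsAffine V.left]
    {a : (yon S).obj U ⟶ X} (ha : RepWith @Etale a) [IsAffine U.left] {h : U ⟶ V} (hah : a ≫ f = (yon S).map h)
    {s t : R ⟶ U} (sR : IsPullback ((yon S).map s) ((yon S).map t) a a) (V' : V.left.Opens) (hV' : IsAffineOpen V')
    (hU : IsFinite (h.left ∣_ V')) (hR : IsFinite ((t.left ≫ h.left) ∣_ V')) :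
    ∃ (M : Over S) (m : M ⟶ Over.mk (V'.ι ≫ V.hom)) (φ : (yon S).obj M ⟶ X), IsFinite m.left ∧
      RepWith @IsOpenImmersion φ ∧ φ ≫ f = (yon S).map (m ≫ Over.homMk V'.ι rfl) ∧
      ∀ u : U.left, h.left u ∈ V' → Points.ofPt a u ∈ Set.range (Points.map φ) := by
  obtain ⟨M, m, φ, h₁, h₂, h₃, h₄, -⟩ := exists_finite_piece' hX ha hah sR V' hV' hU hR
  exact ⟨M, m, φ, h₁, h₂, h₃, h₄⟩

/-- Finiteness may be tested on an etale covering family of schemes. -/
theorem isFiniteMor_of_etale_family {X Y : Sp S} (hX : IsAlgSpace X) (hY : IsAlgSpace Y) (f : X ⟶ Y) {ι : Type u}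
    (V : ι → Over S) (g : ∀ i, (yon S).obj (V i) ⟶ Y) (hg : ∀ i, RepWith @Etale (g i))
    (hs : ∀ y, ∃ i, y ∈ Set.range (Points.map (g i))) (Xi : ι → Sp S) (p : ∀ i, Xi i ⟶ (yon S).obj (V i))
    (q : ∀ i, Xi i ⟶ X) (sq : ∀ i, IsPullback (q i) (p i) f (g i)) (h : ∀ i, IsFiniteMor (p i)) :
    IsFiniteMor f :=
  (S10540.result S (fun i => (yon S).obj (V i)) g hY (fun i => IsAlgSpace.yon_obj (V i))
    (isFpqcCover_of_isFppfCover S hY (fun i => IsAlgSpace.yon_obj (V i))
      ⟨fun i => ⟨locP_of_repWith (hg i) fun _ _ _ k m hk hm => EtLocal.comp_etale k m hk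
          (EtLocal.of_etale (P := @Flat) m hm),
        locP_of_repWith (hg i) fun _ _ _ k m hk hm => EtLocal.comp_etale k m hk
          (EtLocal.of_etale (P := @LocallyOfFinitePresentation) m hm)⟩, hs⟩)
    f hX Xi p q (fun i => isAlgSpace_of_isPullback (sq i) hX (IsAlgSpace.yon_obj (V i)) hY) sq).2 h

end Groth.Agent.AlgSpFin
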