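import Groth.Agent.AlgSpFin.FiniteOver
import Groth.Agent.AlgSpFin.RelFibre
import Groth.Agent.AlgSpFin.CodimZeroFibre

/-!
Finiteness over an affine scheme with a single point of codimension zero.
-/

set_option autoImplicit false
set_option backward.isDefEq.respectTransparency.types false

universe u

open CategoryTheory CategoryTheory.Limits AlgebraicGeometry Opposite AlgSp

namespace Groth.Agent.AlgSpFin

open Groth.Agent.AlgSpLib

variable {S : Scheme.{u}}

/-- A nonempty open of a scheme contains a point without proper generalisations. -/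
theorem exists_mem_forall_eq {T : Scheme.{u}} {O : Set T} (hO : IsOpen O) (hne : O.Nonempty) :
    ∃ η ∈ O, ∀ a : T, a ⤳ η → a = η := by
  obtain ⟨x, hx⟩ := hne
  obtain ⟨η, hη⟩ := QuasiSober.sober (irreducibleComponent_mem_irreducibleComponents x).1
    isClosed_irreducibleComponent
  exact ⟨η, (hη.specializes mem_irreducibleComponent).mem_open hO hx, fun a => GenericFinite.eq_of_specializes
    (hη.def.symm ▸ irreducibleComponent_mem_irreducibleComponents x)⟩

/-- An affine chart through finitely many given points. -/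
theorem exists_affine_chart_finite {P : Sp S} (hP : IsAlgSpace P) (Z : Set (Points P)) (hZ : Z.Finite) :
    ∃ (U : Over S) (a : (yon S).obj U ⟶ P), IsAffine U.left ∧ RepWith @Etale a ∧ Z ⊆ Set.range (Points.ofPt a) := by
  obtain ⟨U, a, ha, has⟩ := hP.atlas
  choose t ht using fun x : Points P => surjective_ofPt has x
  choose B hB hBt _ using fun x : Points P =>
    exists_isAffineOpen_mem_and_subset (X := U.left) (x := t x) (U := ⊤) trivial
  obtain ⟨n, pt, hpt⟩ := hZ.fin_param.imp fun n h => (h.imp fun f hf => hf.2)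
  let Y : ULift.{u} (Fin n) → Scheme.{u} := fun i => (B (pt i.down)).toScheme
  have : ∀ i, IsAffine (Y i) := fun i => hB _
  let k : ∐ Y ⟶ U.left := Sigma.desc fun i => (B (pt i.down)).ι
  have hk : Etale k := IsZariskiLocalAtSource.sigmaDesc (P := @Etale) fun i => inferInstanceAs (Etale (B _).ι)
  let U' : Over S := Over.mk (k ≫ U.hom)
  let q : U' ⟶ U := Over.homMk k rfl
  refine ⟨U', (yon S).map q ≫ a, inferInstanceAs (IsAffine (∐ Y)), repWith_yon_comp q hk ha, ?_⟩
  rw [← hpt]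
  rintro _ ⟨i, rfl⟩
  refine ⟨Sigma.ι Y ⟨i⟩ ⟨t (pt i), hBt (pt i)⟩, ?_⟩
  rw [ofPt_comp]
  show Points.ofPt a ((Sigma.ι Y ⟨i⟩ ≫ k) ⟨t (pt i), hBt (pt i)⟩) = pt i
  rw [Sigma.ι_desc]
  exact ht (pt i)

/-- Over an affine scheme with one point of codimension zero, with exactly that fibre of codimension zero. -/
theorem exists_finite_cover_piece {P : Sp S} (hP : IsAlgSpace P) {V : Over S} [IsAffine V.left]
    (π : P ⟶ (yon S).obj V) (hl : LocP @LocallyOfFiniteType π) {v : V.left} (hmax : ∀ a : V.left, a ⤳ v → a = v)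
    (key : ∀ (U : Over S) (a : (yon S).obj U ⟶ P), RepWith @Etale a → ∀ h : U ⟶ V, a ≫ π = (yon S).map h →
      ∀ u : U.left, ((∀ z : U.left, z ⤳ u → z = u) ↔ h.left u = v))
    (hcase : IsQuasiCompactMor π ∨
      IsSeparatedMor π ∧ {p : Points P | Points.map π p = Points.ofPt (𝟙 _) v}.Finite) :
    ∃ (V' : V.left.Opens) (M : Over S) (m : M ⟶ Over.mk (V'.ι ≫ V.hom)) (φ : (yon S).obj M ⟶ P),
      v ∈ V' ∧ IsFinite m.left ∧
        IsPullback ((yon S).map m) φ ((yon S).map (Over.homMk V'.ι rfl : Over.mk (V'.ι ≫ V.hom) ⟶ V)) π := by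
  -- the chart
  obtain ⟨U, a, hU, ha, hcov⟩ : ∃ (U : Over S) (a : (yon S).obj U ⟶ P), IsAffine U.left ∧ RepWith @Etale a ∧
      (Function.Surjective (Points.ofPt a) ∨
        IsSeparatedMor π ∧ ∀ p, Points.map π p = Points.ofPt (𝟙 _) v → p ∈ Set.range (Points.ofPt a)) := by
    rcases hcase with hq | ⟨hs, hfin⟩
    · have hPc : IsQuasiCompactSp P := hq (IsAlgSpace.yon_obj V)
        ⟨V, 𝟙 _, repWith_id _ V, repWith_id _ V, inferInstance⟩ (𝟙 _) (𝟙 _) π
        (IsPullback.of_horiz_isIso ⟨by rw [Category.id_comp, Category.comp_id]⟩)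
      obtain ⟨U, a, hU, ha, has⟩ := (isQuasiCompactSp_iff_affine hP).1 hPc
      exact ⟨U, a, hU, ha, .inl (surjective_ofPt has)⟩
    · obtain ⟨U, a, hU, ha, hsub⟩ := exists_affine_chart_finite hP _ hfin
      exact ⟨U, a, hU, ha, .inr ⟨hs, fun p hp => hsub hp⟩⟩
  have := hU
  obtain ⟨h, hh⟩ := (yon S).map_surjective (a ≫ π)
  have : LocallyOfFiniteType h.left := hl a (𝟙 _) h ha (repWith_id _ V) (by rw [Category.comp_id, hh])
  have hfibU : (h.left ⁻¹' {v}).Finite :=
    finite_fibre_of_forall_eq h.left v fun u hu => (key U a ha h hh.symm u).2 hu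
  have hvc := GenericFinite.mem_components_of_forall hmax
  obtain ⟨V₁, -, hv₁, hf₁⟩ := (GenericFinite.finite_preimage_iff h.left v hvc).1 hfibU
  obtain ⟨R, s, t, sR⟩ := exists_isPullback ha.1 a
  have : Etale t.left := prop_snd sR ha
  have := isSeparated_snd_of_affine sR
  have := hf₁
  have hfibR := finite_relation_fibre hh.symm sR V₁ hv₁
  obtain ⟨C, hC, hfC⟩ := GrpdBasic.exists_qcOpen_of_isCompact hfibR.isCompact
  have : CompactSpace C.toScheme := isCompact_iff_compactSpace.1 hC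
  obtain ⟨V₂, -, hv₂, hf₂⟩ := (GenericFinite.finite_preimage_iff (C.ι ≫ t.left ≫ h.left) v hvc).1
    ((hfibR.preimage C.ι.isOpenEmbedding.injective.injOn).subset fun z hz => hz)
  obtain ⟨V', hV', hvV', hV'le⟩ := exists_isAffineOpen_mem_and_subset (show v ∈ V₁ ⊓ V₂ from ⟨hv₁, hv₂⟩)
  have hR : IsFinite ((t.left ≫ h.left) ∣_ V') := by
    refine isFinite_of_compact_piece _ C V'
      (GenericFinite.isFinite_restrict_of_le _ (fun z hz => (hV'le hz).2) hf₂) fun O hO _ => ?_
    obtain ⟨r, hr, hrm⟩ := exists_mem_forall_eq O.2 hO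
    exact ⟨r, hr, hfC ((key U a ha h hh.symm (t.left r)).1 ((forall_eq_iff_of_etale t.left r).1 hrm))⟩
  obtain ⟨M, m, φ, hm, hφ, hφw, hφc⟩ := exists_finite_piece hP ha hh.symm sR V' hV'
    (GenericFinite.isFinite_restrict_of_le h.left (fun z hz => (hV'le hz).1) hf₁) hR
  refine ⟨V', M, m, φ, hvV', hm, ?_⟩
  let VV : Over S := Over.mk (V'.ι ≫ V.hom)
  let jV : VV ⟶ V := Over.homMk V'.ι rfl
  have : Mono jV := (Over.forget S).mono_of_mono_map (show Mono V'.ι from inferInstance)
  have hφw' : φ ≫ π = (yon S).map m ≫ (yon S).map jV := by rw [hφw, Functor.map_comp]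
  have hmap : ∀ (W : Over S) (c : W ⟶ V) (w : W.left), Points.ofPt ((yon S).map c) w = Points.ofPt (𝟙 _) (c.left w) :=
    fun W c w => by rw [← ofPt_comp, Category.comp_id]
  have hrange : Set.range (Points.map ((yon S).map jV)) = Points.ofPt (𝟙 _) '' (V' : Set V.left) := by
    rw [range_map_yon]
    ext p
    constructor
    · rintro ⟨z, rfl⟩
      exact ⟨z.1, z.2, (hmap VV jV z).symm⟩
    · rintro ⟨z, hz, rfl⟩
      exact ⟨⟨z, hz⟩, hmap VV jV ⟨z, hz⟩⟩
  refine isPullback_of_range hφ hφw' fun p hp => ?_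
  rw [hrange] at hp
  obtain ⟨z, hz, hzp⟩ := hp
  rcases hcov with has | ⟨hs, has⟩
  · obtain ⟨u, rfl⟩ := has p
    rw [Points.map_ofPt, ← hh, hmap] at hzp
    exact hφc u ((Points.schemeEquiv V).injective hzp ▸ hz)
  -- the separated case: the piece is closed over the open
  have sQ := IsPullback.of_hasPullback π ((yon S).map jV)
  have hQ := isAlgSpace_of_isPullback sQ hP (IsAlgSpace.yon_obj VV) (IsAlgSpace.yon_obj V)
  let φ₁ : (yon S).obj M ⟶ pullback π ((yon S).map jV) := sQ.lift φ ((yon S).map m) hφw'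
  have hφ₁ : φ₁ ≫ pullback.fst π ((yon S).map jV) = φ := sQ.lift_fst _ _ _
  have hφ₁' : φ₁ ≫ pullback.snd π ((yon S).map jV) = (yon S).map m := sQ.lift_snd _ _ _
  have hfinφ : RepWith @IsFinite φ₁ := by
    obtain ⟨G, γ, g₁, g₂, μ, sG, e, sD⟩ := exists_graph φ₁ (pullback.snd π ((yon S).map jV))
    rw [← e]
    exact repWith_comp (repWith_mono (fun _ _ k hk => by
        have : IsClosedImmersion k := hk
        infer_instance) (repWith_baseChange sD (repWith_diagonal_baseChange sQ hs)))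
      (repWith_baseChange sG (by rw [hφ₁']; exact (repWith_yon_map_iff _ m).2 hm))
  obtain ⟨U₁, a₁, ha₁, ha₁s⟩ := hQ.atlas
  obtain ⟨W, w₁, w₂, sW⟩ := exists_isPullback hfinφ.1 a₁
  have : IsFinite w₂.left := prop_snd sW hfinφ
  have ha₁' : RepWith @Etale (a₁ ≫ pullback.fst π ((yon S).map jV)) :=
    repWith_comp ha₁ (repWith_baseChange sQ.flip
      ((repWith_yon_map_iff @Etale jV).2 (inferInstanceAs (Etale V'.ι))))
  have hsurj : Set.range w₂.left = Set.univ := by
    by_contra hne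
    obtain ⟨η, hη, hηm⟩ := exists_mem_forall_eq w₂.left.isClosedMap.isClosed_range.isOpen_compl
      (Set.nonempty_compl.2 hne)
    obtain ⟨h₁, hh₁⟩ := (yon S).map_surjective (a₁ ≫ pullback.snd π ((yon S).map jV))
    have e₁ : (a₁ ≫ pullback.fst π ((yon S).map jV)) ≫ π = (yon S).map (h₁ ≫ jV) := by
      rw [Category.assoc, sQ.w, Functor.map_comp, hh₁, Category.assoc]
    have hηv : (h₁ ≫ jV).left η = v := (key U₁ _ ha₁' (h₁ ≫ jV) e₁ η).1 hηm
    obtain ⟨u, hu⟩ := has (Points.ofPt (a₁ ≫ pullback.fst π ((yon S).map jV)) η) (by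
      rw [Points.map_ofPt, e₁, hmap, hηv])
    have hhu : h.left u = v := (Points.schemeEquiv V).injective (by
      show Points.ofPt (𝟙 _) (h.left u) = Points.ofPt (𝟙 _) v
      rw [← hmap, hh, ← Points.map_ofPt, hu, Points.map_ofPt, e₁, hmap, hηv])
    obtain ⟨p', hp'⟩ := hφc u (hhu ▸ hvV')
    rw [hu, ← hφ₁, Points.map_comp, ← Points.map_ofPt] at hp'
    have : Mono (pullback.fst π ((yon S).map jV)) :=
      MorphismProperty.pullback_fst (P := MorphismProperty.monomorphisms (Sp S)) _ _ inferInstance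
    obtain ⟨y, -, hy⟩ := exists_point_of_isPullback sW p' (Points.ofPt (𝟙 _) η) (by
      rw [injective_map_of_mono (pullback.fst π ((yon S).map jV)) hp', Points.map_ofPt, Category.id_comp])
    obtain ⟨r, rfl⟩ := exists_ofScheme y
    rw [Points.map_ofPt, Category.id_comp, ← Category.comp_id ((yon S).map w₂), ofPt_comp] at hy
    exact hη ⟨r, (Points.schemeEquiv U₁).injective hy⟩
  obtain ⟨q, hq₁, -⟩ := exists_point_of_isPullback sQ p (Points.ofPt (𝟙 _) (⟨z, hz⟩ : V'.toScheme)) (by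
    rw [Points.map_ofPt, Category.id_comp, hmap, ← hzp]
    rfl)
  obtain ⟨η, rfl⟩ := surjective_ofPt ha₁s q
  obtain ⟨r, hr⟩ := hsurj.ge (Set.mem_univ η)
  refine ⟨Points.ofPt (𝟙 _) (w₁.left r), ?_⟩
  rw [Points.map_ofPt, Category.id_comp, ← hq₁, Points.map_ofPt, ← hr, ← ofPt_comp, ← hφ₁, ← ofPt_comp,
    reassoc_of% sW.w]

end Groth.Agent.AlgSpFin
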