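import Groth.Agent.AlgSpFin.FinitePiece
import Groth.Agent.AlgSpFin.FinitePieceCover
import Groth.Agent.AlgSpFin.AtMor
import Groth.Agent.FEtGalois.Frames
import Groth.Agent.S1482

/-!
Etale locally a separated morphism splits off a finite piece at quasi-finite points.
-/

set_option autoImplicit false
set_option backward.isDefEq.respectTransparency.types false

universe u

open CategoryTheory CategoryTheory.Limits AlgebraicGeometry Opposite AlgSp TopologicalSpace

namespace Groth.Agent.AlgSpFin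

open Groth.Agent.AlgSpLib

variable {S : Scheme.{u}}

/-- A morphism to a separated space over a base is finite if it is finite over the base. -/
theorem repWith_finite_of_comp {A B C : Sp S} (g : A ⟶ B) (f : B ⟶ C) (hf : IsSeparatedMor f)
    (hgf : RepWith @IsFinite (g ≫ f)) : RepWith @IsFinite g := by
  have h₁ : RepWith @IsFinite (pullback.snd (g ≫ f) f) :=
    repWith_baseChange (IsPullback.of_hasPullback _ _) hgf
  have h₂ : RepWith @IsFinite (pullback.lift (f := g ≫ f) (g := f) (𝟙 A) g (by simp)) :=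
    repWith_mono (fun _ _ k hk => by
      have : IsClosedImmersion k := hk
      infer_instance) (repWith_baseChange (pullback_lift_diagonal_isPullback g f) hf)
  have h := repWith_comp h₂ h₁
  rwa [pullback.lift_snd] at h

/-- Quasi-finite points of a fibre lie, etale locally on the base, in a finite piece. -/
theorem exists_scheme_split {U V : Scheme.{u}} (h : U ⟶ V) [LocallyOfFiniteType h] (v : V) (F : Set U)
    (hF : F.Finite) (hv : ∀ u ∈ F, h u = v) (hq : ∀ u ∈ F, h.QuasiFiniteAt u) :
    ∃ (B : Scheme.{u}) (e : B ⟶ V) (b : B) (Z : Scheme.{u}) (z : Z ⟶ pullback h e),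
      Etale e ∧ IsAffine B ∧ e b = v ∧ IsFinite (z ≫ pullback.snd h e) ∧ Etale z ∧
      (∀ w : Z, (z ≫ pullback.snd h e) w = b → (z ≫ pullback.fst h e) w ∈ F) ∧
      ∀ p : ↑(pullback h e), pullback.snd h e p = b → pullback.fst h e p ∈ F → p ∈ Set.range z := by
  classical
  obtain ⟨n, x, hx, hxF⟩ := hF.fin_param
  subst hxF
  obtain ⟨V₁, g, u₁, hg, hgu, J, hJ, W, w, hW, -, hcomp⟩ :=
    S1482.result h v x hx (fun i => hv _ ⟨i, rfl⟩) (fun i => hq _ ⟨i, rfl⟩)
  have := hJ
  obtain ⟨B, hB, huB, -⟩ := exists_isAffineOpen_mem_and_subset (X := V₁) (x := u₁) (U := ⊤) trivial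
  let b : B.toScheme := ⟨u₁, huB⟩
  let e : B.toScheme ⟶ V := B.ι ≫ g
  let ψ : pullback h e ⟶ pullback h g :=
    pullback.lift (pullback.fst h e) (pullback.snd h e ≫ B.ι) (by
      rw [Category.assoc, pullback.condition])
  have sψ : IsPullback ψ (pullback.snd h e) (pullback.snd h g) B.ι := by
    refine IsPullback.of_right (h₁₂ := pullback.fst h g) (h₂₂ := g) ?_ (pullback.lift_snd _ _ _)
      (IsPullback.of_hasPullback h g)
    rw [pullback.lift_fst]
    exact IsPullback.of_hasPullback h e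
  obtain ⟨m, ⟨k⟩⟩ := Finite.exists_equiv_fin ((i : Fin n) × J i)
  let O : Fin m → (pullback h e).Opens := fun i => ψ ⁻¹ᵁ W (k.symm i).1 (k.symm i).2
  have hO : ∀ i, IsFinite ((O i).ι ≫ pullback.snd h e) := fun i =>
    MorphismProperty.of_isPullback (P := @IsFinite)
      ((isPullback_morphismRestrict ψ (W (k.symm i).1 (k.symm i).2)).paste_vert sψ) (hW _ _).2.1
  let z := Sigma.desc fun i => (O i).ι
  refine ⟨B.toScheme, e, b, ∐ fun i => (O i).toScheme, z, inferInstance, hB, hgu, ?_,
    IsZariskiLocalAtSource.sigmaDesc (P := @Etale) fun i => inferInstanceAs (Etale (O i).ι), fun y hy => ?_,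
    fun p hp hpF => ?_⟩
  · rw [show z ≫ pullback.snd h e = Sigma.desc fun i => (O i).ι ≫ pullback.snd h e from
      Sigma.hom_ext _ _ fun i => by simp [z]]
    exact FEtGalois.isFinite_sigmaDesc_fin _ _ hO
  · obtain ⟨i, y', rfl⟩ := (sigmaOpenCover fun i => (O i).toScheme).exists_eq y
    change (z ≫ pullback.snd h e) (Sigma.ι (fun i => (O i).toScheme) i y') = b at hy
    rw [← Scheme.Hom.comp_apply, Sigma.ι_desc_assoc] at hy
    show (z ≫ pullback.fst h e) (Sigma.ι (fun i => (O i).toScheme) i y') ∈ Set.range x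
    rw [← Scheme.Hom.comp_apply, Sigma.ι_desc_assoc]
    refine ⟨(k.symm i).1, ?_⟩
    obtain ⟨-, -, -, huniq, -, hfst⟩ := hW (k.symm i).1 (k.symm i).2
    have hsnd : pullback.snd h g (ψ ((O i).ι y')) = u₁ := by
      rw [← Scheme.Hom.comp_apply ψ, sψ.w, Scheme.Hom.comp_apply, ← Scheme.Hom.comp_apply (O i).ι, hy]
      rfl
    have e₁ := huniq _ y'.2 hsnd
    rw [Scheme.Hom.comp_apply, ← hfst, ← e₁, ← Scheme.Hom.comp_apply ψ, pullback.lift_fst]
    rfl
  · obtain ⟨i, hi⟩ := hpF
    obtain ⟨j, hj⟩ := hcomp (ψ p) i (by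
      rw [← Scheme.Hom.comp_apply, sψ.w, Scheme.Hom.comp_apply, hp]
      rfl) (by rw [← Scheme.Hom.comp_apply, pullback.lift_fst, hi])
    have hpO : p ∈ O (k ⟨i, j⟩) := by
      show ψ p ∈ W (k.symm (k ⟨i, j⟩)).1 (k.symm (k ⟨i, j⟩)).2
      rw [Equiv.symm_apply_apply, hj]
      exact (hW i j).1
    refine ⟨Sigma.ι (fun i => (O i).toScheme) (k ⟨i, j⟩) ⟨p, hpO⟩, ?_⟩
    rw [← Scheme.Hom.comp_apply, Sigma.ι_desc]
    rfl

/-- Etale locally a separated morphism to a scheme splits off a clopen piece, finite over the base, with exactly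
the given finite set of quasi-finite points over the given point. -/
theorem exists_finite_split {P : Sp S} (hP : IsAlgSpace P) {V : Over S} (π : P ⟶ (yon S).obj V)
    (hl : LocP @LocallyOfFiniteType π) (hs : IsSeparatedMor π) (v : V.left) (pset : Set (Points P))
    (hfin : pset.Finite) (hover : ∀ p ∈ pset, Points.map π p = Points.ofPt (𝟙 _) v)
    (hq : ∀ p ∈ pset, HasAtMor (nearBy (@LocallyQuasiFinite ⊓ @LocallyOfFiniteType)) π p) :
    ∃ (V' : Over S) (e : V' ⟶ V) (v' : V'.left) (M : Over S) (m : M ⟶ V')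
      (φ : (yon S).obj M ⟶ pullback π ((yon S).map e)),
      Etale e.left ∧ IsAffine V'.left ∧ e.left v' = v ∧ IsFinite m.left ∧
      RepWith @IsOpenImmersion φ ∧ RepWith @IsClosedImmersion φ ∧
      φ ≫ pullback.snd π ((yon S).map e) = (yon S).map m ∧
      ∀ p : Points (pullback π ((yon S).map e)),
        Points.map (pullback.snd π ((yon S).map e)) p = Points.ofPt (𝟙 _) v' →
          (p ∈ Set.range (Points.map φ) ↔ Points.map (pullback.fst π ((yon S).map e)) p ∈ pset) := by
  obtain ⟨U, a, hU, ha, hsub⟩ := exists_affine_chart_finite hP pset hfin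
  obtain ⟨h, hh⟩ := (yon S).map_surjective (a ≫ π)
  have : LocallyOfFiniteType h.left := hl a (𝟙 _) h ha (repWith_id _ V) (by rw [Category.comp_id, hh])
  have hd := isDecent_of_isQuasiSeparatedMor hP π (repWith_mono (fun _ _ k hk => by
    have : IsClosedImmersion k := hk
    infer_instance) hs)
  let F : Set U.left := Points.ofPt a ⁻¹' pset
  have hF : F.Finite := (hfin.biUnion fun p _ => finite_fibre_of_isDecent hP hd ha p).subset fun u hu =>
    Set.mem_biUnion (x := Points.ofPt a u) hu rfl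
  have hFv : ∀ u ∈ F, h.left u = v := fun u hu => (Points.schemeEquiv V).injective (by
    show Points.ofPt (𝟙 _) (h.left u) = Points.ofPt (𝟙 _) v
    rw [← hover _ hu, ← ofPt_comp, Category.comp_id, hh, Points.map_ofPt])
  have hFq : ∀ u ∈ F, h.left.QuasiFiniteAt u := fun u hu => by
    obtain ⟨O, hO, hOq⟩ := exists_open_of_hasAtMor _ ha (repWith_id _ V) (h := h)
      (by rw [Category.comp_id]; exact hh.symm) u (hq _ hu)
    have : LocallyQuasiFinite (O.ι ≫ h.left) := hOq.1
    exact (Scheme.Hom.quasiFiniteAt_comp_iff_of_isOpenImmersion (f := O.ι) (x := ⟨u, hO⟩)).1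
      ((O.ι ≫ h.left).quasiFiniteAt _)
  obtain ⟨B, e₀, b, Z₀, z₀, he₀, hB, hb, hfinZ, hz₀, hzF, hzc⟩ := exists_scheme_split h.left v F hF hFv hFq
  let V' : Over S := Over.mk (e₀ ≫ V.hom)
  let e : V' ⟶ V := Over.homMk e₀ rfl
  let U' : Over S := Over.mk (pullback.fst h.left e₀ ≫ U.hom)
  let p₁ : U' ⟶ U := Over.homMk (pullback.fst h.left e₀) rfl
  let p₂ : U' ⟶ V' := Over.homMk (pullback.snd h.left e₀) (by
    show pullback.snd h.left e₀ ≫ e₀ ≫ V.hom = pullback.fst h.left e₀ ≫ U.hom
    rw [← reassoc_of% pullback.condition (f := h.left) (g := e₀), Over.w h])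
  have sU : IsPullback p₁ p₂ h e :=
    IsPullback.of_map (Over.forget S) (Over.OverMorphism.ext pullback.condition) (IsPullback.of_hasPullback h.left e₀)
  have sP := IsPullback.of_hasPullback π ((yon S).map e)
  have hP' := isAlgSpace_of_isPullback sP hP (IsAlgSpace.yon_obj _) (IsAlgSpace.yon_obj _)
  let l := sP.lift ((yon S).map p₁ ≫ a) ((yon S).map p₂) (by
    rw [Category.assoc, ← hh, (yon_isPullback sU).w])
  have sl : IsPullback ((yon S).map p₁) l a (pullback.fst π ((yon S).map e)) :=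
    (IsPullback.of_right (h₂₁ := a) (h₂₂ := π) (by rw [sP.lift_snd, ← hh]; exact (yon_isPullback sU).flip)
      (sP.lift_fst _ _ _) sP.flip).flip
  have hl' : RepWith @Etale l := repWith_baseChange sl ha
  let Z : Over S := Over.mk (z₀ ≫ U'.hom)
  let z : Z ⟶ U' := Over.homMk z₀ rfl
  let aZ := (yon S).map z ≫ l
  have haZ : RepWith @Etale aZ := repWith_yon_comp (P := @Etale) z hz₀ hl'
  have hsP : IsSeparatedMor (pullback.snd π ((yon S).map e)) := repWith_diagonal_baseChange sP hs
  have haZf : aZ ≫ pullback.snd π ((yon S).map e) = (yon S).map (z ≫ p₂) := by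
    rw [Category.assoc, sP.lift_snd, Functor.map_comp]
  have : IsAffine V'.left := hB
  have hzf : IsFinite (z ≫ p₂).left := hfinZ
  have : IsAffine Z.left := isAffine_of_isAffineHom (z ≫ p₂).left
  have hfinA : RepWith @IsFinite aZ :=
    repWith_finite_of_comp _ _ hsP (by rw [haZf]; exact (repWith_yon_map_iff @IsFinite _).2 hzf)
  obtain ⟨R, s, t, sR⟩ := exists_isPullback haZ.1 aZ
  have : IsFinite t.left := prop_snd sR hfinA
  obtain ⟨M, m, φ, hm, hφ, hφw, hφc, hφr⟩ := exists_finite_piece' hP' haZ haZf sR ⊤ (isAffineOpen_top _)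
    (MorphismProperty.of_isPullback (P := @IsFinite) (isPullback_morphismRestrict (z ≫ p₂).left ⊤).flip hzf)
    (MorphismProperty.of_isPullback (P := @IsFinite) (isPullback_morphismRestrict (t.left ≫ (z ≫ p₂).left) ⊤).flip
      inferInstance)
  let jV : Over.mk ((⊤ : V'.left.Opens).ι ≫ V'.hom) ⟶ V' := Over.homMk (⊤ : V'.left.Opens).ι rfl
  have : IsFinite (m ≫ jV).left := by
    show IsFinite (m.left ≫ (⊤ : V'.left.Opens).ι)
    exact (MorphismProperty.cancel_right_of_respectsIso @IsFinite m.left V'.left.topIso.hom).2 hm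
  have hφfin : RepWith @IsFinite φ :=
    repWith_finite_of_comp _ _ hsP (by rw [hφw]; exact (repWith_yon_map_iff @IsFinite _).2 ‹_›)
  refine ⟨V', e, b, M, m ≫ jV, φ, he₀, hB, hb, this, hφ, ⟨hφ.1, fun T W g fst snd sq => ?_⟩, hφw, fun p hp => ?_⟩
  · have : IsOpenImmersion ((Over.forget S).map snd) := hφ.2 g fst snd sq
    have : IsFinite ((Over.forget S).map snd) := hφfin.2 g fst snd sq
    exact IsClosedImmersion.of_isPreimmersion _ (((Over.forget S).map snd).isClosedMap.isClosed_range)
  · have hfst : ∀ y : Z.left, Points.map (pullback.fst π ((yon S).map e)) (Points.ofPt aZ y) =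
        Points.ofPt a ((z₀ ≫ pullback.fst h.left e₀) y) := fun y => by
      rw [Points.map_ofPt, Category.assoc, sP.lift_fst, ← Category.assoc, ← Functor.map_comp, ofPt_comp]
      rfl
    constructor
    · intro hpM
      obtain ⟨y, rfl⟩ := hφr hpM
      rw [hfst]
      refine hzF y ((Points.schemeEquiv V').injective ?_)
      show Points.ofPt (𝟙 _) ((z ≫ p₂).left y) = Points.ofPt (𝟙 _) b
      rw [← hp, Points.map_ofPt, haZf, ← ofPt_comp, Category.comp_id]
    · intro hpp
      obtain ⟨u, hu⟩ := hsub hpp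
      obtain ⟨w', hw'₁, hw'₂⟩ := exists_point_of_isPullback sl (Points.ofPt (𝟙 _) u) p
        (by rw [Points.map_ofPt, Category.id_comp]; exact hu)
      obtain ⟨w, rfl⟩ := exists_ofScheme w'
      rw [Points.map_ofPt, Category.id_comp] at hw'₁ hw'₂
      have hw₁ : p₁.left w = u := (Points.schemeEquiv U).injective (by
        show Points.ofPt (𝟙 _) (p₁.left w) = Points.ofPt (𝟙 _) u
        rw [← hw'₁, ← ofPt_comp, Category.comp_id])
      have hw₂ : p₂.left w = b := (Points.schemeEquiv V').injective (by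
        show Points.ofPt (𝟙 _) (p₂.left w) = Points.ofPt (𝟙 _) b
        rw [← hp, ← hw'₂, Points.map_ofPt, sP.lift_snd, ← ofPt_comp, Category.comp_id])
      obtain ⟨y, hy⟩ := hzc w hw₂ (by
        show Points.ofPt a _ ∈ pset
        rw [show pullback.fst h.left e₀ w = u from hw₁, hu]; exact hpp)
      have := hφc y trivial
      rw [← hw'₂, ← hy]
      rw [ofPt_comp] at this
      exact this

end Groth.Agent.AlgSpFin
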