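import Groth.Agent.AlgSpFin.FibreDimSemi
import Groth.Agent.GeomUnib.ValuationFibre
import Groth.Agent.FibreDense.Basic
import Groth.Agent.GenericFinite.Basic

/-!
Fibre dimensions of flat morphisms are bounded by those over a dense open.
-/

set_option autoImplicit false
set_option backward.isDefEq.respectTransparency.types false

universe u

open CategoryTheory CategoryTheory.Limits AlgebraicGeometry Opposite AlgSp TopologicalSpace

namespace Groth.Agent.AlgSpFin

open Groth.Agent.AlgSpLib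

/-- Fibre dimensions do not grow under specialization along flat morphisms. -/
theorem fibreDimAt_le_of_generic {X S : Scheme.{u}} (f : X ⟶ S) [Flat f] [LocallyOfFiniteType f] (e : WithBot ℕ∞)
    {x : X} {y' : S} (hy : y' ⤳ f x) (h : ∀ z, f z = y' → FlatMor.fibreDimAt f z ≤ e) :
    FlatMor.fibreDimAt f x ≤ e := by
  obtain ⟨V, g₀, φ, hgen, hcl⟩ := FibreDense.exists_valuation_base (S := S) hy
  let c₀ : ↥(Spec (CommRingCat.of V)) := (IsLocalRing.closedPoint V : PrimeSpectrum V)
  let η : ↥(Spec (CommRingCat.of V)) := (⟨⊥, Ideal.isPrime_bot⟩ : PrimeSpectrum V)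
  let κ := IsLocalRing.ResidueField V
  let r₀ : ↥(Spec (CommRingCat.of κ)) := (IsLocalRing.closedPoint κ : PrimeSpectrum κ)
  have hc : g₀ c₀ = f x := by
    have e0 : c₀ = Spec.map (CommRingCat.ofHom (IsLocalRing.residue V)) r₀ :=
      (IsLocalRing.comap_closedPoint (IsLocalRing.residue V)).symm
    rw [e0, ← Scheme.Hom.comp_apply, hcl, Scheme.Hom.comp_apply, Scheme.fromSpecResidueField_apply]
  let r₁ : ↥(Spec (CommRingCat.of (S.residueField y'))) :=
    (IsLocalRing.closedPoint (S.residueField y') : PrimeSpectrum _)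
  have hη : g₀ η = y' := by
    have e0 : η = Spec.map (CommRingCat.ofHom (algebraMap V (S.residueField y'))) r₁ := by
      refine PrimeSpectrum.ext ?_
      show (⊥ : Ideal V) = Ideal.comap (algebraMap V (S.residueField y')) (IsLocalRing.maximalIdeal (S.residueField y'))
      rw [IsLocalRing.maximalIdeal_eq_bot]
      exact ((RingHom.injective_iff_ker_eq_bot _).1 (IsFractionRing.injective V _)).symm
    rw [e0, ← Scheme.Hom.comp_apply, hgen]
    exact Scheme.fromSpecResidueField_apply _ _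
  obtain ⟨s, hs₁, hs₂⟩ := Scheme.Pullback.exists_preimage_pullback (f := f) (g := g₀) x c₀ hc.symm
  let fV := pullback.snd f g₀
  have : Flat fV := MorphismProperty.pullback_snd _ _ ‹_›
  have : LocallyOfFiniteType fV := MorphismProperty.pullback_snd _ _ ‹_›
  rw [← hs₁, ← GeomUnib.SectionBC.fibreDimAt_bc]
  obtain ⟨n, hn, ⟨w, hw, hws, hwn⟩, -⟩ := FibreDim.exists_fibreDimAt_eq fV s
  have hw' : fV w = (IsLocalRing.closedPoint V : PrimeSpectrum V) := hw.trans hs₂
  obtain ⟨z, hzw, hz⟩ := Flat.generalizingMap fV (show η ⤳ fV w by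
    rw [hw']
    exact IsLocalRing.specializes_closedPoint _)
  rw [hn, ← hwn]
  refine (GeomUnib.fdim_le_of_valuationRing fV hzw hw' hz).trans ?_
  refine (FibreDim.fdim_le_fibreDimAt fV (specializes_refl z)).trans ?_
  rw [GeomUnib.SectionBC.fibreDimAt_bc]
  refine h _ ?_
  rw [← Scheme.Hom.comp_apply, pullback.condition, Scheme.Hom.comp_apply]
  exact (congrArg g₀ hz).trans hη

/-- A bound on fibre dimensions over a dense open holds everywhere. -/
theorem fibreDimAt_le_of_dense {X S : Scheme.{u}} (f : X ⟶ S) [Flat f] [LocallyOfFiniteType f] (U : S.Opens)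
    (hU : Dense (U : Set S)) (e : ℕ) (hle : ∀ x : X, f x ∈ U → FlatMor.fibreDimAt f x ≤ e)
    (h : LocallyOfFinitePresentation f ∨ IsRetrocompact (U : Set S)) (x : X) : FlatMor.fibreDimAt f x ≤ e := by
  obtain ⟨B, hB, hxB, -⟩ := exists_isAffineOpen_mem_and_subset (X := S) (U := ⊤) (x := f x) trivial
  have : IsAffine B.toScheme := hB
  rcases h with h | h
  · obtain ⟨A, hA, hxA, hAB⟩ := exists_isAffineOpen_mem_and_subset (X := X) (U := f ⁻¹ᵁ B) (x := x) hxB
    have : IsAffine A.toScheme := hA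
    let g : A.toScheme ⟶ B.toScheme := f.resLE B A hAB
    have hg : g ≫ B.ι = A.ι ≫ f := Scheme.Hom.resLE_comp_ι _ _
    have hdim : ∀ a : A.toScheme, FlatMor.fibreDimAt g a = FlatMor.fibreDimAt f (A.ι a) := fun a => by
      rw [← fibreDimAt_comp_etale g B.ι a, hg, fibreDimAt_etale_comp]
    have : Flat g := inferInstance
    have : LocallyOfFinitePresentation (g ≫ B.ι) := by rw [hg]; infer_instance
    have : LocallyOfFinitePresentation g :=
      MorphismProperty.of_postcomp (W := @LocallyOfFinitePresentation) (W' := @IsOpenImmersion) g B.ι inferInstance ‹_›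
    by_contra hlt
    have hlt' : ¬ FlatMor.fibreDimAt g (⟨x, hxA⟩ : A.toScheme) ≤ e := by rwa [hdim]
    have hs : (e : WithBot ℕ∞) < topologicalKrullDim (g.fiber (g ⟨x, hxA⟩)) :=
      lt_of_not_ge fun hle' => hlt' ((dim_fiber_le_iff g _ _).1 hle' _ rfl)
    obtain ⟨t, ht, htU⟩ := (hU.preimage B.ι.isOpenEmbedding.isOpenMap).exists_mem_open (S0404.result g e) ⟨_, hs⟩
    refine (not_le.2 (show (e : WithBot ℕ∞) < topologicalKrullDim (g.fiber t) from ‹_›)) ?_
    refine (dim_fiber_le_iff g t e).2 fun a ha => ?_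
    rw [hdim]
    refine hle _ ?_
    rw [← Scheme.Hom.comp_apply, ← hg, Scheme.Hom.comp_apply, ha]
    assumption
  · obtain ⟨η, hη, hηx⟩ : ∃ η : B.toScheme, (∀ a : B.toScheme, a ⤳ η → a = η) ∧ η ⤳ (⟨f x, hxB⟩ : B.toScheme) := by
      let b : B.toScheme := ⟨f x, hxB⟩
      obtain ⟨η, hη⟩ := QuasiSober.sober (isIrreducible_irreducibleComponent (x := b)) isClosed_irreducibleComponent
      refine ⟨η, fun a ha => GenericFinite.eq_of_specializes ?_ ha, hη.specializes mem_irreducibleComponent⟩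
      rw [hη.def]
      exact irreducibleComponent_mem_irreducibleComponents b
    have hc : IsCompact ((B.ι ⁻¹ᵁ U : B.toScheme.Opens) : Set B.toScheme) := by
      have := h hB.isCompact B.2
      rw [Topology.IsEmbedding.isCompact_iff B.ι.isOpenEmbedding.isEmbedding]
      convert this using 1
      rw [show ((B.ι ⁻¹ᵁ U : B.toScheme.Opens) : Set B.toScheme) = B.ι ⁻¹' (U : Set S) from rfl,
        Set.image_preimage_eq_inter_range, Scheme.Opens.range_ι]
    have hηU := GenericFinite.mem_of_mem_closure hc hη (hU.preimage B.ι.isOpenEmbedding.isOpenMap η)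
    refine fibreDimAt_le_of_generic f e (y' := B.ι η) (hηx.map B.ι.continuous) fun z hz => hle z ?_
    rw [hz]
    exact hηU

variable {S : Scheme.{u}}

/-- The same for algebraic spaces. -/
theorem relDim_le_of_dense {X Y V : Space S} (f : X ⟶ Y) (j : V ⟶ Y) (d : ℕ) (hf1 : LocP @Flat f.hom)
    (hf2 : LocP @LocallyOfFiniteType f.hom) (hj1 : RepWith @IsOpenImmersion j.hom)
    (hj2 : Dense (Set.range (Points.map j.hom))) (P : Space S) (fst : P ⟶ X) (snd : P ⟶ V)
    (hP : IsPullback fst.hom snd.hom f.hom j.hom)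
    (hV : ∀ x, HasAtMor (fun _ _ h u => FlatMor.fibreDimAt h u ≤ (d : WithBot ℕ∞)) snd.hom x)
    (h : LocP @LocallyOfFinitePresentation f.hom ∨ IsQuasiCompactMor j.hom) (x : Points X.obj) :
    HasAtMor (fun _ _ h u => FlatMor.fibreDimAt h u ≤ (d : WithBot ℕ∞)) f.hom x := by
  obtain ⟨U, W, a, b, g, ha, has, hb, -, w⟩ := exists_chart X.property Y.property f.hom
  obtain ⟨u, rfl⟩ := surjective_ofPt has x
  rw [hasAtMor_fibreDim_iff hf2 (· ≤ (d : WithBot ℕ∞)) ha hb w]
  have : Flat g.left := hf1 a b g ha hb w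
  have : LocallyOfFiniteType g.left := hf2 a b g ha hb w
  obtain ⟨W', o, o', sq⟩ := hj1.1 b
  have ho : IsOpenImmersion o.left := hj1.2 b o' o sq
  have hrange : Points.ofPt b ⁻¹' Set.range (Points.map j.hom) = Set.range o.left := by
    ext t
    constructor
    · rintro ⟨v, hv⟩
      obtain ⟨z, -, hz⟩ := exists_point_of_isPullback sq v (Points.ofPt (𝟙 _) t) (by rw [hv, map_ofPt_id])
      obtain ⟨r, rfl⟩ := exists_ofScheme z
      refine ⟨r, (Points.schemeEquiv W).injective ?_⟩
      rw [map_ofPt_id, ← Category.comp_id ((yon S).map o), ofPt_comp] at hz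
      exact hz
    · rintro ⟨r, rfl⟩
      refine ⟨Points.ofPt o' r, ?_⟩
      rw [Points.map_ofPt, sq.w, ofPt_comp]
  refine fibreDimAt_le_of_dense g.left ⟨Points.ofPt b ⁻¹' Set.range (Points.map j.hom),
      hrange ▸ o.left.isOpenEmbedding.isOpen_range⟩
    (hj2.preimage (isOpenMap_ofPt_of_etale hb)) d (fun z hz => ?_) (h.imp (fun hl => hl a b g ha hb w) fun hq => ?_) u
  · obtain ⟨v, hv⟩ := hz
    obtain ⟨p, hp, -⟩ := exists_point_of_isPullback hP (Points.ofPt a z) v (by
      rw [hv, Points.map_ofPt, w, ofPt_comp])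
    rw [← hasAtMor_fibreDim_iff hf2 (· ≤ (d : WithBot ℕ∞)) ha hb w, ← hp,
      hasAtMor_fibreDim_baseChange_iff f hf2 hP (· ≤ (d : WithBot ℕ∞))]
    exact hV p
  · intro K hKc hKo
    let KS : Over S := Over.mk (Scheme.Opens.ι (⟨K, hKo⟩ : W.left.Opens) ≫ W.hom)
    let k : KS ⟶ W := Over.homMk (Scheme.Opens.ι (⟨K, hKo⟩ : W.left.Opens)) rfl
    have : CompactSpace KS.left := isCompact_iff_compactSpace.1 hKc
    have sK := IsPullback.of_hasPullback j.hom ((yon S).map k ≫ b)
    have hc : CompactSpace (Points (pullback j.hom ((yon S).map k ≫ b))) :=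
      compactSpace_points_of_isQuasiCompactSp (hq (IsAlgSpace.yon_obj KS)
        (AlgSpPts.isQuasiCompactSp_yon KS inferInstance) _ _ _ sK)
    have hc₂ := (isCompact_range (Points.continuous_map
      (pullback.snd j.hom ((yon S).map k ≫ b) ≫ (yon S).map k))).image (Points.schemeHomeo W).symm.continuous
    convert hc₂
    ext t
    constructor
    · rintro ⟨⟨v, hv⟩, htK⟩
      obtain ⟨p, -, hp⟩ := exists_point_of_isPullback sK v (Points.ofPt (𝟙 _) (show KS.left from ⟨t, htK⟩))
        (by rw [hv, map_ofPt_id, ofPt_comp]; rfl)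
      refine ⟨_, ⟨p, rfl⟩, ?_⟩
      rw [Points.map_comp, hp, map_ofPt_id, ← Category.comp_id ((yon S).map k), ofPt_comp]
      exact (Points.schemeHomeo W).symm_apply_apply t
    · rintro ⟨_, ⟨p, rfl⟩, rfl⟩
      obtain ⟨r, hr⟩ := exists_ofScheme (Points.map (pullback.snd j.hom ((yon S).map k ≫ b)) p)
      rw [Points.map_comp, ← hr, map_ofPt_id, ← Category.comp_id ((yon S).map k), ofPt_comp]
      rw [show (Points.schemeHomeo W).symm (Points.ofPt (𝟙 _) (k.left r)) = k.left r from
        (Points.schemeHomeo W).symm_apply_apply _]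
      refine ⟨⟨Points.map (pullback.fst j.hom ((yon S).map k ≫ b)) p, ?_⟩, r.2⟩
      rw [← Points.map_comp, pullback.condition, Points.map_comp, ← hr, map_ofPt_id, ofPt_comp]

end Groth.Agent.AlgSpFin
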