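import Groth.Agent.AlgSpFin.EtaleDim
import Groth.Agent.AlgSpFin.AtMor
import Groth.Agent.FibreDim.Local
import Groth.Agent.FibreSemi.Basic
import Groth.Agent.S9355
import Groth.Agent.AlgSpFin.QuasiFiniteLocus
import Groth.Prelude.Def_Flat

/-!
The relative dimension of a morphism of algebraic spaces.
-/

set_option autoImplicit false
set_option backward.isDefEq.respectTransparency.types false

universe u

open CategoryTheory CategoryTheory.Limits AlgebraicGeometry Opposite AlgSp TopologicalSpace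

namespace Groth.Agent.AlgSpFin

open Groth.Agent.AlgSpLib

variable {S : Scheme.{u}}

/-- The fibre dimension does not depend on the diagram of charts. -/
theorem fibreDimAt_eq_of_diag {X Y : Sp S} {f : X ⟶ Y} (hf : LocP @LocallyOfFiniteType f) {U₁ V₁ U V : Over S}
    {a₁ : (yon S).obj U₁ ⟶ X} {b₁ : (yon S).obj V₁ ⟶ Y} {h₁ : U₁ ⟶ V₁} {a : (yon S).obj U ⟶ X}
    {b : (yon S).obj V ⟶ Y} {h : U ⟶ V} (ha₁ : RepWith @Etale a₁) (hb₁ : RepWith @Etale b₁)
    (w₁ : a₁ ≫ f = (yon S).map h₁ ≫ b₁) (ha : RepWith @Etale a) (hb : RepWith @Etale b)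
    (w : a ≫ f = (yon S).map h ≫ b) (u₁ : U₁.left) (u : U.left) (e : Points.ofPt a₁ u₁ = Points.ofPt a u) :
    FlatMor.fibreDimAt h₁.left u₁ = FlatMor.fibreDimAt h.left u := by
  obtain ⟨U₂, p₁, p, sU⟩ := exists_isPullback ha₁.1 a
  obtain ⟨V₂, q₁, q, sV⟩ := exists_isPullback hb₁.1 b
  obtain ⟨z, rfl, rfl⟩ := (ofPt_eq_iff sU u₁ u).1 e
  have : Etale p₁.left := prop_snd sU.flip ha
  have : Etale p.left := prop_snd sU ha₁
  have : Etale q₁.left := prop_snd sV.flip hb
  have : Etale q.left := prop_snd sV hb₁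
  obtain ⟨k, hk₁, hk₂⟩ := exists_lift sV ((yon S).map (p₁ ≫ h₁)) (p ≫ h) (by
    rw [Functor.map_comp, Functor.map_comp, Category.assoc, Category.assoc, ← w₁, ← w, reassoc_of% sU.w])
  have hk₁' : k ≫ q₁ = p₁ ≫ h₁ := (yon S).map_injective (by rw [Functor.map_comp]; exact hk₁)
  have : LocallyOfFiniteType h₁.left := hf a₁ b₁ h₁ ha₁ hb₁ w₁
  have : LocallyOfFiniteType h.left := hf a b h ha hb w
  have : LocallyOfFiniteType k.left := hf ((yon S).map p₁ ≫ a₁) ((yon S).map q₁ ≫ b₁) k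
    (repWith_yon_comp (P := @Etale) p₁ inferInstance ha₁) (repWith_yon_comp (P := @Etale) q₁ inferInstance hb₁)
    (by rw [Category.assoc, w₁, reassoc_of% hk₁, Functor.map_comp, Category.assoc])
  rw [← fibreDimAt_etale_comp p₁.left h₁.left z, ← fibreDimAt_etale_comp p.left h.left z, ← Over.comp_left,
    ← Over.comp_left, ← hk₁', ← hk₂, Over.comp_left, Over.comp_left, fibreDimAt_comp_etale, fibreDimAt_comp_etale]

/-- The fibre dimension at a point, in any chart. -/
theorem hasAtMor_fibreDim_iff {X Y : Sp S} {f : X ⟶ Y} (hf : LocP @LocallyOfFiniteType f) (Q : WithBot ℕ∞ → Prop)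
    {U V : Over S} {a : (yon S).obj U ⟶ X} {b : (yon S).obj V ⟶ Y} {h : U ⟶ V} (ha : RepWith @Etale a)
    (hb : RepWith @Etale b) (w : a ≫ f = (yon S).map h ≫ b) (u : U.left) :
    HasAtMor (fun _ _ h u => Q (FlatMor.fibreDimAt h u)) f (Points.ofPt a u) ↔ Q (FlatMor.fibreDimAt h.left u) := by
  refine ⟨?_, fun hQ => ⟨U, V, a, b, h, u, ha, hb, w, rfl, hQ⟩⟩
  rintro ⟨U₁, V₁, a₁, b₁, h₁, u₁, ha₁, hb₁, w₁, e, hQ⟩
  exact fibreDimAt_eq_of_diag hf ha₁ hb₁ w₁ ha hb w u₁ u e ▸ hQ

/-- A chart of a base change over a given chart and a given point. -/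
theorem exists_baseChange_chart {X Y Y' X' : Space S} (f : X ⟶ Y) {g : Y'.obj ⟶ Y.obj} {fst : X'.obj ⟶ X.obj}
    {f' : X'.obj ⟶ Y'.obj} (sq : IsPullback fst f' f.hom g) {U V : Over S} {a : (yon S).obj U ⟶ X.obj}
    {b : (yon S).obj V ⟶ Y.obj} {h : U ⟶ V} (ha : RepWith @Etale a) (w : a ≫ f.hom = (yon S).map h ≫ b)
    (hb : RepWith @Etale b) (x' : Points X'.obj) (u : U.left) (hu : Points.ofPt a u = Points.map fst x') :
    ∃ (V₂ : Over S) (c : V₂ ⟶ V) (a₂ : (yon S).obj (pullback h c) ⟶ X'.obj) (b₂ : (yon S).obj V₂ ⟶ Y'.obj)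
      (z : (pullback h c).left), RepWith @Etale a₂ ∧ RepWith @Etale b₂ ∧
        a₂ ≫ f' = (yon S).map (pullback.snd h c) ≫ b₂ ∧ Points.ofPt a₂ z = x' ∧ (pullback.fst h c).left z = u := by
  have sP := IsPullback.of_hasPullback b g
  obtain ⟨V₂, e, he, hes⟩ := (isAlgSpace_of_isPullback sP (IsAlgSpace.yon_obj V) Y'.property Y.property).atlas
  obtain ⟨c, hc⟩ := (yon S).map_surjective (e ≫ pullback.fst b g)
  have sQ := IsPullback.of_hasPullback a fst
  let m : pullback a fst ⟶ pullback b g :=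
    sP.lift (pullback.fst a fst ≫ (yon S).map h) (pullback.snd a fst ≫ f')
      (by rw [Category.assoc, ← w, Category.assoc, ← sq.w, reassoc_of% sQ.w])
  have sm : IsPullback (pullback.fst a fst) m ((yon S).map h) (pullback.fst b g) :=
    IsPullback.of_bot (h₁₁ := pullback.fst a fst) (v₁₁ := m) (v₂₁ := pullback.snd b g)
      (by rw [sP.lift_snd, ← w]; exact sQ.paste_vert sq) (sP.lift_fst _ _ _).symm sP
  have sU := IsPullback.of_hasPullback h c
  let e₂ : (yon S).obj (pullback h c) ⟶ pullback a fst :=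
    sm.lift ((yon S).map (pullback.fst h c)) ((yon S).map (pullback.snd h c) ≫ e)
      (by rw [Category.assoc, ← hc, (yon_isPullback sU).w])
  have se : IsPullback e₂ ((yon S).map (pullback.snd h c)) m e :=
    IsPullback.of_right (by rw [sm.lift_fst, ← hc]; exact yon_isPullback sU) (sm.lift_snd _ _ _) sm
  have he₂ : RepWith @Etale e₂ := repWith_baseChange se.flip he
  have he₂s : RepWith @Surjective e₂ := repWith_baseChange se.flip hes
  obtain ⟨q, hq₁, hq₂⟩ := exists_point_of_isPullback sQ (Points.ofPt (𝟙 _) u) x'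
    (by rw [Points.map_ofPt, Category.id_comp]; exact hu)
  obtain ⟨z, rfl⟩ := surjective_ofPt he₂s q
  rw [Points.map_ofPt] at hq₁ hq₂
  refine ⟨V₂, c, e₂ ≫ pullback.snd a fst, e ≫ pullback.snd b g, z, repWith_comp he₂ (repWith_baseChange sQ ha),
    repWith_comp he (repWith_baseChange sP hb), ?_, hq₂, ?_⟩
  · rw [Category.assoc, ← reassoc_of% se.w]
    congr 1
    exact (sP.lift_snd _ _ _).symm
  · refine (Points.schemeEquiv U).injective ?_
    show Points.ofPt (𝟙 _) ((pullback.fst h c).left z) = Points.ofPt (𝟙 _) u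
    rw [← ofPt_comp, Category.comp_id, ← hq₁, sm.lift_fst]

/-- The fibre dimension is invariant under base change. -/
theorem hasAtMor_fibreDim_baseChange_iff {X Y Y' X' : Space S} (f : X ⟶ Y) (hf : LocP @LocallyOfFiniteType f.hom)
    {g : Y'.obj ⟶ Y.obj} {fst : X'.obj ⟶ X.obj} {f' : X'.obj ⟶ Y'.obj} (sq : IsPullback fst f' f.hom g)
    (Q : WithBot ℕ∞ → Prop) (x' : Points X'.obj) :
    HasAtMor (fun _ _ h u => Q (FlatMor.fibreDimAt h u)) f.hom (Points.map fst x') ↔
      HasAtMor (fun _ _ h u => Q (FlatMor.fibreDimAt h u)) f' x' := by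
  obtain ⟨U, V, a, b, h, ha, has, hb, -, w⟩ := exists_chart X.property Y.property f.hom
  obtain ⟨u, hu⟩ := surjective_ofPt has (Points.map fst x')
  obtain ⟨V₂, c, a₂, b₂, z, ha₂, hb₂, w₂, rfl, hzu⟩ := exists_baseChange_chart f sq ha w hb x' u hu
  have hf' := locP_baseChange X.property Y.property Y'.property sq hf
  rw [← hu, hasAtMor_fibreDim_iff hf Q ha hb w, hasAtMor_fibreDim_iff hf' Q ha₂ hb₂ w₂, ← hzu]
  have : LocallyOfFiniteType h.left := hf a b h ha hb w
  have sL := left_isPullback (IsPullback.of_hasPullback h c)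
  have hl : LocallyOfFiniteType (pullback.snd h c).left :=
    MorphismProperty.of_isPullback (P := @LocallyOfFiniteType) sL ‹_›
  refine Iff.of_eq (congrArg Q ?_)
  have e := GeomUnib.SectionBC.fibreDimAt_bc h.left c.left (sL.isoPullback.hom z)
  rw [← GeomUnib.SectionBC.fibreDimAt_restrict (f := Limits.pullback.snd h.left c.left) (f' := (pullback.snd h c).left)
    (j := sL.isoPullback.hom) (i := 𝟙 _) (by simp) z] at e
  rw [e, ← Scheme.Hom.comp_apply, IsPullback.isoPullback_hom_fst]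

/-- Bounded fibre dimension is an open condition. -/
theorem isOpen_fibreDim_le {X Y : Space S} (f : X ⟶ Y) (hf : LocP @LocallyOfFiniteType f.hom) (n : ℕ) :
    IsOpen {x : Points X.obj | HasAtMor (fun _ _ h u => FlatMor.fibreDimAt h u ≤ (n : WithBot ℕ∞)) f.hom x} := by
  obtain ⟨U, V, a, b, h, ha, has, hb, -, w⟩ := exists_chart X.property Y.property f.hom
  have : LocallyOfFiniteType h.left := hf a b h ha hb w
  rw [← (isQuotientMap_ofPt ha has).isOpen_preimage]
  convert FibreSemi.isOpen_le h.left n using 1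
  ext u
  exact hasAtMor_fibreDim_iff hf (· ≤ (n : WithBot ℕ∞)) ha hb w u

/-- Bounded fibre dimension is a retrocompact condition. -/
theorem isCompact_inter_fibreDim_le {X Y : Space S} (f : X ⟶ Y) (hf : LocP @LocallyOfFinitePresentation f.hom) (n : ℕ)
    (W : Set (Points X.obj)) (hW : IsOpen W) (hWc : IsCompact W) :
    IsCompact (W ∩ {x | HasAtMor (fun _ _ h u => FlatMor.fibreDimAt h u ≤ (n : WithBot ℕ∞)) f.hom x}) := by
  have hft : LocP @LocallyOfFiniteType f.hom := locP_mono (fun _ _ k hk => by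
    have : LocallyOfFinitePresentation k := hk
    infer_instance) hf
  obtain ⟨U, V, a, b, h, ha, has, hb, -, w⟩ := exists_chart X.property Y.property f.hom
  have hl : LocallyOfFinitePresentation h.left := hf a b h ha hb w
  have hcov : ∀ x ∈ W, ∃ A : U.left.Opens, IsAffineOpen A ∧ x ∈ Points.ofPt a '' (A : Set U.left) ∧
      Points.ofPt a '' (A : Set U.left) ⊆ W := fun x hx => by
    obtain ⟨u, rfl⟩ := surjective_ofPt has x
    obtain ⟨A, hA, huA, hAW⟩ := exists_isAffineOpen_mem_and_subset (X := U.left)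
      (U := ⟨Points.ofPt a ⁻¹' W, hW.preimage (Points.continuous_ofPt a)⟩) (x := u) hx
    exact ⟨A, hA, ⟨u, huA, rfl⟩, Set.image_subset_iff.2 hAW⟩
  choose A hA hxA hAW using hcov
  obtain ⟨t, ht⟩ := hWc.elim_finite_subcover (fun x : W => Points.ofPt a '' (A x.1 x.2 : Set U.left))
    (fun x => isOpenMap_ofPt_of_etale ha _ (A x.1 x.2).2) fun x hx => Set.mem_iUnion.2 ⟨⟨x, hx⟩, hxA x hx⟩
  have e : W ∩ {x | HasAtMor (fun _ _ h u => FlatMor.fibreDimAt h u ≤ (n : WithBot ℕ∞)) f.hom x} =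
      ⋃ x ∈ t, Points.ofPt a '' ({u | FlatMor.fibreDimAt h.left u ≤ n} ∩ (A x.1 x.2 : Set U.left)) := by
    ext x
    constructor
    · rintro ⟨hxW, hx⟩
      obtain ⟨y, hy, u, huA, rfl⟩ := Set.mem_iUnion₂.1 (ht hxW)
      exact Set.mem_iUnion₂.2 ⟨y, hy, u,
        ⟨(hasAtMor_fibreDim_iff hft (· ≤ (n : WithBot ℕ∞)) ha hb w u).1 hx, huA⟩, rfl⟩
    · intro hx
      obtain ⟨y, hy, u, ⟨hu, huA⟩, rfl⟩ := Set.mem_iUnion₂.1 hx
      exact ⟨hAW y.1 y.2 ⟨u, huA, rfl⟩, (hasAtMor_fibreDim_iff hft (· ≤ (n : WithBot ℕ∞)) ha hb w u).2 hu⟩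
  rw [e]
  exact t.isCompact_biUnion fun x _ =>
    ((S9355.result h.left n) (hA x.1 x.2).isCompact (A x.1 x.2).2).image (Points.continuous_ofPt a)

/-- Values at a point of a chart do not depend on the chart. -/
theorem hasAt_iff_of_etale_invariant {X : Sp S} (φ : ∀ (T : Scheme.{u}), T → WithBot ℕ∞)
    (hφ : ∀ {A B : Scheme.{u}} (e : A ⟶ B) [Etale e] (z : A), φ A z = φ B (e z)) (Q : WithBot ℕ∞ → Prop)
    {U : Over S} {a : (yon S).obj U ⟶ X} (ha : RepWith @Etale a) (u : U.left) :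
    HasAt (fun U u => Q (φ U u)) X (Points.ofPt a u) ↔ Q (φ U.left u) := by
  refine ⟨?_, fun h => ⟨U, a, u, ha, rfl, h⟩⟩
  rintro ⟨U₁, a₁, u₁, ha₁, e, h⟩
  obtain ⟨U₂, p₁, p, sU⟩ := exists_isPullback ha₁.1 a
  obtain ⟨z, rfl, rfl⟩ := (ofPt_eq_iff sU u₁ u).1 e
  have : Etale p₁.left := prop_snd sU.flip ha
  have : Etale p.left := prop_snd sU ha₁
  rw [← hφ p.left z, hφ p₁.left z]
  exact h

/-- Etale morphisms preserve local dimensions at points. -/
theorem hasAt_iff_map_of_etale {X Y : Space S} (f : X ⟶ Y) (hf : IsEtaleMor f.hom) (φ : ∀ (T : Scheme.{u}), T → WithBot ℕ∞)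
    (hφ : ∀ {A B : Scheme.{u}} (e : A ⟶ B) [Etale e] (z : A), φ A z = φ B (e z)) (Q : WithBot ℕ∞ → Prop)
    (x : Points X.obj) :
    HasAt (fun U u => Q (φ U u)) X.obj x ↔ HasAt (fun U u => Q (φ U u)) Y.obj (Points.map f.hom x) := by
  obtain ⟨U, V, a, b, h, ha, has, hb, -, w⟩ := exists_chart X.property Y.property f.hom
  obtain ⟨u, rfl⟩ := surjective_ofPt has x
  have : Etale h.left := (isEtaleMor_iff_locP Y.property).1 hf a b h ha hb w
  rw [Points.map_ofPt, w, ofPt_comp, hasAt_iff_of_etale_invariant φ hφ Q ha,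
    hasAt_iff_of_etale_invariant φ hφ Q hb, hφ h.left u]

/-- A scheme is as big as its local dimensions. -/
theorem dim_le_iff_forall_localDim {T : Type*} [TopologicalSpace T] (d : WithBot ℕ∞) :
    topologicalKrullDim T ≤ d ↔ ∀ t : T, FlatMor.localDim T t ≤ d := by
  refine ⟨fun h t => ?_, fun h => FibreDim.dim_le_of_cover fun t => ?_⟩
  · exact ((FibreDim.localDim_le isOpen_univ trivial).trans (FibreDim.dim_homeo (Homeomorph.Set.univ T)).le).trans h
  · obtain ⟨O, hO, htO, hd⟩ := FibreDim.exists_localDim t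
    exact ⟨O, hO, htO, hd.trans_le (h t)⟩

/-- A morphism to the spectrum of a field is its own fibre. -/
theorem fibreDimAt_to_field {T K : Scheme.{u}} [Subsingleton K] (h : T ⟶ K) (u : T) :
    FlatMor.fibreDimAt h u = FlatMor.localDim T u := by
  have hr : Set.range (h.fiberι (h u)) = Set.univ := by
    rw [h.range_fiberι]
    exact Set.eq_univ_of_forall fun z => Subsingleton.elim (α := K) _ _
  let e : h.fiber (h u) ≃ₜ T :=
    ((h.fiberι (h u)).isEmbedding.toHomeomorph.trans (Homeomorph.setCongr hr)).trans (Homeomorph.Set.univ T)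
  have he : e (h.asFiber u) = u := h.fiberι_asFiber u
  show FlatMor.localDim (h.fiber (h u)) (h.asFiber u) = _
  rw [FibreDim.localDim_homeo e, he]

/-- The dimension of a fibre is the supremum of the relative dimensions. -/
theorem dim_fibre_iff {X Y : Space S} (f : X ⟶ Y) (hf : LocP @LocallyOfFiniteType f.hom) (k : FieldPt Y.obj)
    (Xk : Sp S) (fst : Xk ⟶ X.obj) (snd : Xk ⟶ (yon S).obj k.pt) (h : IsPullback fst snd f.hom k.toHom) :
    (AlgSp.dim Xk = ⊥ ↔ Points.mk k ∉ Set.range (Points.map f.hom)) ∧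
      ∀ d : ℕ, (AlgSp.dim Xk ≤ d ↔
        ∀ x : Points X.obj, Points.map f.hom x = Points.mk k →
          HasAtMor (fun _ _ h u => FlatMor.fibreDimAt h u ≤ (d : WithBot ℕ∞)) f.hom x) := by
  have hXk := isAlgSpace_of_isPullback h X.property (IsAlgSpace.yon_obj k.pt) Y.property
  let Xs : Space S := ⟨Xk, hXk⟩
  let s : k.pt.left := (IsLocalRing.closedPoint k.K : PrimeSpectrum k.K)
  have : Subsingleton k.pt.left := inferInstanceAs (Subsingleton (PrimeSpectrum k.K))
  have hs : Points.map k.toHom (Points.ofPt (𝟙 _) s) = Points.mk k := by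
    rw [Points.map_ofPt, Category.id_comp]
    exact Points.ofPt_toHom k s
  have hover : ∀ p : Points Xk, Points.map f.hom (Points.map fst p) = Points.mk k := fun p => by
    obtain ⟨t, ht⟩ := exists_ofScheme (Points.map snd p)
    rw [← Points.map_comp, h.w, Points.map_comp, ← ht, ← hs]
    congr 2
    exact Subsingleton.elim (α := k.pt.left) _ _
  have hlift : ∀ x, Points.map f.hom x = Points.mk k → ∃ p, Points.map fst p = x := fun x hx =>
    (exists_point_of_isPullback h x (Points.ofPt (𝟙 _) s) (hx.trans hs.symm)).imp fun _ hp => hp.1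
  have hdim : ∀ d : WithBot ℕ∞, AlgSp.dim Xk ≤ d ↔ ∀ (U : Over S) (a : (yon S).obj U ⟶ Xk), RepWith @Etale a →
      ∀ u : U.left, FlatMor.localDim U.left u ≤ d := fun d => by
    simp only [AlgSp.dim, iSup_le_iff, dim_le_iff_forall_localDim]
  refine ⟨⟨fun hb ⟨x, hx⟩ => ?_, fun hne => ?_⟩, fun d => ⟨fun hd x hx => ?_, fun hd => ?_⟩⟩
  · obtain ⟨p, -⟩ := hlift x hx
    obtain ⟨U, a, ha, has⟩ := hXk.atlas
    obtain ⟨u, -⟩ := surjective_ofPt has p
    have : Nonempty U.left := ⟨u⟩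
    have h0 : 0 ≤ FlatMor.localDim U.left u := FibreDim.le_localDim fun O _ hu =>
      have : Nonempty O := ⟨⟨u, hu⟩⟩
      zero_le_dim_of_nonempty
    have := h0.trans ((hdim ⊥).1 hb.le U a ha u)
    simp at this
  · refine le_bot_iff.1 ((hdim ⊥).2 fun U a _ u => absurd ?_ hne)
    exact ⟨_, hover (Points.ofPt a u)⟩
  · obtain ⟨p, rfl⟩ := hlift x hx
    obtain ⟨U, a, ha, has⟩ := hXk.atlas
    obtain ⟨u, rfl⟩ := surjective_ofPt has p
    obtain ⟨g, hg⟩ := (yon S).map_surjective (a ≫ snd)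
    rw [hasAtMor_fibreDim_baseChange_iff (Y' := ⟨_, IsAlgSpace.yon_obj k.pt⟩) (X' := Xs) f hf h
        (· ≤ (d : WithBot ℕ∞)),
      hasAtMor_fibreDim_iff (locP_baseChange X.property Y.property (IsAlgSpace.yon_obj k.pt) h hf) (· ≤ (d : WithBot ℕ∞))
        ha (repWith_id _ k.pt) (h := g) (by rw [Category.comp_id, hg]), fibreDimAt_to_field]
    exact (hdim d).1 hd U a ha u
  · refine (hdim d).2 fun U a ha u => ?_
    obtain ⟨g, hg⟩ := (yon S).map_surjective (a ≫ snd)
    have := hd _ (hover (Points.ofPt a u))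
    rwa [hasAtMor_fibreDim_baseChange_iff (Y' := ⟨_, IsAlgSpace.yon_obj k.pt⟩) (X' := Xs) f hf h
        (· ≤ (d : WithBot ℕ∞)),
      hasAtMor_fibreDim_iff (locP_baseChange X.property Y.property (IsAlgSpace.yon_obj k.pt) h hf) (· ≤ (d : WithBot ℕ∞))
        ha (repWith_id _ k.pt) (h := g) (by rw [Category.comp_id, hg]), fibreDimAt_to_field] at this

/-- A fibre of a locally finite type morphism is locally Noetherian. -/
theorem isLocNoethSp_fibre {X Y : Space S} (f : X ⟶ Y) (hf : LocP @LocallyOfFiniteType f.hom) (p : FieldPt Y.obj)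
    {P : Sp S} (fst : P ⟶ X.obj) (snd : P ⟶ (yon S).obj p.pt) (hP : IsPullback fst snd f.hom p.toHom) :
    IsLocNoethSp P := by
  obtain ⟨U, a, ha, has⟩ := (isAlgSpace_of_isPullback hP X.property (IsAlgSpace.yon_obj p.pt) Y.property).atlas
  obtain ⟨g, hg⟩ := (yon S).map_surjective (a ≫ snd)
  have : LocallyOfFiniteType g.left := locP_baseChange X.property Y.property (IsAlgSpace.yon_obj p.pt) hP hf
    a (𝟙 _) g ha (repWith_id _ _) (by rw [Category.comp_id, hg])
  have : IsLocallyNoetherian p.pt.left := inferInstanceAs (IsLocallyNoetherian (Spec (CommRingCat.of p.K)))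
  exact ⟨U, a, ha, has, LocallyOfFiniteType.isLocallyNoetherian g.left⟩

end Groth.Agent.AlgSpFin
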