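import Groth.Agent.AlgSpFin.FiniteCrit
import Groth.Agent.AlgSpFin.FlatDense
import Groth.Agent.AlgSpFin.RelDim
import Groth.Agent.FibConstr.FibreMap

/-!
Flat proper morphisms finite over a dense open are finite.
-/

set_option autoImplicit false
set_option backward.isDefEq.respectTransparency.types false

universe u

open CategoryTheory CategoryTheory.Limits AlgebraicGeometry Opposite AlgSp TopologicalSpace

namespace Groth.Agent.AlgSpFin

open Groth.Agent.AlgSpLib

variable {S : Scheme.{u}}

/-- A flat proper morphism finite over a dense open is finite. -/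
theorem isFiniteMor_of_flat_dense {X Y V : Space S} (f : X ⟶ Y) (j : V ⟶ Y) (hf1 : LocP @Flat f.hom)
    (hf2 : IsProperMor f.hom) (hj1 : RepWith @IsOpenImmersion j.hom) (hj2 : Dense (Set.range (Points.map j.hom)))
    (P : Space S) (fst : P ⟶ X) (snd : P ⟶ V) (hP : IsPullback fst.hom snd.hom f.hom j.hom)
    (hV : IsFiniteMor snd.hom) (h : LocP @LocallyOfFinitePresentation f.hom ∨ IsQuasiCompactMor j.hom) :
    IsFiniteMor f.hom := by
  have hR := (isFiniteMor_iff_repWith snd.hom).1 hV
  have hq : LocP (@LocallyQuasiFinite ⊓ @LocallyOfFiniteType) snd.hom :=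
    (locP_iff_repWith V.property hR.1).2 (repWith_mono (fun _ _ k hk => by
      have : IsFinite k := hk
      exact ⟨inferInstance, inferInstance⟩) hR)
  have hd : ∀ x, HasAtMor (fun _ _ h u => FlatMor.fibreDimAt h u ≤ ((0 : ℕ) : WithBot ℕ∞)) snd.hom x := fun x => by
    obtain ⟨U, W, a, b, g, ha, has, hb, -, w⟩ := exists_chart P.property V.property snd.hom
    obtain ⟨u, rfl⟩ := surjective_ofPt has x
    have : LocallyQuasiFinite g.left := (hq a b g ha hb w).1
    have : LocallyOfFiniteType g.left := (hq a b g ha hb w).2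
    exact ⟨U, W, a, b, g, u, ha, hb, w, rfl, by
      simpa using (FibConstr.locallyQuasiFinite_iff_fibreDimAt g.left).1 ‹_› u⟩
  have hrel := relDim_le_of_dense f j 0 hf1 hf2.2.1.1 hj1 hj2 P fst snd hP hd h
  refine isFiniteMor_of_forall_qf f hf2.2.1.1 hf2.1 hf2.2.2
    (hasAtMor_qf_of_discrete_fibres f hf2.2.1.1 fun k Xk p q sq => ?_)
  rcases isEmpty_or_nonempty (Points Xk) with he | hne
  · infer_instance
  let Xs : Space S := ⟨Xk, isAlgSpace_of_isPullback sq X.property (IsAlgSpace.yon_obj k.pt) Y.property⟩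
  obtain ⟨_, _⟩ := fieldPt_base k
  have : Nonempty (Points Xs.obj) := hne
  have hle : AlgSp.dim Xk ≤ ((0 : ℕ) : WithBot ℕ∞) :=
    ((dim_fibre_iff f hf2.2.1.1 k Xk p q sq).2 0).2 fun x _ => hrel x
  obtain ⟨U, a, ha, has⟩ := Xs.property.atlas
  have : Nonempty U.left := ⟨(surjective_ofPt has (Classical.arbitrary (Points Xs.obj))).choose⟩
  exact (dim_zero_iff_of_jacobson (T₀ := k.pt) Xs q
    (locP_baseChange X.property Y.property (IsAlgSpace.yon_obj k.pt) sq hf2.2.1.1)).1.2
    (le_antisymm (by simpa using hle)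
      (zero_le_dim_of_nonempty.trans (le_iSup_of_le U (le_iSup_of_le a (le_iSup_of_le ha le_rfl)))))

end Groth.Agent.AlgSpFin
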