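import Groth.Agent.AlgSpFin.DecentTopo
import Groth.Agent.AlgSpPts.NoethSp
import Groth.Agent.S9832

/-!
The space of proper generizations of a point of a decent locally Noetherian algebraic space.
-/

set_option autoImplicit false
set_option backward.isDefEq.respectTransparency.types false

universe u

open CategoryTheory CategoryTheory.Limits AlgebraicGeometry Opposite AlgSp TopologicalSpace Topology

namespace Groth.Agent.AlgSpFin

open Groth.Agent.AlgSpLib

variable {S : Scheme.{u}}

theorem jacobsonSpace_punctured (A : Type u) [CommRing A] [IsNoetherianRing A] [IsLocalRing A] :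
    JacobsonSpace ↥({IsLocalRing.closedPoint A}ᶜ : Set (PrimeSpectrum A)) := by
  have h := S9832.result A (IsLocalRing.maximalIdeal A) (IsLocalRing.jacobson_eq_maximalIdeal ⊥ bot_ne_top).ge
  have e : PrimeSpectrum.zeroLocus (IsLocalRing.maximalIdeal A : Set A) = {IsLocalRing.closedPoint A} := by
    ext p
    rw [PrimeSpectrum.mem_zeroLocus, SetLike.coe_subset_coe, Set.mem_singleton_iff]
    refine ⟨fun hp => PrimeSpectrum.ext ?_, fun hp => hp ▸ le_rfl⟩
    exact ((IsLocalRing.maximalIdeal.isMaximal A).eq_of_le p.isPrime.ne_top hp).symm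
  rwa [e] at h

/-- Proper generizations of a point form a Noetherian, spectral, sober, Jacobson space. -/
theorem generizations_spectral_jacobson {X : Sp S} (hX : IsAlgSpace X) (hd : IsDecent X) (hN : IsLocNoethSp X)
    (x : Points X) :
    NoetherianSpace {x' : Points X // x' ⤳ x ∧ x' ≠ x} ∧
      SpectralSpace {x' : Points X // x' ⤳ x ∧ x' ≠ x} ∧
      QuasiSober {x' : Points X // x' ⤳ x ∧ x' ≠ x} ∧
      JacobsonSpace {x' : Points X // x' ⤳ x ∧ x' ≠ x} := by
  obtain ⟨U, a, ha, has⟩ := hX.atlas
  obtain ⟨u, rfl⟩ := surjective_ofPt has x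
  have := AlgSpPts.isLocallyNoetherian_of_chart hN ha
  let A := U.left.presheaf.stalk u
  have hJ := jacobsonSpace_punctured A
  have hr := Scheme.range_fromSpecStalk (X := U.left) (x := u)
  let c : PrimeSpectrum A → U.left := fun q => U.left.fromSpecStalk u q
  have hc : c (IsLocalRing.closedPoint A) = u := Scheme.fromSpecStalk_closedPoint
  have hemb : IsEmbedding c := (U.left.fromSpecStalk u).isEmbedding
  have hsp : ∀ q, c q ⤳ u := fun q => by
    have : c q ∈ Set.range (U.left.fromSpecStalk u) := ⟨q, rfl⟩
    rwa [hr] at this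
  let W' := ↥({IsLocalRing.closedPoint A}ᶜ : Set (PrimeSpectrum A))
  have hne : ∀ q : W', Points.ofPt a (c q.1) ≠ Points.ofPt a u := fun q h =>
    q.2 (hemb.injective ((eq_of_specializes_of_isDecent hX hd ha h (hsp q.1)).trans hc.symm))
  let W := {x' : Points X // x' ⤳ Points.ofPt a u ∧ x' ≠ Points.ofPt a u}
  let φ : W' → W := fun q => ⟨Points.ofPt a (c q.1), (hsp q.1).map (Points.continuous_ofPt a), hne q⟩
  have hφ : Continuous φ :=
    (((Points.continuous_ofPt a).comp hemb.continuous).comp continuous_subtype_val).subtype_mk _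
  -- lifting of specializations
  have hlift : ∀ (q : U.left) (w : W), q ⤳ u → w.1 ⤳ Points.ofPt a q → ∃ p : W', c p.1 ⤳ q ∧ φ p = w := by
    intro q w hq hw
    obtain ⟨v, hv, hv'⟩ := exists_lift_generalization hX hd ha q hw
    have : v ∈ Set.range (U.left.fromSpecStalk u) := by
      rw [hr]
      exact hv.trans hq
    obtain ⟨p, rfl⟩ := this
    refine ⟨⟨p, fun h => w.2.2 ?_⟩, hv, Subtype.ext hv'⟩
    rw [← hv']
    exact congrArg (Points.ofPt a) ((congrArg c (show p = IsLocalRing.closedPoint A from h)).trans hc)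
  have hsurj : Function.Surjective φ := fun w =>
    let ⟨p, _, hp⟩ := hlift u w (specializes_refl u) w.2.1
    ⟨p, hp⟩
  have : NoetherianSpace (PrimeSpectrum A) := inferInstance
  have hNW : NoetherianSpace W := noetherianSpace_of_surjective φ hφ hsurj
  have := quasiSober_points_of_isDecent hX hd
  have := t0Space_points_of_isDecent hX hd
  have hQ : QuasiSober W := by
    refine ⟨fun {Z} hZ hZc => ?_⟩
    obtain ⟨η, hη⟩ := QuasiSober.sober (hZ.image Subtype.val continuous_subtype_val.continuousOn).closure isClosed_closure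
    obtain ⟨z, hz⟩ := hZ.1
    have hηz : η ⤳ z.1 := hη.specializes (subset_closure ⟨z, hz, rfl⟩)
    have hηW : η ⤳ Points.ofPt a u ∧ η ≠ Points.ofPt a u := by
      refine ⟨hηz.trans z.2.1, fun h => z.2.2 ?_⟩
      exact points_antisymm hX hd z.2.1 (h ▸ hηz)
    refine ⟨⟨η, hηW⟩, ?_⟩
    show closure {(⟨η, hηW⟩ : W)} = Z
    rw [Topology.IsInducing.subtypeVal.closure_eq_preimage_closure_image, Set.image_singleton, hη.def]
    exact (Topology.IsInducing.subtypeVal.closure_eq_preimage_closure_image Z).symm.trans hZc.closure_eq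
  have hJW : JacobsonSpace W := by
    rw [jacobsonSpace_iff_locallyClosed]
    intro Z hZ hZl
    obtain ⟨O, C, hO, hC, rfl⟩ := hZl
    have : CompactSpace ↥O := isCompact_iff_compactSpace.1 (NoetherianSpace.isCompact O)
    obtain ⟨⟨w, hwO⟩, hwC, hwc⟩ := IsClosed.exists_closed_singleton (hC.preimage (continuous_subtype_val : Continuous (Subtype.val : O → W)))
      (hZ.elim fun z hz => ⟨⟨z, hz.1⟩, hz.2⟩)
    refine ⟨w, ⟨hwO, hwC⟩, ?_⟩
    have hwl : IsLocallyClosed ({w} : Set W) := by
      have := hwc.isLocallyClosed.image IsInducing.subtypeVal (by rw [Subtype.range_val]; exact hO.isLocallyClosed)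
      rwa [Set.image_singleton] at this
    have hpc : ∀ p : W', φ p = w → IsClosed ({p} : Set W') := fun p hp => by
      refine isClosed_singleton_of_isLocallyClosed_singleton ?_
      have e : ({p} : Set W') = φ ⁻¹' {w} ∩ closure {p} := by
        ext q
        refine ⟨fun h => by obtain rfl : q = p := h; exact ⟨hp, subset_closure rfl⟩, fun h => ?_⟩
        have hpq : c p.1 ⤳ c q.1 :=
          ((specializes_iff_mem_closure.2 h.2).map continuous_subtype_val).map hemb.continuous
        exact (Subtype.ext (hemb.injective (eq_of_specializes_of_isDecent hX hd ha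
          (congrArg Subtype.val (hp.trans (show φ q = w from h.1).symm)) hpq))).symm
      rw [e]
      exact (hwl.preimage hφ).inter isClosed_closure.isLocallyClosed
    refine isClosed_of_closure_subset fun z hz => ?_
    have hwz := (specializes_iff_mem_closure.2 hz).map continuous_subtype_val
    obtain ⟨q, rfl⟩ := hsurj z
    obtain ⟨p, hp, hpw⟩ := hlift (c q.1) w (hsp q.1) hwz
    have hpq : p ⤳ q := (subtype_specializes_iff _ _).2 (hemb.isInducing.specializes_iff.1 hp)
    have : q = p := hpq.mem_closed (hpc p hpw) rfl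
    rw [this]
    exact hpw
  exact ⟨hNW, { }, hQ, hJW⟩

end Groth.Agent.AlgSpFin
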