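import Groth.Agent.AlgSpFin.CodimOne

/-!
The fibre over the generic point of an integral space.
-/

set_option autoImplicit false
set_option backward.isDefEq.respectTransparency.types false

universe u

open CategoryTheory CategoryTheory.Limits AlgebraicGeometry Opposite AlgSp TopologicalSpace

namespace Groth.Agent.AlgSpFin

open Groth.Agent.AlgSpLib

/-- A fibre without proper specialisations is quasi-finite. -/
theorem quasiFiniteAt_of_fibre_discrete {U V : Scheme.{u}} (h : U ⟶ V) [LocallyOfFiniteType h] (u : U)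
    (H : ∀ p q : U, h p = h u → h q = h u → p ⤳ q → q = p) : h.QuasiFiniteAt u := by
  have hr : ∀ p : h.fiber (h u), h (h.fiberι (h u) p) = h u := fun p =>
    (Set.ext_iff.1 (h.range_fiberι (h u)) _).1 ⟨p, rfl⟩
  have hc : ∀ p : h.fiber (h u), IsClosed ({p} : Set (h.fiber (h u))) := fun p => by
    refine isClosed_of_closure_subset fun q hq => ?_
    exact (h.fiberι (h u)).isEmbedding.injective
      (H _ _ (hr p) (hr q) ((specializes_iff_mem_closure.2 hq).map (h.fiberι (h u)).continuous))
  have : LocallyOfFiniteType (h.fiberToSpecResidueField (h u)) := MorphismProperty.pullback_snd _ _ ‹_›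
  have : IsLocallyNoetherian (h.fiber (h u)) :=
    LocallyOfFiniteType.isLocallyNoetherian (h.fiberToSpecResidueField (h u))
  refine Scheme.Hom.quasiFiniteAt_iff_isOpen_singleton_asFiber.2
    (isOpen_singleton_of_minimal _ (hc _) fun p hp => ?_)
  exact (Set.mem_singleton_iff.1 (hp.mem_closed (hc p) rfl)).symm

/-- Residue extensions of transcendence degree zero give closed points of fibres. -/
theorem eq_of_resTrdeg_eq_zero {U V : Scheme.{u}} (h : U ⟶ V) [LocallyOfFiniteType h] {u u' : U}
    (hu : Dual3.resTrdeg h u = 0) (hs : u ⤳ u') (he : h u' = h u) : u' = u := by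
  obtain ⟨q, hq⟩ : u' ∈ Set.range (h.fiberι (h u)) := (Set.ext_iff.1 (h.range_fiberι (h u)) _).2 he
  obtain ⟨m, hm, hm'⟩ := FibreTrdeg.exists_trdeg_fibre h (h u) (h.asFiber u)
  have hm0 : Dual3.resTrdeg h (h.fiberι (h u) (h.asFiber u)) = (m : Cardinal.{u}) := hm
  rw [h.fiberι_asFiber, hu] at hm0
  have : m = 0 := by exact_mod_cast hm0.symm
  subst this
  have hspec : h.asFiber u ⤳ q := (h.fiberι (h u)).isEmbedding.toIsInducing.specializes_iff.1
    (by rw [h.fiberι_asFiber, hq]; exact hs)
  have := eq_of_specializes_of_dim_le_zero (X := ↥(closure ({h.asFiber u} : Set (h.fiber (h u)))))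
    (by rw [hm']; simp) (x := ⟨q, specializes_iff_mem_closure.1 hspec⟩) (y := ⟨_, subset_closure rfl⟩)
    ((subtype_specializes_iff _ _).2 hspec)
  rw [← hq, ← congrArg (fun z => h.fiberι (h u) z.1) this, h.fiberι_asFiber]

variable {S : Scheme.{u}}

/-- Points over the generic point of a decent space are the maximal points. -/
theorem ofPt_eq_generic_iff {X : Sp S} (hX : IsAlgSpace X) (hd : IsDecent X) {x : Points X}
    (hx : IsGenericPoint x (Set.univ : Set (Points X))) {U : Over S} {a : (yon S).obj U ⟶ X}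
    (ha : RepWith @Etale a) (u : U.left) : Points.ofPt a u = x ↔ ∀ z, z ⤳ u → z = u := by
  refine ⟨fun hu z hz => ?_, fun hu => ?_⟩
  · refine eq_of_specializes_of_isDecent hX hd ha (points_antisymm hX hd ?_ ?_) hz
    · exact hz.map (Points.continuous_ofPt a)
    · rw [hu]; exact hx.specializes (Set.mem_univ _)
  · obtain ⟨v, hv, hv'⟩ := exists_lift_generalization hX hd ha u (hx.specializes (Set.mem_univ _))
    rw [← hv', hu v hv]

/-- Dominant morphisms send the generic point to the generic point. -/
theorem map_generic_eq {X Y : Sp S} (hY : IsAlgSpace Y) (hd : IsDecent Y) (f : X ⟶ Y) (hf : IsDominantMor f)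
    {x : Points X} (hx : IsGenericPoint x (Set.univ : Set (Points X))) {y : Points Y}
    (hy : IsGenericPoint y (Set.univ : Set (Points Y))) : Points.map f x = y := by
  have h := hx.image (Points.continuous_map f)
  rw [Set.image_univ, hf.closure_range] at h
  exact points_antisymm hY hd (h.specializes (Set.mem_univ _)) (hy.specializes (Set.mem_univ _))

variable {X Y : Space S} (hXd : IsDecent X.obj) (hYd : IsDecent Y.obj) (f : X ⟶ Y)
  (hft : LocP @LocallyOfFiniteType f.hom) (hd : IsDominantMor f.hom)
  {x : Points X.obj} (hx : IsGenericPoint x (Set.univ : Set (Points X.obj)))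
  {y : Points Y.obj} (hy : IsGenericPoint y (Set.univ : Set (Points Y.obj)))

include hXd hYd hft hd hx hy

/-- A closed generic point of the generic fibre is the whole fibre. -/
theorem unique_over_generic_of_closed {Q : ∀ (U V : Scheme.{u}), (U ⟶ V) → ↥U → Prop}
    (hinv : ∀ {U V : Over S} (a : (yon S).obj U ⟶ X.obj) (b : (yon S).obj V ⟶ Y.obj) (g : U ⟶ V) (u : U.left),
      RepWith @Etale a → RepWith @Etale b → a ≫ f.hom = (yon S).map g ≫ b → LocallyOfFiniteType g.left →
        HasAtMor Q f.hom (Points.ofPt a u) → ∀ u', u ⤳ u' → g.left u' = g.left u → u' = u)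
    (hQ : HasAtMor Q f.hom x) (x' : Points X.obj) (hx' : Points.map f.hom x' = y) : x' = x := by
  obtain ⟨U, V, a, b, g, ha, has, hb, -, w⟩ := exists_chart X.property Y.property f.hom
  obtain ⟨u', rfl⟩ := surjective_ofPt has x'
  obtain ⟨u, hu, rfl⟩ := exists_lift_generalization X.property hXd ha u' (hx.specializes (Set.mem_univ _))
  have hv : Points.ofPt b (g.left u') = y := by rw [← ofPt_comp g b, ← w, ← Points.map_ofPt, hx']
  have hmax := (ofPt_eq_generic_iff Y.property hYd hy hb _).1 hv
  rw [hinv a b g u ha hb w (hft a b g ha hb w) hQ u' hu (hmax _ (hu.map g.left.continuous)).symm]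

/-- If the generic point is the only point of its fibre then it is quasi-finite. -/
theorem qfAt_of_unique_over_generic (h : ∀ x' : Points X.obj, Points.map f.hom x' = y → x' = x)
    {U V : Over S} {a : (yon S).obj U ⟶ X.obj} {b : (yon S).obj V ⟶ Y.obj} {g : U ⟶ V}
    (ha : RepWith @Etale a) (hb : RepWith @Etale b) (w : a ≫ f.hom = (yon S).map g ≫ b) (u : U.left)
    (hu : Points.ofPt a u = x) : g.left.QuasiFiniteAt u := by
  have : LocallyOfFiniteType g.left := hft a b g ha hb w
  have key : ∀ p : U.left, Points.map f.hom (Points.ofPt a p) = Points.ofPt b (g.left p) := fun p => by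
    rw [Points.map_ofPt, w, ofPt_comp]
  refine quasiFiniteAt_of_fibre_discrete g.left u fun p q hp hq hpq => ?_
  have hqx : Points.ofPt a q = x := h _ (by rw [key, hq, ← key, hu, map_generic_eq Y.property hYd f.hom hd hx hy])
  exact ((ofPt_eq_generic_iff X.property hXd hx ha q).1 hqx p hpq).symm

/-- Quasi-finite at the generic point iff it is alone in its fibre. -/
theorem qf_generic_iff_unique :
    HasAtMor (nearBy (@LocallyQuasiFinite ⊓ @LocallyOfFiniteType)) f.hom x ↔
      ∀ x' : Points X.obj, Points.map f.hom x' = y → x' = x := by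
  refine ⟨fun hQ => unique_over_generic_of_closed hXd hYd f hft hd hx hy (fun a b g u ha hb w hg hQ u' hs he => ?_) hQ,
    fun h => ?_⟩
  · obtain ⟨O, hO, hl⟩ := exists_open_of_hasAtMor _ ha hb w u hQ
    have : LocallyQuasiFinite (O.ι ≫ g.left) := hl.1
    exact eq_of_resTrdeg_eq_zero g.left (resTrdeg_eq_zero_of_quasiFiniteAt g.left
      ((Scheme.Hom.quasiFiniteAt_comp_iff_of_isOpenImmersion (f := O.ι) (x := ⟨u, hO⟩)).1
        ((O.ι ≫ g.left).quasiFiniteAt _))) hs he
  · obtain ⟨U, V, a, b, g, ha, has, hb, -, w⟩ := exists_chart X.property Y.property f.hom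
    obtain ⟨u, rfl⟩ := surjective_ofPt has x
    have hq := qfAt_of_unique_over_generic hXd hYd f hft hd hx hy h ha hb w u rfl
    have : LocallyOfFiniteType g.left := hft a b g ha hb w
    refine ⟨U, V, a, b, g, u, ha, hb, w, rfl, g.left.quasiFiniteLocus, Scheme.Hom.mem_quasiFiniteLocus.2 hq, ?_,
      inferInstance⟩
    rw [← Scheme.Hom.quasiFiniteLocus_eq_top_iff]
    ext z
    have : g.left.QuasiFiniteAt (g.left.quasiFiniteLocus.ι z) := Scheme.Hom.mem_quasiFiniteLocus.1 z.2
    rw [← Scheme.Hom.quasiFiniteAt_comp_iff_of_isOpenImmersion] at this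
    simpa

/-- Transcendence degree zero at the generic point iff it is alone in its fibre. -/
theorem trdeg_generic_iff_unique :
    HasAtMor (fun _ _ h u => Dual3.resTrdeg h u = 0) f.hom x ↔
      ∀ x' : Points X.obj, Points.map f.hom x' = y → x' = x := by
  refine ⟨fun hQ => unique_over_generic_of_closed hXd hYd f hft hd hx hy (fun a b g u ha hb w hg hQ u' hs he =>
    eq_of_resTrdeg_eq_zero g.left ((hasAtMor_resTrdeg_iff (· = 0) ha hb w u).1 hQ) hs he) hQ, fun h => ?_⟩
  obtain ⟨U, V, a, b, g, ha, has, hb, -, w⟩ := exists_chart X.property Y.property f.hom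
  obtain ⟨u, rfl⟩ := surjective_ofPt has x
  have hq := qfAt_of_unique_over_generic hXd hYd f hft hd hx hy h ha hb w u rfl
  have : LocallyOfFiniteType g.left := hft a b g ha hb w
  exact ⟨U, V, a, b, g, u, ha, hb, w, rfl, resTrdeg_eq_zero_of_quasiFiniteAt g.left hq⟩

end Groth.Agent.AlgSpFin
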