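import Groth.Agent.AlgSpFin.GenericFibre
import Groth.Agent.AlgSpFin.FiniteDense
import Groth.Agent.AlgStLib.SpDiagProps

/-!
Finiteness over a nonempty open from a single point over the generic point.
-/

set_option autoImplicit false
set_option backward.isDefEq.respectTransparency.types false

universe u

open CategoryTheory CategoryTheory.Limits AlgebraicGeometry Opposite AlgSp TopologicalSpace

namespace Groth.Agent.AlgSpFin

open Groth.Agent.AlgSpLib Groth.Agent.AlgStLib

variable {S : Scheme.{u}}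

/-- In an irreducible decent space the only codimension zero point is the generic one. -/
theorem hasAt_dim_zero_iff_generic {X : Sp S} (hX : IsAlgSpace X) (hd : IsDecent X) {x : Points X}
    (hx : IsGenericPoint x (Set.univ : Set (Points X))) (z : Points X) :
    HasAt (fun U u => ringKrullDim ↥(U.presheaf.stalk u) = 0) X z ↔ z = x := by
  obtain ⟨U, a, ha, has⟩ := hX.atlas
  obtain ⟨u, rfl⟩ := surjective_ofPt has z
  exact (hasAt_dim_zero_iff ha u).trans (ofPt_eq_generic_iff hX hd hx ha u).symm

variable {X Y : Space S} (hXd : IsDecent X.obj) (hYd : IsDecent Y.obj) (f : X ⟶ Y)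
  (hft : LocP @LocallyOfFiniteType f.hom) (hd : IsDominantMor f.hom)
  {x : Points X.obj} (hx : IsGenericPoint x (Set.univ : Set (Points X.obj)))
  {y : Points Y.obj} (hy : IsGenericPoint y (Set.univ : Set (Points Y.obj)))

include hXd hYd hft hd hx hy

/-- Finite over a nonempty open subspace. -/
theorem exists_open_finite_of_unique (h : ∀ x' : Points X.obj, Points.map f.hom x' = y → x' = x)
    (hqs : IsQuasiCompactMor f.hom ∨ IsSeparatedMor f.hom) :
    ∃ (W X' : Space S) (j : W ⟶ Y) (fst : X' ⟶ W) (snd : X' ⟶ X), RepWith @IsOpenImmersion j.hom ∧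
      Nonempty (Points W.obj) ∧ IsPullback fst.hom snd.hom j.hom f.hom ∧ IsFiniteMor fst.hom := by
  have hX0 : {z : Points X.obj | HasAt (fun U u => ringKrullDim ↥(U.presheaf.stalk u) = 0) X.obj z}.Finite :=
    (Set.finite_singleton x).subset fun z hz => (hasAt_dim_zero_iff_generic X.property hXd hx z).1 hz
  have hY0 : {z : Points Y.obj | HasAt (fun U u => ringKrullDim ↥(U.presheaf.stalk u) = 0) Y.obj z}.Finite :=
    (Set.finite_singleton y).subset fun z hz => (hasAt_dim_zero_iff_generic Y.property hYd hy z).1 hz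
  obtain ⟨W, X', j, fst, snd, hj, hD, sq, hfin⟩ := exists_dense_open_finite_of_fibres f hft hYd hX0 hY0
    (fun z => by
      rw [hasAt_dim_zero_iff_generic X.property hXd hx, hasAt_dim_zero_iff_generic Y.property hYd hy]
      exact ⟨fun e => e ▸ map_generic_eq Y.property hYd f.hom hd hx hy, h z⟩) hqs
  refine ⟨W, X', j, fst, snd, hj, ?_, sq, hfin⟩
  obtain ⟨_, w, rfl⟩ := hD.nonempty_iff.2 ⟨y⟩
  exact ⟨w⟩

/-- Finite over a nonempty affine open. -/
theorem exists_affine_open_finite_of_unique (h : ∀ x' : Points X.obj, Points.map f.hom x' = y → x' = x)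
    (hqs : IsQuasiCompactMor f.hom ∨ IsSeparatedMor f.hom) :
    ∃ (V : Over S) (b : (yon S).obj V ⟶ Y.obj) (U : Over S) (g : U ⟶ V) (a : (yon S).obj U ⟶ X.obj),
      IsAffine V.left ∧ Nonempty ↥V.left ∧ RepWith @IsOpenImmersion b ∧
        IsPullback a ((yon S).map g) f.hom b ∧ IsAffine U.left ∧ IsFinite g.left := by
  obtain ⟨W, X', j, fst, snd, hj, hWn, sq, hfin⟩ := exists_open_finite_of_unique hXd hYd f hft hd hx hy h hqs
  obtain ⟨M, Φ, hΦ, hD⟩ := exists_dense_open_scheme W.property (isDecent_of_representable j.hom hj.1 hYd)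
  obtain ⟨_, p, rfl⟩ := hD.nonempty_iff.2 hWn
  obtain ⟨m, rfl⟩ := exists_ofScheme p
  obtain ⟨O, hO, hmO, -⟩ := exists_isAffineOpen_mem_and_subset (X := M.left) (U := ⊤) (x := m) trivial
  let V : Over S := Over.mk (O.ι ≫ M.hom)
  let o : V ⟶ M := Over.homMk O.ι rfl
  have : IsAffine V.left := hO
  obtain ⟨U, g, a', sU⟩ := ((isFiniteMor_iff_repWith _).1 hfin).1 ((yon S).map o ≫ Φ)
  have hg : IsFinite g.left := ((isFiniteMor_iff_repWith _).1 hfin).2 _ _ _ sU
  refine ⟨V, ((yon S).map o ≫ Φ) ≫ j.hom, U, g, a' ≫ snd.hom, hO, ⟨⟨m, hmO⟩⟩, ?_,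
    sU.paste_horiz sq.flip, isAffine_of_isAffineHom g.left, hg⟩
  exact repWith_comp (repWith_yon_comp (P := @IsOpenImmersion) o (inferInstanceAs (IsOpenImmersion O.ι)) hΦ) hj

/-- Finite over a nonempty open subspace forces a single point over the generic point. -/
theorem unique_of_open_finite {W X' : Space S} (j : W ⟶ Y) (fst : X' ⟶ W) (snd : X' ⟶ X)
    (hj : RepWith @IsOpenImmersion j.hom) (hW : Nonempty (Points W.obj))
    (sq : IsPullback fst.hom snd.hom j.hom f.hom) (hfin : IsFiniteMor fst.hom)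
    (x' : Points X.obj) (hx' : Points.map f.hom x' = y) : x' = x := by
  have hje : RepWith @Etale j.hom := repWith_mono (fun _ _ k hk => by
    have : IsOpenImmersion k := hk
    infer_instance) hj
  obtain ⟨w⟩ := hW
  obtain ⟨V, b, hb, hbs⟩ := W.property.atlas
  have ho : IsOpen (Set.range (Points.map j.hom)) := by
    have e : Set.range (Points.map j.hom) = Set.range (Points.ofPt (b ≫ j.hom)) := by
      ext q
      constructor
      · rintro ⟨w, rfl⟩
        obtain ⟨v, rfl⟩ := surjective_ofPt hbs w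
        exact ⟨v, by rw [Points.map_ofPt]⟩
      · rintro ⟨v, rfl⟩
        exact ⟨Points.ofPt b v, Points.map_ofPt _ _ _⟩
    rw [e]
    exact (isOpenMap_ofPt_of_etale (repWith_comp hb hje)).isOpen_range
  obtain ⟨w₀, hw₀⟩ : y ∈ Set.range (Points.map j.hom) := hy.mem_open_set_iff ho |>.2 (by rw [Set.univ_inter]; exact ⟨_, w, rfl⟩)
  obtain ⟨p, -, hp⟩ := exists_point_of_isPullback sq w₀ x
    (by rw [hw₀, map_generic_eq Y.property hYd f.hom hd hx hy])
  refine (qf_generic_iff_unique hXd hYd f hft hd hx hy).1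
    ((hasAtMor_iff_exists_open_subspace _ f x).2 ⟨X', snd, repWith_baseChange sq hj, ⟨p, hp⟩, ?_⟩) x' hx'
  have h1 : RepWith (@LocallyQuasiFinite ⊓ @LocallyOfFiniteType) fst.hom := repWith_mono (fun _ _ k hk => by
    have : IsFinite k := hk
    exact ⟨inferInstance, inferInstance⟩) ((isFiniteMor_iff_repWith _).1 hfin)
  have h2 : RepWith (@LocallyQuasiFinite ⊓ @LocallyOfFiniteType) j.hom := repWith_mono (fun _ _ k hk => by
    have : IsOpenImmersion k := hk
    exact ⟨inferInstance, inferInstance⟩) hj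
  have h3 := repWith_comp h1 h2
  show LocP _ (snd.hom ≫ f.hom)
  rw [← sq.w]
  exact (locP_iff_repWith Y.property h3.1).2 h3

end Groth.Agent.AlgSpFin

namespace Groth.Agent.AlgSpFin

open Groth.Agent.AlgSpLib Groth.Agent.AlgStLib

variable {S : Scheme.{u}}

/-- The point above the generic point is the generic point of an open scheme. -/
theorem isGenericPoint_open_scheme {X : Sp S} (hX : IsAlgSpace X) (hd : IsDecent X) {x : Points X}
    (hx : IsGenericPoint x (Set.univ : Set (Points X))) {U : Over S} (a : (yon S).obj U ⟶ X)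
    (ha : RepWith @IsOpenImmersion a) (u : U.left) (hu : Points.ofPt a u = x) :
    IsGenericPoint (Points.ofPt (𝟙 ((yon S).obj U)) u) (Set.univ : Set (Points ((yon S).obj U))) := by
  have hae : RepWith @Etale a := repWith_mono (fun _ _ k hk => by
    have : IsOpenImmersion k := hk
    infer_instance) ha
  have : Mono a := mono_of_repWith ha fun _ _ k hk => by
    have : IsOpenImmersion k := hk
    infer_instance
  refine Set.eq_univ_of_forall fun p => specializes_iff_mem_closure.1 ?_
  obtain ⟨z, rfl⟩ := exists_ofScheme p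
  obtain ⟨v, hv, hv'⟩ := exists_lift_generalization hX hd hae z (hx.specializes (Set.mem_univ _))
  have : v = u := by
    refine (Points.schemeEquiv U).injective (injective_map_of_mono a ?_)
    show Points.map a (Points.ofPt (𝟙 _) v) = Points.map a (Points.ofPt (𝟙 _) u)
    rw [Points.map_ofPt, Points.map_ofPt, Category.id_comp, hv', hu]
  exact this ▸ hv.map (Points.continuous_ofPt _)

variable {X Y : Space S} (hXd : IsDecent X.obj) (hYd : IsDecent Y.obj) (f : X ⟶ Y)
  (hft : LocP @LocallyOfFiniteType f.hom) (hd : IsDominantMor f.hom)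
  {x : Points X.obj} (hx : IsGenericPoint x (Set.univ : Set (Points X.obj)))
  {y : Points Y.obj} (hy : IsGenericPoint y (Set.univ : Set (Points Y.obj)))

include hXd hYd hft hd hx hy

/-- A finite map between nonempty affine opens iff the generic point is alone in its fibre. -/
theorem exists_affine_opens_finite_iff_unique :
    (∃ (U V : Over S) (a : (yon S).obj U ⟶ X.obj) (b : (yon S).obj V ⟶ Y.obj) (g : U ⟶ V),
      IsAffine U.left ∧ IsAffine V.left ∧ Nonempty ↥U.left ∧
        RepWith @IsOpenImmersion a ∧ RepWith @IsOpenImmersion b ∧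
          a ≫ f.hom = (yon S).map g ≫ b ∧ IsFinite g.left) ↔
      ∀ x' : Points X.obj, Points.map f.hom x' = y → x' = x := by
  have et : ∀ {T : Over S} {Z : Sp S} {c : (yon S).obj T ⟶ Z}, RepWith @IsOpenImmersion c → RepWith @Etale c :=
    fun hc => repWith_mono (fun _ _ k hk => by
      have : IsOpenImmersion k := hk
      infer_instance) hc
  constructor
  · rintro ⟨U, V, a, b, g, hU, hV, hne, ha, hb, w, hg⟩
    refine (qf_generic_iff_unique hXd hYd f hft hd hx hy).1 ?_
    obtain ⟨u, hu⟩ : x ∈ Set.range (Points.ofPt a) :=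
      hx.mem_open_set_iff (isOpenMap_ofPt_of_etale (et ha)).isOpen_range |>.2
        (by rw [Set.univ_inter]; exact Set.range_nonempty _)
    refine ⟨U, V, a, b, g, u, et ha, et hb, w, hu, ⊤, trivial, ?_, ?_⟩ <;> infer_instance
  · intro h
    have hfx := map_generic_eq Y.property hYd f.hom hd hx hy
    obtain ⟨M, Φ, hΦ, hD⟩ := exists_dense_open_scheme Y.property hYd
    rw [range_map_yon] at hD
    obtain ⟨m, hm⟩ : y ∈ Set.range (Points.ofPt Φ) :=
      hy.mem_open_set_iff (isOpenMap_ofPt_of_etale (et hΦ)).isOpen_range |>.2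
        (by rw [Set.univ_inter]; exact hD.nonempty_iff.2 ⟨y⟩)
    obtain ⟨O, hO, hmO, -⟩ := exists_isAffineOpen_mem_and_subset (X := M.left) (U := ⊤) (x := m) trivial
    let V : Over S := Over.mk (O.ι ≫ M.hom)
    let o : V ⟶ M := Over.homMk O.ι rfl
    let b := (yon S).map o ≫ Φ
    have hb : RepWith @IsOpenImmersion b := repWith_yon_comp (P := @IsOpenImmersion) o (inferInstanceAs (IsOpenImmersion O.ι)) hΦ
    have hv : Points.ofPt b (⟨m, hmO⟩ : O.toScheme) = y := (ofPt_comp o Φ ⟨m, hmO⟩).trans hm
    have sP := IsPullback.of_hasPullback f.hom b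
    have hP := isAlgSpace_of_isPullback sP X.property (IsAlgSpace.yon_obj V) Y.property
    have hfst : RepWith @IsOpenImmersion (pullback.fst f.hom b) := repWith_baseChange sP.flip hb
    obtain ⟨p, hp, -⟩ := exists_point_of_isPullback sP x (Points.ofPt (𝟙 _) (⟨m, hmO⟩ : O.toScheme))
      (by rw [hfx, Points.map_ofPt, Category.id_comp]; exact hv.symm)
    obtain ⟨N, Ψ, hΨ, hDN⟩ := exists_dense_open_scheme hP (isDecent_of_representable _ hfst.1 hXd)
    rw [range_map_yon] at hDN
    obtain ⟨_, n₀, rfl⟩ := hDN.nonempty_iff.2 ⟨p⟩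
    have hc₀ := repWith_comp hΨ hfst
    obtain ⟨n, hn⟩ : x ∈ Set.range (Points.ofPt (Ψ ≫ pullback.fst f.hom b)) :=
      hx.mem_open_set_iff (isOpenMap_ofPt_of_etale (et hc₀)).isOpen_range |>.2
        (by rw [Set.univ_inter]; exact ⟨_, n₀, rfl⟩)
    obtain ⟨O', hO', hnO, -⟩ := exists_isAffineOpen_mem_and_subset (X := N.left) (U := ⊤) (x := n) trivial
    let U : Over S := Over.mk (O'.ι ≫ N.hom)
    let o' : U ⟶ N := Over.homMk O'.ι rfl
    let a := (yon S).map o' ≫ Ψ ≫ pullback.fst f.hom b
    have ha : RepWith @IsOpenImmersion a :=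
      repWith_yon_comp (P := @IsOpenImmersion) o' (inferInstanceAs (IsOpenImmersion O'.ι)) hc₀
    have hu : Points.ofPt a (⟨n, hnO⟩ : O'.toScheme) = x := (ofPt_comp o' _ ⟨n, hnO⟩).trans hn
    let g : U ⟶ V := (yon S).preimage ((yon S).map o' ≫ Ψ ≫ pullback.snd f.hom b)
    have w : a ≫ f.hom = (yon S).map g ≫ b := by
      simp only [a, g, Functor.map_preimage, Category.assoc, sP.w]
    have : IsAffine U.left := hO'
    have : IsAffine V.left := hO
    have : LocallyOfFiniteType g.left := hft a b g (et ha) (et hb) w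
    have hma : Mono a := mono_of_repWith ha fun _ _ k hk => by
      have : IsOpenImmersion k := hk
      infer_instance
    have hmb : Mono b := mono_of_repWith hb fun _ _ k hk => by
      have : IsOpenImmersion k := hk
      infer_instance
    let gS : (⟨_, IsAlgSpace.yon_obj U⟩ : Space S) ⟶ ⟨_, IsAlgSpace.yon_obj V⟩ :=
      ObjectProperty.homMk ((yon S).map g)
    have hgl : LocP @LocallyOfFiniteType gS.hom :=
      (locP_iff_repWith (IsAlgSpace.yon_obj V) ((repWith_yon_map_iff @LocallyOfFiniteType g).2 ‹_›).1).2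
        ((repWith_yon_map_iff @LocallyOfFiniteType g).2 ‹_›)
    have hgu : Points.map gS.hom (Points.ofPt (𝟙 ((yon S).obj U)) (⟨n, hnO⟩ : O'.toScheme)) =
        Points.ofPt (𝟙 ((yon S).obj V)) (⟨m, hmO⟩ : O.toScheme) := by
      refine injective_map_of_mono b ?_
      show Points.map b (Points.map ((yon S).map g) _) = _
      rw [← Points.map_comp, ← w, Points.map_comp, Points.map_ofPt _ a, Category.id_comp, hu, hfx,
        Points.map_ofPt, Category.id_comp, hv]
    have gy := isGenericPoint_open_scheme Y.property hYd hy b hb _ hv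
    have hgd : IsDominantMor gS.hom := dense_iff_closure_eq.2 (Set.eq_univ_of_univ_subset
      (gy.def.symm.subset.trans (closure_mono (Set.singleton_subset_iff.2 ⟨_, hgu⟩))))
    obtain ⟨V', b', U', g', a', hV', ⟨v'⟩, hb', sq, hU', hg'⟩ := exists_affine_open_finite_of_unique
      (isDecent_yon U) (isDecent_yon V) gS hgl hgd (isGenericPoint_open_scheme X.property hXd hx a ha _ hu) gy
      (fun q hq => injective_map_of_mono a <| (h _ (by
        have hq' := congrArg (Points.map b) hq
        rw [show Points.map b (Points.map gS.hom q) = Points.map f.hom (Points.map a q) from by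
          rw [← Points.map_comp, ← Points.map_comp, w]; rfl, Points.map_ofPt, Category.id_comp, hv] at hq'
        exact hq')).trans (by rw [Points.map_ofPt, Category.id_comp, hu]))
      (Or.inl (isQuasiCompactMor_of_repWith (IsAlgSpace.yon_obj U) (IsAlgSpace.yon_obj V)
        ((repWith_yon_map_iff @QuasiCompact g).2 inferInstance)))
    refine ⟨U', V', a' ≫ a, b' ≫ b, g', hU', hV', ?_, repWith_comp (repWith_baseChange sq.flip hb') ha,
      repWith_comp hb' hb, ?_, hg'⟩
    · obtain ⟨v, hv2⟩ : Points.ofPt (𝟙 ((yon S).obj V)) (⟨m, hmO⟩ : O.toScheme) ∈ Set.range (Points.ofPt b') :=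
        gy.mem_open_set_iff (isOpenMap_ofPt_of_etale (et hb')).isOpen_range |>.2
          (by rw [Set.univ_inter]; exact ⟨_, v', rfl⟩)
      obtain ⟨z, -, -⟩ := exists_point_of_isPullback sq _ (Points.ofPt (𝟙 _) v)
        (hgu.trans (by rw [Points.map_ofPt, Category.id_comp, hv2]))
      obtain ⟨z', -⟩ := exists_ofScheme z
      exact ⟨z'⟩
    · rw [Category.assoc, w, ← Category.assoc, show a' ≫ (yon S).map g = _ from sq.w, Category.assoc]

end Groth.Agent.AlgSpFin
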