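import Groth.Agent.AlgSpFin.Misc4
import Groth.Agent.EtSite.ProductSections

/-!
Connected components under extensions of the base field.
-/

set_option autoImplicit false
set_option backward.isDefEq.respectTransparency.types false

universe u

open CategoryTheory CategoryTheory.Limits AlgebraicGeometry Opposite AlgSp TopologicalSpace

namespace Groth.Agent.AlgSpFin

open Groth.Agent.AlgSpLib

/-- Open surjections with connected fibres are bijective on connected components. -/
theorem bijective_connectedComponentsMap {α β : Type*} [TopologicalSpace α] [TopologicalSpace β] {f : α → β}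
    (hc : Continuous f) (ho : IsOpenMap f) (hf : ∀ y : β, IsConnected (f ⁻¹' {y})) :
    Function.Bijective hc.connectedComponentsMap := by
  have hs : Function.Surjective f := fun y => (hf y).nonempty
  have hq := (ho.isQuotientMap hc hs).isCoinducing
  refine ⟨fun a b h => ?_, fun y => ?_⟩
  · obtain ⟨a, rfl⟩ := ConnectedComponents.surjective_coe a
    obtain ⟨b, rfl⟩ := ConnectedComponents.surjective_coe b
    have h' : connectedComponent (f a) = connectedComponent (f b) := ConnectedComponents.coe_eq_coe.1 h
    refine ConnectedComponents.coe_eq_coe.2 ?_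
    rw [← hq.preimage_connectedComponent hf, ← hq.preimage_connectedComponent hf, h']
  · obtain ⟨y, rfl⟩ := ConnectedComponents.surjective_coe y
    obtain ⟨a, rfl⟩ := hs y
    exact ⟨ConnectedComponents.mk a, rfl⟩

variable {S : Scheme.{u}}

/-- The fibre of a base change over a field point is an image. -/
theorem fibre_eq_range {P Q A : Sp S} {π : P ⟶ Q} (r : FieldPt Q) {l : A ⟶ P} {v : A ⟶ (yon S).obj r.pt}
    (sV : IsPullback l v π r.toHom) : Points.map π ⁻¹' {Points.mk r} = Set.range (Points.map l) := by
  let c : r.pt.left := (IsLocalRing.closedPoint r.K : PrimeSpectrum r.K)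
  refine Set.Subset.antisymm (fun x hx => ?_) ?_
  · obtain ⟨z, hz, -⟩ := exists_point_of_isPullback sV x (Points.ofPt (𝟙 _) c) (by
      rw [Set.mem_singleton_iff.1 hx, Points.map_ofPt, Category.id_comp, Points.ofPt_toHom])
    exact ⟨z, hz⟩
  · rintro _ ⟨z, rfl⟩
    obtain ⟨d, hd⟩ := exists_ofScheme (Points.map v z)
    show Points.map π (Points.map l z) = Points.mk r
    rw [← Points.map_comp, sV.w, Points.map_comp, ← hd]
    show Points.map r.toHom (Points.ofPt (𝟙 _) d) = Points.mk r
    rw [Points.map_ofPt, Category.id_comp, Points.ofPt_toHom]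

/-- Base changes of geometrically connected field extensions are bijective on connected components. -/
theorem bijective_components_baseChange {P Q : Sp S} (hQ : IsAlgSpace Q) {L Ω : Type u} [Field L] [Field Ω]
    {str : Spec (CommRingCat.of L) ⟶ S} {str' : Spec (CommRingCat.of Ω) ⟶ S} (m : Over.mk str' ⟶ Over.mk str)
    (hm : GeometricallyConnected m.left) {π : P ⟶ Q} {a : P ⟶ (yon S).obj (Over.mk str')}
    {q : Q ⟶ (yon S).obj (Over.mk str)} (sq : IsPullback a π ((yon S).map m) q) :
    Function.Bijective (Points.continuous_map π).connectedComponentsMap := by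
  refine bijective_connectedComponentsMap _
    (isUnivOpenMor_to_field (IsAlgSpace.yon_obj _) ((yon S).map m) hQ q a π sq) fun y => ?_
  induction y using Points.ind with
  | _ r =>
    obtain ⟨t, ht⟩ := (yon S).map_surjective (r.toHom ≫ q)
    obtain ⟨V, v₁, v₂, sV⟩ : ∃ (V : Over S) (v₁ : V ⟶ Over.mk str') (v₂ : V ⟶ r.pt), IsPullback v₁ v₂ m t :=
      ⟨_, _, _, IsPullback.of_hasPullback m t⟩
    have big := yon_isPullback sV
    rw [ht] at big
    let l : (yon S).obj V ⟶ P :=
      sq.lift ((yon S).map v₁) ((yon S).map v₂ ≫ r.toHom) (by rw [big.w, Category.assoc])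
    have sl : IsPullback l ((yon S).map v₂) π r.toHom :=
      IsPullback.of_right (by rw [sq.lift_fst]; exact big.flip.flip) (sq.lift_snd _ _ _) sq
    rw [fibre_eq_range r sl, range_map_yon]
    have hgc : GeometricallyConnected v₂.left := MorphismProperty.of_isPullback (left_isPullback sV) hm
    let vK : V.left ⟶ Spec (CommRingCat.of r.K) := v₂.left
    have : GeometricallyConnected vK := hgc
    have : Nonempty ↥(Spec (CommRingCat.of r.K)) := ⟨(IsLocalRing.closedPoint r.K : PrimeSpectrum r.K)⟩
    have : Subsingleton ↥(Spec (CommRingCat.of r.K)) := inferInstanceAs (Subsingleton (PrimeSpectrum r.K))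
    have : ConnectedSpace V.left := GeometricallyConnected.connectedSpace_of_subsingleton (f := vK)
    exact isConnected_range (Points.continuous_ofPt l)

/-- Morphisms to the base are unique. -/
theorem hom_ext_base {F : Sp S} (f g : F ⟶ (yon S).obj (Over.mk (𝟙 S))) : f = g := hom_ext_yon fun T a => by
  obtain ⟨x, hx⟩ := (yon S).map_surjective (a ≫ f)
  obtain ⟨y, hy⟩ := (yon S).map_surjective (a ≫ g)
  rw [← hx, ← hy]
  congr 1
  exact Over.OverMorphism.ext ((Category.comp_id x.left).symm.trans ((Over.w x).trans
    ((Over.w y).symm.trans (Category.comp_id y.left))))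

theorem isPullback_prod_map {X A B : Sp S} (m : A ⟶ B) :
    IsPullback (prod.snd : X ⨯ A ⟶ A) (prod.map (𝟙 X) m) m (prod.snd : X ⨯ B ⟶ B) := by
  refine IsPullback.of_isLimit' ⟨(prod.map_snd _ _).symm⟩ (PullbackCone.IsLimit.mk _
    (fun s => prod.lift (s.snd ≫ prod.fst) s.fst) (fun s => prod.lift_snd _ _) (fun s => ?_) fun s l h₁ h₂ => ?_)
  · apply Limits.prod.hom_ext
    · rw [Category.assoc, prod.map_fst, Category.comp_id, prod.lift_fst]
    · rw [Category.assoc, prod.map_snd, prod.lift_snd_assoc, s.condition]
  · apply Limits.prod.hom_ext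
    · rw [prod.lift_fst, ← h₂, Category.assoc, prod.map_fst, Category.comp_id]
    · rw [prod.lift_snd, h₁]

theorem isPullback_prod_base (X A : Sp S) (f : X ⟶ (yon S).obj (Over.mk (𝟙 S))) (g : A ⟶ (yon S).obj (Over.mk (𝟙 S))) :
    IsPullback (prod.fst : X ⨯ A ⟶ X) prod.snd f g :=
  IsPullback.of_isLimit' ⟨hom_ext_base _ _⟩ (PullbackCone.IsLimit.mk _ (fun s => prod.lift s.fst s.snd)
    (fun s => prod.lift_fst _ _) (fun s => prod.lift_snd _ _) fun s l h₁ h₂ =>
      Limits.prod.hom_ext (by rw [prod.lift_fst, h₁]) (by rw [prod.lift_snd, h₂]))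

/-- The morphism to the base. -/
theorem exists_toBase (X : Sp S) : Nonempty (X ⟶ (yon S).obj (Over.mk (𝟙 S))) :=
  ⟨AlgSpPts.toBase X⟩

variable (k : Type u) [Field k]

local notation "Sk" => Spec (CommRingCat.of k)

noncomputable abbrev hExt (K : Type u) [Field K] [Algebra k K] : Over (Spec (CommRingCat.of k)) :=
  Over.mk (Spec.map (CommRingCat.ofHom (algebraMap k K)))

theorem geometricallyConnected_spec {L Ω : Type u} [Field L] [IsSepClosed L] [Field Ω]
    (f : Spec (CommRingCat.of Ω) ⟶ Spec (CommRingCat.of L)) : GeometricallyConnected f := by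
  have : ConnectedSpace ↥(Spec (CommRingCat.of Ω)) :=
    inferInstanceAs (ConnectedSpace (PrimeSpectrum Ω))
  exact EtSite.ProductSections.geometricallyConnected_of_isSepClosed f

/-- Components over a separably closed field do not change. -/
theorem bijective_components_sepClosed [IsSepClosed k] (X : Space (Spec (CommRingCat.of k))) (K : Type u) [Field K]
    [Algebra k K] : Function.Bijective (Continuous.connectedComponentsMap
      (Points.continuous_map (prod.fst : X.obj ⨯ (yon Sk).obj (hExt k K) ⟶ X.obj))) :=
  bijective_components_baseChange X.property (L := k) (Ω := K)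
    (Over.homMk (Spec.map (CommRingCat.ofHom (algebraMap k K))) (Category.comp_id _) : hExt k K ⟶ Over.mk (𝟙 _))
    (geometricallyConnected_spec _) (q := AlgSpPts.toBase X.obj) (isPullback_prod_base _ _ _ _).flip

theorem connectedSpace_of_bijective {α β : Type*} [TopologicalSpace α] [TopologicalSpace β] {f : α → β}
    (hc : Continuous f) (hf : Function.Bijective hc.connectedComponentsMap) [ConnectedSpace β] :
    ConnectedSpace α := by
  obtain ⟨c, -⟩ := hf.2 (ConnectedComponents.mk (Classical.arbitrary β))
  obtain ⟨a, -⟩ := ConnectedComponents.surjective_coe c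
  rw [connectedSpace_iff_connectedComponent]
  refine ⟨a, Set.eq_univ_of_forall fun b => ?_⟩
  have h : connectedComponent (f a) = connectedComponent (f b) := by
    rw [PreconnectedSpace.connectedComponent_eq_univ, PreconnectedSpace.connectedComponent_eq_univ]
  have : ConnectedComponents.mk a = ConnectedComponents.mk b := hf.1 (ConnectedComponents.coe_eq_coe.2 h)
  rw [ConnectedComponents.coe_eq_coe.1 this]
  exact mem_connectedComponent

/-- Geometric connectedness of an algebraic space. -/
abbrev GeomConn (X : Space (Spec (CommRingCat.of k))) : Prop :=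
  ∀ (K : Type u) [Field K] [Algebra k K], ConnectedSpace (Points (X.obj ⨯ (yon Sk).obj (hExt k K)))

theorem geomConn_iff_connectedSpace [IsSepClosed k] (X : Space (Spec (CommRingCat.of k))) :
    GeomConn k X ↔ ConnectedSpace (Points X.obj) := by
  refine ⟨fun h => ?_, fun h K _ _ => connectedSpace_of_bijective _ (bijective_components_sepClosed k X K)⟩
  have := h k
  refine Function.Surjective.connectedSpace (f := Points.map (prod.fst : X.obj ⨯ (yon Sk).obj (hExt k k) ⟶ X.obj))
    (fun x => ?_) (Points.continuous_map _)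
  obtain ⟨z, hz, -⟩ := exists_point_of_isPullback
    (isPullback_prod_base X.obj ((yon Sk).obj (hExt k k)) (AlgSpPts.toBase _) (AlgSpPts.toBase _)) x
    (Points.ofPt (𝟙 _) (IsLocalRing.closedPoint k : PrimeSpectrum k)) (by
      obtain ⟨d, hd⟩ := exists_ofScheme (Points.map (AlgSpPts.toBase X.obj) x)
      obtain ⟨e, he⟩ := exists_ofScheme (Points.map (AlgSpPts.toBase ((yon Sk).obj (hExt k k)))
        (Points.ofPt (𝟙 _) (IsLocalRing.closedPoint k : PrimeSpectrum k)))
      rw [← hd, ← he]
      exact congrArg _ (Subsingleton.elim (α := PrimeSpectrum k) d e))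
  exact ⟨z, hz⟩

theorem surjective_map_prodMap (X : Space (Spec (CommRingCat.of k))) {K Ω : Type u} [Field K] [Field Ω]
    {str : Spec (CommRingCat.of K) ⟶ Sk} {str' : Spec (CommRingCat.of Ω) ⟶ Sk} (m : Over.mk str' ⟶ Over.mk str) :
    Function.Surjective (Points.map (prod.map (𝟙 X.obj) ((yon Sk).map m))) := fun z => by
  obtain ⟨d, hd⟩ := exists_ofScheme (Points.map (prod.snd : X.obj ⨯ (yon Sk).obj (Over.mk str) ⟶ _) z)
  let c : (Over.mk str').left := (IsLocalRing.closedPoint Ω : PrimeSpectrum Ω)
  obtain ⟨w, -, hw⟩ := exists_point_of_isPullback (isPullback_prod_map (X := X.obj) ((yon Sk).map m))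
    (Points.ofPt (𝟙 _) c) z (by
      rw [← hd, Points.map_ofPt, Category.id_comp, ← Category.comp_id ((yon Sk).map m), ofPt_comp]
      exact congrArg _ (Subsingleton.elim (α := PrimeSpectrum K) _ _))
  exact ⟨w, hw⟩

/-- Two extensions are dominated by a third. -/
theorem exists_common_extension (K L : Type u) [Field K] [Algebra k K] [Field L] [Algebra k L] :
    ∃ (Ω : Type u) (_ : Field Ω) (_ : Algebra k Ω) (f : K →+* Ω) (g : L →+* Ω),
      f.comp (algebraMap k K) = algebraMap k Ω ∧ g.comp (algebraMap k L) = algebraMap k Ω := by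
  obtain ⟨Ω, _, f, g, h⟩ := FieldPt.exists_amalgamation (algebraMap k K) (algebraMap k L)
  exact ⟨Ω, ‹_›, (f.comp (algebraMap k K)).toAlgebra, f, g, rfl, h.symm⟩

theorem exists_homMk {K L : Type u} [Field K] [Algebra k K] [Field L] [Algebra k L] (f : K →+* L)
    (h : f.comp (algebraMap k K) = algebraMap k L) :
    ∃ m : hExt k L ⟶ hExt k K, m.left = Spec.map (CommRingCat.ofHom f) :=
  ⟨Over.homMk (Spec.map (CommRingCat.ofHom f)) (by
    show Spec.map _ ≫ Spec.map _ = Spec.map _
    rw [← Spec.map_comp, ← CommRingCat.ofHom_comp, h]), rfl⟩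

theorem geomConn_iff_of_ext (X : Space (Spec (CommRingCat.of k))) (k' : Type u) [Field k'] [Algebra k k'] :
    GeomConn k X ↔ ∀ (K : Type u) [Field K] [Algebra k K] [Algebra k' K] [IsScalarTower k k' K],
      ConnectedSpace (Points (X.obj ⨯ (yon Sk).obj (hExt k K))) := by
  refine ⟨fun h K _ _ _ _ => h K, fun h K _ _ => ?_⟩
  obtain ⟨Ω, _, _, f, g, hf, hg⟩ := exists_common_extension k K k'
  let _ := g.toAlgebra
  have : IsScalarTower k k' Ω := IsScalarTower.of_algebraMap_eq' hg.symm
  have := h Ω
  obtain ⟨m, -⟩ := exists_homMk k f hf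
  exact (surjective_map_prodMap k X m).connectedSpace (Points.continuous_map _)

theorem geomConn_iff_sepClosure (X : Space (Spec (CommRingCat.of k))) (kbar : Type u) [Field kbar] [Algebra k kbar]
    [IsSepClosure k kbar] : GeomConn k X ↔ ConnectedSpace (Points (X.obj ⨯ (yon Sk).obj (hExt k kbar))) := by
  refine ⟨fun h => h kbar, fun h K _ _ => ?_⟩
  have : IsSepClosed kbar := IsSepClosure.sep_closed k
  obtain ⟨Ω, _, _, f, g, hf, hg⟩ := exists_common_extension k K kbar
  obtain ⟨m, -⟩ := exists_homMk k f hf
  obtain ⟨n, hn⟩ := exists_homMk k g hg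
  have hX : IsAlgSpace (X.obj ⨯ (yon Sk).obj (hExt k kbar)) :=
    isAlgSpace_of_isPullback (isPullback_prod_base _ _ (AlgSpPts.toBase _) (AlgSpPts.toBase _))
      X.property (IsAlgSpace.yon_obj _) (IsAlgSpace.yon_obj _)
  have : ConnectedSpace (Points (X.obj ⨯ (yon Sk).obj (hExt k Ω))) :=
    connectedSpace_of_bijective _ (bijective_components_baseChange hX (L := kbar) (Ω := Ω) n
      (hn ▸ geometricallyConnected_spec _) (isPullback_prod_map _))
  exact (surjective_map_prodMap k X m).connectedSpace (Points.continuous_map _)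

/-- Products with a geometrically connected space. -/
theorem bijective_components_snd (X Y : Space (Spec (CommRingCat.of k))) (hX : GeomConn k X) :
    Function.Bijective (Continuous.connectedComponentsMap
      (Points.continuous_map (prod.snd : X.obj ⨯ Y.obj ⟶ Y.obj))) := by
  refine bijective_connectedComponentsMap _
    (isUnivOpenMor_to_field X.property (str := 𝟙 _) (AlgSpPts.toBase X.obj) Y.property (AlgSpPts.toBase Y.obj)
      prod.fst prod.snd (isPullback_prod_base _ _ _ _)) fun y => ?_
  induction y using Points.ind with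
  | _ r =>
    rw [fibre_eq_range r (isPullback_prod_map (X := X.obj) r.toHom).flip]
    obtain ⟨φ, hφ⟩ := Spec.map_surjective r.str
    let _ := φ.hom.toAlgebra
    have e : Spec.map (CommRingCat.ofHom (algebraMap k r.K)) = r.str := hφ
    have hc : ConnectedSpace (Points (X.obj ⨯ (yon Sk).obj (Over.mk r.str))) := e ▸ hX r.K
    have : ConnectedSpace (Points (X.obj ⨯ (yon Sk).obj r.pt)) := hc
    exact isConnected_range (Points.continuous_map _)

end Groth.Agent.AlgSpFin
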