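import Groth.Agent.AlgSpFin.DiagBaseChange
import Groth.Agent.AlgStLib.SepRep
import Groth.Prelude.Def_AlgSpGpd

/-!
The diagonal of a group algebraic space is a base change of the unit.
-/

set_option autoImplicit false
set_option backward.isDefEq.respectTransparency.types false

universe u

open CategoryTheory CategoryTheory.Limits AlgebraicGeometry AlgSp MonoidalCategory CartesianMonoidalCategory MonObj GrpObj

namespace Groth.Agent.AlgSpFin

open Groth.Agent.AlgSpLib Groth.Agent.AlgStLib

variable {S : Scheme.{u}} {B : Sp S} (G : Over B) [GrpObj G]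

theorem unit_comp_hom : η[G].left ≫ G.hom = 𝟙 B := Over.w η[G]

/-- The diagonal is the base change of the unit along the division map. -/
theorem isPullback_diagonal_unit :
    IsPullback G.hom (pullback.diagonal G.hom) η[G].left ((fst G G)⁻¹ * snd G G : G ⊗ G ⟶ G).left := by
  let π' : G ⊗ G ⟶ G := (fst G G)⁻¹ * snd G G
  have hd : (lift (𝟙 G) (𝟙 G)).left = pullback.diagonal G.hom := by
    apply pullback.hom_ext
    · exact (congrArg CommaMorphism.left (lift_fst (𝟙 G) (𝟙 G))).trans (pullback.diagonal_fst G.hom).symm
    · exact (congrArg CommaMorphism.left (lift_snd (𝟙 G) (𝟙 G))).trans (pullback.diagonal_snd G.hom).symm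
  rw [← hd]
  have w : G.hom ≫ η[G].left = (lift (𝟙 G) (𝟙 G)).left ≫ π'.left := by
    rw [← Over.comp_left, comp_mul, comp_inv, lift_fst, lift_snd, inv_mul_cancel, Hom.one_def, Over.comp_left]
    rfl
  have key : ∀ c : PullbackCone η[G].left π'.left,
      c.snd ≫ (fst G G).left = c.snd ≫ (snd G G).left := fun c => by
    let T : Over B := Over.mk (c.snd ≫ (G ⊗ G).hom)
    let a : T ⟶ G ⊗ G := Over.homMk c.snd rfl
    have hT : c.fst = T.hom := by
      have e := congrArg (· ≫ G.hom) c.condition
      simp only [Category.assoc, unit_comp_hom] at e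
      exact ((Category.comp_id _).symm.trans e).trans (congrArg (c.snd ≫ ·) (Over.w π'))
    have e : (a ≫ fst G G)⁻¹ * (a ≫ snd G G) = 1 := by
      rw [← comp_inv, ← comp_mul, Hom.one_def]
      refine Over.OverMorphism.ext ?_
      show c.snd ≫ π'.left = (toUnit T).left ≫ η[G].left
      rw [← c.condition, hT]
      exact congrArg (· ≫ η[G].left) (Over.w (toUnit T)).symm |>.trans (by rfl)
    have e' : a ≫ fst G G = a ≫ snd G G := (inv_mul_eq_one (G := T ⟶ G)).1 e
    exact congrArg CommaMorphism.left e'
  refine IsPullback.of_isLimit' ⟨w⟩ (PullbackCone.IsLimit.mk w (fun c => c.snd ≫ (fst G G).left) (fun c => ?_)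
    (fun c => ?_) fun c l _ hl => ?_)
  · have e := congrArg (· ≫ G.hom) c.condition
    simp only [Category.assoc, unit_comp_hom, Category.comp_id] at e
    rw [e, Category.assoc, Over.w (fst G G)]
    exact (congrArg (c.snd ≫ ·) (Over.w π')).symm
  · rw [hd]
    apply pullback.hom_ext
    · rw [Category.assoc, pullback.diagonal_fst, Category.comp_id]
      rfl
    · rw [Category.assoc, pullback.diagonal_snd, Category.comp_id]
      exact key c
  · rw [← hl, Category.assoc, ← Over.comp_left, lift_fst]
    exact (Category.comp_id l).symm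

/-- Separation properties of a group algebraic space are read on the unit. -/
theorem grp_separation (hB : IsAlgSpace B) (hG : IsAlgSpace G.left) :
    (IsSeparatedMor G.hom ↔ RepWith @IsClosedImmersion η[G].left) ∧
      (IsQuasiSeparatedMor G.hom ↔ IsQuasiCompactMor η[G].left) ∧
      (IsLocallySeparatedMor G.hom → RepWith @IsImmersion η[G].left) := by
  have sS := isPullback_section G.hom η[G].left (unit_comp_hom G)
  have sD := isPullback_diagonal_unit G
  obtain ⟨hr, -⟩ := diagonal_baseChange_properties (X := ⟨G.left, hG⟩) (Y := ⟨B, hB⟩)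
    (ObjectProperty.homMk G.hom) (k := η[G].left) sS
  refine ⟨⟨fun h => repWith_baseChange sS h, fun h => repWith_baseChange sD h⟩, ⟨fun h => ?_, fun h => ?_⟩,
    fun h => repWith_baseChange sS h⟩
  · exact isQuasiCompactMor_of_repWith hB hG (repWith_baseChange sS h)
  · refine repWith_baseChange sD (repWith_of_rep hr fun T W g a w sq => ?_)
    exact quasiCompact_of_isQuasiCompactMor w (isQuasiCompactMor_baseChange sq h)

end Groth.Agent.AlgSpFin
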