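import Groth.Agent.AlgSpFin.EtNbhdCof
import Groth.Agent.AlgSpFin.GenericFibre
import Groth.Agent.S10242

/-!
Global functions of integral spaces form a domain.
-/

set_option autoImplicit false
set_option backward.isDefEq.respectTransparency.types false

universe u

open CategoryTheory CategoryTheory.Limits AlgebraicGeometry Opposite AlgSp TopologicalSpace

namespace Groth.Agent.AlgSpFin

open Groth.Agent.AlgSpLib

variable {S : Scheme.{u}} {X : Space S}

/-- The components of a global function are compatible. -/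
theorem gsect_restrict (f : ↥(gsectEt (OEt X.obj))) {E E' : EtOver X.obj} (g : E ⟶ E') :
    g.hom.left.left.appTop.hom ((limit.π (OEt X.obj).obj (op E')) f).down =
      ((limit.π (OEt X.obj).obj (op E)) f).down :=
  congrArg ULift.down (ConcreteCategory.congr_hom (limit.w (OEt X.obj).obj g.op) f)

/-- Global functions on an integral space form a domain. -/
theorem isDomain_gsect (hX : IsIntegralSp X.obj) : IsDomain ↥(gsectEt (OEt X.obj)) := by
  obtain ⟨hred, hd, hirr⟩ := hX
  obtain ⟨hR, hzero⟩ := S10242.result X hred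
  have := quasiSober_points_of_isDecent X.property hd
  obtain ⟨x, hx⟩ := QuasiSober.sober (IrreducibleSpace.isIrreducible_univ (Points X.obj)) isClosed_univ
  obtain ⟨U, a, ha, has⟩ := X.property.atlas
  obtain ⟨u, hu⟩ := surjective_ofPt has x
  have : Nontrivial ↥(gsectEt (OEt X.obj)) := by
    refine ⟨⟨0, 1, fun h => ?_⟩⟩
    have e := congrArg (fun t => ((limit.π (OEt X.obj).obj (op (EtOver.mk a ha))) t).down) h
    simp only [map_zero, map_one] at e
    have e' : U.left.basicOpen (0 : Γ(U.left, ⊤)) = U.left.basicOpen (1 : Γ(U.left, ⊤)) := congrArg _ e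
    rw [Scheme.basicOpen_zero, Scheme.basicOpen_of_isUnit U.left isUnit_one] at e'
    exact absurd (e'.symm.le (show u ∈ (⊤ : U.left.Opens) from trivial)) id
  have : NoZeroDivisors ↥(gsectEt (OEt X.obj)) := by
    refine ⟨fun {f g} hfg => or_iff_not_imp_left.2 fun hf => hzero g fun E' => ?_⟩
    by_contra hg
    obtain ⟨E, hE⟩ : ∃ E : EtOver X.obj, E.obj.left.left.basicOpen ((limit.π (OEt X.obj).obj (op E)) f).down ≠ ⊥ := by
      by_contra h
      exact hf (hzero f fun E => by by_contra h'; exact h ⟨E, h'⟩)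
    have key : ∀ (E : EtOver X.obj) (O : E.obj.left.left.Opens), O ≠ ⊥ → ∃ e ∈ O, Points.ofPt E.obj.hom e = x := by
      intro E O hO
      obtain ⟨e₀, he₀⟩ : ∃ e, e ∈ O := by
        by_contra h
        exact hO (le_bot_iff.1 fun e he => (h ⟨e, he⟩).elim)
      obtain ⟨e, he, hex⟩ := exists_lift_generalization X.property hd E.property e₀ (hx.specializes (Set.mem_univ _))
      exact ⟨e, he.mem_open O.2 he₀, hex⟩
    obtain ⟨e, heO, hex⟩ := key E _ hE
    obtain ⟨e', heO', hex'⟩ := key E' _ hg
    obtain ⟨P, p₁, p₂, sP⟩ := exists_isPullback E.property.1 E'.obj.hom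
    obtain ⟨w, hw₁, hw₂⟩ := (ofPt_eq_iff sP e e').1 (hex.trans hex'.symm)
    let V : EtOver X.obj := EtOver.mk ((yon S).map p₁ ≫ E.obj.hom)
      (repWith_yon_comp (P := @Etale) p₁ (prop_snd sP.flip E'.property) E.property)
    have h₁ := (Scheme.preimage_basicOpen p₁.left ((limit.π (OEt X.obj).obj (op E)) f).down).le
      (show p₁.left w ∈ E.obj.left.left.basicOpen ((limit.π (OEt X.obj).obj (op E)) f).down from hw₁.symm ▸ heO)
    have h₂ := (Scheme.preimage_basicOpen p₂.left ((limit.π (OEt X.obj).obj (op E')) g).down).le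
      (show p₂.left w ∈ E'.obj.left.left.basicOpen ((limit.π (OEt X.obj).obj (op E')) g).down from hw₂.symm ▸ heO')
    have h₁' : w ∈ V.obj.left.left.basicOpen (((limit.π (OEt X.obj).obj (op V)) f).down) := by
      rw [← gsect_restrict f (EtOver.homMk p₁ rfl : V ⟶ E)]
      exact h₁
    have h₂' : w ∈ V.obj.left.left.basicOpen (((limit.π (OEt X.obj).obj (op V)) g).down) := by
      rw [← gsect_restrict g (EtOver.homMk p₂ sP.w.symm : V ⟶ E')]
      exact h₂
    have h12 : w ∈ V.obj.left.left.basicOpen (((limit.π (OEt X.obj).obj (op V)) f).down *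
        ((limit.π (OEt X.obj).obj (op V)) g).down) := by
      exact (Scheme.basicOpen_mul V.obj.left.left
        (((limit.π (OEt X.obj).obj (op V)) f).down : Γ(V.obj.left.left, ⊤))
        ((limit.π (OEt X.obj).obj (op V)) g).down).ge ⟨h₁', h₂'⟩
    have h0 : (((limit.π (OEt X.obj).obj (op V)) f).down * ((limit.π (OEt X.obj).obj (op V)) g).down :
        Γ(V.obj.left.left, ⊤)) = (0 : Γ(V.obj.left.left, ⊤)) :=
      congrArg ULift.down ((map_mul (limit.π (OEt X.obj).obj (op V)).hom f g).symm.trans
        ((congrArg _ hfg).trans (map_zero _)))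
    exact (Scheme.basicOpen_zero V.obj.left.left ⊤).le ((congrArg V.obj.left.left.basicOpen h0).le h12)
  exact NoZeroDivisors.to_isDomain _

end Groth.Agent.AlgSpFin
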