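import Groth.Agent.AlgSpFin.ElemNbhd
import Groth.Agent.HenselLib.Unique
import Groth.Agent.AlgSpLib.ChartMor
import Groth.Prelude.Def_Hensel

/-!
Henselizations do not see etale neighbourhoods with trivial residue extension.
-/

set_option autoImplicit false
set_option backward.isDefEq.respectTransparency.types false

universe u

open CategoryTheory CategoryTheory.Limits AlgebraicGeometry Opposite AlgSp IsLocalRing

namespace Groth.Agent.AlgSpFin

open Groth.Agent.AlgSpLib

/-- Local maps from the local ring of an etale neighbourhood with trivial residue extension to henselian rings. -/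
theorem existsUnique_extend_stalk {U' U : Scheme.{u}} (f : U' ⟶ U) [Etale f] (x : U')
    (hres : Function.Surjective (f.residueFieldMap x).hom) (T : Type u) [CommRing T] [HenselianLocalRing T]
    (φ : U.presheaf.stalk (f x) →+* T) [IsLocalHom φ] :
    ∃! ψ : U'.presheaf.stalk x →+* T, IsLocalHom ψ ∧ ψ.comp (f.stalkMap x).hom = φ := by
  obtain ⟨V, hV, hxV, -⟩ := exists_isAffineOpen_mem_and_subset (X := U) (x := f x) (U := ⊤) trivial
  obtain ⟨W, hW, hxW, hWV⟩ := exists_isAffineOpen_mem_and_subset (X := U') (x := x) (U := f ⁻¹ᵁ V) hxV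
  have he : (f.appLE V W hWV).hom.Etale := HasRingHomProperty.appLE @Etale f inferInstance ⟨V, hV⟩ ⟨W, hW⟩ hWV
  let gV : Γ(U, V) →+* U.presheaf.stalk (f x) := (U.presheaf.germ V (f x) hxV).hom
  let gW : Γ(U', W) →+* U'.presheaf.stalk x := (U'.presheaf.germ W x hxW).hom
  have hcomm : ∀ a, gW (f.appLE V W hWV a) = (f.stalkMap x) (gV a) := fun a => by
    show U'.presheaf.germ W x hxW (f.appLE V W hWV a) = (f.stalkMap x) (U.presheaf.germ V (f x) hxV a)
    rw [Scheme.Hom.germ_stalkMap_apply, Scheme.Hom.appLE, CommRingCat.comp_apply,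
      TopCat.Presheaf.germ_res_apply]
  algebraize [(f.appLE V W hWV).hom]
  let _ : Algebra Γ(U, V) T := (φ.comp gV).toAlgebra
  let ρ : ResidueField (U.presheaf.stalk (f x)) ≃+* ResidueField (U'.presheaf.stalk x) :=
    RingEquiv.ofBijective (ResidueField.map (f.stalkMap x).hom) ⟨RingHom.injective _, hres⟩
  let φbar : ResidueField (U.presheaf.stalk (f x)) →+* ResidueField T := ResidueField.map φ
  let σ : Γ(U', W) →ₐ[Γ(U, V)] T ⧸ maximalIdeal T :=
    { toRingHom := φbar.comp (ρ.symm.toRingHom.comp ((residue _).comp gW))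
      commutes' := fun a => by
        show φbar (ρ.symm (residue _ (gW (f.appLE V W hWV a)))) = residue T (φ (gV a))
        rw [hcomm, show residue _ ((f.stalkMap x) (gV a)) = ρ (residue _ (gV a)) from rfl, RingEquiv.symm_apply_apply]
        rfl }
  obtain ⟨τ, hτ, hτu⟩ := HenselLib.existsUnique_lift (maximalIdeal T) σ
  have hτ' : ∀ c, residue T (τ c) = φbar (ρ.symm (residue _ (gW c))) := fun c => AlgHom.congr_fun hτ c
  let _ := TopCat.Presheaf.algebra_section_stalk U'.presheaf ⟨x, hxW⟩
  have : IsLocalization.AtPrime (U'.presheaf.stalk x) (hW.primeIdealOf ⟨x, hxW⟩).asIdeal :=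
    hW.isLocalization_stalk ⟨x, hxW⟩
  have hunit : ∀ s : (hW.primeIdealOf ⟨x, hxW⟩).asIdeal.primeCompl, IsUnit (τ s) := fun s => by
    rw [← residue_ne_zero_iff_isUnit, hτ', map_ne_zero, map_ne_zero, residue_ne_zero_iff_isUnit]
    exact IsLocalization.map_units (U'.presheaf.stalk x) s
  let ψ : U'.presheaf.stalk x →+* T := IsLocalization.lift (g := τ.toRingHom) hunit
  have hψ : ∀ c, ψ (gW c) = τ c := IsLocalization.lift_eq hunit
  have hψres : ∀ y, residue T (ψ y) = φbar (ρ.symm (residue _ y)) := by
    have key : (residue T).comp ψ = φbar.comp (ρ.symm.toRingHom.comp (residue _)) :=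
      IsLocalization.ringHom_ext (hW.primeIdealOf ⟨x, hxW⟩).asIdeal.primeCompl (RingHom.ext fun c => by
        show residue T (ψ (gW c)) = _
        rw [hψ, hτ']
        rfl)
    exact fun y => RingHom.congr_fun key y
  have hψloc : IsLocalHom ψ := ⟨fun y hy => by
    rw [← residue_ne_zero_iff_isUnit, hψres, map_ne_zero, map_ne_zero, residue_ne_zero_iff_isUnit] at hy
    exact hy⟩
  let _ := TopCat.Presheaf.algebra_section_stalk U.presheaf ⟨f x, hxV⟩
  have : IsLocalization.AtPrime (U.presheaf.stalk (f x)) (hV.primeIdealOf ⟨f x, hxV⟩).asIdeal :=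
    hV.isLocalization_stalk ⟨f x, hxV⟩
  have hψφ : ψ.comp (f.stalkMap x).hom = φ :=
    IsLocalization.ringHom_ext (hV.primeIdealOf ⟨f x, hxV⟩).asIdeal.primeCompl (RingHom.ext fun a => by
      show ψ ((f.stalkMap x) (gV a)) = φ (gV a)
      rw [← hcomm, hψ]
      exact τ.commutes a)
  refine ⟨ψ, ⟨hψloc, hψφ⟩, fun ψ' ⟨hloc, h'⟩ => ?_⟩
  let τ' : Γ(U', W) →ₐ[Γ(U, V)] T :=
    { toRingHom := ψ'.comp gW
      commutes' := fun a => by
        show ψ' (gW (f.appLE V W hWV a)) = φ (gV a)
        rw [hcomm]
        exact RingHom.congr_fun h' (gV a) }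
  have : τ' = τ := hτu τ' (AlgHom.ext fun c => by
    show residue T (ψ' (gW c)) = φbar (ρ.symm (residue _ (gW c)))
    obtain ⟨y, hy⟩ := residue_surjective (ρ.symm (residue _ (gW c)))
    have e : residue _ ((f.stalkMap x) y) = residue _ (gW c) := by
      rw [show residue _ ((f.stalkMap x) y) = ρ (residue _ y) from rfl, hy, RingEquiv.apply_symm_apply]
    rw [← hy]
    show residue T (ψ' (gW c)) = residue T (φ y)
    rw [← RingHom.congr_fun h' y]
    have e' : ResidueField.map ψ' (residue _ ((f.stalkMap x) y)) = ResidueField.map ψ' (residue _ (gW c)) :=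
      congrArg _ e
    rw [ResidueField.map_residue, ResidueField.map_residue] at e'
    exact e'.symm)
  exact IsLocalization.ringHom_ext (hW.primeIdealOf ⟨x, hxW⟩).asIdeal.primeCompl (RingHom.ext fun c => by
    show ψ' (gW c) = ψ (gW c)
    rw [hψ]
    exact AlgHom.congr_fun this c)

/-- A henselization upstairs is a henselization downstairs. -/
theorem isHenselization_of_etale_trivial_residue {U' U : Scheme.{u}} (f : U' ⟶ U) [Etale f] (x : U')
    (hres : Function.Surjective (f.residueFieldMap x).hom) (R : Type u) [CommRing R] [IsLocalRing R]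
    [Algebra (U'.presheaf.stalk x) R] [IsLocalHom (algebraMap (U'.presheaf.stalk x) R)]
    [Hensel.IsHenselization (U'.presheaf.stalk x) R] :
    letI : Algebra (U.presheaf.stalk (f x)) R :=
      ((algebraMap (U'.presheaf.stalk x) R).comp (f.stalkMap x).hom).toAlgebra
    ∃ (_ : IsLocalHom (algebraMap (U.presheaf.stalk (f x)) R)),
      Hensel.IsHenselization (U.presheaf.stalk (f x)) R := by
  letI : Algebra (U.presheaf.stalk (f x)) R :=
    ((algebraMap (U'.presheaf.stalk x) R).comp (f.stalkMap x).hom).toAlgebra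
  have hl : IsLocalHom (algebraMap (U.presheaf.stalk (f x)) R) :=
    RingHom.isLocalHom_comp (algebraMap (U'.presheaf.stalk x) R) (f.stalkMap x).hom
  refine ⟨hl, ⟨Hensel.IsHenselization.henselian (U'.presheaf.stalk x), fun T _ _ φ hφ => ?_⟩⟩
  obtain ⟨ψ, ⟨hψl, hψ⟩, hψu⟩ := existsUnique_extend_stalk f x hres T φ
  obtain ⟨g, hg, hgu⟩ := Hensel.IsHenselization.universal (S := R) T ψ hψl
  refine ⟨g, ?_, fun g' hg' => hgu g' ?_⟩
  · show g.comp ((algebraMap (U'.presheaf.stalk x) R).comp (f.stalkMap x).hom) = φ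
    rw [← RingHom.comp_assoc, hg, hψ]
  · have hg'' : (g'.comp (algebraMap (U'.presheaf.stalk x) R)).comp (f.stalkMap x).hom = φ := hg'
    refine hψu _ ⟨?_, hg''⟩
    -- the maximal ideal upstairs is generated from downstairs
    have hm : (maximalIdeal (U.presheaf.stalk (f x))).map (f.stalkMap x).hom = maximalIdeal (U'.presheaf.stalk x) := by
      algebraize [(f.stalkMap x).hom]
      have : IsLocalHom (algebraMap (U.presheaf.stalk (f x)) (U'.presheaf.stalk x)) :=
        inferInstanceAs <| IsLocalHom (f.stalkMap x).hom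
      have : Algebra.EssFiniteType (U.presheaf.stalk (f x)) (U'.presheaf.stalk x) := by
        rw [← RingHom.essFiniteType_algebraMap, RingHom.algebraMap_toAlgebra]
        exact LocallyOfFiniteType.stalkMap f x
      have : Algebra.FormallyUnramified (U.presheaf.stalk (f x)) (U'.presheaf.stalk x) := by
        rw [← RingHom.formallyUnramified_algebraMap, RingHom.algebraMap_toAlgebra]
        exact FormallyUnramified.stalkMap f x
      exact Algebra.FormallyUnramified.map_maximalIdeal
    refine ((IsLocalRing.local_hom_TFAE _).out 2 0).1 (show (maximalIdeal (U'.presheaf.stalk x)).map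
      (g'.comp (algebraMap (U'.presheaf.stalk x) R)) ≤ maximalIdeal T from ?_)
    rw [← hm, Ideal.map_map, hg'']
    exact ((IsLocalRing.local_hom_TFAE φ).out 0 2).1 hφ

variable {S : Scheme.{u}}

/-- The henselization at a point does not depend on the elementary neighbourhood. -/
theorem isHenselization_of_elem {X : Sp S} {x : Points X} {U U' : Over S} {a : (yon S).obj U ⟶ X}
    {a' : (yon S).obj U' ⟶ X} (g : U' ⟶ U) (u' : U'.left) (hg : (yon S).map g ≫ a = a')
    (ha : IsElemEtaleNbhd a (g.left u') x) (ha' : IsElemEtaleNbhd a' u' x) :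
    Etale g.left ∧ Function.Surjective (g.left.residueFieldMap u').hom := by
  have hget : Etale g.left := etale_of_comp_chart ha'.etale ha.etale g hg
  refine ⟨hget, ?_⟩
  let τ₀ : Spec (U'.left.residueField u') ⟶ Spec (U.left.residueField (g.left u')) :=
    Spec.map (g.left.residueFieldMap u')
  have hτ₀ : τ₀ ≫ U.left.fromSpecResidueField (g.left u') = U'.left.fromSpecResidueField u' ≫ g.left :=
    Scheme.Hom.SpecMap_residueFieldMap_fromSpecResidueField g.left u'
  let τ : resPt U' u' ⟶ resPt U (g.left u') := Over.homMk τ₀ (by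
    show τ₀ ≫ U.left.fromSpecResidueField (g.left u') ≫ U.hom = U'.left.fromSpecResidueField u' ≫ U'.hom
    rw [reassoc_of% hτ₀, Over.w g])
  have hm := ha'.mono
  rw [FieldPt.toHom_ofPt] at hm
  have e : (yon S).map (resIncl U' u') ≫ a' = (yon S).map τ ≫ (yon S).map (resIncl U (g.left u')) ≫ a := by
    rw [← hg, ← Category.assoc, ← Category.assoc, ← Functor.map_comp, ← Functor.map_comp,
      show resIncl U' u' ≫ g = τ ≫ resIncl U (g.left u') from Over.OverMorphism.ext hτ₀.symm]
  have : Mono ((yon S).map (resIncl U' u') ≫ a') := hm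
  have : Mono ((yon S).map τ) := mono_of_mono_fac e.symm
  have : Mono τ := (yon S).mono_of_mono_map this
  have : Mono τ₀ := (inferInstance : Mono ((Over.forget S).map τ))
  have : Flat τ₀ := BddFibLib.flat_to_field _
  have : QuasiCompact τ₀ := quasiCompact_of_field (K := U'.left.residueField u') τ₀
  have : Surjective τ₀ := ⟨fun y => ⟨IsLocalRing.closedPoint (U'.left.residueField u'), Subsingleton.elim _ _⟩⟩
  have : IsIso τ₀ := Flat.isIso_of_surjective_of_mono τ₀
  have : IsIso (g.left.residueFieldMap u') := by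
    have : IsIso (Scheme.Spec.map (g.left.residueFieldMap u').op) := this
    have := isIso_of_reflects_iso (g.left.residueFieldMap u').op Scheme.Spec
    exact (isIso_op_iff _).1 this
  exact (ConcreteCategory.bijective_of_isIso (g.left.residueFieldMap u')).2

end Groth.Agent.AlgSpFin
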