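import Groth.Agent.AlgSpFin.ResidualPoint
import Groth.Agent.AlgSpFin.FieldSpace
import Groth.Agent.AlgSpFin.EtaleFibres
import Groth.Agent.AlgSpPts.Basic
import Groth.Agent.S9734
import Groth.Agent.Weighting.Geom

/-!
Injectivity after etale base change gives universal injectivity.
-/

set_option autoImplicit false
set_option backward.isDefEq.respectTransparency.types false

universe u

open CategoryTheory CategoryTheory.Limits AlgebraicGeometry Opposite AlgSp TopologicalSpace

namespace Groth.Agent.AlgSpFin

open Groth.Agent.AlgSpLib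

variable {S : Scheme.{u}}

/-- Geometric points lift along etale surjections. -/
theorem exists_lift_geomPoint {X : Sp S} {U : Over S} (π : (yon S).obj U ⟶ X) (hπ : RepWith @Etale π)
    (hs : RepWith @Surjective π) {K : Type u} [Field K] [IsAlgClosed K] {str : Spec (CommRingCat.of K) ⟶ S}
    (a : (yon S).obj (Over.mk str) ⟶ X) : ∃ α : Over.mk str ⟶ U, (yon S).map α ≫ π = a := by
  obtain ⟨W, p, q, sq⟩ := exists_isPullback hπ.1 a
  have : Etale q.left := prop_snd sq hπ
  have : Surjective q.left := prop_snd sq hs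
  let qK : W.left ⟶ Spec (CommRingCat.of K) := q.left
  have : Etale qK := ‹Etale q.left›
  obtain ⟨w, -⟩ := q.left.surjective (IsLocalRing.closedPoint K : PrimeSpectrum K)
  obtain ⟨σ, hσ, -⟩ := exists_section_of_etale qK w
  let s : Over.mk str ⟶ W := Over.homMk σ (by
    show σ ≫ W.hom = str
    rw [← Over.w q]
    show σ ≫ qK ≫ str = str
    rw [reassoc_of% hσ])
  have hsq : s ≫ q = 𝟙 _ := Over.OverMorphism.ext hσ
  refine ⟨s ≫ p, ?_⟩
  rw [Functor.map_comp, Category.assoc, sq.w, ← Category.assoc, ← Functor.map_comp, hsq,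
    CategoryTheory.Functor.map_id, Category.id_comp]

section Core

variable {P : Sp S} (hP : IsAlgSpace P) {V : Over S} (q : P ⟶ (yon S).obj V) (hq : LocP @LocallyOfFiniteType q)
  (hinj : ∀ (V' : Over S) (g : V' ⟶ V), Etale g.left → ∀ (P' : Sp S) (fst : P' ⟶ P) (snd : P' ⟶ (yon S).obj V'),
    IsPullback fst snd q ((yon S).map g) → Function.Injective (Points.map snd))

include hP hq hinj

/-- Charts are quasi-finite over the base. -/
theorem lqf_chart_of_injective {U : Over S} {π : (yon S).obj U ⟶ P} (hπ : RepWith @Etale π) {h : U ⟶ V}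
    (hh : (yon S).map h = π ≫ q) : LocallyQuasiFinite h.left := by
  have : LocallyOfFiniteType h.left := hq π (𝟙 _) h hπ (repWith_id _ _) (by rw [Category.comp_id]; exact hh.symm)
  refine locallyQuasiFinite_iff_isDiscrete_preimage_singleton.2 fun v => ?_
  let T₀ : Over S := Over.mk (V.left.fromSpecResidueField v ≫ V.hom)
  let r₀ : T₀ ⟶ V := Over.homMk (V.left.fromSpecResidueField v) rfl
  have : IsLocallyNoetherian T₀.left := inferInstanceAs (IsLocallyNoetherian (Spec (V.left.residueField v)))
  have : JacobsonSpace T₀.left := inferInstanceAs (JacobsonSpace (Spec (V.left.residueField v)))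
  obtain ⟨W, w₁, w₂, sW⟩ : ∃ (W : Over S) (w₁ : W ⟶ U) (w₂ : W ⟶ T₀), IsPullback w₁ w₂ h r₀ :=
    ⟨_, _, _, IsPullback.of_hasPullback h r₀⟩
  have sQ := IsPullback.of_hasPullback q ((yon S).map r₀)
  have hQ := isAlgSpace_of_isPullback sQ hP (IsAlgSpace.yon_obj T₀) (IsAlgSpace.yon_obj V)
  have hp : LocP @LocallyOfFiniteType (pullback.snd q ((yon S).map r₀)) :=
    locP_baseChange hP (IsAlgSpace.yon_obj V) (IsAlgSpace.yon_obj T₀) sQ hq
  have sY := yon_isPullback sW
  let m := sQ.lift ((yon S).map w₁ ≫ π) ((yon S).map w₂) (by rw [Category.assoc, ← hh, sY.w])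
  have sm : IsPullback ((yon S).map w₁) m π (pullback.fst q ((yon S).map r₀)) :=
    (IsPullback.of_right (h₂₁ := π) (h₂₂ := q) (by rw [sQ.lift_snd]; exact hh ▸ sY.flip) (sQ.lift_fst _ _ _)
      sQ.flip).flip
  have hm : RepWith @Etale m := repWith_baseChange sm hπ
  have : Mono ((yon S).map r₀) := by
    have : Mono r₀.left := (inferInstance : Mono (V.left.fromSpecResidueField v))
    have : Mono r₀ := (Over.forget S).mono_of_mono_map this
    infer_instance
  have : Mono (pullback.fst q ((yon S).map r₀)) :=
    MorphismProperty.of_isPullback (P := MorphismProperty.monomorphisms (Sp S)) sQ.flip ‹Mono ((yon S).map r₀)›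
  have hsub : Subsingleton (Points (pullback q ((yon S).map r₀))) := ⟨fun z z' => by
    refine injective_map_of_mono (pullback.fst q ((yon S).map r₀))
      (hinj V (𝟙 V) inferInstance P (𝟙 P) q (IsPullback.of_horiz_isIso ⟨by simp⟩) ?_)
    have : Subsingleton T₀.left := inferInstanceAs (Subsingleton (PrimeSpectrum (V.left.residueField v)))
    have : Subsingleton (Points ((yon S).obj T₀)) := (Points.schemeEquiv T₀).symm.injective.subsingleton
    rw [← Points.map_comp, ← Points.map_comp, pullback.condition, Points.map_comp, Points.map_comp,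
      Subsingleton.elim (Points.map (pullback.snd q ((yon S).map r₀)) z)
        (Points.map (pullback.snd q ((yon S).map r₀)) z')]⟩
  have hdisc : DiscreteTopology W.left := discreteTopology_iff_isOpen_singleton.2 fun w =>
    (isOpen_point_iff (T₀ := T₀) hQ _ hp hm w).1 (by
      convert isOpen_univ
      exact Set.eq_univ_of_forall fun _ => Subsingleton.elim _ _)
  have sL := left_isPullback sW
  let e : W.left ≅ h.left.fiber v := sL.isoPullback
  have : DiscreteTopology ↥(h.left.fiber v) := (Scheme.homeoOfIso e).discreteTopology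
  have := isDiscrete_univ_iff.2 ‹DiscreteTopology ↥(h.left.fiber v)›
  have := this.image (h.left.fiberι v).isEmbedding.toIsInducing
  rwa [Set.image_univ, Scheme.Hom.range_fiberι] at this

/-- Geometric points of the source over the same geometric point agree. -/
theorem eq_of_comp_eq_of_injective {K : Type u} [Field K] [IsAlgClosed K] {str : Spec (CommRingCat.of K) ⟶ S}
    (a b : (yon S).obj (Over.mk str) ⟶ P) (hab : a ≫ q = b ≫ q) : a = b := by
  obtain ⟨U, π, hπ, hπs⟩ := hP.atlas
  obtain ⟨h, hh⟩ := (yon S).map_surjective (π ≫ q)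
  have := lqf_chart_of_injective hP q hq hinj hπ hh
  obtain ⟨β, hβ⟩ := exists_lift_geomPoint π hπ hπs b
  let β₀ : Spec (CommRingCat.of K) ⟶ U.left := β.left
  let u := β₀ (IsLocalRing.closedPoint K)
  let ε : U.left.residueField u ⟶ CommRingCat.of K := Scheme.descResidueField (Scheme.stalkClosedPointTo β₀)
  have hε : Spec.map ε ≫ U.left.fromSpecResidueField u = β₀ :=
    Scheme.descResidueField_stalkClosedPointTo_fromSpecResidueField K _ β₀
  let s := h.left u
  let : Algebra (V.left.residueField s) (U.left.residueField u) := (h.left.residueFieldMap u).hom.toAlgebra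
  have : Module.Finite (V.left.residueField s) (U.left.residueField u) :=
    Groth.Agent.Weighting.residueFieldMap_finite h.left u
  let L := separableClosure (V.left.residueField s) (U.left.residueField u)
  obtain ⟨V₁, g₁, v₁, hv₁, hg₁, he₁⟩ := S9734.result V.left s L
  obtain ⟨e⟩ := he₁
  let V' : Over S := Over.mk (g₁ ≫ V.hom)
  let g : V' ⟶ V := Over.homMk g₁ rfl
  let : Algebra (V.left.residueField s) (V₁.residueField v₁) :=
    ((V.left.residueFieldCongr hv₁).inv ≫ g₁.residueFieldMap v₁).hom.toAlgebra
  let emb : V₁.residueField v₁ ⟶ CommRingCat.of K :=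
    CommRingCat.ofHom ((ε.hom.comp (algebraMap L (U.left.residueField u))).comp e.symm.toAlgHom.toRingHom)
  have hemb : (V.left.residueFieldCongr hv₁).inv ≫ g₁.residueFieldMap v₁ ≫ emb = h.left.residueFieldMap u ≫ ε := by
    ext x
    show ε.hom (algebraMap L (U.left.residueField u) (e.symm (algebraMap (V.left.residueField s) _ x))) = _
    rw [e.symm.commutes, ← IsScalarTower.algebraMap_apply]
    rfl
  let c₁ : Spec (CommRingCat.of K) ⟶ V₁ := Spec.map emb ≫ V₁.fromSpecResidueField v₁
  have hc₁ : c₁ ≫ g₁ = β₀ ≫ h.left := by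
    have e₁ : V.left.fromSpecResidueField (g₁ v₁) =
        Spec.map (V.left.residueFieldCongr hv₁).inv ≫ V.left.fromSpecResidueField s :=
      (V.left.residueFieldCongr_fromSpecResidueField hv₁.symm).symm
    calc c₁ ≫ g₁ = Spec.map emb ≫ Spec.map (g₁.residueFieldMap v₁) ≫ V.left.fromSpecResidueField (g₁ v₁) := by
          rw [Scheme.Hom.SpecMap_residueFieldMap_fromSpecResidueField]
          exact Category.assoc _ _ _
      _ = Spec.map ((V.left.residueFieldCongr hv₁).inv ≫ g₁.residueFieldMap v₁ ≫ emb) ≫
          V.left.fromSpecResidueField s := by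
          rw [e₁, Spec.map_comp, Spec.map_comp]
          simp only [Category.assoc]
      _ = Spec.map ε ≫ Spec.map (h.left.residueFieldMap u) ≫ V.left.fromSpecResidueField s := by
          rw [hemb, Spec.map_comp, Category.assoc]
      _ = β₀ ≫ h.left := by
          rw [Scheme.Hom.SpecMap_residueFieldMap_fromSpecResidueField, ← Category.assoc, hε]
  let c : Over.mk str ⟶ V' := Over.homMk c₁ (by
    show c₁ ≫ g₁ ≫ V.hom = str
    rw [← Category.assoc, hc₁, Category.assoc, Over.w h]
    exact Over.w β)
  have hc : c ≫ g = β ≫ h := Over.OverMorphism.ext hc₁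
  have hb' : b ≫ q = (yon S).map c ≫ (yon S).map g := by
    rw [← Functor.map_comp, hc, Functor.map_comp, hh, ← Category.assoc, hβ]
  have sq := IsPullback.of_hasPullback q ((yon S).map g)
  let a' := sq.lift a ((yon S).map c) (hab.trans hb')
  let b' := sq.lift b ((yon S).map c) hb'
  have hpts : Points.mk (ptOfHom a') = Points.mk (ptOfHom b') := by
    apply hinj V' g hg₁ _ _ _ sq
    have hsnd : a' ≫ pullback.snd q ((yon S).map g) = b' ≫ pullback.snd q ((yon S).map g) :=
      (sq.lift_snd _ _ _).trans (sq.lift_snd _ _ _).symm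
    let t : (Over.mk str).left := (IsLocalRing.closedPoint K : PrimeSpectrum K)
    rw [← Points.ofPt_toHom (ptOfHom a') t, ← Points.ofPt_toHom (ptOfHom b') t, ptOfHom_toHom, ptOfHom_toHom]
    exact (Points.map_ofPt a' _ t).trans ((congrArg (fun k => Points.ofPt k t) hsnd).trans (Points.map_ofPt b' _ t).symm)
  rw [Points.mk_eq_mk_iff, rel_iff_toHom] at hpts
  obtain ⟨Ω, _, w, i, j, hij⟩ := hpts
  rw [ptOfHom_toHom, ptOfHom_toHom] at hij
  let i' : Over.mk w ⟶ Over.mk str := i
  let j' : Over.mk w ⟶ Over.mk str := j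
  have hij' : (yon S).map i' ≫ a' = (yon S).map j' ≫ b' := hij
  have h₁ : (yon S).map i' ≫ a = (yon S).map j' ≫ b := by
    have := congrArg (· ≫ pullback.fst q ((yon S).map g)) hij'
    simpa [a', b', Category.assoc] using this
  have h₂ : i' ≫ c = j' ≫ c := (yon S).map_injective (by
    have := congrArg (· ≫ pullback.snd q ((yon S).map g)) hij'
    simpa [a', b', Category.assoc] using this)
  let φi : CommRingCat.of K ⟶ CommRingCat.of Ω := Spec.preimage (show Spec (CommRingCat.of Ω) ⟶ Spec (CommRingCat.of K) from i'.left)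
  let φj : CommRingCat.of K ⟶ CommRingCat.of Ω := Spec.preimage (show Spec (CommRingCat.of Ω) ⟶ Spec (CommRingCat.of K) from j'.left)
  have h₃ : emb ≫ φi = emb ≫ φj := by
    apply Spec.map_injective
    rw [← cancel_mono (V₁.fromSpecResidueField v₁), Spec.map_comp, Spec.map_comp, Category.assoc, Category.assoc,
      Spec.map_preimage, Spec.map_preimage]
    exact congrArg CommaMorphism.left h₂
  have h₄ : ε ≫ φi = ε ≫ φj := by
    apply CommRingCat.hom_ext
    refine IsPurelyInseparable.injective_comp_algebraMap L (U.left.residueField u) Ω ?_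
    apply RingHom.ext
    intro l
    show φi.hom (ε.hom (algebraMap L _ l)) = φj.hom (ε.hom (algebraMap L _ l))
    have := congrArg (fun k => k.hom (e l)) h₃
    change φi.hom (ε.hom (algebraMap L _ (e.symm (e l)))) = φj.hom (ε.hom (algebraMap L _ (e.symm (e l)))) at this
    rwa [e.symm_apply_apply] at this
  have h₅ : i' ≫ β = j' ≫ β := Over.OverMorphism.ext (by
    show i'.left ≫ β₀ = j'.left ≫ β₀
    have hi' : Spec.map φi = i'.left := Spec.map_preimage _
    have hj' : Spec.map φj = j'.left := Spec.map_preimage _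
    rw [← hε, ← hi', ← hj', ← Category.assoc, ← Category.assoc, ← Spec.map_comp, ← Spec.map_comp, h₄])
  have : Nonempty (Over.mk w).left := inferInstanceAs (Nonempty (PrimeSpectrum Ω))
  refine AlgSpPts.eq_of_comp_eq hP i' a b ?_
  rw [h₁, ← hβ, ← Category.assoc, ← Category.assoc, ← Functor.map_comp, ← Functor.map_comp, h₅]

end Core

/-- Injectivity after every etale base change gives universal injectivity. -/
theorem isUnivInjectiveMor_of_etale_injective {X Y : Space S} (f : X ⟶ Y)
    (hft : LocP @LocallyOfFiniteType f.hom)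
    (hinj : ∀ (V : Space S) (g : V ⟶ Y), IsEtaleMor g.hom →
      ∀ (P : Sp S) (fst : P ⟶ X.obj) (snd : P ⟶ V.obj), IsPullback fst snd f.hom g.hom →
        Function.Injective (Points.map snd)) :
    IsUnivInjectiveMor f.hom := by
  refine AlgSpPts.isUnivInjectiveMor_of_surjective_diagonal fun z => ?_
  obtain ⟨p, hp⟩ := exists_ofPt z
  let K := AlgebraicClosure p.K
  let str : Spec (CommRingCat.of K) ⟶ S := Spec.map (CommRingCat.ofHom (algebraMap p.K K)) ≫ p.str
  let ι : Over.mk str ⟶ p.pt := Over.homMk (Spec.map (CommRingCat.ofHom (algebraMap p.K K))) rfl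
  let a := (yon S).map ι ≫ p.toHom ≫ pullback.fst f.hom f.hom
  let b := (yon S).map ι ≫ p.toHom ≫ pullback.snd f.hom f.hom
  obtain ⟨V, b₀, hb₀, hb₀s⟩ := Y.property.atlas
  obtain ⟨c, hc⟩ := exists_lift_geomPoint b₀ hb₀ hb₀s (a ≫ f.hom)
  have sq := IsPullback.of_hasPullback f.hom b₀
  have hab : a ≫ f.hom = b ≫ f.hom := by simp [a, b, pullback.condition]
  have key := eq_of_comp_eq_of_injective (P := pullback f.hom b₀)
    (isAlgSpace_of_isPullback sq X.property (IsAlgSpace.yon_obj V) Y.property) (pullback.snd f.hom b₀)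
    (locP_baseChange X.property Y.property (IsAlgSpace.yon_obj V) sq hft)
    (fun V' g hg P' fst snd sq' => hinj ⟨(yon S).obj V', IsAlgSpace.yon_obj V'⟩
      (ObjectProperty.homMk ((yon S).map g ≫ b₀))
      (fun {U'} φ hφ => repWith_comp hφ (repWith_yon_comp g hg hb₀)) P' (fst ≫ pullback.fst f.hom b₀) snd
      (sq'.paste_horiz sq))
    (sq.lift a ((yon S).map c) hc.symm) (sq.lift b ((yon S).map c) (hab.symm.trans hc.symm)) (by simp)
  have e : a = b := by
    have := congrArg (· ≫ pullback.fst f.hom b₀) key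
    simpa using this
  refine ⟨Points.ofPt a (IsLocalRing.closedPoint K : PrimeSpectrum K), ?_⟩
  rw [Points.map_ofPt, ← hp (ι.left (IsLocalRing.closedPoint K : PrimeSpectrum K)), ← ofPt_comp]
  congr 1
  apply pullback.hom_ext
  · simp [a]
  · rw [Category.assoc, pullback.diagonal_snd, Category.comp_id, e, Category.assoc]

end Groth.Agent.AlgSpFin
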