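import Groth.Agent.AlgSpLib.Points
import Groth.Agent.AlgSpFin.InjEtaleBase
import Groth.Prelude.Def_AlgSpDec
import Groth.Prelude.Def_AlgSp4
import Mathlib.FieldTheory.IsAlgClosed.Classification

/-!
Lifting to points with values in a large algebraically closed field.
-/

set_option autoImplicit false
set_option backward.isDefEq.respectTransparency.types false

universe u

open CategoryTheory CategoryTheory.Limits AlgebraicGeometry Opposite AlgSp Cardinal

namespace Groth.Agent.AlgSpFin

open Groth.Agent.AlgSpLib

theorem exists_extend {E L K : Type u} [Field E] [Field L] [Field K] [IsAlgClosed K] [Algebra E L]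
    [Algebra.IsAlgebraic E L] (φ : E →+* K) : ∃ g : L →+* K, g.comp (algebraMap E L) = φ := by
  let _ := φ.toAlgebra
  exact ⟨(IsAlgClosed.lift : L →ₐ[E] K).toRingHom, (IsAlgClosed.lift : L →ₐ[E] K).comp_algebraMap⟩

theorem exists_ringHom_of_card {F L K M : Type u} [Field F] [Field L] [Field K] [Field M] [IsAlgClosed K]
    [Algebra F L] [Algebra F K] [Algebra M L] [Algebra.IsAlgebraic M L] (h : #M < #K) : Nonempty (L →ₐ[F] K) := by
  rcases le_or_gt #K ℵ₀ with hK | hK
  · have : Finite M := Cardinal.lt_aleph0_iff_finite.1 (h.trans_le hK)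
    obtain ⟨p, _⟩ := CharP.exists M
    have hp : p.Prime := (CharP.char_is_prime_or_zero M p).resolve_right fun e => by
      subst e
      have := CharP.charP_to_charZero M
      exact not_finite M
    have : Fact p.Prime := ⟨hp⟩
    have : CharP L p := charP_of_injective_algebraMap (algebraMap M L).injective p
    have : CharP F p := (RingHom.charP_iff (algebraMap F L) (algebraMap F L).injective p).2 this
    let _ := ZMod.algebra M p
    let _ := ZMod.algebra L p
    let _ := ZMod.algebra F p
    have : IsScalarTower (ZMod p) M L := IsScalarTower.of_algebraMap_eq' (Subsingleton.elim _ _)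
    have : IsScalarTower (ZMod p) F L := IsScalarTower.of_algebraMap_eq' (Subsingleton.elim _ _)
    have : Algebra.IsAlgebraic (ZMod p) M := Algebra.IsAlgebraic.of_finite _ _
    have : Algebra.IsAlgebraic (ZMod p) L := Algebra.IsAlgebraic.trans (ZMod p) M L
    have : Algebra.IsAlgebraic F L := Algebra.IsAlgebraic.tower_top (K := ZMod p) (L := F) (A := L)
    exact ⟨IsAlgClosed.lift⟩
  · have hL : #L < #K := (Algebra.IsAlgebraic.cardinalMk_le_max M L).trans_lt (max_lt h hK)
    obtain ⟨s, hs⟩ := exists_isTranscendenceBasis F L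
    obtain ⟨t, ht⟩ := exists_isTranscendenceBasis F K
    have hF : #F < #K := (Cardinal.mk_le_of_injective (algebraMap F L).injective).trans_lt hL
    have hst : #s ≤ #t := by
      by_contra hc
      have h' : #t < #K := (lt_of_not_ge hc).trans ((Cardinal.mk_set_le s).trans_lt hL)
      exact (IsAlgClosed.cardinal_le_max_transcendence_basis' _ ht).not_gt (max_lt (max_lt hF h') hK)
    obtain ⟨e⟩ := Cardinal.le_def _ _ |>.1 hst
    let E := IntermediateField.adjoin F (Set.range ((↑) : s → L))
    let w : s → K := fun i => (e i : K)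
    have hw : AlgebraicIndependent F w := ht.1.comp e e.injective
    let φ : E →ₐ[F] K := ((IntermediateField.adjoin F (Set.range w)).val.comp hw.aevalEquivField.toAlgHom).comp
      hs.1.aevalEquivField.symm.toAlgHom
    have : Algebra.IsAlgebraic E L := hs.isAlgebraic_field
    obtain ⟨g, hg⟩ := exists_extend (E := E) (L := L) φ.toRingHom
    exact ⟨{ g with commutes' := fun x => (RingHom.congr_fun hg (algebraMap F E x)).trans (φ.commutes x) }⟩

variable {S : Scheme.{u}}

theorem exists_lift_large {X Y : Space S} (f : X ⟶ Y)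
    {U : Over S} (a : (yon S).obj U ⟶ X.obj) (has : RepWith @Surjective a)
    (ybar : FieldPt Y.obj) (hy : ybar.IsGeometric)
    (hk : ∀ u : ↥U.left, Cardinal.mk ↥(U.left.residueField u) < Cardinal.mk ybar.K)
    (x : Points X.obj) (hx : Points.map f.hom x = Points.mk ybar) :
    ∃ xbar : (yon S).obj ybar.pt ⟶ X.obj, xbar ≫ f.hom = ybar.toHom ∧
      Points.ofPt xbar (IsLocalRing.closedPoint ybar.K) = x := by
  have : IsAlgClosed ybar.K := hy
  obtain ⟨V, φ, hφ, hφs⟩ := Y.property.atlas
  obtain ⟨β, hβ⟩ := exists_lift_geomPoint φ hφ hφs ybar.toHom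
  obtain ⟨u, rfl⟩ := surjective_ofPt has x
  obtain ⟨W, p, q, sW⟩ := exists_isPullback (Y.property.representable_from_yon (a ≫ f.hom)) φ
  let c : ybar.pt.left := (IsLocalRing.closedPoint ybar.K : PrimeSpectrum ybar.K)
  have e : Points.ofPt (a ≫ f.hom) u = Points.ofPt φ (β.left c) := by
    rw [← Points.map_ofPt, hx, ← ofPt_comp, hβ, Points.ofPt_toHom]
  obtain ⟨w, hwp, hwq⟩ := (ofPt_eq_iff sW u (β.left c)).1 e
  have : Etale p.left := prop_snd sW.flip hφ
  let L := W.left.residueField w
  let F := V.left.residueField (q.left w)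
  let βl : Spec (CommRingCat.of ybar.K) ⟶ V.left := β.left
  obtain ⟨⟨v, i⟩, hvi⟩ := (Scheme.SpecToEquivOfField ybar.K V.left).symm.surjective βl
  have hv : q.left w = v := by
    rw [hwq]
    show βl c = v
    rw [← hvi]
    exact V.left.fromSpecResidueField_apply v _
  subst hv
  let _ : Algebra F L := (q.left.residueFieldMap w).hom.toAlgebra
  let _ : Algebra F ybar.K := i.hom.toAlgebra
  let _ : Algebra (U.left.residueField (p.left w)) L := (p.left.residueFieldMap w).hom.toAlgebra
  have : Algebra.IsSeparable (U.left.residueField (p.left w)) L := inferInstance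
  obtain ⟨b⟩ := exists_ringHom_of_card (F := F) (L := L) (K := ybar.K) (M := U.left.residueField (p.left w))
    (hk (p.left w))
  let g : Spec (CommRingCat.of ybar.K) ⟶ W.left :=
    Spec.map (CommRingCat.ofHom b.toRingHom) ≫ W.left.fromSpecResidueField w
  have hg : g ≫ q.left = βl := by
    rw [← hvi, Category.assoc, ← Scheme.Hom.SpecMap_residueFieldMap_fromSpecResidueField, ← Category.assoc,
      ← Spec.map_comp]
    congr 2
    exact CommRingCat.hom_ext b.comp_algebraMap
  let γ : ybar.pt ⟶ W := Over.homMk g (by
    show g ≫ W.hom = ybar.str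
    rw [← Over.w q, ← Category.assoc, hg]
    exact Over.w β)
  have hγ : γ ≫ q = β := Over.OverMorphism.ext hg
  refine ⟨(yon S).map (γ ≫ p) ≫ a, ?_, ?_⟩
  · rw [Category.assoc, Functor.map_comp, Category.assoc, sW.w, ← Category.assoc, ← Functor.map_comp, hγ, hβ]
  · rw [ofPt_comp]
    refine congrArg _ ?_
    show p.left (g c) = u
    rw [← hwp]
    exact congrArg (fun z => p.left z) (W.left.fromSpecResidueField_apply w _)

end Groth.Agent.AlgSpFin
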