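import Groth.Agent.AlgSpLib.Points
import Groth.Agent.AlgSpPts.Basic
import Mathlib.LinearAlgebra.TensorProduct.Finiteness

/-!
Bounded geometric fibres of affine etale charts of locally separated spaces.
-/

set_option autoImplicit false
set_option backward.isDefEq.respectTransparency.types false

universe u

open CategoryTheory CategoryTheory.Limits AlgebraicGeometry Opposite AlgSp TensorProduct

namespace Groth.Agent.AlgSpFin

open Groth.Agent.AlgSpLib

variable {S : Scheme.{u}}

/-- The pair of legs of a fibre square of a map from a scheme, over the base. -/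
theorem isImmersion_prodLift {X : Sp S} (hX : IsLocallySeparatedSp X) {U R : Over S} {a : (yon S).obj U ⟶ X}
    {s t : R ⟶ U} (sq : IsPullback ((yon S).map s) ((yon S).map t) a a) :
    IsImmersion (pullback.lift s.left t.left ((Over.w s).trans (Over.w t).symm) :
      R.left ⟶ pullback U.hom U.hom) := by
  let fU : U ⟶ Over.mk (𝟙 S) := Over.mkIdTerminal.from U
  obtain ⟨P, π₁, π₂, sP⟩ : ∃ (P : Over S) (π₁ : P ⟶ U) (π₂ : P ⟶ U), IsPullback π₁ π₂ fU fU :=
    ⟨_, _, _, IsPullback.of_hasPullback fU fU⟩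
  obtain ⟨l, hl₁, hl₂⟩ : ∃ l : R ⟶ P, l ≫ π₁ = s ∧ l ≫ π₂ = t :=
    ⟨sP.lift s t (Over.mkIdTerminal.hom_ext _ _), sP.lift_fst _ _ _, sP.lift_snd _ _ _⟩
  let g : (yon S).obj P ⟶ X ⨯ X := prod.lift ((yon S).map π₁ ≫ a) ((yon S).map π₂ ≫ a)
  have sY := yon_isPullback sP
  have w : ((yon S).map s ≫ a) ≫ Limits.diag X = (yon S).map l ≫ g := by
    apply Limits.prod.hom_ext
    · rw [Category.assoc, Category.assoc, Category.assoc, Limits.prod.lift_fst, Limits.prod.lift_fst,
        Category.comp_id, ← Category.assoc, ← Functor.map_comp, hl₁]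
    · rw [Category.assoc, Category.assoc, Category.assoc, Limits.prod.lift_snd, Limits.prod.lift_snd,
        Category.comp_id, ← Category.assoc _ _ a, ← Functor.map_comp, hl₂]
      exact sq.w
  have hc : ∀ c : PullbackCone (Limits.diag X) g, c.fst = (c.snd ≫ (yon S).map π₁) ≫ a ∧
      c.fst = (c.snd ≫ (yon S).map π₂) ≫ a := fun c => by
    have c₁ := congrArg (· ≫ prod.fst) c.condition
    have c₂ := congrArg (· ≫ prod.snd) c.condition
    simp only [Category.assoc, Limits.prod.lift_fst, Limits.prod.lift_snd, Category.comp_id, g] at c₁ c₂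
    exact ⟨by rw [Category.assoc]; exact c₁, by rw [Category.assoc]; exact c₂⟩
  have sD : IsPullback ((yon S).map s ≫ a) ((yon S).map l) (Limits.diag X) g := by
    refine IsPullback.of_isLimit' ⟨w⟩ (PullbackCone.IsLimit.mk w
      (fun c => sq.lift (c.snd ≫ (yon S).map π₁) (c.snd ≫ (yon S).map π₂) ((hc c).1.symm.trans (hc c).2))
      (fun c => ?_) (fun c => ?_) (fun c k _ hk => sq.hom_ext ?_ ?_))
    · rw [← Category.assoc, sq.lift_fst]; exact (hc c).1.symm
    · refine sY.hom_ext ?_ ?_
      · rw [Category.assoc, ← Functor.map_comp, hl₁, sq.lift_fst]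
      · rw [Category.assoc, ← Functor.map_comp, hl₂, sq.lift_snd]
    · rw [sq.lift_fst, ← hk, Category.assoc, ← Functor.map_comp, hl₁]
    · rw [sq.lift_snd, ← hk, Category.assoc, ← Functor.map_comp, hl₂]
  have hi : IsImmersion l.left := hX.2 g _ l sD
  have sL := left_isPullback sP
  have sS : IsPullback (pullback.fst U.hom U.hom) (pullback.snd U.hom U.hom) fU.left fU.left := by
    rw [show fU.left = U.hom from (Category.comp_id _).symm.trans (Over.w fU)]
    exact IsPullback.of_hasPullback _ _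
  have : (pullback.lift s.left t.left ((Over.w s).trans (Over.w t).symm) : R.left ⟶ pullback U.hom U.hom) =
      l.left ≫ (sL.isoIsPullback _ _ sS).hom := by
    apply pullback.hom_ext
    · rw [pullback.lift_fst, Category.assoc, sL.isoIsPullback_hom_fst, ← Over.comp_left, hl₁]
    · rw [pullback.lift_snd, Category.assoc, sL.isoIsPullback_hom_snd, ← Over.comp_left, hl₂]
  rw [this]
  infer_instance

/-- Vectors that pair to zero off the diagonal and not on it are few. -/
theorem card_le_of_pairing {K : Type u} [Field K] {ι : Type*} [Fintype ι] {κ : Type*} [Fintype κ]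
    (v w : ι → κ → K) (h0 : ∀ i j, i ≠ j → ∑ p, v i p * w j p = 0) (h1 : ∀ i, ∑ p, v i p * w i p ≠ 0) :
    Fintype.card ι ≤ Fintype.card κ := by
  classical
  have hli : LinearIndependent K v := Fintype.linearIndependent_iff.2 fun c hc j => by
    have hp : ∑ p, (∑ i, c i • v i) p * w j p = 0 := by rw [hc]; simp
    simp only [Finset.sum_apply, Pi.smul_apply, smul_eq_mul, Finset.sum_mul] at hp
    rw [Finset.sum_comm, Finset.sum_eq_single j (fun i _ hi => by
      simp only [mul_assoc, ← Finset.mul_sum, h0 i j hi, mul_zero]) (by simp)] at hp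
    simp only [mul_assoc, ← Finset.mul_sum] at hp
    exact (mul_eq_zero.1 hp).resolve_right (h1 j)
  simpa using hli.fintype_card_le_finrank

/-- The integers in universe `u`, without the instances of `ULift`. -/
def IntU : Type u := ULift.{u} ℤ

instance : CommRing IntU.{u} := inferInstanceAs (CommRing (ULift.{u} ℤ))

/-- The spectrum of the integers is terminal. -/
noncomputable def isTerminalSpecIntU : IsTerminal (Spec (CommRingCat.of IntU.{u})) := specULiftZIsTerminal

/-- An affine etale chart of a locally separated space has bounded geometric fibres. -/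
theorem exists_bound_geomFibres {X : Sp S} (hX : IsLocallySeparatedSp X) {U : Over S}
    {a : (yon S).obj U ⟶ X} (ha : RepWith @Etale a) [IsAffine U.left] :
    ∃ n : ℕ, ∀ (K : Type u) [Field K] (str : Spec (CommRingCat.of K) ⟶ S) (m : ℕ)
      (p : Fin m → (Over.mk str ⟶ U)), Function.Injective p →
      (∀ i j, (yon S).map (p i) ≫ a = (yon S).map (p j) ≫ a) → m ≤ n := by
  classical
  obtain ⟨R, s, t, sR⟩ := exists_isPullback ha.1 a
  have : Etale s.left := prop_snd sR.flip ha
  have := isImmersion_prodLift hX sR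
  -- the absolute product
  let _ : Algebra IntU.{u} Γ(U.left, ⊤) := ((Int.castRingHom Γ(U.left, ⊤)).comp (ULift.ringEquiv : ULift.{u} ℤ ≃+* ℤ).toRingHom).toAlgebra
  let α := CommRingCat.ofHom (algebraMap IntU.{u} Γ(U.left, ⊤))
  let j : S ⟶ Spec (CommRingCat.of IntU.{u}) := isTerminalSpecIntU.from S
  let i₀ : pullback U.hom U.hom ⟶ pullback (U.hom ≫ j) (U.hom ≫ j) := pullback.mapDesc U.hom U.hom j
  have : IsImmersion i₀ :=
    MorphismProperty.of_isPullback (pullback_map_diagonal_isPullback U.hom U.hom j) inferInstance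
  let i₁ : pullback (U.hom ≫ j) (U.hom ≫ j) ⟶ pullback (Spec.map α) (Spec.map α) :=
    pullback.map _ _ _ _ U.left.isoSpec.hom U.left.isoSpec.hom (𝟙 _)
      (isTerminalSpecIntU.hom_ext _ _) (isTerminalSpecIntU.hom_ext _ _)
  let L : R.left ⟶ Spec (CommRingCat.of (Γ(U.left, ⊤) ⊗[IntU.{u}] Γ(U.left, ⊤))) :=
    (pullback.lift s.left t.left ((Over.w s).trans (Over.w t).symm) ≫ i₀ ≫ i₁) ≫ (pullbackSpecIso IntU.{u} Γ(U.left, ⊤) Γ(U.left, ⊤)).hom
  have hL : Topology.IsEmbedding L := by
    have : IsImmersion L := inferInstance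
    exact L.isEmbedding
  have hL₁ : L ≫ (pullbackSpecIso IntU.{u} Γ(U.left, ⊤) Γ(U.left, ⊤)).inv ≫ pullback.fst _ _ = s.left ≫ U.left.isoSpec.hom := by
    simp only [L, i₀, i₁, Category.assoc, Iso.hom_inv_id_assoc, pullback.mapDesc, pullback.map, Category.comp_id]
    erw [pullback.lift_fst, pullback.lift_fst_assoc, pullback.lift_fst_assoc]
  have hL₂ : L ≫ (pullbackSpecIso IntU.{u} Γ(U.left, ⊤) Γ(U.left, ⊤)).inv ≫ pullback.snd _ _ = t.left ≫ U.left.isoSpec.hom := by
    simp only [L, i₀, i₁, Category.assoc, Iso.hom_inv_id_assoc, pullback.mapDesc, pullback.map, Category.comp_id]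
    erw [pullback.lift_snd, pullback.lift_snd_assoc, pullback.lift_snd_assoc]
  -- the unit section
  obtain ⟨e, he₁, he₂⟩ : ∃ e : U ⟶ R, e ≫ s = 𝟙 U ∧ e ≫ t = 𝟙 U := by
    refine ⟨(yon S).preimage (sR.lift (𝟙 _) (𝟙 _) rfl), (yon S).map_injective ?_, (yon S).map_injective ?_⟩
    · rw [Functor.map_comp, Functor.map_preimage, sR.lift_fst]; exact ((yon S).map_id U).symm
    · rw [Functor.map_comp, Functor.map_preimage, sR.lift_snd]; exact ((yon S).map_id U).symm
  have he₁' : e.left ≫ s.left = 𝟙 U.left := congrArg CommaMorphism.left he₁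
  have : Etale e.left := by
    have : Etale (e.left ≫ s.left) := by rw [he₁']; infer_instance
    exact Etale.of_comp e.left s.left
  obtain ⟨W', hW', hW'e⟩ := hL.isInducing.isOpen_iff.1 e.left.isOpenMap.isOpen_range
  -- principal opens around the diagonal
  have hloc : ∀ u : U.left, ∃ f : Γ(U.left, ⊤) ⊗[IntU.{u}] Γ(U.left, ⊤), L (e.left u) ∈ PrimeSpectrum.basicOpen f ∧
      (PrimeSpectrum.basicOpen f : Set (PrimeSpectrum (Γ(U.left, ⊤) ⊗[IntU.{u}] Γ(U.left, ⊤)))) ⊆ W' := fun u => by
    obtain ⟨_, ⟨f, rfl⟩, hu, hf⟩ := PrimeSpectrum.isTopologicalBasis_basic_opens.exists_subset_of_mem_open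
      (show L (e.left u) ∈ W' from (hW'e ▸ ⟨u, rfl⟩ : e.left u ∈ L ⁻¹' W')) hW'
    exact ⟨f, hu, hf⟩
  choose f hf hfW using hloc
  obtain ⟨T, hT⟩ := isCompact_univ.elim_finite_subcover
    (fun u : U.left => {x : U.left | L (e.left x) ∈ PrimeSpectrum.basicOpen (f u)})
    (fun u => (PrimeSpectrum.basicOpen (f u)).2.preimage (L.continuous.comp e.left.continuous))
    fun u _ => Set.mem_iUnion.2 ⟨u, hf u⟩
  choose F hF using fun u : U.left => TensorProduct.exists_finset (f u)
  refine ⟨∑ u ∈ T, (F u).card, fun K _ str m p hp hrel => ?_⟩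
  let pt : Spec (CommRingCat.of K) := (IsLocalRing.closedPoint K : PrimeSpectrum K)
  obtain ⟨χ₀, hχ⟩ : ∃ χ₀ : Fin m → (Γ(U.left, ⊤) →+* K),
      ∀ k, Spec.map (CommRingCat.ofHom (χ₀ k)) = (p k).left ≫ U.left.isoSpec.hom :=
    ⟨fun k => (Spec.preimage ((p k).left ≫ U.left.isoSpec.hom)).hom, fun k => Spec.map_preimage _⟩
  have hz : ∀ k l, ∃ z : Over.mk str ⟶ R, z ≫ s = p k ∧ z ≫ t = p l := fun k l => by
    refine ⟨(yon S).preimage (sR.lift _ _ (hrel k l)), (yon S).map_injective ?_, (yon S).map_injective ?_⟩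
    · rw [Functor.map_comp, Functor.map_preimage, sR.lift_fst]
    · rw [Functor.map_comp, Functor.map_preimage, sR.lift_snd]
  choose z hz₁ hz₂ using hz
  have hval : ∀ k l u, L ((z k l).left pt) ∈ PrimeSpectrum.basicOpen (f u) ↔
      ∑ q ∈ F u, χ₀ k q.1 * χ₀ l q.2 ≠ 0 := fun k l u => by
    obtain ⟨c, hc⟩ : ∃ c : Γ(U.left, ⊤) ⊗[IntU.{u}] Γ(U.left, ⊤) →+* K,
        Spec.map (CommRingCat.ofHom c) = (z k l).left ≫ L :=
      ⟨(Spec.preimage ((z k l).left ≫ L)).hom, Spec.map_preimage _⟩
    have hc₁ : c.comp Algebra.TensorProduct.includeLeftRingHom = χ₀ k := by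
      refine congrArg CommRingCat.Hom.hom (Spec.map_injective
        (a₁ := CommRingCat.ofHom _) (a₂ := CommRingCat.ofHom _) ?_)
      rw [CommRingCat.ofHom_comp, Spec.map_comp, hc, hχ, ← pullbackSpecIso_inv_fst, Category.assoc, hL₁,
        ← Category.assoc, ← Over.comp_left, hz₁]
    have hc₂ : c.comp ((Algebra.TensorProduct.includeRight (R := IntU.{u}) (A := Γ(U.left, ⊤)) (B := Γ(U.left, ⊤))) : Γ(U.left, ⊤) →+* _) = χ₀ l := by
      refine congrArg CommRingCat.Hom.hom (Spec.map_injective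
        (a₁ := CommRingCat.ofHom _) (a₂ := CommRingCat.ofHom _) ?_)
      rw [CommRingCat.ofHom_comp, Spec.map_comp, hc, hχ, ← pullbackSpecIso_inv_snd, Category.assoc, hL₂,
        ← Category.assoc, ← Over.comp_left, hz₂]
    have hmul : ∀ q : Γ(U.left, ⊤) × Γ(U.left, ⊤), c (q.1 ⊗ₜ q.2) = χ₀ k q.1 * χ₀ l q.2 := fun q => by
      rw [← hc₁, ← hc₂, RingHom.comp_apply, RingHom.comp_apply, ← map_mul]
      simp
    rw [← Scheme.Hom.comp_apply, ← hc]
    show c (f u) ∉ IsLocalRing.maximalIdeal K ↔ _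
    rw [IsLocalRing.mem_maximalIdeal, mem_nonunits_iff, not_not, isUnit_iff_ne_zero, hF, map_sum]
    simp only [hmul]
  let u₀ : Fin m → U.left := fun k => (p k).left pt
  have hcov : ∀ k, ∃ u, u ∈ T ∧ L (e.left (u₀ k)) ∈ PrimeSpectrum.basicOpen (f u) := fun k => by
    obtain ⟨u, hu, h⟩ := Set.mem_iUnion₂.1 (hT (Set.mem_univ (u₀ k)))
    exact ⟨u, hu, h⟩
  choose cl hclT hcl using hcov
  have hdiag : ∀ k, z k k = p k ≫ e := fun k => (yon S).map_injective (sR.hom_ext
    (by rw [← Functor.map_comp, ← Functor.map_comp, hz₁, Category.assoc, he₁, Category.comp_id])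
    (by rw [← Functor.map_comp, ← Functor.map_comp, hz₂, Category.assoc, he₂, Category.comp_id]))
  have : IsOpenImmersion e.left := by
    have : Mono e.left := ⟨fun x y h => by
      have := congrArg (· ≫ s.left) h
      simpa only [Category.assoc, he₁', Category.comp_id] using this⟩
    exact IsOpenImmersion.of_flat_of_mono e.left
  have heq : ∀ k l, L ((z k l).left pt) ∈ W' → k = l := fun k l h => by
    have hr : Set.range (z k l).left ⊆ Set.range e.left := by
      rintro _ ⟨x, rfl⟩
      obtain rfl : x = pt := Subsingleton.elim (α := PrimeSpectrum K) _ _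
      exact hW'e ▸ h
    have hfac := IsOpenImmersion.lift_fac e.left (z k l).left hr
    refine hp (Over.OverMorphism.ext ?_)
    have het : e.left ≫ t.left = 𝟙 U.left := congrArg CommaMorphism.left he₂
    rw [← hz₁ k l, ← hz₂ k l, Over.comp_left, Over.comp_left, ← hfac, Category.assoc, Category.assoc, he₁', het]
  calc m = (Finset.univ : Finset (Fin m)).card := (Finset.card_fin m).symm
    _ = ∑ u ∈ T, (Finset.univ.filter fun k => cl k = u).card :=
        Finset.card_eq_sum_card_fiberwise fun k _ => hclT k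
    _ ≤ ∑ u ∈ T, (F u).card := Finset.sum_le_sum fun u _ => by
      rw [← Fintype.card_coe, ← Fintype.card_coe]
      refine card_le_of_pairing (fun k q => χ₀ k.1 q.1.1) (fun k q => χ₀ k.1 q.1.2) (fun k l hkl => ?_) fun k => ?_
      · rw [Finset.sum_coe_sort (F u) fun q => χ₀ k.1 q.1 * χ₀ l.1 q.2]
        by_contra hne
        exact hkl (Subtype.ext (heq _ _ (hfW u ((hval _ _ u).2 hne))))
      · rw [Finset.sum_coe_sort (F u) fun q => χ₀ k.1 q.1 * χ₀ k.1 q.2]
        refine (hval k.1 k.1 u).1 ?_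
        rw [hdiag, Over.comp_left, Scheme.Hom.comp_apply]
        have := hcl k.1
        rwa [(Finset.mem_filter.1 k.2).2] at this

end Groth.Agent.AlgSpFin
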