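import Groth.Agent.AlgSpFin.LocSepBound
import Groth.Agent.AlgSpFin.BoundedDecent
import Groth.Agent.AlgSpFin.DecentEtale
import Mathlib.AlgebraicGeometry.AlgClosed.Basic

/-!
Locally separated spaces are decent.
-/

set_option autoImplicit false
set_option backward.isDefEq.respectTransparency.types false

universe u

open CategoryTheory CategoryTheory.Limits AlgebraicGeometry Opposite AlgSp

namespace Groth.Agent.AlgSpFin

open Groth.Agent.AlgSpLib

variable {S : Scheme.{u}}

/-- A locally separated space is decent. -/
theorem isDecent_of_locallySeparated {X : Sp S} (hX : IsAlgSpace X) (hl : IsLocallySeparatedSp X) :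
    IsDecent X := by
  refine isDecent_of_finite_compact hX fun U V W a b fst snd sq hU hV =>
    compactSpace_of_affine_charts hX (fun U V W a b fst snd sq hU hV hb => ?_) a b fst snd sq hU
  have := hV
  obtain ⟨n, hn⟩ := exists_bound_geomFibres hl hb
  have : Etale fst.left := prop_snd sq.flip hb
  suffices Finite W.left from inferInstance
  rw [← Set.finite_univ_iff, show (Set.univ : Set W.left) = ⋃ u : U.left, fst.left ⁻¹' {u} by ext; simp]
  refine Set.finite_iUnion fun u => by_contra fun hinf => ?_
  -- many geometric points over one point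
  obtain ⟨Ω, hΩ, hΩc, ⟨φ⟩⟩ : ∃ (Ω : Type u) (_ : Field Ω) (_ : IsAlgClosed Ω),
      Nonempty (U.left.residueField u →+* Ω) :=
    ⟨AlgebraicClosure (U.left.residueField u), inferInstance, inferInstance, ⟨algebraMap _ _⟩⟩
  let k₀ : Spec (CommRingCat.of Ω) ⟶ U.left :=
    Spec.map (CommRingCat.ofHom φ) ≫ U.left.fromSpecResidueField u
  let str : Spec (CommRingCat.of Ω) ⟶ S := k₀ ≫ U.hom
  let k : Over.mk str ⟶ U := Over.homMk k₀ rfl
  have hk : ∀ y : Spec (CommRingCat.of Ω), k₀ y = u := fun y => by
    rw [show k₀ y = U.left.fromSpecResidueField u (Spec.map (CommRingCat.ofHom φ) y) from Scheme.Hom.comp_apply _ _ _]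
    exact Scheme.fromSpecResidueField_apply u _
  let π := pullback.snd fst.left k₀
  have : Etale π := MorphismProperty.pullback_snd _ _ ‹_›
  have : DiscreteTopology ↥(pullback fst.left k₀) := discreteTopology_of_etale_field (K := Ω) π
  obtain ⟨T, hT, hTn⟩ := Set.Infinite.exists_subset_card_eq hinf (n + 1)
  let w : Fin (n + 1) → W.left := fun i => (T.equivFinOfCardEq hTn).symm i
  have hw : Function.Injective w := Subtype.val_injective.comp (T.equivFinOfCardEq hTn).symm.injective
  have hwu : ∀ i, fst.left (w i) = u := fun i => hT ((T.equivFinOfCardEq hTn).symm i).2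
  let pt : Spec (CommRingCat.of Ω) := (IsLocalRing.closedPoint Ω : PrimeSpectrum Ω)
  choose z hz using fun i => Scheme.exists_preimage_of_isPullback (IsPullback.of_hasPullback fst.left k₀) (w i) pt
    ((hwu i).trans (hk pt).symm)
  let q : Fin (n + 1) → (Spec (CommRingCat.of Ω) ⟶ W.left) := fun i =>
    pointOfClosedPoint π (z i) (isClosed_discrete _) ≫ pullback.fst fst.left k₀
  have hq : ∀ i, q i ≫ fst.left = k₀ := fun i => by
    simp only [q, π, Category.assoc, pullback.condition, pointOfClosedPoint_comp_assoc]
  have hqpt : ∀ i, q i pt = w i := fun i => by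
    simp only [q, Scheme.Hom.comp_apply, pointOfClosedPoint_apply]
    exact (hz i).1
  let Q : Fin (n + 1) → (Over.mk str ⟶ W) := fun i => Over.homMk (q i) (by
    show q i ≫ W.hom = str
    rw [← Over.w fst, reassoc_of% hq i])
  have hQ : ∀ i, Q i ≫ fst = k := fun i => Over.OverMorphism.ext (hq i)
  refine (Nat.lt_succ_self n).not_ge (hn Ω str (n + 1) (fun i => Q i ≫ snd) (fun i j e => ?_) fun i j => ?_)
  · have : Q i = Q j := (yon S).map_injective (sq.hom_ext
      (by rw [← Functor.map_comp, ← Functor.map_comp, hQ, hQ])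
      (by rw [← Functor.map_comp, ← Functor.map_comp]; exact congrArg _ e))
    refine hw ?_
    rw [← hqpt i, ← hqpt j]
    exact congrArg (fun h : Over.mk str ⟶ W => h.left pt) this
  · simp only [Functor.map_comp, Category.assoc, ← sq.w]
    rw [← Category.assoc, ← Category.assoc, ← Functor.map_comp, ← Functor.map_comp, hQ, hQ]

end Groth.Agent.AlgSpFin
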