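import Groth.Agent.AlgSpFin.RelDim
import Groth.Agent.CMLocalDim.Basic
import Groth.Agent.S1344
import Groth.Agent.CohDual.SmoothEquidim
import Groth.Agent.DepthLib.RegularLocal
import Groth.Agent.AlgSpPts.NoethSp

/-!
Local dimensions along flat and smooth morphisms of spaces.
-/

set_option autoImplicit false
set_option backward.isDefEq.respectTransparency.types false

universe u

open CategoryTheory CategoryTheory.Limits AlgebraicGeometry Opposite AlgSp

namespace Groth.Agent.AlgSpFin

open Groth.Agent.AlgSpLib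

/-- Smooth morphisms are Cohen-Macaulay. -/
theorem isCMAt_of_smooth {X Y : Scheme.{u}} (h : X ⟶ Y) [Smooth h] (x : X) : MoreMor.IsCMAt h x := by
  refine ⟨AlgebraicGeometry.Flat.stalkMap h x, ?_⟩
  have : Smooth (h.fiberToSpecResidueField (h x)) := MorphismProperty.pullback_snd _ _ ‹_›
  have := CohDual.SmoothEquidim.isRegularLocalRing_stalk (k := Y.residueField (h x))
    (h.fiberToSpecResidueField (h x)) (h.asFiber x)
  exact DepthLib.isCohenMacaulayLocalRing_of_isRegularLocalRing _

variable {S : Scheme.{u}} {X Y : Space S} (f : X ⟶ Y)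

/-- A chart of a point with the values of the local dimensions. -/
theorem exists_chart_localDim (hX : IsLocNoethSp X.obj) (hY : IsLocNoethSp Y.obj)
    (x : Points X.obj) (dX dY : WithBot ℕ∞) (hx : HasAt (fun U u => FlatMor.localDim ↥U u = dX) X.obj x)
    (hy : HasAt (fun U u => FlatMor.localDim ↥U u = dY) Y.obj (Points.map f.hom x)) :
    ∃ (U V : Over S) (a : (yon S).obj U ⟶ X.obj) (b : (yon S).obj V ⟶ Y.obj) (h : U ⟶ V) (u : U.left),
      RepWith @Etale a ∧ RepWith @Etale b ∧ a ≫ f.hom = (yon S).map h ≫ b ∧ Points.ofPt a u = x ∧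
        IsLocallyNoetherian U.left ∧ IsLocallyNoetherian V.left ∧
        FlatMor.localDim U.left u = dX ∧ FlatMor.localDim V.left (h.left u) = dY := by
  obtain ⟨U, V, a, b, h, ha, has, hb, -, w⟩ := exists_chart X.property Y.property f.hom
  obtain ⟨u, rfl⟩ := surjective_ofPt has x
  rw [Points.map_ofPt, w, ofPt_comp] at hy
  exact ⟨U, V, a, b, h, u, ha, hb, w, rfl, AlgSpPts.isLocallyNoetherian_of_chart hX ha,
    AlgSpPts.isLocallyNoetherian_of_chart hY hb,
    (hasAt_iff_of_etale_invariant (fun T t => FlatMor.localDim ↥T t) (fun e _ z => localDim_of_etale e z)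
      (· = dX) ha u).1 hx,
    (hasAt_iff_of_etale_invariant (fun T t => FlatMor.localDim ↥T t) (fun e _ z => localDim_of_etale e z)
      (· = dY) hb _).1 hy⟩

/-- The dimension formula for flat morphisms of constant relative dimension. -/
theorem localDim_flat_relDim (hX : IsLocNoethSp X.obj) (hY : IsLocNoethSp Y.obj) (hf : LocP @Flat f.hom)
    (hf' : LocP @LocallyOfFiniteType f.hom) (d : ℕ)
    (hd : ∀ x : Points X.obj, HasAtMor (fun _ _ h u => FlatMor.fibreDimAt h u = (d : WithBot ℕ∞)) f.hom x)
    (x : Points X.obj) (dX dY : WithBot ℕ∞) (hx : HasAt (fun U u => FlatMor.localDim ↥U u = dX) X.obj x)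
    (hy : HasAt (fun U u => FlatMor.localDim ↥U u = dY) Y.obj (Points.map f.hom x)) :
    dX = dY + (d : WithBot ℕ∞) := by
  obtain ⟨U, V, a, b, h, u, ha, hb, w, -, _, _, rfl, rfl⟩ := exists_chart_localDim f hX hY x dX dY hx hy
  have : Flat h.left := hf a b h ha hb w
  have : LocallyOfFiniteType h.left := hf' a b h ha hb w
  have : LocallyOfFinitePresentation h.left := LocallyOfFinitePresentation.iff_locallyOfFiniteType.2 inferInstance
  exact CMLocalDim.localDim_eq h.left (fun z => AlgebraicGeometry.Flat.stalkMap h.left z) d ⊤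
    (fun z _ => (hasAtMor_fibreDim_iff hf' (· = (d : WithBot ℕ∞)) ha hb w z).1 (hd _)) u trivial

/-- The dimension formula for smooth morphisms. -/
theorem localDim_smooth (hX : IsLocNoethSp X.obj) (hY : IsLocNoethSp Y.obj) (hf : LocP @Smooth f.hom)
    (x : Points X.obj) (d dX dY : WithBot ℕ∞)
    (hd : HasAtMor (fun _ _ h u => FlatMor.fibreDimAt h u = d) f.hom x)
    (hx : HasAt (fun U u => FlatMor.localDim ↥U u = dX) X.obj x)
    (hy : HasAt (fun U u => FlatMor.localDim ↥U u = dY) Y.obj (Points.map f.hom x)) :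
    dX = dY + d := by
  obtain ⟨U, V, a, b, h, u, ha, hb, w, rfl, _, _, rfl, rfl⟩ := exists_chart_localDim f hX hY x dX dY hx hy
  have : Smooth h.left := hf a b h ha hb w
  have hlft : LocP @LocallyOfFiniteType f.hom := fun U' V' a' b' h' ha' hb' w' => by
    have : Smooth h'.left := hf a' b' h' ha' hb' w'
    infer_instance
  rw [← (hasAtMor_fibreDim_iff hlft (· = d) ha hb w u).1 hd]
  exact Groth.Agent.S1344.result h.left (fun z => isCMAt_of_smooth h.left z) u

end Groth.Agent.AlgSpFin
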