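import Groth.Agent.AlgSpFin.DimZeroField
import Groth.Agent.AlgSpFin.MorCalc

/-!
Locally quasi-finite spaces over a field.
-/

set_option autoImplicit false
set_option backward.isDefEq.respectTransparency.types false

universe u

open CategoryTheory CategoryTheory.Limits AlgebraicGeometry Opposite AlgSp TopologicalSpace

namespace Groth.Agent.AlgSpFin

open Groth.Agent.AlgSpLib

variable (k : Type u) [Field k] (X : Space (Spec (CommRingCat.of k)))
  (p : X.obj ⟶ (yon (Spec (CommRingCat.of k))).obj (Over.mk (𝟙 _)))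

/-- Locally quasi-finite over a field is locally of finite type of dimension at most zero. -/
theorem lqf_field_iff :
    LocP (@LocallyQuasiFinite ⊓ @LocallyOfFiniteType : MorphismProperty Scheme.{u}) p ↔
      LocP @LocallyOfFiniteType p ∧ AlgSp.dim X.obj ≤ 0 := by
  refine ⟨fun h => ⟨fun U V a b g ha hb w => (h a b g ha hb w).2,
    iSup_le fun U => iSup_le fun a => iSup_le fun ha => ?_⟩, fun ⟨hl, hd⟩ U V a b g ha hb w => ?_⟩
  · obtain ⟨c, hc⟩ := (yon _).map_surjective (a ≫ p)
    have : LocallyQuasiFinite c.left := (h a (𝟙 _) c ha (repWith_id _ _) (by rw [Category.comp_id, hc])).1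
    have : DiscreteTopology (Over.mk (𝟙 (Spec (CommRingCat.of k)))).left :=
      have : Subsingleton (Spec (CommRingCat.of k)) := inferInstanceAs (Subsingleton (PrimeSpectrum k))
      inferInstanceAs (DiscreteTopology (Spec (CommRingCat.of k)))
    have := discreteTopology_of_discrete_fibres c.left fun y => c.left.isDiscrete_preimage_singleton y
    exact dim_le_zero_of_discrete
  · have : LocallyOfFiniteType g.left := hl a b g ha hb w
    have : IsLocallyNoetherian (Over.mk (𝟙 (Spec (CommRingCat.of k)))).left :=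
      inferInstanceAs (IsLocallyNoetherian (Spec (CommRingCat.of k)))
    have : JacobsonSpace (Over.mk (𝟙 (Spec (CommRingCat.of k)))).left :=
      inferInstanceAs (JacobsonSpace (Spec (CommRingCat.of k)))
    obtain ⟨_, _⟩ := chart_noetherian_jacobson (T₀ := Over.mk (𝟙 (Spec (CommRingCat.of k)))) p hl ha
    have := IsLocallyArtinian.of_topologicalKrullDim_le_zero
      ((show topologicalKrullDim U.left ≤ AlgSp.dim X.obj from
        le_iSup_of_le U (le_iSup_of_le a (le_iSup_of_le ha le_rfl))).trans hd)
    exact ⟨locallyQuasiFinite_iff_isDiscrete_preimage_singleton.2 fun _ => ⟨inferInstance⟩, ‹_›⟩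

/-- Locally quasi-finite over a field is a disjoint union of finite local Artinian schemes. -/
theorem lqf_field_iff_artinian :
    LocP (@LocallyQuasiFinite ⊓ @LocallyOfFiniteType : MorphismProperty Scheme.{u}) p ↔
      ∃ (U : Over (Spec (CommRingCat.of k))) (_ : (yon (Spec (CommRingCat.of k))).obj U ≅ X.obj),
        ∀ u : ↥U.left, ∃ V : U.left.Opens, u ∈ V ∧ IsAffineOpen V ∧ IsArtinianRing ↥Γ(U.left, V) ∧
          IsLocalRing ↥Γ(U.left, V) ∧ IsFinite (V.ι ≫ U.hom) := by
  refine ⟨fun h => ?_, fun ⟨U, e, hU⟩ => ?_⟩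
  · obtain ⟨hl, hd⟩ := (lqf_field_iff k X p).1 h
    obtain ⟨U, e, -, haff⟩ := exists_scheme_of_lft_field_dim_le k X p hl hd
    obtain ⟨c, hc⟩ := (yon _).map_surjective (e.hom ≫ p)
    obtain ⟨hlq, hft⟩ := h e.hom (𝟙 _) c (repWith_iso _) (repWith_id _ _) (by rw [Category.comp_id, hc])
    have hcU : c.left = U.hom := (Category.comp_id c.left).symm.trans (Over.w c)
    rw [hcU] at hlq hft
    have : LocallyOfFiniteType U.hom := hft
    have : LocallyQuasiFinite U.hom := hlq
    have : DiscreteTopology U.left :=
      have : Subsingleton (Spec (CommRingCat.of k)) := inferInstanceAs (Subsingleton (PrimeSpectrum k))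
      discreteTopology_of_discrete_fibres U.hom fun y => U.hom.isDiscrete_preimage_singleton y
    refine ⟨U, e, fun u => ?_⟩
    let V : U.left.Opens := ⟨{u}, isOpen_discrete _⟩
    have hV : IsAffineOpen V := haff V isCompact_singleton
    have : IsAffine V.toScheme := hV
    have : Subsingleton V.toScheme := Set.subsingleton_singleton.coe_sort
    have : QuasiCompact (V.ι ≫ U.hom) := quasiCompact_of_compactSpace _
    have hfin : IsFinite (V.ι ≫ U.hom) := IsFinite.of_locallyQuasiFinite _
    have : IsLocallyNoetherian (Spec (CommRingCat.of k)) := inferInstance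
    have : IsLocallyNoetherian U.left := LocallyOfFiniteType.isLocallyNoetherian U.hom
    have : IsLocallyArtinian U.left :=
      IsLocallyArtinian.of_topologicalKrullDim_le_zero dim_le_zero_of_discrete
    have hA : IsArtinianRing Γ(U.left, V) := IsLocallyArtinian.isArtinianRing_presheaf_obj (X := U.left) ⟨V, hV⟩
    have : Subsingleton (PrimeSpectrum Γ(U.left, V)) := ⟨fun x y => hV.fromSpec.isOpenEmbedding.injective (by
      have hx : hV.fromSpec x ∈ (V : Set U.left) := hV.range_fromSpec ▸ ⟨x, rfl⟩
      have hy : hV.fromSpec y ∈ (V : Set U.left) := hV.range_fromSpec ▸ ⟨y, rfl⟩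
      exact (Set.mem_singleton_iff.1 hx).trans (Set.mem_singleton_iff.1 hy).symm)⟩
    have : Nonempty V.toScheme := ⟨⟨u, rfl⟩⟩
    have : Nontrivial Γ(U.left, V) := U.left.component_nontrivial V
    refine ⟨V, rfl, hV, hA, ?_, hfin⟩
    obtain ⟨m, hm⟩ := Ideal.exists_maximal Γ(U.left, V)
    exact IsLocalRing.of_unique_max_ideal ⟨m, hm, fun m' hm' => congrArg PrimeSpectrum.asIdeal
      (Subsingleton.elim (⟨m', hm'.isPrime⟩ : PrimeSpectrum _) ⟨m, hm.isPrime⟩)⟩
  · obtain ⟨c, hc⟩ := (yon _).map_surjective (e.hom ≫ p)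
    have hcU : c.left = U.hom := (Category.comp_id c.left).symm.trans (Over.w c)
    choose V hV _ _ _ hfin using hU
    have hV' : iSup V = ⊤ := top_le_iff.1 fun u _ => TopologicalSpace.Opens.mem_iSup.2 ⟨u, hV u⟩
    have hc₁ : (@LocallyQuasiFinite ⊓ @LocallyOfFiniteType : MorphismProperty Scheme.{u}) c.left := by
      rw [hcU]
      exact ⟨(IsZariskiLocalAtSource.iff_of_iSup_eq_top (P := @LocallyQuasiFinite) V hV').2 fun u => by
          have := hfin u
          infer_instance,
        (IsZariskiLocalAtSource.iff_of_iSup_eq_top (P := @LocallyOfFiniteType) V hV').2 fun u => by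
          have := hfin u
          infer_instance⟩
    exact locP_of_source_chart (IsAlgSpace.yon_obj _) (a := e.hom) (f := p) (repWith_iso _) (repWith_iso _) (by
      rw [← hc]
      exact (locP_iff_repWith (IsAlgSpace.yon_obj _)
        (Functor.relativelyRepresentable.map (F := yon _) c)).2 ((repWith_yon_map_iff _ c).2 hc₁))

end Groth.Agent.AlgSpFin
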