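import Groth.Agent.AlgSpFin.DecentPoints
import Groth.Agent.AlgSpFin.DiscreteScheme

/-!
Monomorphic points through etale quasi-compact self products.
-/

set_option autoImplicit false
set_option backward.isDefEq.respectTransparency.types false

universe u

open CategoryTheory CategoryTheory.Limits AlgebraicGeometry Opposite AlgSp TopologicalSpace

namespace Groth.Agent.AlgSpFin

open Groth.Agent.AlgSpLib

variable {S : Scheme.{u}}

/-- Monomorphic representatives and field points with etale quasi-compact self product. -/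
theorem mono_point_iff_self_product (X : Space S) (x : Points X.obj) :
    (∃ p : FieldPt X.obj, Points.mk p = x ∧ Mono p.toHom) ↔
      ∃ q : FieldPt X.obj, Points.mk q = x ∧
        ∀ (P : Sp S) (fst snd : P ⟶ (yon S).obj q.pt), IsPullback fst snd q.toHom q.toHom →
          RepWith @Etale fst ∧ RepWith @QuasiCompact fst := by
  constructor
  · rintro ⟨p, hp, hm⟩
    refine ⟨p, hp, fun P fst snd sq => ?_⟩
    have hfs : fst = snd := (cancel_mono p.toHom).1 sq.w
    obtain ⟨l, hl, -⟩ : ∃ l, l ≫ fst = 𝟙 _ ∧ l ≫ snd = 𝟙 _ :=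
      ⟨sq.lift (𝟙 _) (𝟙 _) rfl, sq.lift_fst _ _ _, sq.lift_snd _ _ _⟩
    have : IsIso fst := ⟨l, sq.hom_ext (by rw [Category.assoc, hl, Category.comp_id, Category.id_comp])
      (by rw [← hfs, Category.assoc, hl, Category.comp_id, Category.id_comp]), hl⟩
    exact ⟨repWith_iso fst, repWith_iso fst⟩
  rintro ⟨q, rfl, H⟩
  have sP := IsPullback.of_hasPullback q.toHom q.toHom
  obtain ⟨hPe, hPq⟩ := H _ _ _ sP
  obtain ⟨hPe', hPq'⟩ := H _ _ _ sP.flip
  obtain ⟨P₀, q₁, q₂, sP₀⟩ := exists_isPullback (X.property.representable_from_yon q.toHom) q.toHom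
  let e₀ := sP₀.isoPullback
  have h1e : Etale q₁.left := (repWith_yon_map_iff _ _).1 (by
    rw [← sP₀.isoPullback_hom_fst]; exact repWith_comp (repWith_iso e₀.hom) hPe)
  have h1q : QuasiCompact q₁.left := (repWith_yon_map_iff _ _).1 (by
    rw [← sP₀.isoPullback_hom_fst]; exact repWith_comp (repWith_iso e₀.hom) hPq)
  have h2e : Etale q₂.left := (repWith_yon_map_iff _ _).1 (by
    rw [← sP₀.isoPullback_hom_snd]; exact repWith_comp (repWith_iso e₀.hom) hPe')
  have h2q : QuasiCompact q₂.left := (repWith_yon_map_iff _ _).1 (by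
    rw [← sP₀.isoPullback_hom_snd]; exact repWith_comp (repWith_iso e₀.hom) hPq')
  -- one point of a chart over the field
  obtain ⟨U, φ, hφ, hφs⟩ := X.property.atlas
  obtain ⟨W, c, d, sW⟩ := exists_isPullback hφ.1 q.toHom
  have hd : Etale d.left := prop_snd sW hφ
  obtain ⟨u₀, hu₀⟩ := surjective_ofPt hφs (Points.mk q)
  obtain ⟨w, hw, -⟩ := (ofPt_eq_iff sW u₀ (IsLocalRing.closedPoint q.K : PrimeSpectrum _)).1
    (hu₀.trans (Points.ofPt_toHom q _).symm)
  let dK : W.left ⟶ Spec (CommRingCat.of q.K) := d.left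
  have : Etale dK := hd
  have : DiscreteTopology W.left := discreteTopology_of_etale_field (K := q.K) dK
  let O : W.left.Opens := ⟨{w}, isOpen_discrete _⟩
  let W₁ : Over S := Over.mk (O.ι ≫ W.hom)
  let j : W₁ ⟶ W := Over.homMk O.ι rfl
  have : CompactSpace W₁.left := isCompact_iff_compactSpace.1 (isCompact_singleton (x := w))
  have hd₁ : Etale (j ≫ d).left := by
    have : Etale j.left := inferInstanceAs (Etale O.ι)
    rw [Over.comp_left]
    exact MorphismProperty.comp_mem @Etale _ _ this hd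
  let dK₁ : W₁.left ⟶ Spec (CommRingCat.of q.K) := (j ≫ d).left
  have : Etale dK₁ := hd₁
  have hd₁q : QuasiCompact dK₁ := inferInstance
  -- the scheme of pairs
  have sA := IsPullback.of_hasPullback (j ≫ d) q₁
  let A : Over S := pullback (j ≫ d) q₁
  have hA1 : Etale (pullback.snd (j ≫ d) q₁).left :=
    MorphismProperty.of_isPullback (P := @Etale) (left_isPullback sA) hd₁
  have hA2 : QuasiCompact (pullback.snd (j ≫ d) q₁).left :=
    MorphismProperty.of_isPullback (P := @QuasiCompact) (left_isPullback sA) hd₁q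
  let a : A ⟶ q.pt := pullback.snd (j ≫ d) q₁ ≫ q₂
  have ha1 : Etale a.left := by
    rw [Over.comp_left]; exact MorphismProperty.comp_mem @Etale _ _ hA1 h2e
  have ha2 : QuasiCompact a.left := by
    rw [Over.comp_left]; exact MorphismProperty.comp_mem @QuasiCompact _ _ hA2 h2q
  have sG := IsPullback.of_hasPullback a (j ≫ d)
  let G : Over S := pullback a (j ≫ d)
  have hG1 : Etale (pullback.snd a (j ≫ d)).left :=
    MorphismProperty.of_isPullback (P := @Etale) (left_isPullback sG) ha1
  have hG2 : QuasiCompact (pullback.snd a (j ≫ d)).left :=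
    MorphismProperty.of_isPullback (P := @QuasiCompact) (left_isPullback sG) ha2
  have : CompactSpace G.left := QuasiCompact.compactSpace_of_compactSpace (pullback.snd a (j ≫ d)).left
  let gK : G.left ⟶ Spec (CommRingCat.of q.K) := (pullback.snd a (j ≫ d)).left ≫ dK₁
  have : Etale gK := MorphismProperty.comp_mem @Etale _ _ hG1 hd₁
  have : DiscreteTopology G.left := discreteTopology_of_etale_field (K := q.K) gK
  have : Finite G.left := finite_of_compact_of_discrete
  obtain ⟨R, t, s, sR⟩ := exists_isPullback hφ.1 φ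
  have hq : ∀ {T : Over S} (α : T ⟶ W), (yon S).map (α ≫ c) ≫ φ = (yon S).map (α ≫ d) ≫ q.toHom := fun α => by
    rw [Functor.map_comp, Functor.map_comp, Category.assoc, Category.assoc, sW.w]
  obtain ⟨m, hm₁, hm₂⟩ := exists_lift sR ((yon S).map ((pullback.fst a (j ≫ d) ≫ pullback.fst (j ≫ d) q₁ ≫ j) ≫ c))
    ((pullback.snd a (j ≫ d) ≫ j) ≫ c) (by
    rw [hq, hq]
    simp only [Category.assoc]
    rw [pullback.condition (f := j ≫ d) (g := q₁)]
    simp only [← Category.assoc, Functor.map_comp]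
    simp only [Category.assoc]
    rw [sP₀.w]
    simp only [← Functor.map_comp_assoc, ← pullback.condition, a, Category.assoc])
  obtain ⟨p, hp, hpm⟩ := exists_mono_point_of_finite_pairs φ hφ (s := s) (t := t) sR u₀ u₀ rfl
    ((Set.finite_range m.left).subset fun r hr => by
      obtain ⟨hr1, hr2⟩ := hr
      have hwU : (j ≫ c).left (⟨w, rfl⟩ : W₁.left) = u₀ := hw
      have sF₁ := IsPullback.of_hasPullback t (j ≫ c)
      obtain ⟨f₁, hf₁, -⟩ := Scheme.exists_preimage_of_isPullback (left_isPullback sF₁) r ⟨w, rfl⟩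
        (hr2.trans hwU.symm)
      have sF₂ := IsPullback.of_hasPullback (pullback.fst t (j ≫ c) ≫ s) (j ≫ c)
      obtain ⟨f₂, hf₂, -⟩ := Scheme.exists_preimage_of_isPullback (left_isPullback sF₂) f₁ ⟨w, rfl⟩ (by
        rw [Over.comp_left, Scheme.Hom.comp_apply, hf₁, hr1, hwU])
      let F := pullback (pullback.fst t (j ≫ c) ≫ s) (j ≫ c)
      let π₁ : F ⟶ R := pullback.fst (pullback.fst t (j ≫ c) ≫ s) (j ≫ c) ≫ pullback.fst t (j ≫ c)
      let α₁ : F ⟶ W₁ := pullback.fst (pullback.fst t (j ≫ c) ≫ s) (j ≫ c) ≫ pullback.snd t (j ≫ c)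
      let α₂ : F ⟶ W₁ := pullback.snd (pullback.fst t (j ≫ c) ≫ s) (j ≫ c)
      have e1 : π₁ ≫ t = α₁ ≫ j ≫ c := by simp only [π₁, α₁, Category.assoc, pullback.condition]
      have e2 : π₁ ≫ s = α₂ ≫ j ≫ c := by
        simp only [π₁, α₂, Category.assoc]
        exact pullback.condition
      obtain ⟨ρ, hρ₁, hρ₂⟩ := exists_lift sP₀ ((yon S).map (α₁ ≫ j ≫ d)) (α₂ ≫ j ≫ d) (by
        have h₁ := hq (α₁ ≫ j)
        have h₂ := hq (α₂ ≫ j)
        simp only [Category.assoc] at h₁ h₂
        refine h₁.symm.trans (Eq.trans ?_ h₂)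
        rw [← e1, ← e2]
        simp only [π₁, Functor.map_comp, Category.assoc, sR.w])
      have hρ₁' : ρ ≫ q₁ = α₁ ≫ j ≫ d := (yon S).map_injective (by rw [Functor.map_comp]; exact hρ₁)
      obtain ⟨γ, hγ₁, hγ₂⟩ := exists_lift (yon_isPullback sA) ((yon S).map α₁) ρ (by
        rw [← Functor.map_comp, ← Functor.map_comp, hρ₁'])
      have hγ₁' : γ ≫ pullback.fst (j ≫ d) q₁ = α₁ := (yon S).map_injective (by rw [Functor.map_comp]; exact hγ₁)
      obtain ⟨l, hl₁, hl₂⟩ := exists_lift (yon_isPullback sG) ((yon S).map γ) α₂ (by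
        rw [← Functor.map_comp, ← Functor.map_comp, show γ ≫ a = α₂ ≫ j ≫ d by
          simp only [a, ← Category.assoc]; rw [hγ₂]; simpa using hρ₂])
      have hl₁' : l ≫ pullback.fst a (j ≫ d) = γ := (yon S).map_injective (by rw [Functor.map_comp]; exact hl₁)
      have key : l ≫ m = π₁ := (yon S).map_injective (sR.hom_ext
        (by
          rw [Functor.map_comp, Category.assoc, hm₁, ← Functor.map_comp, ← Functor.map_comp]
          congr 1
          simp only [Category.assoc, reassoc_of% hl₁', reassoc_of% hγ₁']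
          exact e1.symm)
        (by
          rw [← Functor.map_comp, ← Functor.map_comp, Category.assoc, hm₂]
          congr 1
          simp only [Category.assoc, reassoc_of% hl₂]
          exact e2.symm))
      refine ⟨l.left f₂, ?_⟩
      rw [← Scheme.Hom.comp_apply, ← Over.comp_left, key, Over.comp_left, Scheme.Hom.comp_apply, hf₂, hf₁])
  exact ⟨p, hp.trans hu₀, hpm⟩

end Groth.Agent.AlgSpFin
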