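import Groth.Agent.AlgSpFin.EtSupport
import Groth.Agent.AlgSpFin.Misc4
import Groth.Prelude.Def_AlgSpOX

/-!
Reducedness of etale local rings.
-/

set_option autoImplicit false
set_option backward.isDefEq.respectTransparency.types false

universe u

open CategoryTheory CategoryTheory.Limits AlgebraicGeometry Opposite AlgSp TopologicalSpace

namespace Groth.Agent.AlgSpFin

open Groth.Agent.AlgSpLib

/-- The germ of the pullback of a global function. -/
theorem germ_appTop {U V : Scheme.{u}} (f : V ⟶ U) (v : V) (s : Γ(U, ⊤)) :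
    (f.stalkMap v).hom (U.presheaf.germ ⊤ (f v) trivial s) = V.presheaf.germ ⊤ v trivial (f.appTop.hom s) :=
  ConcreteCategory.congr_hom (f.germ_stalkMap ⊤ v trivial) s

/-- A global function with vanishing germ vanishes near the point. -/
theorem exists_open_appTop_eq_zero {U : Scheme.{u}} (s : Γ(U, ⊤)) (u : U)
    (h : U.presheaf.germ ⊤ u trivial s = 0) : ∃ O : U.Opens, u ∈ O ∧ O.ι.appTop.hom s = 0 := by
  obtain ⟨W₀, hW, i, i', e⟩ := U.presheaf.germ_eq u (U := ⊤) (V := ⊤) trivial trivial s 0 (by rw [h, map_zero])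
  let W : U.Opens := W₀
  refine ⟨W, hW, ?_⟩
  rw [Scheme.Opens.ι_appTop]
  have hle : W.ι ''ᵁ ⊤ ≤ W := by simp
  have e' : (U.presheaf.map i.op).hom s = 0 := e.trans (map_zero _)
  rw [show (homOfLE (le_top : W.ι ''ᵁ ⊤ ≤ ⊤)).op = i.op ≫ (homOfLE hle).op from rfl, Functor.map_comp]
  show (U.presheaf.map (homOfLE hle).op).hom ((U.presheaf.map i.op).hom s) = 0
  rw [e', map_zero]

variable {S : Scheme.{u}} {X : Space S}

/-- Reducedness at a point is seen at every point of every chart over it. -/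
theorem isReduced_stalk_of_hasAt {U : Over S} {a : (yon S).obj U ⟶ X.obj} (ha : RepWith @Etale a) (u : U.left)
    (h : HasAt (fun U u => _root_.IsReduced ↥(U.presheaf.stalk u)) X.obj (Points.ofPt a u)) :
    _root_.IsReduced ↥(U.left.presheaf.stalk u) := by
  obtain ⟨U', a', u', ha', hu', hr⟩ := h
  obtain ⟨W, p, q, sq⟩ := exists_isPullback ha.1 a'
  have : Etale p.left := prop_snd sq.flip ha'
  have : Etale q.left := prop_snd sq ha
  obtain ⟨w, hw₁, hw₂⟩ := (ofPt_eq_iff sq u u').1 hu'.symm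
  have : _root_.IsReduced (U'.left.presheaf.stalk (q.left w)) := hw₂ ▸ hr
  have := isReduced_stalk_of_etale q.left w
  exact hw₁ ▸ isReduced_stalk_of_flat p.left w

theorem exists_nbhd_over {p : FieldPt X.obj} (hp : p.IsGeometric) (N : EtNbhd p) {V : EtOver X.obj} (φ : V ⟶ N.1)
    (hv : N.2.1.left (IsLocalRing.closedPoint p.K : PrimeSpectrum p.K) ∈ Set.range (fun v => φ.hom.left.left v)) :
    ∃ (l : (FieldPt.liftsTo p).obj V) (f : @Quiver.Hom (EtNbhd p) _ ⟨V, l⟩ N), f.1 = φ := by
  obtain ⟨⟨V', l⟩, f, rfl, hf⟩ := exists_nbhd_hom hp N φ hv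
  exact ⟨l, f, eq_of_heq hf⟩

/-- The etale local ring is reduced exactly at the reduced points. -/
theorem isReduced_OEtStalk_iff (p : FieldPt X.obj) (hp : p.IsGeometric) :
    HasAt (fun U u => _root_.IsReduced ↥(U.presheaf.stalk u)) X.obj (Points.mk p) ↔
      _root_.IsReduced ↥(OEtStalk p) := by
  have : IsCofiltered (EtNbhd p) := isCofiltered_etNbhd X p hp
  have : PreservesFilteredColimitsOfSize.{u, u + 1} (CategoryTheory.forget CommRingCat.{u + 1}) :=
    preservesFilteredColimitsOfSize_of_univLE.{u + 1, u + 1} _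
  let D := stalkEtDiagram p (OEt X.obj)
  let c : p.pt.left := (IsLocalRing.closedPoint p.K : PrimeSpectrum p.K)
  have hzero : ∀ (N : EtNbhd p) (t : ↥(D.obj (op N))), (colimit.ι D (op N)).hom t = 0 →
      ∃ (M : EtNbhd p) (f : M ⟶ N), (f.1.hom.left.left).appTop.hom t.down = 0 := by
    intro N t ht
    obtain ⟨j, f, g, hf⟩ := (Concrete.colimit_rep_eq_iff_exists D (i := op N) (j := op N) t 0).1
      (ht.trans (map_zero _).symm)
    exact ⟨j.unop, f.unop, congrArg ULift.down (hf.trans (map_zero _))⟩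
  constructor
  · intro hat
    refine ⟨fun z ⟨n, hz⟩ => ?_⟩
    obtain ⟨N, σ, rfl⟩ := Concrete.colimit_exists_rep D z
    obtain ⟨M, f, hf⟩ := hzero N.unop (σ ^ n) (by rw [map_pow]; exact hz)
    have hpt : Points.ofPt M.1.obj.hom (M.2.1.left c) = Points.mk p := by
      rw [← ofPt_comp, M.2.2, Points.ofPt_toHom]
    have := isReduced_stalk_of_hasAt M.1.property (M.2.1.left c) (hpt ▸ hat)
    let t := f.1.hom.left.left.appTop.hom σ.down
    have ht : M.1.obj.left.left.presheaf.germ ⊤ (M.2.1.left c) trivial t = 0 := by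
      refine IsReduced.eq_zero _ ⟨n, ?_⟩
      have e : (f.1.hom.left.left.appTop.hom σ.down) ^ n = 0 := by rw [← map_pow]; exact hf
      rw [← map_pow, e, map_zero]
    obtain ⟨O, hO, h0⟩ := exists_open_appTop_eq_zero t (M.2.1.left c) ht
    let o : Over.mk (O.ι ≫ M.1.obj.left.hom) ⟶ M.1.obj.left := Over.homMk O.ι rfl
    let V : EtOver X.obj := EtOver.mk ((yon S).map o ≫ M.1.obj.hom)
      (repWith_yon_comp (P := @Etale) o (inferInstanceAs (Etale O.ι)) M.1.property)
    obtain ⟨l, g, hg⟩ := exists_nbhd_over hp M (V := V) (EtOver.homMk o rfl) ⟨⟨_, hO⟩, rfl⟩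
    have e₁ := ConcreteCategory.congr_hom (colimit.w D f.op) σ
    have e₂ := ConcreteCategory.congr_hom (colimit.w D g.op) ((D.map f.op).hom σ)
    refine e₁.symm.trans (e₂.symm.trans ?_)
    show (colimit.ι D (op ⟨V, l⟩)).hom (ULift.up (g.1.hom.left.left.appTop.hom t)) = 0
    rw [hg, show (EtOver.homMk o rfl : V ⟶ M.1).hom.left.left.appTop.hom t = 0 from h0]
    exact map_zero _
  · intro hred
    obtain ⟨U, a, ha, has⟩ := X.property.atlas
    obtain ⟨u, hu⟩ := surjective_ofPt has (Points.mk p)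
    refine ⟨U, a, u, ha, hu, ⟨fun g ⟨n, hg⟩ => ?_⟩⟩
    obtain ⟨O, hO, s, rfl⟩ := U.left.presheaf.exists_germ_eq g
    rw [← map_pow] at hg
    obtain ⟨W₀, hW, i, i', e⟩ := U.left.presheaf.germ_eq u (U := O) (V := O) hO hO (s ^ n) 0 (by rw [hg, map_zero])
    let W : U.left.Opens := W₀
    rw [← U.left.presheaf.germ_res_apply i u hW s]
    have e' : ((U.left.presheaf.map i.op).hom s) ^ n = 0 := by rw [← map_pow]; exact e.trans (map_zero _)
    let o : Over.mk (W.ι ≫ U.hom) ⟶ U := Over.homMk W.ι rfl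
    let E : EtOver X.obj := EtOver.mk ((yon S).map o ≫ a) (repWith_yon_comp (P := @Etale) o (inferInstanceAs (Etale W.ι)) ha)
    let w : W.toScheme := ⟨u, hW⟩
    obtain ⟨l, hl⟩ := exists_lift_at hp E w ((ofPt_comp o a w).trans hu)
    let s' : Γ(W.toScheme, ⊤) := W.topIso.inv ((U.left.presheaf.map i.op).hom s)
    let N : EtNbhd p := ⟨E, l⟩
    have hnil : (colimit.ι D (op N)).hom (ULift.up s') = 0 := by
      refine IsReduced.eq_zero _ ⟨n, ?_⟩
      rw [← map_pow]
      refine (congrArg (colimit.ι D (op N)).hom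
        (ULift.ext _ (0 : ULift.{u + 1} Γ(W.toScheme, ⊤)) ?_)).trans (map_zero _)
      show (W.topIso.inv.hom _) ^ n = 0
      rw [← map_pow, e', map_zero]
    obtain ⟨M, f, hf⟩ := hzero N _ hnil
    let k : M.1.obj.left.left ⟶ W.toScheme := f.1.hom.left.left
    have : Etale k := EtOver.etale_left f.1
    let v := M.2.1.left c
    have hv : k v = w := by
      rw [← hl]
      exact congrArg (fun z => z.left c) (congrArg Subtype.val f.2)
    have hinj : Function.Injective (k.stalkMap v).hom := by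
      have hflat := Flat.stalkMap k v
      algebraize [(k.stalkMap v).hom]
      have : IsLocalHom (algebraMap (W.toScheme.presheaf.stalk (k v)) (M.1.obj.left.left.presheaf.stalk v)) :=
        inferInstanceAs (IsLocalHom (k.stalkMap v).hom)
      have : Module.FaithfullyFlat (W.toScheme.presheaf.stalk (k v)) (M.1.obj.left.left.presheaf.stalk v) :=
        Module.FaithfullyFlat.of_flat_of_isLocalHom
      exact FaithfulSMul.algebraMap_injective _ _
    have h0 : W.toScheme.presheaf.germ ⊤ w trivial s' = 0 := by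
      rw [← hv]
      refine hinj ?_
      rw [map_zero, germ_appTop k v s']
      exact (congrArg _ hf).trans (map_zero _)
    have e₃ := congrArg (W.stalkIso w).hom h0
    rw [map_zero] at e₃
    have e₄ := ConcreteCategory.congr_hom (Scheme.Opens.germ_stalkIso_hom W (V := ⊤) w trivial) s'
    refine Eq.trans ?_ (e₄.symm.trans e₃)
    simp only [s', Scheme.Opens.topIso, Functor.mapIso_inv, eqToIso.inv, Iso.op_inv]
    exact (U.left.presheaf.germ_res_apply (eqToHom (Scheme.Opens.ι_image_top W)) u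
        (show u ∈ W.ι ''ᵁ ⊤ from ⟨w, trivial, rfl⟩) _).symm

end Groth.Agent.AlgSpFin
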