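import Groth.Agent.AlgSpFin.FinitePiece
import Groth.Agent.AlgSpFin.ImmersionTop
import Groth.Agent.AlgSpLib.Glue

/-!
Unions of open subschemes of an algebraic space.
-/

set_option autoImplicit false
set_option backward.isDefEq.respectTransparency.types false

universe u

open CategoryTheory CategoryTheory.Limits AlgebraicGeometry Opposite AlgSp

namespace Groth.Agent.AlgSpFin

open Groth.Agent.AlgSpLib

variable {S : Scheme.{u}}

/-- A map from a scheme, mono on an open cover and injective on points, is a monomorphism. -/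
theorem mono_of_pieces {X : Sp S} {M : Over S} {I : Type u} {C : I → Over S} (c : ∀ i, C i ⟶ M)
    (hc : ∀ i, IsOpenImmersion (c i).left) (hs : ∀ m : M.left, ∃ i, m ∈ Set.range (c i).left)
    (Φ : (yon S).obj M ⟶ X) (hinj : Function.Injective (Points.ofPt Φ))
    (hm : ∀ i, Mono ((yon S).map (c i) ≫ Φ)) : Mono Φ := by
  refine ⟨fun {Y} u v huv => hom_ext_yon fun T w => ?_⟩
  obtain ⟨f, hf⟩ := (yon S).map_surjective (w ≫ u)
  obtain ⟨g, hg⟩ := (yon S).map_surjective (w ≫ v)
  suffices f = g by rw [← hf, ← hg, this]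
  have hfg : (yon S).map f ≫ Φ = (yon S).map g ≫ Φ := by rw [hf, hg, Category.assoc, Category.assoc, huv]
  refine Over.OverMorphism.ext ?_
  have hpt : ∀ t, f.left t = g.left t := fun t => hinj (by rw [← ofPt_comp f Φ t, ← ofPt_comp g Φ t, hfg])
  choose idx hidx using fun t : T.left => hs (f.left t)
  have hOpen : ∀ i, IsOpen (f.left ⁻¹' Set.range (c i).left) := fun i => by
    have := hc i
    exact (c i).left.isOpenEmbedding.isOpen_range.preimage f.left.continuous
  let O : I → T.left.Opens := fun i => ⟨_, hOpen i⟩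
  refine Scheme.Cover.hom_ext (T.left.openCoverOfIsOpenCover O (.mk (top_le_iff.1 fun t _ =>
    TopologicalSpace.Opens.mem_iSup.2 ⟨idx t, hidx t⟩))) _ _ fun i => ?_
  have := hc i
  let T' : Over S := Over.mk ((O i).ι ≫ T.hom)
  let k : T' ⟶ T := Over.homMk (O i).ι rfl
  have hf' : Set.range (k ≫ f).left ⊆ Set.range (c i).left := by
    rintro _ ⟨z, rfl⟩
    exact z.2
  have hg' : Set.range (k ≫ g).left ⊆ Set.range (c i).left := by
    rintro _ ⟨z, rfl⟩
    show g.left (k.left z) ∈ _
    rw [← hpt]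
    exact z.2
  let f₁ : T' ⟶ C i := Over.homMk (IsOpenImmersion.lift (c i).left (k ≫ f).left hf')
    (by rw [← Over.w (c i), IsOpenImmersion.lift_fac_assoc]; exact Over.w (k ≫ f))
  let g₁ : T' ⟶ C i := Over.homMk (IsOpenImmersion.lift (c i).left (k ≫ g).left hg')
    (by rw [← Over.w (c i), IsOpenImmersion.lift_fac_assoc]; exact Over.w (k ≫ g))
  have e₁ : f₁ ≫ c i = k ≫ f := Over.OverMorphism.ext (IsOpenImmersion.lift_fac _ _ _)
  have e₂ : g₁ ≫ c i = k ≫ g := Over.OverMorphism.ext (IsOpenImmersion.lift_fac _ _ _)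
  have := hm i
  have : f₁ = g₁ := (yon S).map_injective ((cancel_mono ((yon S).map (c i) ≫ Φ)).1 (by
    rw [← Category.assoc, ← Category.assoc, ← Functor.map_comp, ← Functor.map_comp, e₁, e₂, Functor.map_comp,
      Functor.map_comp, Category.assoc, Category.assoc, hfg]))
  exact congrArg CommaMorphism.left (show k ≫ f = k ≫ g by rw [← e₁, ← e₂, this])

/-- Compatible maps out of the pieces of a gluing datum glue. -/
theorem exists_hom_glued (D : Scheme.GlueData.{u}) (f : ∀ i, D.U i ⟶ S)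
    (h : ∀ i j, D.f i j ≫ f i = D.t i j ≫ D.f j i ≫ f j) :
    ∃ hom : D.glued ⟶ S, ∀ i, D.ι i ≫ hom = f i := by
  refine ⟨D.openCover.glueMorphisms f fun i j => ?_, fun i => Scheme.Cover.ι_glueMorphisms D.openCover _ _ i⟩
  let c := PullbackCone.mk (pullback.fst (D.ι i) (D.ι j)) (pullback.snd (D.ι i) (D.ι j)) pullback.condition
  let w := (D.vPullbackConeIsLimit i j).lift c
  have hw₁ : w ≫ D.f i j = pullback.fst (D.ι i) (D.ι j) := (D.vPullbackConeIsLimit i j).fac c WalkingCospan.left
  have hw₂ : w ≫ D.t i j ≫ D.f j i = pullback.snd (D.ι i) (D.ι j) :=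
    (D.vPullbackConeIsLimit i j).fac c WalkingCospan.right
  show pullback.fst (D.ι i) (D.ι j) ≫ f i = pullback.snd (D.ι i) (D.ι j) ≫ f j
  refine ((congrArg (· ≫ f i) hw₁).symm.trans ((Category.assoc _ _ _).trans
    ((congrArg (w ≫ ·) (h i j)).trans ?_))).trans (congrArg (· ≫ f j) hw₂)
  simp only [Category.assoc]
  rfl

set_option maxHeartbeats 800000 in
/-- A gluing datum of schemes over the base, packaged. -/
theorem exists_glued_over {I : Type u} (C : I → Over S) (O : ∀ i, I → (C i).left.Opens)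
    (T : ∀ i j, Over.mk ((O i j).ι ≫ (C i).hom) ⟶ C j)
    (t : ∀ i j, Over.mk ((O i j).ι ≫ (C i).hom) ⟶ Over.mk ((O j i).ι ≫ (C j).hom))
    (ht' : ∀ i j, (t i j).left ≫ (O j i).ι = (T i j).left) (htid : ∀ i, t i i = 𝟙 _) (hO : ∀ i, O i i = ⊤)
    (t' : ∀ i j k, pullback (O i j).ι (O i k).ι ⟶ pullback (O j k).ι (O j i).ι)
    (hfac : ∀ i j k, t' i j k ≫ pullback.snd _ _ = pullback.fst _ _ ≫ (t i j).left)
    (hcoc : ∀ i j k, t' i j k ≫ t' j k i ≫ t' k i j = 𝟙 _) :
    ∃ (M : Over S) (c : ∀ i, C i ⟶ M), (∀ i, IsOpenImmersion (c i).left) ∧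
      (∀ m : M.left, ∃ i, m ∈ Set.range (c i).left) ∧
      (∀ i j, (Over.homMk (O i j).ι rfl : Over.mk ((O i j).ι ≫ (C i).hom) ⟶ C i) ≫ c i = T i j ≫ c j) ∧
      ∀ i j (U : Over S) (u : U ⟶ C i) (v : U ⟶ C j), u ≫ c i = v ≫ c j →
        ∃ w : U ⟶ Over.mk ((O i j).ι ≫ (C i).hom), w ≫ Over.homMk (O i j).ι rfl = u ∧ w ≫ T i j = v := by
  let D : Scheme.GlueData.{u} :=
    { J := I
      U := fun i => (C i).left
      V := fun p => (O p.1 p.2).toScheme
      f := fun i j => (O i j).ι
      f_id := fun i => isIso_of_isOpenImmersion_of_opensRange_eq_top _ (by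
        rw [Scheme.Opens.opensRange_ι, hO])
      t := fun i j => (t i j).left
      t_id := fun i => by rw [htid]; rfl
      t' := t'
      t_fac := hfac
      cocycle := hcoc
      f_open := fun i j => inferInstance }
  obtain ⟨hom, hhom⟩ := exists_hom_glued D (fun i => (C i).hom) fun i j =>
    (Over.w (T i j)).symm.trans ((congrArg (· ≫ (C j).hom) (ht' i j).symm).trans (Category.assoc _ _ _))
  let M : Over S := Over.mk hom
  let c : ∀ i, C i ⟶ M := fun i => Over.homMk (D.ι i) (hhom i)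
  refine ⟨M, c, fun i => D.ι_isOpenImmersion i, fun m => ?_, fun i j => ?_,
    fun i j U u v e => ?_⟩
  · obtain ⟨i, y, hy⟩ := D.ι_jointly_surjective m
    exact ⟨i, y, hy⟩
  · refine Over.OverMorphism.ext ?_
    exact ((D.glue_condition i j).symm.trans ((Category.assoc _ _ _).symm.trans
      (congrArg (· ≫ D.ι j) (ht' i j))) :)
  · have e' : u.left ≫ D.ι i = v.left ≫ D.ι j := congrArg CommaMorphism.left e
    let w := (D.vPullbackConeIsLimit i j).lift (PullbackCone.mk u.left v.left e')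
    have hw₁ : w ≫ (O i j).ι = u.left := (D.vPullbackConeIsLimit i j).fac _ WalkingCospan.left
    have hw₂ : w ≫ (t i j).left ≫ (O j i).ι = v.left :=
      (D.vPullbackConeIsLimit i j).fac (PullbackCone.mk u.left v.left e') WalkingCospan.right
    refine ⟨Over.homMk w ?_, Over.OverMorphism.ext hw₁, Over.OverMorphism.ext ?_⟩
    · exact (Category.assoc _ _ _).symm.trans ((congrArg (· ≫ (C i).hom) hw₁).trans (Over.w u))
    · exact (congrArg (w ≫ ·) (ht' i j)).symm.trans hw₂

set_option maxHeartbeats 1000000 in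
/-- Open subschemes of a space glue to an open subscheme. -/
theorem exists_scheme_union {X : Sp S} (hX : IsAlgSpace X) {I : Type u} (C : I → Over S)
    (φ : ∀ i, (yon S).obj (C i) ⟶ X) (hφ : ∀ i, RepWith @IsOpenImmersion (φ i)) :
    ∃ (M : Over S) (Φ : (yon S).obj M ⟶ X), RepWith @IsOpenImmersion Φ ∧
      Set.range (Points.ofPt Φ) = ⋃ i, Set.range (Points.ofPt (φ i)) := by
  have hm : ∀ i, Mono (φ i) := fun i => mono_of_repWith (hφ i) fun _ _ k hk => by
    have : IsOpenImmersion k := hk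
    infer_instance
  have he : ∀ i, RepWith @Etale (φ i) := fun i => repWith_mono (fun _ _ k hk => by
    have : IsOpenImmersion k := hk
    infer_instance) (hφ i)
  have uniq : ∀ {i : I} {T : Over S} (p q : T ⟶ C i),
      (yon S).map p ≫ φ i = (yon S).map q ≫ φ i → p = q := fun {i T} p q e => by
    have := hm i
    exact (yon S).map_injective ((cancel_mono (φ i)).1 e)
  have hinjφ : ∀ i, Function.Injective (Points.ofPt (φ i)) := fun i p q e => by
    have := hm i
    refine (Points.schemeEquiv (C i)).injective (injective_map_of_mono (φ i) ?_)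
    show Points.map (φ i) (Points.ofPt (𝟙 _) p) = Points.map (φ i) (Points.ofPt (𝟙 _) q)
    rw [Points.map_ofPt, Points.map_ofPt, Category.id_comp]
    exact e
  let O : ∀ i j : I, (C i).left.Opens := fun i j =>
    ⟨Points.ofPt (φ i) ⁻¹' Set.range (Points.ofPt (φ j)),
      (isOpenMap_ofPt_of_etale (he j)).isOpen_range.preimage (Points.continuous_ofPt _)⟩
  let VV : I → I → Over S := fun i j => Over.mk ((O i j).ι ≫ (C i).hom)
  let inc : ∀ i j, VV i j ⟶ C i := fun i j => Over.homMk (O i j).ι rfl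
  have htr : ∀ i j, ∃ T : VV i j ⟶ C j, (yon S).map T ≫ φ j = (yon S).map (inc i j) ≫ φ i := fun i j => by
    obtain ⟨l, hl⟩ := exists_factor_of_range (hφ j) ((yon S).map (inc i j) ≫ φ i) fun t => by
      rw [range_map_yon, ofPt_comp]; exact t.2
    obtain ⟨T, rfl⟩ := (yon S).map_surjective l
    exact ⟨T, hl⟩
  choose T hT using htr
  have hTr : ∀ i j, Set.range (T i j).left ⊆ Set.range (O j i).ι := fun i j => by
    rintro _ ⟨z, rfl⟩
    rw [Scheme.Opens.range_ι]
    refine ⟨z.1, ?_⟩
    rw [← ofPt_comp (T i j) (φ j) z, hT, ofPt_comp]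
    rfl
  let t : ∀ i j, VV i j ⟶ VV j i := fun i j => Over.homMk (IsOpenImmersion.lift (O j i).ι (T i j).left (hTr i j))
    (by simp only [VV, Over.mk_hom, IsOpenImmersion.lift_fac_assoc]; exact Over.w (T i j))
  have ht : ∀ i j, t i j ≫ inc j i = T i j := fun i j => Over.OverMorphism.ext (IsOpenImmersion.lift_fac _ _ _)
  have ht' : ∀ i j, (t i j).left ≫ (O j i).ι = (T i j).left := fun i j => IsOpenImmersion.lift_fac _ _ _
  -- the triple overlaps
  let PP : I → I → I → Over S := fun i j k =>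
    Over.mk (pullback.fst (O i j).ι (O i k).ι ≫ (O i j).ι ≫ (C i).hom)
  let p₁ : ∀ i j k, PP i j k ⟶ VV i j := fun i j k => Over.homMk (pullback.fst _ _) rfl
  have hr3 : ∀ i j k, Set.range (pullback.fst (O i j).ι (O i k).ι ≫ (T i j).left) ⊆ Set.range (O j k).ι := by
    intro i j k
    rintro _ ⟨z, rfl⟩
    rw [Scheme.Opens.range_ι]
    show Points.ofPt (φ j) ((T i j).left ((p₁ i j k).left z)) ∈ Set.range (Points.ofPt (φ k))
    rw [← ofPt_comp (T i j) (φ j), hT, ofPt_comp]
    have e : (O i j).ι (pullback.fst (O i j).ι (O i k).ι z) = (O i k).ι (pullback.snd (O i j).ι (O i k).ι z) := by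
      rw [← Scheme.Hom.comp_apply, pullback.condition, Scheme.Hom.comp_apply]
    show Points.ofPt (φ i) ((O i j).ι (pullback.fst (O i j).ι (O i k).ι z)) ∈ _
    rw [e]
    exact (pullback.snd (O i j).ι (O i k).ι z).2
  let t' : ∀ i j k, pullback (O i j).ι (O i k).ι ⟶ pullback (O j k).ι (O j i).ι := fun i j k =>
    pullback.lift (IsOpenImmersion.lift (O j k).ι (pullback.fst _ _ ≫ (T i j).left) (hr3 i j k))
      (pullback.fst _ _ ≫ (t i j).left) (by rw [IsOpenImmersion.lift_fac, Category.assoc, ht'])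
  have ht'c : ∀ i j k, t' i j k ≫ pullback.fst (O j k).ι (O j i).ι ≫ (O j k).ι =
      pullback.fst (O i j).ι (O i k).ι ≫ (T i j).left := fun i j k => by
    simp only [t', pullback.lift_fst_assoc, IsOpenImmersion.lift_fac]
  have hcoc : ∀ i j k, t' i j k ≫ t' j k i ≫ t' k i j = 𝟙 _ := fun i j k => by
    rw [← cancel_mono (pullback.fst (O i j).ι (O i k).ι ≫ (O i j).ι)]
    simp only [Category.assoc, Category.id_comp, ht'c]
    let τ₁ : PP i j k ⟶ PP j k i := Over.homMk (t' i j k) (by
      show t' i j k ≫ pullback.fst _ _ ≫ (O j k).ι ≫ (C j).hom = _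
      rw [← Category.assoc (pullback.fst _ _), ← Category.assoc (t' i j k), ht'c, Category.assoc, Over.w (T i j)]
      rfl)
    let τ₂ : PP j k i ⟶ PP k i j := Over.homMk (t' j k i) (by
      show t' j k i ≫ pullback.fst _ _ ≫ (O k i).ι ≫ (C k).hom = _
      rw [← Category.assoc (pullback.fst _ _), ← Category.assoc (t' j k i), ht'c, Category.assoc, Over.w (T j k)]
      rfl)
    have e₁ : τ₁ ≫ p₁ j k i ≫ inc j k = p₁ i j k ≫ T i j := Over.OverMorphism.ext (ht'c i j k)
    have e₂ : τ₂ ≫ p₁ k i j ≫ inc k i = p₁ j k i ≫ T j k := Over.OverMorphism.ext (ht'c j k i)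
    have key : τ₁ ≫ τ₂ ≫ p₁ k i j ≫ T k i = p₁ i j k ≫ inc i j := uniq _ _ (by
      simp only [Functor.map_comp, Category.assoc, hT]
      rw [← Functor.map_comp_assoc (yon S) (p₁ k i j), ← Functor.map_comp_assoc (yon S) τ₂, e₂,
        Functor.map_comp_assoc, hT, ← Functor.map_comp_assoc (yon S) (p₁ j k i),
        ← Functor.map_comp_assoc (yon S) τ₁, e₁, Functor.map_comp_assoc, hT])
    exact congrArg CommaMorphism.left key
  have htid : ∀ i, t i i = 𝟙 _ := fun i => by
    have : Mono (inc i i) := (Over.forget S).mono_of_mono_map (show Mono (O i i).ι from inferInstance)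
    rw [← cancel_mono (inc i i), Category.id_comp, ht]
    exact uniq _ _ (hT i i)
  obtain ⟨M, c, hcO, hcs, hglue, hfact⟩ := exists_glued_over C O T t ht' htid
    (fun i => eq_top_iff.2 fun z _ => ⟨z, rfl⟩) t' (fun i j k => pullback.lift_snd _ _ _) hcoc
  obtain ⟨Φ, hΦ⟩ := exists_glue_openCover c hcO hcs φ fun i j U u v e => by
    obtain ⟨w, rfl, rfl⟩ := hfact i j U u v e
    rw [Functor.map_comp_assoc, Functor.map_comp_assoc, hT]
  have hΦpt : ∀ i (y : (C i).left), Points.ofPt Φ ((c i).left y) = Points.ofPt (φ i) y := fun i y => by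
    rw [← ofPt_comp, hΦ]
  have hinj : Function.Injective (Points.ofPt Φ) := fun p q e => by
    obtain ⟨i, x, rfl⟩ := hcs p
    obtain ⟨k, y, rfl⟩ := hcs q
    rw [hΦpt, hΦpt] at e
    have hx : x ∈ O i k := ⟨y, e.symm⟩
    have hy : (T i k).left ⟨x, hx⟩ = y := hinjφ k (by
      rw [← ofPt_comp (T i k) (φ k), hT, ofPt_comp]
      exact e)
    rw [← hy]
    exact congrArg (fun m : VV i k ⟶ M => m.left ⟨x, hx⟩) (hglue i k)
  have : Mono Φ := mono_of_pieces c hcO hcs Φ hinj fun i => by rw [hΦ]; exact hm i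
  have hΦe : RepWith @Etale Φ := repWith_of_rep (hX.representable_from_yon Φ) fun Z W g fst snd sq => by
    obtain ⟨f, rfl⟩ := (yon S).map_surjective fst
    let 𝒰 : M.left.OpenCover := Scheme.Cover.mkOfCovers I (fun i => (C i).left) (fun i => (c i).left) (fun m => by
      obtain ⟨i, y, hy⟩ := hcs m
      exact ⟨i, y, hy⟩) hcO
    refine IsZariskiLocalAtSource.of_openCover (P := @Etale) (𝒰.pullback₁ f.left) fun i => ?_
    have sP := IsPullback.of_hasPullback f (c i)
    have sY : IsPullback ((yon S).map (pullback.snd f (c i))) ((yon S).map (pullback.fst f (c i) ≫ snd)) (φ i) g := by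
      rw [← hΦ i, Functor.map_comp]
      exact (yon_isPullback sP).flip.paste_vert sq
    have he' : Etale (pullback.fst f (c i) ≫ snd).left := prop_snd sY (he i)
    have sL := left_isPullback sP
    have sS : IsPullback (pullback.fst f.left (c i).left) (pullback.snd f.left (c i).left) f.left (c i).left :=
      IsPullback.of_hasPullback _ _
    rw [Over.comp_left, ← sL.isoIsPullback_hom_fst _ _ sS, Category.assoc,
      MorphismProperty.cancel_left_of_respectsIso @Etale] at he'
    exact he'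
  refine ⟨M, Φ, repWith_isOpenImmersion_of_etale_mono (IsAlgSpace.yon_obj M) hX Φ
    ((locP_iff_repWith hX hΦe.1).2 hΦe), ?_⟩
  ext x
  simp only [Set.mem_iUnion, Set.mem_range]
  constructor
  · rintro ⟨p, rfl⟩
    obtain ⟨i, y, rfl⟩ := hcs p
    exact ⟨i, y, (hΦpt i y).symm⟩
  · rintro ⟨i, y, rfl⟩
    exact ⟨(c i).left y, hΦpt i y⟩

end Groth.Agent.AlgSpFin
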