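import Groth.Agent.AlgSpFin.OpenSubspace
import Groth.Agent.AlgSpFin.ImmersionTop
import Groth.Agent.AlgSpFin.CodimZero
import Groth.Agent.AlgSpFin.FinitePiece

/-!
A property holds at a point iff it holds on an open subspace through the point.
-/

set_option autoImplicit false
set_option backward.isDefEq.respectTransparency.types false

universe u

open CategoryTheory CategoryTheory.Limits AlgebraicGeometry Opposite AlgSp

namespace Groth.Agent.AlgSpFin

open Groth.Agent.AlgSpLib

variable {S : Scheme.{u}}

/-- A property holds at a point iff it holds on an open subspace through the point. -/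
theorem hasAtMor_iff_exists_open_subspace (P : MorphismProperty Scheme.{u}) [EtLocal P] {X Y : Space S}
    (f : X ⟶ Y) (x : Points X.obj) :
    HasAtMor (fun U _ h u => ∃ W : U.Opens, u ∈ W ∧ P (W.ι ≫ h)) f.hom x ↔
      ∃ (X' : Space S) (j : X' ⟶ X), RepWith @IsOpenImmersion j.hom ∧ x ∈ Set.range (Points.map j.hom) ∧
        LocP P (j ≫ f).hom := by
  constructor
  · rintro ⟨U, V, a, b, h, u, ha, hb, w, rfl, W, hu, hP⟩
    obtain ⟨X', j, hj, hr⟩ := exists_open_subspace X (Points.ofPt a '' (W : Set U.left))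
      (isOpenMap_ofPt_of_etale ha _ W.2)
    have : Mono j.hom := mono_of_repWith hj fun _ _ k hk => by
      have : IsOpenImmersion k := hk
      infer_instance
    let U' : Over S := Over.mk (W.ι ≫ U.hom)
    let jW : U' ⟶ U := Over.homMk W.ι rfl
    let a' := (yon S).map jW ≫ a
    have ha' : RepWith @Etale a' := repWith_yon_comp (P := @Etale) jW (inferInstanceAs (Etale W.ι)) ha
    have hpt : ∀ t : U'.left, Points.ofPt a' t = Points.ofPt a t.1 := fun t => ofPt_comp jW a t
    obtain ⟨l, hl⟩ := exists_factor_of_range hj a' fun t => by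
      rw [hr, hpt]; exact ⟨_, t.2, rfl⟩
    have hle : RepWith @Etale l := repWith_of_comp_mono l j.hom (hl ▸ ha')
    have hls : RepWith @Surjective l := repWith_surjective_of_ofPt hle.1 fun z => by
      obtain ⟨t, ht, hz⟩ := (Set.ext_iff.1 hr (Points.map j.hom z)).1 ⟨z, rfl⟩
      refine ⟨⟨t, ht⟩, injective_map_of_mono j.hom ?_⟩
      rw [Points.map_ofPt, hl, hpt]
      exact hz
    refine ⟨X', j, hj, hr.ge ⟨u, hu, rfl⟩, ?_⟩
    show LocP P (j.hom ≫ f.hom)
    refine locP_of_chart (U := U') (V := V) (a := l) (b := b) (h := jW ≫ h) hle hls hb ?_ hP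
    rw [← Category.assoc, hl, Category.assoc, w, Functor.map_comp, Category.assoc]
  · rintro ⟨X', j, hj, ⟨y, rfl⟩, hP⟩
    obtain ⟨U, V, a, b, h, ha, has, hb, -, w⟩ := exists_chart X'.property Y.property (j ≫ f).hom
    obtain ⟨u, rfl⟩ := surjective_ofPt has y
    have hje : RepWith @Etale j.hom := repWith_mono (fun _ _ k hk => by
      have : IsOpenImmersion k := hk
      infer_instance) hj
    refine ⟨U, V, a ≫ j.hom, b, h, u, repWith_comp ha hje, hb, ?_, (Points.map_ofPt _ _ _).symm, ⊤, trivial,
      EtLocal.comp_etale _ _ (inferInstanceAs (Etale (⊤ : U.left.Opens).ι)) (hP a b h ha hb w)⟩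
    rw [Category.assoc]
    exact w

end Groth.Agent.AlgSpFin
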