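import Groth.Agent.AlgSpFin.FibreEmbedding
import Groth.Agent.AlgSpLimDesc.Limit
import Mathlib.AlgebraicGeometry.Morphisms.ClosedImmersion

/-!
Maps from reduced spaces onto monomorphic quasi-compact points.
-/

set_option autoImplicit false
set_option backward.isDefEq.respectTransparency.types false

universe u

open CategoryTheory CategoryTheory.Limits AlgebraicGeometry Opposite AlgSp TopologicalSpace

namespace Groth.Agent.AlgSpFin

open Groth.Agent.AlgSpLib

variable {S : Scheme.{u}}

/-- A map from a reduced space with a single image point factors through a monomorphic qc point. -/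
theorem factors_through_point {Y X : Space S} (f : Y ⟶ X) (p : FieldPt X.obj) (hm : Mono p.toHom)
    (hq : RepWith @QuasiCompact p.toHom) (hY : IsReducedSp Y.obj)
    (hf : ∀ y : Points Y.obj, Points.map f.hom y = Points.mk p) :
    ∃ g : Y.obj ⟶ (yon S).obj p.pt, g ≫ p.toHom = f.hom := by
  have sP := IsPullback.of_hasPullback f.hom p.toHom
  have : Mono (pullback.fst f.hom p.toHom) :=
    MorphismProperty.of_isPullback (P := MorphismProperty.monomorphisms (Sp S)) sP.flip hm
  suffices h : IsIso (pullback.fst f.hom p.toHom) from
    ⟨inv (pullback.fst f.hom p.toHom) ≫ pullback.snd f.hom p.toHom, by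
      rw [Category.assoc, ← pullback.condition, IsIso.inv_hom_id_assoc]⟩
  obtain ⟨U, V, a, b, h, ha, has, hb, -, w⟩ := exists_chart Y.property X.property f.hom
  obtain ⟨P, m, e, sm⟩ := exists_isPullback hb.1 p.toHom
  have := isPreimmersion_point_chart X.property p hq hb sm
  have sW := IsPullback.of_hasPullback h m
  let k := pullback.fst h m
  have : IsPreimmersion k.left :=
    MorphismProperty.of_isPullback (P := @IsPreimmersion) (left_isPullback sW).flip ‹IsPreimmersion m.left›
  have : Surjective k.left := ⟨fun u => by
    obtain ⟨q, hq', -⟩ := (ofPt_eq_iff sm (h.left u) (IsLocalRing.closedPoint p.K : PrimeSpectrum _)).1 (by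
      rw [Points.ofPt_toHom, ← ofPt_comp h b u, ← w, ← Points.map_ofPt]
      exact hf _)
    obtain ⟨z, hz, -⟩ := Scheme.exists_preimage_of_isPullback (left_isPullback sW) u q hq'.symm
    exact ⟨z, hz⟩⟩
  have : IsClosedImmersion k.left := .of_isPreimmersion _ (by
    rw [k.left.surjective.range_eq]; exact isClosed_univ)
  have : IsReduced U.left := AlgSpLimDesc.isReduced_of_etale_chart Y.property hY ha
  have : IsIso k.left := isIso_of_isClosedImmersion_of_surjective k.left
  have : IsIso k := by
    have : IsIso ((Over.forget S).map k) := ‹IsIso k.left›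
    exact isIso_of_reflects_iso k (Over.forget S)
  refine isIso_of_mono_of_local_lifts (pullback.fst f.hom p.toHom) fun T g => ?_
  obtain ⟨W, c, d, sg⟩ := exists_isPullback ha.1 g
  have : Etale d.left := prop_snd sg ha
  have : Surjective d.left := prop_snd sg has
  have hw : ((yon S).map c ≫ a) ≫ f.hom = (yon S).map (c ≫ inv k ≫ pullback.snd h m ≫ e) ≫ p.toHom := by
    rw [Category.assoc, w, ← Category.assoc, ← Functor.map_comp,
      show c ≫ h = c ≫ inv k ≫ pullback.snd h m ≫ m by rw [← pullback.condition, IsIso.inv_hom_id_assoc]]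
    simp only [Functor.map_comp, Category.assoc, sm.w]
  exact ⟨W, d, sP.lift _ _ hw, inferInstance, inferInstance, inferInstance, by
    rw [sP.lift_fst, sg.w]⟩

end Groth.Agent.AlgSpFin
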