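import Groth.Agent.AlgSpFin.DiscreteScheme
import Groth.Agent.AlgSpFin.DecentLocal
import Groth.Agent.GeomFibre.Descent

/-!
Quasi-separated spaces with an etale surjection from a field.
-/

set_option autoImplicit false
set_option backward.isDefEq.respectTransparency.types false

universe u

open CategoryTheory CategoryTheory.Limits AlgebraicGeometry Opposite AlgSp TopologicalSpace

namespace Groth.Agent.AlgSpFin

open Groth.Agent.AlgSpLib

variable {S : Scheme.{u}}

/-- A one-point quotient of a field by etale relations is a field. -/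
theorem exists_field_iso_of_etale_surjective (X : Space S) (hX : IsQuasiSeparatedSp X.obj) (k : Type u) [Field k]
    (str : Spec (CommRingCat.of k) ⟶ S) (p : (yon S).obj (Over.mk str) ⟶ X.obj) (hp : RepWith @Etale p)
    (hs : RepWith @Surjective p) :
    ∃ (k' : Type u) (_ : Field k') (str' : Spec (CommRingCat.of k') ⟶ S)
      (e : (yon S).obj (Over.mk str') ≅ X.obj) (c : Over.mk str ⟶ Over.mk str'),
      (yon S).map c ≫ e.hom = p ∧ IsFinite c.left ∧ Etale c.left := by
  have hsub : Subsingleton (Over.mk str).left := inferInstanceAs (Subsingleton (PrimeSpectrum k))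
  have : Subsingleton (Points X.obj) := (surjective_ofPt hs).subsingleton
  obtain ⟨M, ⟨e₀⟩⟩ := exists_iso_yon_of_discrete X.property (isDecent_of_isQuasiSeparatedSp X.property hX)
  obtain ⟨c₀, hc₀⟩ := (yon S).map_surjective (p ≫ e₀.inv)
  have hpe : RepWith @Etale (p ≫ e₀.inv) := repWith_comp hp (repWith_iso e₀.inv)
  have hps : RepWith @Surjective (p ≫ e₀.inv) := repWith_comp hs (repWith_iso e₀.inv)
  have : Etale c₀.left := (repWith_yon_map_iff _ _).1 (hc₀ ▸ hpe)
  have : Surjective c₀.left := (repWith_yon_map_iff _ _).1 (hc₀ ▸ hps)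
  have : IsReduced (Over.mk str).left := inferInstanceAs (IsReduced (Spec (CommRingCat.of k)))
  have : IsReduced M.left := GeomFibre.isReduced_of_flat_surjective c₀.left
  have : Subsingleton M.left := c₀.left.surjective.subsingleton
  have : Nonempty M.left := ⟨c₀.left (IsLocalRing.closedPoint k : PrimeSpectrum k)⟩
  have : IrreducibleSpace M.left := { isPreirreducible_univ := Set.subsingleton_univ.isPreirreducible, toNonempty := ‹_› }
  have : IsIntegral M.left := isIntegral_of_irreducibleSpace_of_isReduced _
  let := (isField_of_isIntegral_of_subsingleton M.left).toField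
  let str' : Spec (CommRingCat.of Γ(M.left, ⊤)) ⟶ S := M.left.isoSpec.inv ≫ M.hom
  let i : M ≅ Over.mk str' := Over.isoMk M.left.isoSpec (by simp [str'])
  have : Etale (c₀ ≫ i.hom).left := by
    have : IsIso i.hom.left := inferInstanceAs (IsIso M.left.isoSpec.hom)
    rw [Over.comp_left]
    infer_instance
  refine ⟨Γ(M.left, ⊤), inferInstance, str', ((yon S).mapIso i).symm ≪≫ e₀, c₀ ≫ i.hom, ?_, ?_, this⟩
  · show (yon S).map (c₀ ≫ i.hom) ≫ (yon S).map i.inv ≫ e₀.hom = p
    rw [← Category.assoc, ← Functor.map_comp, Category.assoc, i.hom_inv_id, Category.comp_id, hc₀, Category.assoc,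
      e₀.inv_hom_id, Category.comp_id]
  · have : LocallyQuasiFinite (c₀ ≫ i.hom).left := locallyQuasiFinite_of_formallyUnramified _
    have : IsLocallyArtinian (Over.mk str').left :=
      inferInstanceAs (IsLocallyArtinian (Spec (CommRingCat.of Γ(M.left, ⊤))))
    have : IsAffine (Over.mk str).left := inferInstanceAs (IsAffine (Spec (CommRingCat.of k)))
    have : IsAffine (Over.mk str').left := inferInstanceAs (IsAffine (Spec (CommRingCat.of Γ(M.left, ⊤))))
    exact IsFinite.of_locallyQuasiFinite _

end Groth.Agent.AlgSpFin
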