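import Groth.Agent.AlgSpLib.AffineDescent
import Groth.Agent.AlgSpLib.Points
import Groth.Agent.S18940
import Groth.Prelude.Def_AlgSp4

/-!
Cancellation of cartesian squares along surjective etale morphisms.
-/

set_option autoImplicit false
set_option backward.isDefEq.respectTransparency.types false

universe u

open CategoryTheory CategoryTheory.Limits AlgebraicGeometry AlgSp

namespace Groth.Agent.AlgSpFin

open Groth.Agent.AlgSpLib

variable {S : Scheme.{u}}

/-- A surjective etale morphism out of an algebraic space is an epimorphism of sheaves. -/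
theorem epi_of_etale_surjective {X Y : Sp S} (hX : IsAlgSpace X) (f : X ⟶ Y) (hf : IsEtaleMor f)
    (hs : IsSurjectiveMor f) : Epi f := by
  obtain ⟨U, a, ha, has⟩ := hX.atlas
  have := effectiveEpi_chart (hf a ha) (repWith_surjective_of_map (hf a ha).1 fun y => by
    obtain ⟨x, rfl⟩ := hs y
    obtain ⟨v, rfl⟩ := surjective_ofPt has x
    exact ⟨Points.ofPt (𝟙 _) v, by rw [Points.map_ofPt, Category.id_comp, Points.map_ofPt]⟩)
  exact epi_of_epi a f

/-- The right square is cartesian if the left one and the rectangle are and the base map is epi. -/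
theorem isPullback_of_epi_of_paste {A B C D E F : Sp S} {ac : A ⟶ C} {ab : A ⟶ B} {cd : C ⟶ D}
    {bd : B ⟶ D} {ce : C ⟶ E} {df : D ⟶ F} {ef : E ⟶ F} (hl : IsPullback ac ab cd bd)
    (hcomm : ce ≫ ef = cd ≫ df) (hout : IsPullback (ac ≫ ce) ab ef (bd ≫ df)) [Epi bd] :
    IsPullback ce cd ef df := by
  have hbd : Sheaf.IsLocallySurjective bd := (Sheaf.isLocallySurjective_iff_epi bd).2 inferInstance
  let κ : C ⟶ pullback ef df := pullback.lift ce cd hcomm
  let sd := IsPullback.of_hasPullback bd (pullback.snd ef df)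
  have := S18940.result (J S) bd (pullback.snd ef df)
  have : Epi (pullback.snd bd (pullback.snd ef df)) := inferInstance
  obtain ⟨m, hm₁, hm₂⟩ : ∃ m : pullback bd (pullback.snd ef df) ⟶ A,
      m ≫ (ac ≫ ce) = pullback.snd _ _ ≫ pullback.fst ef df ∧ m ≫ ab = pullback.fst _ _ :=
    ⟨hout.lift _ _ (by rw [Category.assoc, pullback.condition, ← reassoc_of% sd.w]),
      hout.lift_fst _ _ _, hout.lift_snd _ _ _⟩
  have hκm : (m ≫ ac) ≫ κ = pullback.snd bd (pullback.snd ef df) := by
    apply pullback.hom_ext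
    · rw [Category.assoc, Category.assoc, pullback.lift_fst, hm₁]
    · rw [Category.assoc, Category.assoc, pullback.lift_snd, hl.w, reassoc_of% hm₂, sd.w]
  have : Epi κ := by
    have : Epi ((m ≫ ac) ≫ κ) := hκm ▸ inferInstance
    exact epi_of_epi (m ≫ ac) κ
  have : Mono κ := ⟨fun {T} u v e => by
    have := S18940.result (J S) bd (u ≫ cd)
    have : Epi (pullback.snd bd (u ≫ cd)) := inferInstance
    refine (cancel_epi (pullback.snd bd (u ≫ cd))).1 ?_
    have e₁ : u ≫ ce = v ≫ ce := by simpa only [κ, Category.assoc, pullback.lift_fst] using congrArg (· ≫ pullback.fst ef df) e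
    have e₂ : u ≫ cd = v ≫ cd := by simpa only [κ, Category.assoc, pullback.lift_snd] using congrArg (· ≫ pullback.snd ef df) e
    obtain ⟨lu, hu₁, hu₂⟩ := hl.exists_lift (pullback.snd bd (u ≫ cd) ≫ u) (pullback.fst bd (u ≫ cd))
      (by rw [Category.assoc, pullback.condition])
    obtain ⟨lv, hv₁, hv₂⟩ := hl.exists_lift (pullback.snd bd (u ≫ cd) ≫ v) (pullback.fst bd (u ≫ cd))
      (by rw [Category.assoc, ← e₂, pullback.condition])
    have : lu = lv := hout.hom_ext
      (by rw [reassoc_of% hu₁, reassoc_of% hv₁, e₁]) (hu₂.trans hv₂.symm)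
    rw [← hu₁, this, hv₁]⟩
  have : IsIso κ := isIso_of_mono_of_epi κ
  exact IsPullback.of_iso_pullback ⟨hcomm⟩ (asIso κ) (pullback.lift_fst _ _ _) (pullback.lift_snd _ _ _)

end Groth.Agent.AlgSpFin
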