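import Groth.Agent.AlgSpFin.DecentPoints

/-!
Points represented by quasi-compact field points.
-/

set_option autoImplicit false
set_option backward.isDefEq.respectTransparency.types false

universe u

open CategoryTheory CategoryTheory.Limits AlgebraicGeometry Opposite AlgSp TopologicalSpace

namespace Groth.Agent.AlgSpFin

open Groth.Agent.AlgSpLib

variable {S : Scheme.{u}}

/-- A point with a quasi-compact representative has a monomorphic quasi-compact representative. -/
theorem exists_qc_mono_point_of_qc_point (X : Space S) (q : FieldPt X.obj) (hq : RepWith @QuasiCompact q.toHom) :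
    ∃ p : FieldPt X.obj, Points.mk p = Points.mk q ∧ Mono p.toHom ∧ RepWith @QuasiCompact p.toHom := by
  refine (finite_fibres_iff_qc_mono_point X (Points.mk q)).1 fun U φ hU hφ R s t sR => ?_
  obtain ⟨W, c, d, sW⟩ := exists_isPullback hφ.1 q.toHom
  have : QuasiCompact c.left := prop_snd sW.flip hq
  have : Etale d.left := prop_snd sW hφ
  have : CompactSpace W.left := QuasiCompact.compactSpace_of_compactSpace c.left
  let dK : W.left ⟶ Spec (CommRingCat.of q.K) := d.left
  have : Etale dK := ‹Etale d.left›
  have : DiscreteTopology W.left := discreteTopology_of_etale_field (K := q.K) dK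
  have : Finite W.left := finite_of_compact_of_discrete
  refine ⟨(Set.finite_range c.left).subset fun z hz => ?_, ?_⟩
  · obtain ⟨w, hw, -⟩ := (ofPt_eq_iff sW z (IsLocalRing.closedPoint q.K : PrimeSpectrum _)).1
      (Eq.trans hz (Points.ofPt_toHom q _).symm)
    exact ⟨w, hw⟩
  -- the pairs over the point
  have sE := IsPullback.of_hasPullback d d
  have : QuasiCompact dK := inferInstance
  have : QuasiCompact (pullback.fst d d).left :=
    MorphismProperty.of_isPullback (P := @QuasiCompact) (left_isPullback sE).flip ‹QuasiCompact dK›
  have : CompactSpace (pullback d d).left := QuasiCompact.compactSpace_of_compactSpace (pullback.fst d d).left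
  let eK : (pullback d d).left ⟶ Spec (CommRingCat.of q.K) := (pullback.fst d d).left ≫ dK
  have : Etale (pullback.fst d d).left :=
    MorphismProperty.of_isPullback (P := @Etale) (left_isPullback sE).flip ‹Etale d.left›
  have : Etale eK := MorphismProperty.comp_mem @Etale _ _ ‹_› ‹_›
  have : DiscreteTopology (pullback d d).left := discreteTopology_of_etale_field (K := q.K) eK
  have : Finite (pullback d d).left := finite_of_compact_of_discrete
  obtain ⟨m, hm₁, hm₂⟩ := exists_lift sR ((yon S).map (pullback.fst d d ≫ c)) (pullback.snd d d ≫ c) (by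
    rw [Functor.map_comp, Functor.map_comp, Category.assoc, Category.assoc, sW.w, ← Category.assoc,
      ← Functor.map_comp, pullback.condition, Functor.map_comp, Category.assoc])
  have hm₁' : m ≫ t = pullback.fst d d ≫ c := (yon S).map_injective (by rw [Functor.map_comp]; exact hm₁)
  refine (Set.finite_range m.left).subset fun r hr => ?_
  have hr' : Points.ofPt φ (t.left r) = Points.mk q := (ofPt_comp t φ r).symm.trans hr
  obtain ⟨w, hw, -⟩ := (ofPt_eq_iff sW (t.left r) (IsLocalRing.closedPoint q.K : PrimeSpectrum _)).1
    (hr'.trans (Points.ofPt_toHom q _).symm)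
  have sF := IsPullback.of_hasPullback t c
  obtain ⟨e₀, he₀, -⟩ := Scheme.exists_preimage_of_isPullback (left_isPullback sF) r w hw.symm
  obtain ⟨w₂, hw₂, hw₂'⟩ := exists_lift sW ((yon S).map (pullback.fst t c ≫ s)) (pullback.snd t c ≫ d) (by
    rw [Functor.map_comp, Category.assoc, ← sR.w, ← Category.assoc, ← Functor.map_comp, pullback.condition,
      Functor.map_comp, Category.assoc, sW.w, Functor.map_comp, Category.assoc])
  obtain ⟨l, hl₁, hl₂⟩ := exists_lift (yon_isPullback sE) ((yon S).map (pullback.snd t c)) w₂ (by
    rw [← Functor.map_comp, ← Functor.map_comp, hw₂'])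
  have hl₁' : l ≫ pullback.fst d d = pullback.snd t c := (yon S).map_injective (by rw [Functor.map_comp]; exact hl₁)
  have key : l ≫ m = pullback.fst t c := (yon S).map_injective (sR.hom_ext
    (by rw [← Functor.map_comp, ← Functor.map_comp, Category.assoc, hm₁', reassoc_of% hl₁', pullback.condition])
    (by rw [← Functor.map_comp, ← Functor.map_comp, Category.assoc, hm₂, reassoc_of% hl₂,
      Functor.map_comp, hw₂]))
  refine ⟨l.left e₀, ?_⟩
  rw [← Scheme.Hom.comp_apply, ← Over.comp_left, key]
  exact he₀

end Groth.Agent.AlgSpFin
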