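import Groth.Agent.AlgSpFin.Misc4

/-!
Quasi-separatedness from a chart with quasi-compact projection.
-/

set_option autoImplicit false
set_option backward.isDefEq.respectTransparency.types false

universe u

open CategoryTheory CategoryTheory.Limits AlgebraicGeometry Opposite AlgSp TopologicalSpace

namespace Groth.Agent.AlgSpFin

open Groth.Agent.AlgSpLib

variable {S : Scheme.{u}}

/-- A compact scheme lifts along a chart after a compact surjective refinement. -/
theorem exists_compact_refinement {X : Sp S} (hX : IsAlgSpace X) {U : Over S} (p : (yon S).obj U ⟶ X)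
    (hp : RepWith @Etale p) (hs : RepWith @Surjective p) {V : Over S} [CompactSpace V.left]
    (a : (yon S).obj V ⟶ X) :
    ∃ (V' : Over S) (g : V' ⟶ V) (v : V' ⟶ U), CompactSpace V'.left ∧ Surjective g.left ∧
      (yon S).map g ≫ a = (yon S).map v ≫ p := by
  obtain ⟨Q, q₁, q₂, sQ⟩ := exists_isPullback (hX.representable_from_yon a) p
  have : Etale q₁.left := prop_snd sQ.flip hp
  have : Surjective q₁.left := prop_snd sQ.flip hs
  choose A hA hzA _ using fun z : Q.left =>
    exists_isAffineOpen_mem_and_subset (X := Q.left) (U := ⊤) (x := z) trivial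
  obtain ⟨T, hT⟩ := isCompact_univ.elim_finite_subcover (fun z : Q.left => q₁.left '' (A z : Set Q.left))
    (fun z => q₁.left.isOpenMap _ (A z).2) (fun y _ => by
      obtain ⟨z, rfl⟩ := q₁.left.surjective y
      exact Set.mem_iUnion.2 ⟨z, z, hzA z, rfl⟩)
  let O : Q.left.Opens := ⟨⋃ z ∈ T, (A z : Set Q.left), isOpen_biUnion fun z _ => (A z).2⟩
  let V' : Over S := Over.mk (O.ι ≫ Q.hom)
  let o : V' ⟶ Q := Over.homMk O.ι rfl
  refine ⟨V', o ≫ q₁, o ≫ q₂, ?_, ⟨fun y => ?_⟩, by rw [Functor.map_comp_assoc, sQ.w, Functor.map_comp_assoc]⟩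
  · exact isCompact_iff_compactSpace.1 (T.isCompact_biUnion fun z _ => (hA z).isCompact)
  · obtain ⟨z, hz, w, hw, rfl⟩ := Set.mem_iUnion₂.1 (hT (Set.mem_univ y))
    exact ⟨⟨w, Set.mem_biUnion hz hw⟩, rfl⟩

/-- A chart with quasi-separated source and quasi-compact projection gives quasi-separatedness. -/
theorem isQuasiSeparatedSp_of_chart {X : Sp S} (hX : IsAlgSpace X) {R U : Over S} (p : (yon S).obj U ⟶ X)
    (hp : RepWith @Etale p) (hs : RepWith @Surjective p) [QuasiSeparatedSpace ↥U.left] (s t : R ⟶ U)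
    (hR : IsPullback ((yon S).map t) ((yon S).map s) p p) [QuasiCompact t.left] : IsQuasiSeparatedSp X := by
  refine isQuasiSeparatedSp_of_compact hX fun V W P a b fst snd hV hW sP => ?_
  obtain ⟨V', g, v, hV', hg, ev⟩ := exists_compact_refinement hX p hp hs a
  obtain ⟨W', h, w, hW', hh, ew⟩ := exists_compact_refinement hX p hp hs b
  obtain ⟨P₁, x₁, x₂, s₁⟩ : ∃ (P₁ : Over S) (x₁ : P₁ ⟶ V') (x₂ : P₁ ⟶ P), IsPullback x₁ x₂ g fst :=
    ⟨_, _, _, IsPullback.of_hasPullback g fst⟩
  obtain ⟨P₂, y₁, y₂, s₂⟩ : ∃ (P₂ : Over S) (y₁ : P₂ ⟶ P₁) (y₂ : P₂ ⟶ W'), IsPullback y₁ y₂ (x₂ ≫ snd) h :=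
    ⟨_, _, _, IsPullback.of_hasPullback (x₂ ≫ snd) h⟩
  obtain ⟨A, a₁, a₂, sA⟩ : ∃ (A : Over S) (a₁ : A ⟶ V') (a₂ : A ⟶ R), IsPullback a₁ a₂ v t :=
    ⟨_, _, _, IsPullback.of_hasPullback v t⟩
  obtain ⟨B, b₁, b₂, sB⟩ : ∃ (B : Over S) (b₁ : B ⟶ A) (b₂ : B ⟶ W'), IsPullback b₁ b₂ (a₂ ≫ s) w :=
    ⟨_, _, _, IsPullback.of_hasPullback (a₂ ≫ s) w⟩
  have : QuasiCompact a₁.left := MorphismProperty.of_isPullback (left_isPullback sA).flip ‹_›
  have : CompactSpace A.left := QuasiCompact.compactSpace_of_compactSpace a₁.left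
  have : QuasiCompact w.left := quasiCompact_of_compactSpace w.left
  have : QuasiCompact b₁.left := MorphismProperty.of_isPullback (left_isPullback sB).flip ‹_›
  have : CompactSpace B.left := QuasiCompact.compactSpace_of_compactSpace b₁.left
  have t₁ := (yon_isPullback s₁).paste_vert sP
  rw [← Functor.map_comp] at t₁
  have t₂ := (yon_isPullback s₂).paste_horiz t₁
  have u₁ := (yon_isPullback sA).paste_vert hR
  rw [← Functor.map_comp] at u₁
  have u₂ := (yon_isPullback sB).paste_horiz u₁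
  rw [← ev, ← ew] at u₂
  rw [← Functor.map_comp] at t₂ u₂
  obtain ⟨l, hl₁, hl₂⟩ := exists_lift t₂ ((yon S).map (b₁ ≫ a₁)) b₂ u₂.w
  obtain ⟨m, hm₁, hm₂⟩ := exists_lift u₂ ((yon S).map (y₁ ≫ x₁)) y₂ t₂.w
  have hlm : m ≫ l = 𝟙 _ := by
    apply (yon S).map_injective
    apply t₂.hom_ext
    · rw [Functor.map_comp, Category.assoc, hl₁, ← Functor.map_comp, ← Functor.map_comp]
      rw [Functor.map_comp, hm₁, Category.id_comp]
    · rw [← Functor.map_comp, ← Functor.map_comp, Category.assoc, hl₂, hm₂, Category.id_comp]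
  have : Surjective l.left := ⟨fun z => ⟨m.left z, by
    rw [← Scheme.Hom.comp_apply, ← Over.comp_left, hlm]; rfl⟩⟩
  have : CompactSpace P₂.left := l.left.surjective.compactSpace l.left.continuous
  have : Surjective x₂.left := MorphismProperty.of_isPullback (left_isPullback s₁) ‹_›
  have : Surjective y₁.left := MorphismProperty.of_isPullback (left_isPullback s₂).flip ‹_›
  have : Surjective (y₁ ≫ x₂).left := by rw [Over.comp_left]; infer_instance
  exact (y₁ ≫ x₂).left.surjective.compactSpace (y₁ ≫ x₂).left.continuous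

end Groth.Agent.AlgSpFin
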