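import Groth.Agent.AlgSpFin.ProperSupport
import Groth.Agent.AlgSpLimDesc.Limit

/-!
Scheme theoretic images of reduced spaces.
-/

set_option autoImplicit false
set_option backward.isDefEq.respectTransparency.types false

universe u

open CategoryTheory CategoryTheory.Limits AlgebraicGeometry Opposite AlgSp TopologicalSpace

namespace Groth.Agent.AlgSpFin

open Groth.Agent.AlgSpLib Groth.Agent.AlgStLib

variable {S : Scheme.{u}}

/-- Closed immersions are monomorphisms with closed range. -/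
theorem closedImm_mono_range {X Z : Space S} (i : Z.obj ⟶ X.obj) (hi : RepWith @IsClosedImmersion i) :
    Mono i ∧ IsClosed (Set.range (Points.map i)) :=
  ⟨mono_of_repWith hi fun _ _ k hk => by
      have : IsClosedImmersion k := hk
      infer_instance,
    (AlgSpPts.isUnivClosedMor_of_closedImmersion Z.property X.property hi X.property (𝟙 _) (𝟙 _) i
      (IsPullback.of_horiz_isIso ⟨by simp⟩)).isClosed_range⟩

/-- The image of a reduced space is the reduced structure on the closure of its range. -/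
theorem isRedInduced_of_isSchImage {X Y Z : Space S} (f : X ⟶ Y) (i : Z ⟶ Y) (hX : IsReducedSp X.obj)
    (hZ : IsSchImage f.hom i.hom) : IsRedInduced (closure (Set.range (Points.map f.hom))) i.hom := by
  obtain ⟨hi, ⟨f', hf'⟩, huniv⟩ := hZ
  obtain ⟨W, w, hw, hwr, hwred⟩ := exists_redInduced Y _ (isClosed_closure (s := Set.range (Points.map f.hom)))
  obtain ⟨fW, hfW⟩ := (factors_closedImm_iff w hw hX f).2 (by rw [hwr]; exact subset_closure)
  obtain ⟨k, hk⟩ := huniv w.hom W.property hw ⟨fW.hom, congrArg InducedCategory.Hom.hom hfW⟩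
  obtain ⟨hmi, hci⟩ := closedImm_mono_range i.hom hi
  obtain ⟨hmw, -⟩ := closedImm_mono_range w.hom hw
  obtain ⟨e, he⟩ := (factors_closedImm_iff i hi hwred w).2 (by
    rw [hwr]
    refine closure_minimal ?_ hci
    rintro _ ⟨x, rfl⟩
    exact ⟨Points.map f' x, by rw [← Points.map_comp, hf']⟩)
  have he' : e.hom ≫ i.hom = w.hom := congrArg InducedCategory.Hom.hom he
  have : Mono i.hom := hmi
  have : Mono w.hom := hmw
  have h₁ : e.hom ≫ k = 𝟙 _ := by rw [← cancel_mono w.hom, Category.assoc, hk, he', Category.id_comp]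
  have h₂ : k ≫ e.hom = 𝟙 _ := by rw [← cancel_mono i.hom, Category.assoc, he', hk, Category.id_comp]
  have : IsIso e.hom := ⟨k, h₁, h₂⟩
  refine ⟨hi, ?_, ?_⟩
  · rw [← hwr]
    refine Set.Subset.antisymm ?_ ?_
    · rintro _ ⟨z, rfl⟩
      exact ⟨Points.map k z, by rw [← Points.map_comp, hk]⟩
    · rintro _ ⟨z, rfl⟩
      exact ⟨Points.map e.hom z, by rw [← Points.map_comp, he']⟩
  · obtain ⟨U, a, ha, has, hred⟩ := hwred
    exact ⟨U, a ≫ e.hom, repWith_comp ha (repWith_iso _), repWith_comp has (repWith_iso _), hred⟩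

/-- The reduced structure on the closure of the range is the image. -/
theorem isSchImage_of_isRedInduced {X Y Z : Space S} (f : X ⟶ Y) (i : Z ⟶ Y) (hX : IsReducedSp X.obj)
    (hi : IsRedInduced (closure (Set.range (Points.map f.hom))) i.hom) : IsSchImage f.hom i.hom := by
  obtain ⟨hic, hir, hZ⟩ := hi
  obtain ⟨fZ, hfZ⟩ := (factors_closedImm_iff i hic hX f).2 (by rw [hir]; exact subset_closure)
  refine ⟨hic, ⟨fZ.hom, congrArg InducedCategory.Hom.hom hfZ⟩, fun Z' i' hZ' hi' ⟨f'', hf''⟩ => ?_⟩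
  let W : Space S := ⟨Z', hZ'⟩
  obtain ⟨k, hk⟩ := (factors_closedImm_iff (Z := W) (ObjectProperty.homMk i') hi' hZ i).2 (by
    rw [hir]
    refine closure_minimal ?_ (closedImm_mono_range (Z := W) i' hi').2
    rintro _ ⟨x, rfl⟩
    exact ⟨Points.map f'' x, (Points.map_comp f'' i' x).symm.trans (by rw [hf''])⟩)
  exact ⟨k.hom, congrArg InducedCategory.Hom.hom hk⟩

/-- Images of reduced spaces commute with etale base change. -/
theorem isSchImage_etale_baseChange {X Y Z V XV ZV : Space S} (f : X ⟶ Y) (i : Z ⟶ Y) (hX : IsReducedSp X.obj)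
    (hZ : IsSchImage f.hom i.hom) (b : V ⟶ Y) (hb : IsEtaleMor b.hom) (f₁ : XV ⟶ X) (fV : XV ⟶ V) (i₁ : ZV ⟶ Z)
    (iV : ZV ⟶ V) (sqX : IsPullback f₁.hom fV.hom f.hom b.hom) (sqZ : IsPullback i₁.hom iV.hom i.hom b.hom) :
    IsSchImage fV.hom iV.hom := by
  obtain ⟨hi, hir, hZr⟩ := isRedInduced_of_isSchImage f i hX hZ
  have key : ∀ {A AV : Space S} {a : A.obj ⟶ Y.obj} {a₁ : AV.obj ⟶ A.obj} {aV : AV.obj ⟶ V.obj},
      IsPullback a₁ aV a b.hom → IsReducedSp A.obj → IsReducedSp AV.obj := by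
    intro A AV a a₁ aV sq hA
    have he : IsEtaleMor a₁ := isEtaleMor_baseChange V.property Y.property A.property sq.flip hb
    obtain ⟨U, c, hc, hcs⟩ := AV.property.atlas
    exact ⟨U, c, hc, hcs, AlgSpLimDesc.isReduced_of_etale_chart A.property hA (he c hc)⟩
  refine isSchImage_of_isRedInduced fV iV (key sqX hX) ⟨repWith_baseChange sqZ hi, ?_, key sqZ hZr⟩
  have h₁ : Set.range (Points.map iV.hom) = Points.map b.hom ⁻¹' Set.range (Points.map i.hom) :=
    range_map_of_isPullback sqZ
  have h₂ : Set.range (Points.map fV.hom) = Points.map b.hom ⁻¹' Set.range (Points.map f.hom) :=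
    range_map_of_isPullback sqX
  rw [h₁, hir, h₂]
  exact (isOpenMap_map_of_isEtaleMor V.property hb).preimage_closure_eq_closure_preimage (Points.continuous_map _) _

end Groth.Agent.AlgSpFin
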