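import Groth.Agent.AlgSpFin.OpenSubspace
import Groth.Agent.AlgSpFin.QsDecent
import Groth.Agent.AlgSpLib.RepGlue
import Groth.Agent.AlgSpLib.FpqcLocalRep
import Groth.Agent.AlgSpLib.ImmersionDescent
import Groth.Agent.AlgSpLib.EtaleMono
import Groth.Agent.BMCoh.Basic
import Groth.Prelude.Def_AlgSpSub
import Mathlib.CategoryTheory.Sites.Subsheaf

/-!
Reduced induced closed subspaces.
-/

set_option autoImplicit false
set_option backward.isDefEq.respectTransparency false
set_option backward.isDefEq.respectTransparency.types false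

universe u

open CategoryTheory CategoryTheory.Limits AlgebraicGeometry Opposite AlgSp TopologicalSpace

namespace Groth.Agent.AlgSpFin

open Groth.Agent.AlgSpLib

variable {S : Scheme.{u}}

/-- A map from a reduced scheme into the image of a closed immersion factors through it. -/
theorem exists_lift_closedImm_of_reduced {W U Z : Scheme.{u}} (i : Z ⟶ U) [IsClosedImmersion i]
    [AlgebraicGeometry.IsReduced W] (f : W ⟶ U) (h : Set.range f ⊆ Set.range i) : ∃ l : W ⟶ Z, l ≫ i = f := by
  have : IsClosedImmersion (pullback.snd i f) := MorphismProperty.pullback_snd _ _ ‹_›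
  have : Surjective (pullback.snd i f) := ⟨fun w => by
    obtain ⟨z, hz⟩ := h ⟨w, rfl⟩
    obtain ⟨p, -, hp⟩ := Scheme.Pullback.exists_preimage_pullback (f := i) (g := f) z w hz
    exact ⟨p, hp⟩⟩
  have : IsIso (pullback.snd i f) := isIso_of_isClosedImmersion_of_surjective _
  exact ⟨inv (pullback.snd i f) ≫ pullback.fst i f, by
    rw [Category.assoc, pullback.condition, IsIso.inv_hom_id_assoc]⟩

/-- The sections all of whose chart liftings land in a closed subscheme. -/
def closedSub (X : Sp S) {U Z : Over S} (a : (yon S).obj U ⟶ X) (z : Z ⟶ U) : Subfunctor X.obj where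
  obj T := {x | ∀ (W : Over S) (p : W ⟶ T.unop) (q : W ⟶ U),
    (yon S).map p ≫ secHom X (T := T.unop) x = (yon S).map q ≫ a → ∃ l : W ⟶ Z, l ≫ z = q}
  map {T T'} g x hx W p q w := hx W (p ≫ g.unop) q (by
    have : secHom X (T := T'.unop) (X.obj.map g x) = (yon S).map g.unop ≫ secHom X (T := T.unop) x :=
      secHom_map X g.unop x
    rw [Functor.map_comp, Category.assoc, ← this, w])

theorem closedSub_isSheaf (X : Sp S) {U Z : Over S} (a : (yon S).obj U ⟶ X) (z : Z ⟶ U) [IsClosedImmersion z.left] :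
    Presheaf.IsSheaf (J S) (closedSub X a z).toFunctor := by
  rw [isSheaf_iff_isSheaf_of_type, Subfunctor.isSheaf_iff _ ((isSheaf_iff_isSheaf_of_type _ _).1 X.property)]
  intro T x hx W p q w
  let k := pullback.snd z q
  have : IsClosedImmersion k.left := MorphismProperty.of_isPullback (P := @IsClosedImmersion)
    (left_isPullback (IsPullback.of_hasPullback z q)) ‹_›
  have : Mono k := (Over.forget S).mono_of_mono_map (show Mono k.left from inferInstance)
  have hS := (J S).pullback_stable p hx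
  have hl : ∀ ⦃Y : Over S⦄ (g : Y ⟶ W), (Sieve.pullback p ((closedSub X a z).sieveOfSection x)) g →
      ∃ m : Y ⟶ pullback z q, m ≫ k = g := fun Y g hg => by
    obtain ⟨l, hl⟩ := hg Y (𝟙 Y) (g ≫ q) (by
      rw [CategoryTheory.Functor.map_id, Category.id_comp]
      refine (secHom_map X (g ≫ p) x).trans ?_
      rw [Functor.map_comp, Functor.map_comp, Category.assoc, Category.assoc, ← w])
    exact ⟨pullback.lift l g (hl.trans rfl), pullback.lift_snd _ _ _⟩
  choose m hm using hl
  let fam : Presieve.FamilyOfElements ((yon S).obj (pullback z q)).obj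
      (Sieve.pullback p ((closedSub X a z).sieveOfSection x)).arrows := fun Y g hg => ⟨m g hg⟩
  have hfam : fam.Compatible := fun Y₁ Y₂ Y' g₁ g₂ f₁ f₂ h₁ h₂ e => ULift.ext _ _ (by
    show g₁ ≫ m f₁ h₁ = g₂ ≫ m f₂ h₂
    rw [← cancel_mono k, Category.assoc, Category.assoc, hm, hm, e])
  obtain ⟨b, hb, -⟩ := (isSheaf_iff_isSheaf_of_type _ _).1 ((yon S).obj (pullback z q)).property _ hS fam hfam
  have hbk : b.down ≫ k = 𝟙 W := by
    have := ((isSheaf_iff_isSheaf_of_type _ _).1 ((yon S).obj W).property _ hS).isSeparatedFor.ext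
      (t₁ := (⟨b.down ≫ k⟩ : ((yon S).obj W).obj.obj (op W))) (t₂ := ⟨𝟙 W⟩) fun Y g hg => ULift.ext _ _ (by
        show g ≫ b.down ≫ k = g ≫ 𝟙 W
        rw [show g ≫ b.down ≫ k = (g ≫ b.down) ≫ k from (Category.assoc _ _ _).symm,
          show g ≫ b.down = m g hg from congrArg ULift.down (hb g hg), hm, Category.comp_id])
    exact congrArg ULift.down this
  exact ⟨b.down ≫ pullback.fst z q, by rw [Category.assoc, pullback.condition, reassoc_of% hbk]⟩

/-- A reduced closed subspace on a closed set of points exists. -/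
theorem exists_redInduced (X : Space S) (C : Set (Points X.obj)) (hC : IsClosed C) :
    ∃ (Z : Space S) (i : Z ⟶ X), IsRedInduced C i.hom := by
  obtain ⟨U, a, ha, has⟩ := X.property.atlas
  let C₀ : Closeds U.left := ⟨Points.ofPt a ⁻¹' C, hC.preimage (Points.continuous_ofPt a)⟩
  let I := Scheme.IdealSheafData.vanishingIdeal C₀
  let Z₀ : Over S := Over.mk (I.subschemeι ≫ U.hom)
  let z : Z₀ ⟶ U := Over.homMk I.subschemeι rfl
  have hzc : IsClosedImmersion z.left := inferInstanceAs (IsClosedImmersion I.subschemeι)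
  have hzr : Set.range z.left = Points.ofPt a ⁻¹' C :=
    (I.range_subschemeι).trans (Scheme.IdealSheafData.coe_support_vanishingIdeal C₀)
  have hZr : AlgebraicGeometry.IsReduced Z₀.left := BMCoh.isReduced_vanishingIdeal_subscheme C₀
  have : Mono z := (Over.forget S).mono_of_mono_map (show Mono z.left from inferInstance)
  let Z : Sp S := ⟨(closedSub X.obj a z).toFunctor, closedSub_isSheaf X.obj a z⟩
  let j : Z ⟶ X.obj := ObjectProperty.homMk (closedSub X.obj a z).ι
  have : Mono ((sheafToPresheaf (J S) (Type (u + 1))).map j) := inferInstanceAs (Mono (closedSub X.obj a z).ι)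
  have : Mono j := (sheafToPresheaf (J S) (Type (u + 1))).mono_of_mono_map this
  have hfac : ∀ (T : Over S) (g : (yon S).obj T ⟶ X.obj),
      (∃ l : (yon S).obj T ⟶ Z, l ≫ j = g) ↔ ∀ (W : Over S) (p : W ⟶ T) (q : W ⟶ U),
        (yon S).map p ≫ g = (yon S).map q ≫ a → ∃ l : W ⟶ Z₀, l ≫ z = q := fun T g => by
    have hg : secHom X.obj (T := T) ((J S).uliftYonedaEquiv.{u + 1} g) = g :=
      (J S).uliftYonedaEquiv.{u + 1}.symm_apply_apply g
    constructor
    · rintro ⟨l, rfl⟩ W p q w
      have e : (J S).uliftYonedaEquiv.{u + 1} (l ≫ j) = ((J S).uliftYonedaEquiv.{u + 1} l).1 := by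
        rw [GrothendieckTopology.uliftYonedaEquiv_comp]
        rfl
      exact ((J S).uliftYonedaEquiv.{u + 1} l).2 W p q (by rw [← e, hg]; exact w)
    · intro h
      let y : Z.obj.obj (op T) := ⟨(J S).uliftYonedaEquiv.{u + 1} g, fun W p q w => h W p q (by rwa [hg] at w)⟩
      refine ⟨(J S).uliftYonedaEquiv.{u + 1}.symm y, (J S).uliftYonedaEquiv.{u + 1}.injective ?_⟩
      rw [GrothendieckTopology.uliftYonedaEquiv_comp, Equiv.apply_symm_apply]
      rfl
  obtain ⟨R, r₁, r₂, sR⟩ := exists_isPullback ha.1 a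
  obtain ⟨aZ, haZ⟩ := (hfac Z₀ ((yon S).map z ≫ a)).2 fun W p q w => by
    obtain ⟨r, hr₁, hr₂⟩ := exists_lift sR ((yon S).map (p ≫ z)) q (by rw [Functor.map_comp, Category.assoc, w])
    have sz := IsPullback.of_hasPullback r₁ z
    have : Etale r₁.left := prop_snd sR.flip ha
    have : Etale (pullback.snd r₁ z).left := MorphismProperty.of_isPullback (P := @Etale) (left_isPullback sz) ‹_›
    have : AlgebraicGeometry.IsReduced (pullback r₁ z).left := isReduced_scheme_of_etale (pullback.snd r₁ z).left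
    obtain ⟨m, hm⟩ := exists_lift_closedImm_of_reduced z.left ((pullback.fst r₁ z).left ≫ r₂.left) (by
      rintro _ ⟨y, rfl⟩
      rw [hzr, Set.mem_preimage, Scheme.Hom.comp_apply]
      have h := (ofPt_eq_iff sR (r₁.left ((pullback.fst r₁ z).left y)) (r₂.left ((pullback.fst r₁ z).left y))).2
        ⟨_, rfl, rfl⟩
      rw [← h, ← Scheme.Hom.comp_apply, (left_isPullback sz).w, Scheme.Hom.comp_apply]
      exact hzr.le ⟨_, rfl⟩)
    let l₀ : W ⟶ pullback r₁ z := pullback.lift r p ((yon S).map_injective (by rw [Functor.map_comp, hr₁]))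
    have hl₀ : l₀ ≫ pullback.fst r₁ z = r := pullback.lift_fst _ _ _
    have hmS : m ≫ Z₀.hom = (pullback r₁ z).hom := by
      show m ≫ z.left ≫ U.hom = _
      rw [reassoc_of% hm, Over.w r₂, Over.w (pullback.fst r₁ z)]
    refine ⟨l₀ ≫ Over.homMk m hmS, Over.OverMorphism.ext ?_⟩
    show (l₀.left ≫ m) ≫ z.left = q.left
    rw [Category.assoc, hm, ← hr₂, ← hl₀]
    simp [Over.comp_left]
  -- the square over the chart
  have sP := IsPullback.of_hasPullback j a
  let e := sP.lift aZ ((yon S).map z) haZ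
  have : Mono (pullback.snd j a) :=
    MorphismProperty.pullback_snd (P := MorphismProperty.monomorphisms (Sp S)) _ _ ‹Mono j›
  have : Mono ((yon S).map z) := inferInstance
  have : Mono (e ≫ pullback.snd j a) := by rw [sP.lift_snd]; infer_instance
  have : Mono e := mono_of_mono e (pullback.snd j a)
  have : IsIso e := isIso_of_mono_of_lifts e fun T g => by
    obtain ⟨q, hq⟩ := (yon S).map_surjective (g ≫ pullback.snd j a)
    obtain ⟨l, hl⟩ := (hfac T ((yon S).map q ≫ a)).1 ⟨g ≫ pullback.fst j a, by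
      rw [hq, Category.assoc, Category.assoc, pullback.condition]⟩ T (𝟙 T) q (by simp)
    refine ⟨(yon S).map l, ?_⟩
    rw [← cancel_mono (pullback.snd j a), Category.assoc, sP.lift_snd, ← Functor.map_comp, hl, hq]
  have sA : IsPullback aZ ((yon S).map z) j a := sP.of_iso (asIso e).symm (Iso.refl _) (Iso.refl _) (Iso.refl _)
    (by simp [e]) (by simp [e]) (by simp) (by simp)
  -- the atlas
  have hdiag : Representable (Limits.diag Z) := by
    refine MorphismProperty.of_isPullback (P := Representable (S := S)) (f' := j) (f := prod.map j j) ?_ X.property.diag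
    have w : j ≫ Limits.diag X.obj = Limits.diag Z ≫ prod.map j j := by ext <;> simp
    refine IsPullback.of_isLimit' ⟨w⟩ (PullbackCone.IsLimit.mk w (fun c => c.snd ≫ prod.fst) (fun c => ?_) (fun c => ?_)
      fun c m _ hm => ?_)
    · have := congrArg (· ≫ prod.fst) c.condition
      simpa using this.symm
    · have h₁ := congrArg (· ≫ prod.fst) c.condition
      have h₂ := congrArg (· ≫ prod.snd) c.condition
      simp only [Category.assoc, prod.lift_fst, prod.lift_snd, Category.comp_id, prod.map_fst, prod.map_snd] at h₁ h₂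
      refine Limits.prod.hom_ext ?_ ?_
      · simp
      · rw [← cancel_mono j]
        simp [← h₁, ← h₂]
    · rw [← hm]; simp
  have hatlas : ∀ (P : MorphismProperty Scheme.{u}) [P.IsStableUnderBaseChange], RepWith P a → RepWith P aZ :=
    fun P _ hP => repWith_of_exists fun T g => by
    obtain ⟨W, w₁, w₂, sW⟩ := exists_isPullback ha.1 (g ≫ j)
    obtain ⟨l, hl⟩ := (hfac T (g ≫ j)).1 ⟨g, rfl⟩ W w₂ w₁ sW.w.symm
    refine ⟨W, (yon S).map l, w₂, IsPullback.of_right (h₁₂ := (yon S).map z) (h₂₂ := j)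
      (by rw [← Functor.map_comp, hl]; exact sW.flip.flip) ?_ sA.flip, prop_snd sW hP⟩
    rw [← cancel_mono j, Category.assoc, Category.assoc, haZ, ← Functor.map_comp_assoc, hl, sW.w]
  have hZ : IsAlgSpace Z := ⟨hdiag, Z₀, aZ, hatlas _ ha, hatlas _ has⟩
  have hcl : RepWith @IsClosedImmersion j :=
    (isLocalOnBase_isClosedImmersion (ι := PUnit.{u + 1}) (fun _ => (yon S).obj U) (fun _ => a) X.property
      (fun _ => IsAlgSpace.yon_obj U)
      (isFpqcCover_of_isFppfCover S X.property (fun _ => IsAlgSpace.yon_obj U)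
        ⟨fun _ => ⟨locP_of_repWith ha fun _ _ _ k m hk hm => EtLocal.comp_etale k m hk
            (EtLocal.of_etale (P := @Flat) m hm),
          locP_of_repWith ha fun _ _ _ k m hk hm => EtLocal.comp_etale k m hk
            (EtLocal.of_etale (P := @LocallyOfFinitePresentation) m hm)⟩, fun y => ⟨⟨⟩, by
          obtain ⟨t, rfl⟩ := surjective_ofPt has y
          exact ⟨Points.ofPt (𝟙 _) t, by rw [Points.map_ofPt, Category.id_comp]⟩⟩⟩)
      j hZ (fun _ => (yon S).obj Z₀) (fun _ => (yon S).map z) (fun _ => aZ) (fun _ => IsAlgSpace.yon_obj Z₀)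
      (fun _ => sA)).2 fun _ => (repWith_yon_map_iff @IsClosedImmersion z).2 hzc
  refine ⟨⟨Z, hZ⟩, ObjectProperty.homMk j, hcl, ?_, Z₀, aZ, hatlas _ ha, hatlas _ has, hZr⟩
  ext x
  constructor
  · rintro ⟨y, rfl⟩
    obtain ⟨t, rfl⟩ := surjective_ofPt (hatlas _ has) y
    show Points.map j (Points.ofPt aZ t) ∈ C
    rw [Points.map_ofPt, haZ, ofPt_comp]
    exact hzr.le ⟨t, rfl⟩
  · intro hx
    obtain ⟨u, rfl⟩ := surjective_ofPt has x
    obtain ⟨t, ht⟩ := hzr.ge hx
    exact ⟨Points.ofPt aZ t, by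
      show Points.map j (Points.ofPt aZ t) = _
      rw [Points.map_ofPt, haZ, ofPt_comp, ht]⟩

/-- From a reduced space, factoring through a closed subspace is a condition on points. -/
theorem factors_closedImm_iff {X Y Z : Space S} (i : Z ⟶ X) (hi : RepWith @IsClosedImmersion i.hom)
    (hY : IsReducedSp Y.obj) (f : Y ⟶ X) :
    (∃ g : Y ⟶ Z, g ≫ i = f) ↔ Set.range (Points.map f.hom) ⊆ Set.range (Points.map i.hom) := by
  refine ⟨?_, fun h => ?_⟩
  · rintro ⟨g, rfl⟩ _ ⟨y, rfl⟩
    exact ⟨Points.map g.hom y, (Points.map_comp _ _ _).symm⟩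
  obtain ⟨U, a, ha, has, hred⟩ := hY
  obtain ⟨W, w₁, w₂, sW⟩ : ∃ (W : Over S) (w₁ : (yon S).obj W ⟶ Z.obj) (w₂ : W ⟶ U),
      IsPullback w₁ ((yon S).map w₂) i.hom (a ≫ f.hom) :=
    ⟨hi.1.pullback _, hi.1.fst _, hi.1.snd _, hi.1.isPullback _⟩
  have : IsClosedImmersion w₂.left := hi.2 _ w₁ w₂ sW
  have : AlgebraicGeometry.IsReduced U.left := hred
  have : Surjective w₂.left := ⟨fun u => by
    obtain ⟨y, hy⟩ := h ⟨Points.ofPt a u, rfl⟩
    obtain ⟨p, -, hp⟩ := exists_point_of_isPullback sW y (Points.ofPt (𝟙 _) u)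
      (by rw [hy, Points.map_ofPt, Points.map_ofPt, Category.id_comp])
    obtain ⟨w, rfl⟩ := exists_ofScheme p
    refine ⟨w, (Points.schemeEquiv U).injective ?_⟩
    show Points.ofPt (𝟙 _) (w₂.left w) = Points.ofPt (𝟙 _) u
    rw [← hp, ← ofPt_comp, Category.comp_id, Points.map_ofPt, Category.id_comp]⟩
  have : IsIso w₂.left := isIso_of_isClosedImmersion_of_surjective _
  have : IsIso ((Over.forget S).map w₂) := ‹IsIso w₂.left›
  have : IsIso w₂ := isIso_of_reflects_iso w₂ (Over.forget S)
  have sQ := IsPullback.of_hasPullback i.hom f.hom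
  have : Mono i.hom := mono_of_repWith hi fun _ _ k hk => by
    have : IsClosedImmersion k := hk
    infer_instance
  have : Mono (pullback.snd i.hom f.hom) :=
    MorphismProperty.pullback_snd (P := MorphismProperty.monomorphisms (Sp S)) _ _ ‹Mono i.hom›
  let l := inv ((yon S).map w₂) ≫ sQ.lift w₁ ((yon S).map w₂ ≫ a) (by rw [Category.assoc, sW.w])
  have hl : l ≫ pullback.snd i.hom f.hom = a := by
    rw [Category.assoc, sQ.lift_snd, IsIso.inv_hom_id_assoc]
  have : IsIso (pullback.snd i.hom f.hom) := isIso_of_mono_of_local_lifts _ fun T t => by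
    obtain ⟨V, v₁, v₂, sV⟩ := exists_isPullback ha.1 t
    have : Etale v₂.left := prop_snd sV ha
    exact ⟨V, v₂, (yon S).map v₁ ≫ l, inferInstance, inferInstance, prop_snd sV has,
      by rw [Category.assoc, hl, sV.w]⟩
  exact ⟨ObjectProperty.homMk (inv (pullback.snd i.hom f.hom) ≫ pullback.fst i.hom f.hom),
    ObjectProperty.hom_ext _ (by
      show (inv (pullback.snd i.hom f.hom) ≫ pullback.fst i.hom f.hom) ≫ i.hom = f.hom
      rw [Category.assoc, pullback.condition, IsIso.inv_hom_id_assoc])⟩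

end Groth.Agent.AlgSpFin
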