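import Groth.Agent.AlgSpFin.MorCalc
import Groth.Agent.AlgSpFin.Basic
import Groth.Prelude.Def_AlgSpMor5

/-!
Functoriality of relative normalisation.
-/

set_option autoImplicit false
set_option backward.isDefEq.respectTransparency.types false

universe u

open CategoryTheory CategoryTheory.Limits AlgebraicGeometry AlgSp

namespace Groth.Agent.AlgSpFin

open Groth.Agent.AlgSpLib

variable {S : Scheme.{u}} {Y X X' Z : Space S}

/-- Normalisation relative to an intermediate integral morphism. -/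
theorem isRelNormalization_desc (f : Y ⟶ X) (ν : X' ⟶ X) (f' : Y ⟶ X') (hn : IsRelNormalization f.hom ν.hom f'.hom)
    (π : Z ⟶ X) (hπ : IsIntegralMor π.hom) (g : Y ⟶ Z) (hg : g ≫ π = f) (h : X' ⟶ Z) (h1 : f' ≫ h = g)
    (h2 : h ≫ π = ν) : IsRelNormalization g.hom h.hom f'.hom := by
  obtain ⟨hf, hν, huniv⟩ := hn
  have hg' : g.hom ≫ π.hom = f.hom := congrArg InducedCategory.Hom.hom hg
  have h1' : f'.hom ≫ h.hom = g.hom := congrArg InducedCategory.Hom.hom h1
  have h2' : h.hom ≫ π.hom = ν.hom := congrArg InducedCategory.Hom.hom h2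
  have hπr := (isIntegralMor_iff_repWith _).1 hπ
  refine ⟨h1', (isIntegralMor_iff_repWith _).2 ?_, fun Z' hZ' π' g' hπ' hg'' => ?_⟩
  · obtain ⟨P, γ, p, s, m, sP, e, sG⟩ := exists_graph h.hom π.hom
    have hsep : IsSeparatedMor π.hom := (isSeparatedMor_iff_repWith hπr.1).2 (repWith_mono (fun _ _ k hk => by
      have : IsIntegralHom k := hk
      infer_instance) hπr)
    have hγ : RepWith @IsIntegralHom γ := repWith_mono (fun _ _ k hk => by
      have : IsClosedImmersion k := hk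
      infer_instance) (repWith_baseChange sG hsep)
    rw [← e]
    exact repWith_comp hγ (repWith_baseChange sP (h2' ▸ (isIntegralMor_iff_repWith _).1 hν))
  · have hcomp : IsIntegralMor (π' ≫ π.hom) :=
      (isIntegralMor_iff_repWith _).2 (repWith_comp ((isIntegralMor_iff_repWith _).1 hπ') hπr)
    obtain ⟨k, ⟨hk₁, hk₂⟩, huk⟩ := huniv hZ' (π' ≫ π.hom) g' hcomp (by rw [reassoc_of% hg'', hg'])
    obtain ⟨k₀, -, huk₀⟩ := huniv Z.property π.hom g.hom hπ hg'
    refine ⟨k, ⟨hk₁, ?_⟩, fun k₂ ⟨a, b⟩ => huk k₂ ⟨a, by rw [reassoc_of% b, h2']⟩⟩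
    rw [huk₀ (k ≫ π') ⟨by rw [reassoc_of% hk₁, hg''], by rw [Category.assoc, hk₂]⟩, huk₀ h.hom ⟨h1', h2'⟩]

end Groth.Agent.AlgSpFin
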