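import Groth.Agent.AlgStLib.RepSheaf
import Groth.Agent.AlgSpLib.FibreProduct
import Groth.Agent.AlgSpLib.DiagMor
import Groth.Prelude.Def_AlgSpRep
import Mathlib

/-!
Calculus of maps of presheaves representable by algebraic spaces.
-/

set_option autoImplicit false
set_option backward.isDefEq.respectTransparency false
set_option backward.isDefEq.respectTransparency.types false

universe u

open CategoryTheory CategoryTheory.Limits AlgebraicGeometry Opposite AlgSp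

namespace Groth.Agent.AlgSpFin

open Groth.Agent.AlgSpLib Groth.Agent.AlgStLib

variable {S : Scheme.{u}} {F G H : PSp S}

/-- A fibre product of presheaves of three algebraic spaces is an algebraic space. -/
theorem isAlgSpaceP_of_isPullback {A B C P : PSp S} {fst : P ⟶ A} {snd : P ⟶ B} {f : A ⟶ C} {g : B ⟶ C}
    (sq : IsPullback fst snd f g) (hA : IsAlgSpaceP A) (hB : IsAlgSpaceP B) (hC : IsAlgSpaceP C) :
    IsAlgSpaceP P := by
  obtain ⟨hA, hA'⟩ := hA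
  obtain ⟨hB, hB'⟩ := hB
  obtain ⟨hC, hC'⟩ := hC
  have hP := isSheaf_of_isPullback (F := ⟨A, hA⟩) (G := ⟨C, hC⟩) (H := ⟨B, hB⟩) sq
  exact ⟨hP, isAlgSpace_of_isPullback (X := ⟨A, hA⟩) (Y := ⟨B, hB⟩) (Z := ⟨C, hC⟩) (P := ⟨P, hP⟩)
    (fst := ObjectProperty.homMk fst) (snd := ObjectProperty.homMk snd) (f := ObjectProperty.homMk f)
    (g := ObjectProperty.homMk g) (IsPullback.of_map_of_faithful (sheafToPresheaf (J S) (Type (u + 1))) sq)
    hA' hB' hC'⟩

theorem isAlgSpaceP_pyon (U : Over S) : IsAlgSpaceP ((pyon S).obj U) :=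
  (isAlgSpaceP_obj_iff ((yon S).obj U)).2 (IsAlgSpace.yon_obj U)

theorem repBySp_baseChange {P T : PSp S} {fst : P ⟶ F} {snd : P ⟶ T} {a : F ⟶ G} {t : T ⟶ G}
    (sq : IsPullback fst snd a t) (ha : RepBySp a) : RepBySp snd :=
  fun _ ξ _ _ _ sq' => ha (ξ ≫ t) _ _ (sq'.paste_horiz sq)

theorem repBySp_of_relativelyRepresentable {a : F ⟶ G} (ha : (pyon S).relativelyRepresentable a) : RepBySp a := by
  intro U ξ F' fst snd sq
  obtain ⟨V, v, w, sq'⟩ := ha ξ
  exact (isAlgSpaceP_pyon V).of_iso (sq'.isoIsPullback _ _ sq)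

theorem isSheaf_of_repBySp {a : F ⟶ G} (ha : RepBySp a) (hG : Presheaf.IsSheaf (J S) G) :
    Presheaf.IsSheaf (J S) F := by
  refine isSheaf_of_fibres (F := ⟨G, hG⟩) a fun T s => ?_
  let ξ : (pyon S).obj T ⟶ G := uliftYonedaEquiv.symm s
  have sq := IsPullback.of_hasPullback a ξ
  obtain ⟨hs, -⟩ := ha ξ _ _ sq
  have sqR := fun R : Over S => sq.map ((evaluation (Over S)ᵒᵖ (Type (u + 1))).obj (op R))
  refine ⟨⟨⟨_, hs⟩, ObjectProperty.homMk (pullback.snd a ξ), pullback.fst a ξ, fun R g => ?_,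
    fun R g g' h₁ h₂ => Types.ext_of_isPullback (sqR R) h₂ h₁, fun R h p hp => ?_⟩⟩
  · exact congrArg (fun k : pullback a ξ ⟶ G => k.app (op R) g) sq.w
  · obtain ⟨g, h₁, h₂⟩ := Types.exists_of_isPullback (sqR R) p ⟨h⟩ hp
    exact ⟨g, h₂, h₁⟩

theorem isAlgSpaceP_of_repBySp {a : F ⟶ G} (ha : RepBySp a) (hG : IsAlgSpaceP G) : IsAlgSpaceP F := by
  obtain ⟨hG, hG'⟩ := hG
  have hF := isSheaf_of_repBySp ha hG
  refine ⟨hF, isAlgSpace_of_fibres (F := ⟨G, hG⟩) hG' (ObjectProperty.homMk a : (⟨F, hF⟩ : Sp S) ⟶ ⟨G, hG⟩)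
    fun T s => ?_⟩
  have sq := IsPullback.of_hasPullback (ObjectProperty.homMk a : (⟨F, hF⟩ : Sp S) ⟶ ⟨G, hG⟩) s
  exact ⟨_, _, _, (repBySp_hom_iff (F := ⟨F, hF⟩) (G := ⟨G, hG⟩) (ObjectProperty.homMk a)).1 ha s _ _ sq, sq⟩

/-- Pullback along a map from an algebraic space. -/
theorem isAlgSpaceP_of_along {P T : PSp S} {fst : P ⟶ F} {snd : P ⟶ T} {a : F ⟶ G} {t : T ⟶ G}
    (sq : IsPullback fst snd a t) (ha : RepBySp a) (hT : IsAlgSpaceP T) : IsAlgSpaceP P :=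
  isAlgSpaceP_of_repBySp (repBySp_baseChange sq ha) hT

theorem repBySp_comp {a : F ⟶ G} {b : G ⟶ H} (ha : RepBySp a) (hb : RepBySp b) : RepBySp (a ≫ b) := by
  intro U ξ F' fst snd sq
  have s₂ := IsPullback.of_hasPullback b ξ
  have s₁ : IsPullback fst (s₂.lift (fst ≫ a) snd (by rw [Category.assoc]; exact sq.w)) a (pullback.fst b ξ) :=
    IsPullback.of_bot (by rw [s₂.lift_snd]; exact sq) (s₂.lift_fst _ _ _).symm s₂
  exact isAlgSpaceP_of_along s₁ ha (hb ξ _ _ s₂)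

theorem repBySp_diagonal {a : F ⟶ G} (ha : RepBySp a) : RepBySp (pullback.diagonal a) := by
  intro U ξ F' fst snd sq
  let ξ₁ := ξ ≫ pullback.fst a a
  let ξ₂ := ξ ≫ pullback.snd a a
  have e : ξ₂ ≫ a = ξ₁ ≫ a := by simp [ξ₁, ξ₂, pullback.condition]
  have s₀ := IsPullback.of_hasPullback a (ξ₁ ≫ a)
  have hA := ha (ξ₁ ≫ a) _ _ s₀
  let σ₁ := s₀.lift ξ₁ (𝟙 _) (by simp)
  let σ₂ := s₀.lift ξ₂ (𝟙 _) (by simp [e])
  let π := pullback.snd a (ξ₁ ≫ a)
  have sR := IsPullback.of_hasPullback π π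
  let m : pullback π π ⟶ pullback a a :=
    pullback.map π π a a (pullback.fst _ _) (pullback.fst _ _) (ξ₁ ≫ a) s₀.w.symm s₀.w.symm
  have sΔ := diagonal_baseChange s₀ sR (Δ := pullback.diagonal π) (pullback.diagonal_fst _)
    (pullback.diagonal_snd _) m (by simp [m]) (by simp [m])
  let σ := sR.lift σ₁ σ₂ (by simp [σ₁, σ₂, π])
  have hσ : σ ≫ m = ξ := by
    apply pullback.hom_ext <;> simp [σ, m, σ₁, σ₂, ξ₁, ξ₂]
  rw [← hσ] at sq
  let k := sΔ.lift fst (snd ≫ σ) (by rw [Category.assoc]; exact sq.w)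
  have s' : IsPullback k snd (pullback.diagonal π) σ :=
    IsPullback.of_right (by rw [sΔ.lift_fst]; exact sq) (sΔ.lift_snd _ _ _) sΔ
  exact isAlgSpaceP_of_isPullback s' hA (isAlgSpaceP_pyon U)
    (isAlgSpaceP_of_isPullback sR hA hA (isAlgSpaceP_pyon U))

theorem repBySp_of_comp {a : F ⟶ G} {b : G ⟶ H} (hΔ : RepBySp (pullback.diagonal b)) (hab : RepBySp (a ≫ b)) :
    RepBySp a := by
  rw [← pullback.lift_snd (f := a ≫ b) (g := b) (𝟙 F) a (Category.id_comp _)]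
  exact repBySp_comp (repBySp_baseChange (pullback_lift_diagonal_isPullback a b) hΔ)
    (repBySp_baseChange (IsPullback.of_hasPullback (a ≫ b) b) hab)

theorem repBySp_prodMap {F₁ G₁ F₂ G₂ : PSp S} {a₁ : F₁ ⟶ G₁} {a₂ : F₂ ⟶ G₂} (h₁ : RepBySp a₁) (h₂ : RepBySp a₂) :
    RepBySp (prod.map a₁ a₂) := by
  have e : prod.map a₁ a₂ = prod.map a₁ (𝟙 F₂) ≫ prod.map (𝟙 G₁) a₂ := by simp
  rw [e]
  refine repBySp_comp (repBySp_baseChange (IsPullback.of_prod_fst_with_id a₁ F₂) h₁) (repBySp_baseChange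
    (fst := prod.snd) (t := prod.snd) ?_ h₂)
  refine IsPullback.of_iso (IsPullback.of_prod_fst_with_id a₂ G₁) (prod.braiding _ _) (Iso.refl _) (prod.braiding _ _)
    (Iso.refl _) ?_ ?_ ?_ ?_ <;> simp

/-- A fibre product over `F` is a base change of the diagonal of `F`. -/
theorem isPullback_diag_prod {T U P : PSp S} {fst : P ⟶ T} {snd : P ⟶ U} {ξ : T ⟶ F} {η : U ⟶ F}
    (sq : IsPullback fst snd ξ η) :
    IsPullback (fst ≫ ξ) (prod.lift fst snd) (Limits.diag F) (prod.map ξ η) := by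
  have w : (fst ≫ ξ) ≫ Limits.diag F = prod.lift fst snd ≫ prod.map ξ η := by
    apply Limits.prod.hom_ext <;> simp [sq.w]
  have key : ∀ c : PullbackCone (Limits.diag F) (prod.map ξ η),
      c.snd ≫ prod.fst ≫ ξ = c.fst ∧ c.snd ≫ prod.snd ≫ η = c.fst := fun c => by
    have e₁ := congrArg (· ≫ prod.fst) c.condition
    have e₂ := congrArg (· ≫ prod.snd) c.condition
    simp at e₁ e₂
    exact ⟨e₁.symm, e₂.symm⟩
  refine IsPullback.of_isLimit' ⟨w⟩ (PullbackCone.IsLimit.mk w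
    (fun c => sq.lift (c.snd ≫ prod.fst) (c.snd ≫ prod.snd) (by simp [(key c).1, (key c).2]))
    (fun c => by rw [sq.lift_fst_assoc, Category.assoc, (key c).1])
    (fun c => by apply Limits.prod.hom_ext <;> simp)
    (fun c l _ hl => by apply sq.hom_ext <;> simp [← hl]))

theorem isAlgSpaceP_prod_pyon (T U : Over S) : IsAlgSpaceP ((pyon S).obj T ⨯ (pyon S).obj U) :=
  (isAlgSpaceP_pyon (T ⨯ U)).of_iso (PreservesLimitPair.iso (pyon S) T U)

theorem repBySp_diag_iff : RepBySp (Limits.diag F) ↔ ∀ (T : Over S) (ξ : (pyon S).obj T ⟶ F), RepBySp ξ := by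
  constructor
  · intro h T ξ U η P fst snd sq
    exact isAlgSpaceP_of_along (isPullback_diag_prod sq) h (isAlgSpaceP_prod_pyon T U)
  · intro h U ξ P fst snd sq
    have s₀ := IsPullback.of_hasPullback (ξ ≫ prod.fst) (ξ ≫ prod.snd)
    have sΔ := isPullback_diag_prod s₀
    have e : Limits.diag _ ≫ prod.map (ξ ≫ prod.fst) (ξ ≫ prod.snd) = ξ := by
      apply Limits.prod.hom_ext <;> simp
    rw [← e] at sq
    let k := sΔ.lift fst (snd ≫ Limits.diag _) (by rw [Category.assoc]; exact sq.w)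
    have s' : IsPullback k snd (prod.lift (pullback.fst _ _) (pullback.snd _ _)) (Limits.diag _) :=
      IsPullback.of_right (by rw [sΔ.lift_fst]; exact sq) (sΔ.lift_snd _ _ _) sΔ
    exact isAlgSpaceP_of_isPullback s' (h U (ξ ≫ prod.fst) (ξ ≫ prod.snd) _ _ s₀) (isAlgSpaceP_pyon U)
      (isAlgSpaceP_prod_pyon U U)

end Groth.Agent.AlgSpFin
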