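import Groth.Agent.AlgSpLib.Basic
import Mathlib.AlgebraicGeometry.Sites.Fpqc

/-!
Properties of representable morphisms checked on a chart.
-/

set_option autoImplicit false
set_option backward.isDefEq.respectTransparency.types false

universe u

open CategoryTheory CategoryTheory.Limits AlgebraicGeometry AlgSp

namespace Groth.Agent.AlgSpFin

open Groth.Agent.AlgSpLib

variable {S : Scheme.{u}}

/-- A property fppf local on the base is checked on an etale surjective chart. -/
theorem repWith_iff_chart {Y X : Sp S} (f : Y ⟶ X) (hf : Representable f) {U V : Over S}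
    (q : (yon S).obj U ⟶ X) (hqe : RepWith @Etale q) (hqs : RepWith @Surjective q)
    (fst : (yon S).obj V ⟶ Y) (g : V ⟶ U) (sq : IsPullback fst ((yon S).map g) f q)
    (P : MorphismProperty Scheme.{u}) [P.IsStableUnderBaseChange] [P.IsLocalAtTarget Scheme.fppfPrecoverage] :
    RepWith P f ↔ P g.left := by
  refine ⟨fun h => h.2 q fst g sq, fun h => ⟨hf, fun T W t a w sW => ?_⟩⟩
  obtain ⟨T', r, r', sT⟩ := exists_isPullback hqe.1 t
  have : Etale r'.left := prop_snd sT hqe
  have : Surjective r'.left := prop_snd sT hqs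
  have hR : Presieve.singleton r'.left ∈ Scheme.fppfPrecoverage T.left :=
    (Scheme.singleton_mem_precoverage_iff (@Flat ⊓ @LocallyOfFinitePresentation) r'.left).2 ⟨r'.left.surjective, inferInstance, inferInstance⟩
  refine MorphismProperty.IsLocalAtTarget.of_forall_pullbackSnd (P := P) hR fun {Z k} _ hk => ?_
  cases hk
  obtain ⟨W', c, d, sd⟩ : ∃ (W' : Over S) (c : W' ⟶ W) (d : W' ⟶ T'), IsPullback c d w r' :=
    ⟨_, _, _, IsPullback.of_hasPullback w r'⟩
  have big := (yon_isPullback sd).paste_horiz sW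
  rw [← sT.w] at big
  obtain ⟨l, hl₁, hl₂⟩ := exists_lift sq ((yon S).map c ≫ a) (d ≫ r) (by rw [big.w, Functor.map_comp, Category.assoc])
  have sl : IsPullback ((yon S).map l) ((yon S).map d) ((yon S).map g) ((yon S).map r) :=
    IsPullback.of_right (by rw [hl₁]; exact big) (by rw [← Functor.map_comp, ← Functor.map_comp, hl₂]) sq
  have hd : P d.left := P.of_isPullback (left_isPullback (IsPullback.of_map_of_faithful (yon S) sl)) h
  rwa [← (left_isPullback sd).isoPullback_hom_snd, P.cancel_left_of_respectsIso] at hd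

end Groth.Agent.AlgSpFin

namespace Groth.Agent.AlgSpFin

open Groth.Agent.AlgSpLib Opposite

variable {S : Scheme.{u}}

/-- A property fppf local on the base descends along surjective maps of sheaves. -/
theorem repWith_of_locallySurjective {F G H : Sp S} (a : F ⟶ G) (ha : Representable a) (b : H ⟶ G)
    [Sheaf.IsLocallySurjective b] {Q : Sp S} (b' : Q ⟶ F) (a' : Q ⟶ H) (sq : IsPullback b' a' a b)
    (P : MorphismProperty Scheme.{u}) [P.IsStableUnderBaseChange] [P.IsLocalAtTarget Scheme.fppfPrecoverage]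
    (h : RepWith P a') : RepWith P a := by
  refine ⟨ha, fun T W t c w sW => ?_⟩
  let s : G.obj.obj (op T) := (J S).uliftYonedaEquiv t
  have hR := Presheaf.imageSieve_mem (J S) b.hom s
  have : Scheme.fppfPrecoverage.{u}.HasIsos :=
    ⟨fun {S T} f _ => (Scheme.singleton_mem_precoverage_iff (@Flat ⊓ @LocallyOfFinitePresentation) f).2
      ⟨f.surjective, ⟨inferInstance, inferInstance⟩⟩⟩
  have hR' : Sieve.overEquiv T (Presheaf.imageSieve b.hom s) ∈ Scheme.fppfPrecoverage.toGrothendieck T.left := hR
  obtain ⟨P₀, hP₀, hle⟩ := Precoverage.mem_toGrothendieck_iff_of_isStableUnderComposition.1 hR'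
  refine MorphismProperty.IsLocalAtTarget.of_forall_pullbackSnd (P := P) hP₀ fun {Z k} _ hk => ?_
  obtain ⟨z, hz⟩ := (Sieve.overEquiv_iff (Presheaf.imageSieve b.hom s) k).1 (hle _ _ hk)
  let T' : Over S := Over.mk (k ≫ T.hom)
  let r' : T' ⟶ T := Over.homMk k rfl
  let η : (yon S).obj T' ⟶ H := (J S).uliftYonedaEquiv.symm z
  have hη : η ≫ b = (yon S).map r' ≫ t := by
    apply (J S).uliftYonedaEquiv.injective
    rw [GrothendieckTopology.uliftYonedaEquiv_comp, Equiv.apply_symm_apply,
      ← GrothendieckTopology.uliftYonedaEquiv_naturality]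
    exact hz
  obtain ⟨W', c', d, sd⟩ : ∃ (W' : Over S) (c' : W' ⟶ W) (d : W' ⟶ T'), IsPullback c' d w r' :=
    ⟨_, _, _, IsPullback.of_hasPullback w r'⟩
  have big := (yon_isPullback sd).paste_horiz sW
  rw [← hη] at big
  have sl : IsPullback (sq.lift ((yon S).map c' ≫ c) ((yon S).map d ≫ η) (by rw [big.w, Category.assoc]))
      ((yon S).map d) a' η :=
    IsPullback.of_right (by rw [sq.lift_fst]; exact big) (sq.lift_snd _ _ _) sq
  have hd : P d.left := h.2 η _ d sl
  rwa [← (left_isPullback sd).isoPullback_hom_snd, P.cancel_left_of_respectsIso] at hd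

end Groth.Agent.AlgSpFin
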