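import Groth.Agent.AlgSpFin.RelDim
import Groth.Agent.AlgSpFin.FieldSpace
import Groth.Agent.FibreTrdeg.Basic
import Groth.Agent.LocalDim.Closure
import Groth.Prelude.Def_Dual3
import Mathlib.RingTheory.AlgebraicIndependent.TranscendenceBasis

/-!
Residue transcendence degrees of morphisms of algebraic spaces.
-/

set_option autoImplicit false
set_option backward.isDefEq.respectTransparency.types false

universe u

open CategoryTheory CategoryTheory.Limits AlgebraicGeometry Opposite AlgSp TopologicalSpace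

namespace Groth.Agent.AlgSpFin

open Groth.Agent.AlgSpLib

/-- Residue transcendence degrees add up along compositions. -/
theorem resTrdeg_comp {X Y Z : Scheme.{u}} (f : X ⟶ Y) (g : Y ⟶ Z) (x : X) :
    Dual3.resTrdeg (f ≫ g) x = Dual3.resTrdeg g (f x) + Dual3.resTrdeg f x := by
  letI a₁ : Algebra (Z.residueField (g (f x))) (Y.residueField (f x)) := (g.residueFieldMap (f x)).hom.toAlgebra
  letI a₂ : Algebra (Y.residueField (f x)) (X.residueField x) := (f.residueFieldMap x).hom.toAlgebra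
  letI a₃ : Algebra (Z.residueField (g (f x))) (X.residueField x) := ((f ≫ g).residueFieldMap x).hom.toAlgebra
  have : IsScalarTower (Z.residueField (g (f x))) (Y.residueField (f x)) (X.residueField x) :=
    IsScalarTower.of_algebraMap_eq fun r => by
      show ((f ≫ g).residueFieldMap x).hom r = (f.residueFieldMap x).hom ((g.residueFieldMap (f x)).hom r)
      rw [AlgebraicGeometry.Scheme.residueFieldMap_comp]
      rfl
  exact (trdeg_add_eq (Z.residueField (g (f x))) (Y.residueField (f x)) (A := X.residueField x)).symm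

/-- The fibre dimension is the dimension of the local ring of the fibre plus the transcendence degree. -/
theorem exists_fibreDimAt_eq_stalk_add {X Y : Scheme.{u}} (h : X ⟶ Y) [LocallyOfFiniteType h] (x : X) :
    ∃ n : ℕ, Dual3.resTrdeg h x = n ∧
      FlatMor.fibreDimAt h x =
        ringKrullDim ↥((h.fiber (h x)).presheaf.stalk (h.asFiber x)) + (n : WithBot ℕ∞) ∧
      topologicalKrullDim (closure ({h.asFiber x} : Set (h.fiber (h x)))) = n := by
  obtain ⟨n, hn, hn'⟩ := FibreTrdeg.exists_trdeg_fibre h (h x) (h.asFiber x)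
  have hn₂ : Dual3.resTrdeg h (h.fiberι (h x) (h.asFiber x)) = n := hn
  rw [h.fiberι_asFiber] at hn₂
  have : LocallyOfFiniteType (h.fiberToSpecResidueField (h x)) := MorphismProperty.pullback_snd _ _ ‹_›
  refine ⟨n, hn₂, ?_, hn'⟩
  rw [← hn']
  exact LocalDim.localDim_eq_stalk_add_closure (k := Y.residueField (h x)) (h.fiberToSpecResidueField (h x)) _

/-- Quasi-finite morphisms have algebraic residue extensions. -/
theorem resTrdeg_of_lqf {X Y : Scheme.{u}} (h : X ⟶ Y) [LocallyQuasiFinite h] [LocallyOfFiniteType h] (x : X) :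
    Dual3.resTrdeg h x = 0 := by
  obtain ⟨n, hn, -, hn'⟩ := exists_fibreDimAt_eq_stalk_add h x
  have : topologicalKrullDim (closure ({h.asFiber x} : Set (h.fiber (h x)))) ≤ 0 := dim_le_zero_of_discrete
  rw [hn'] at this
  have : n ≤ 0 := by exact_mod_cast this
  rw [hn, Nat.le_zero.1 this, Nat.cast_zero]

theorem resTrdeg_etale_comp {A B C : Scheme.{u}} (e : A ⟶ B) [Etale e] (h : B ⟶ C) (z : A) :
    Dual3.resTrdeg (e ≫ h) z = Dual3.resTrdeg h (e z) := by
  have : LocallyQuasiFinite e := locallyQuasiFinite_of_formallyUnramified _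
  rw [resTrdeg_comp, resTrdeg_of_lqf e, add_zero]

theorem resTrdeg_comp_etale {A B C : Scheme.{u}} (k : A ⟶ B) (q : B ⟶ C) [Etale q] (z : A) :
    Dual3.resTrdeg (k ≫ q) z = Dual3.resTrdeg k z := by
  have : LocallyQuasiFinite q := locallyQuasiFinite_of_formallyUnramified _
  rw [resTrdeg_comp, resTrdeg_of_lqf q, zero_add]

variable {S : Scheme.{u}}

/-- The residue transcendence degree does not depend on the diagram of charts. -/
theorem resTrdeg_eq_of_diag {X Y : Sp S} {f : X ⟶ Y} {U₁ V₁ U V : Over S}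
    {a₁ : (yon S).obj U₁ ⟶ X} {b₁ : (yon S).obj V₁ ⟶ Y} {h₁ : U₁ ⟶ V₁} {a : (yon S).obj U ⟶ X}
    {b : (yon S).obj V ⟶ Y} {h : U ⟶ V} (ha₁ : RepWith @Etale a₁) (hb₁ : RepWith @Etale b₁)
    (w₁ : a₁ ≫ f = (yon S).map h₁ ≫ b₁) (ha : RepWith @Etale a) (hb : RepWith @Etale b)
    (w : a ≫ f = (yon S).map h ≫ b) (u₁ : U₁.left) (u : U.left) (e : Points.ofPt a₁ u₁ = Points.ofPt a u) :
    Dual3.resTrdeg h₁.left u₁ = Dual3.resTrdeg h.left u := by
  obtain ⟨U₂, p₁, p, sU⟩ := exists_isPullback ha₁.1 a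
  obtain ⟨V₂, q₁, q, sV⟩ := exists_isPullback hb₁.1 b
  obtain ⟨z, rfl, rfl⟩ := (ofPt_eq_iff sU u₁ u).1 e
  have : Etale p₁.left := prop_snd sU.flip ha
  have : Etale p.left := prop_snd sU ha₁
  have : Etale q₁.left := prop_snd sV.flip hb
  have : Etale q.left := prop_snd sV hb₁
  obtain ⟨k, hk₁, hk₂⟩ := exists_lift sV ((yon S).map (p₁ ≫ h₁)) (p ≫ h) (by
    rw [Functor.map_comp, Functor.map_comp, Category.assoc, Category.assoc, ← w₁, ← w, reassoc_of% sU.w])
  have hk₁' : k ≫ q₁ = p₁ ≫ h₁ := (yon S).map_injective (by rw [Functor.map_comp]; exact hk₁)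
  rw [← resTrdeg_etale_comp p₁.left h₁.left z, ← resTrdeg_etale_comp p.left h.left z, ← Over.comp_left,
    ← Over.comp_left, ← hk₁', ← hk₂, Over.comp_left, Over.comp_left, resTrdeg_comp_etale, resTrdeg_comp_etale]

/-- The residue transcendence degree at a point, in any chart. -/
theorem hasAtMor_resTrdeg_iff {X Y : Sp S} {f : X ⟶ Y} (Q : Cardinal.{u} → Prop)
    {U V : Over S} {a : (yon S).obj U ⟶ X} {b : (yon S).obj V ⟶ Y} {h : U ⟶ V} (ha : RepWith @Etale a)
    (hb : RepWith @Etale b) (w : a ≫ f = (yon S).map h ≫ b) (u : U.left) :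
    HasAtMor (fun _ _ h u => Q (Dual3.resTrdeg h u)) f (Points.ofPt a u) ↔ Q (Dual3.resTrdeg h.left u) := by
  refine ⟨?_, fun hQ => ⟨U, V, a, b, h, u, ha, hb, w, rfl, hQ⟩⟩
  rintro ⟨U₁, V₁, a₁, b₁, h₁, u₁, ha₁, hb₁, w₁, e, hQ⟩
  exact resTrdeg_eq_of_diag ha₁ hb₁ w₁ ha hb w u₁ u e ▸ hQ

/-- The fibre dimension is the dimension of the fibre local ring plus the transcendence degree. -/
theorem fibreDim_eq_stalk_add {X Y : Space S} (f : X ⟶ Y) (hf : LocP @LocallyOfFiniteType f.hom) (x : Points X.obj)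
    (d e : WithBot ℕ∞) (r : Cardinal.{u}) (hd : HasAtMor (fun _ _ h u => FlatMor.fibreDimAt h u = d) f.hom x)
    (he : HasAtMor (fun _ _ h u => ringKrullDim ↥((h.fiber (h u)).presheaf.stalk (h.asFiber u)) = e) f.hom x)
    (hr : HasAtMor (fun _ _ h u => Dual3.resTrdeg h u = r) f.hom x) :
    d = e + ((Cardinal.toENat r : ℕ∞) : WithBot ℕ∞) := by
  obtain ⟨U, V, a, b, h, u, ha, hb, w, rfl, he⟩ := he
  have : LocallyOfFiniteType h.left := hf a b h ha hb w
  have hd' := (hasAtMor_fibreDim_iff hf (· = d) ha hb w u).1 hd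
  have hr' := (hasAtMor_resTrdeg_iff (· = r) ha hb w u).1 hr
  obtain ⟨n, hn, hn', -⟩ := exists_fibreDimAt_eq_stalk_add h.left u
  rw [← hd', ← he, ← hr', hn, Cardinal.toENat_nat, hn']
  rfl

/-- Compatible charts for a composition. -/
theorem exists_chart_comp {X Y Z : Space S} (f : X ⟶ Y) (g : Y ⟶ Z) (x : Points X.obj) :
    ∃ (U V W : Over S) (a : (yon S).obj U ⟶ X.obj) (b : (yon S).obj V ⟶ Y.obj) (c : (yon S).obj W ⟶ Z.obj)
      (h : U ⟶ V) (k : V ⟶ W) (u : U.left), RepWith @Etale a ∧ RepWith @Etale b ∧ RepWith @Etale c ∧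
      a ≫ f.hom = (yon S).map h ≫ b ∧ b ≫ g.hom = (yon S).map k ≫ c ∧
      a ≫ (f ≫ g).hom = (yon S).map (h ≫ k) ≫ c ∧ Points.ofPt a u = x ∧
      Points.ofPt b (h.left u) = Points.map f.hom x := by
  obtain ⟨V, W, b, c, k, hb, hbs, hc, -, w'⟩ := exists_chart Y.property Z.property g.hom
  obtain ⟨U, a, h, ha, has, w⟩ := exists_chart_lift X.property Y.property f.hom b hb hbs
  obtain ⟨u, rfl⟩ := surjective_ofPt has x
  refine ⟨U, V, W, a, b, c, h, k, u, ha, hb, hc, w, w', ?_, rfl, ?_⟩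
  · show a ≫ f.hom ≫ g.hom = _
    rw [← Category.assoc, w, Category.assoc, w', Functor.map_comp, Category.assoc]
  · rw [Points.map_ofPt, w, ofPt_comp]

/-- Transcendence degrees add up along compositions. -/
theorem hasAtMor_resTrdeg_comp {X Y Z : Space S} (f : X ⟶ Y) (g : Y ⟶ Z) (x : Points X.obj) (r₁ r₂ : Cardinal.{u})
    (h1 : HasAtMor (fun _ _ h u => Dual3.resTrdeg h u = r₁) f.hom x)
    (h2 : HasAtMor (fun _ _ h u => Dual3.resTrdeg h u = r₂) g.hom (Points.map f.hom x)) :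
    HasAtMor (fun _ _ h u => Dual3.resTrdeg h u = r₁ + r₂) (f ≫ g).hom x := by
  obtain ⟨U, V, W, a, b, c, h, k, u, ha, hb, hc, w, w', ww, rfl, hu⟩ := exists_chart_comp f g x
  have h1' := (hasAtMor_resTrdeg_iff (· = r₁) ha hb w u).1 h1
  rw [← hu] at h2
  have h2' := (hasAtMor_resTrdeg_iff (· = r₂) hb hc w' (h.left u)).1 h2
  refine (hasAtMor_resTrdeg_iff (· = r₁ + r₂) ha hc ww u).2 ?_
  rw [Over.comp_left, resTrdeg_comp, h1', h2', add_comm]

/-- Quasi-finite morphisms preserve transcendence degrees. -/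
theorem hasAtMor_resTrdeg_comp_lqf {X Y Z : Space S} (f : X ⟶ Y) (g : Y ⟶ Z)
    (hf : LocP (@LocallyQuasiFinite ⊓ @LocallyOfFiniteType) f.hom) (x : Points X.obj) (r : Cardinal.{u}) :
    HasAtMor (fun _ _ h u => Dual3.resTrdeg h u = r) (f ≫ g).hom x ↔
      HasAtMor (fun _ _ h u => Dual3.resTrdeg h u = r) g.hom (Points.map f.hom x) := by
  obtain ⟨U, V, W, a, b, c, h, k, u, ha, hb, hc, w, w', ww, rfl, hu⟩ := exists_chart_comp f g x
  obtain ⟨_, _⟩ : LocallyQuasiFinite h.left ∧ LocallyOfFiniteType h.left := hf a b h ha hb w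
  rw [← hu, hasAtMor_resTrdeg_iff (· = r) ha hc ww u, hasAtMor_resTrdeg_iff (· = r) hb hc w' (h.left u),
    Over.comp_left, resTrdeg_comp, resTrdeg_of_lqf h.left, add_zero]

end Groth.Agent.AlgSpFin
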