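import Groth.Agent.AlgSpFin.ResidualPoint
import Groth.Agent.AlgSpFin.ClosedPoint
import Groth.Agent.AlgSpLib.RepGlue
import Groth.Agent.AlgSpLimDesc.Limit

/-!
Residual spaces of closed points of locally Noetherian spaces.
-/

set_option autoImplicit false
set_option backward.isDefEq.respectTransparency.types false

universe u

open CategoryTheory CategoryTheory.Limits AlgebraicGeometry Opposite AlgSp TopologicalSpace

namespace Groth.Agent.AlgSpFin

open Groth.Agent.AlgSpLib

variable {S : Scheme.{u}}

/-- A Noetherian sober space without nontrivial specializations is finite. -/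
theorem finite_of_noetherian_t1 (α : Type*) [TopologicalSpace α] [NoetherianSpace α] [QuasiSober α] [T1Space α] :
    Finite α := by
  have key : ∀ a : α, irreducibleComponent a = {a} := fun a => by
    have h := isIrreducible_irreducibleComponent (x := a)
    have hg := h.isGenericPoint_genericPoint isClosed_irreducibleComponent
    rw [IsGenericPoint, closure_singleton] at hg
    have ha : a ∈ irreducibleComponent a := mem_irreducibleComponent
    rw [← hg] at ha ⊢
    rw [Set.mem_singleton_iff] at ha
    rw [← ha]
  have : Finite (irreducibleComponents α) := NoetherianSpace.finite_irreducibleComponents.to_subtype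
  refine Finite.of_injective
    (fun a : α => (⟨irreducibleComponent a, irreducibleComponent_mem_irreducibleComponents a⟩ :
      irreducibleComponents α)) fun a b h => ?_
  have := congrArg Subtype.val h
  simp only [key] at this
  exact Set.singleton_injective this

/-- The residual space of a closed point of a locally Noetherian space is a closed immersion, and conversely. -/
theorem isClosed_iff_residual_closedImmersion {X Z : Space S} (hN : IsLocNoethSp X.obj) (x : Points X.obj)
    (i : Z ⟶ X) [Mono i.hom] (hi : Set.range (Points.map i.hom) = {x})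
    (hZ : ∃ (k : Type u) (_ : Field k) (str : Spec (CommRingCat.of k) ⟶ S)
      (p : (yon S).obj (Over.mk str) ⟶ Z.obj),
      LocP @LocallyOfFinitePresentation p ∧ LocP @Flat p ∧ IsSurjectiveMor p) :
    IsClosed ({x} : Set (Points X.obj)) ↔ RepWith @IsClosedImmersion i.hom := by
  constructor
  · intro hx
    have hX := X.property
    have hZr : IsReducedSp Z.obj := ((reduced_noeth_singleton_iff Z).2 hZ).1
    obtain ⟨U₀, a₀, ha₀, ha₀s⟩ := hX.atlas
    let V : U₀.left.affineOpens → Over S := fun A => Over.mk (A.1.ι ≫ U₀.hom)
    let e : ∀ A, V A ⟶ U₀ := fun A => Over.homMk A.1.ι rfl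
    have hge : ∀ A, RepWith @Etale ((yon S).map (e A) ≫ a₀) := fun A =>
      repWith_yon_comp (e A) (inferInstanceAs (Etale A.1.ι)) ha₀
    have hg : IsFpqcCover (fun A => (yon S).obj (V A)) (fun A => (yon S).map (e A) ≫ a₀) :=
      isFpqcCover_of_isFppfCover S hX (fun A => IsAlgSpace.yon_obj (V A)) ⟨fun A =>
        ⟨locP_of_repWith (hge A) fun _ _ _ k m hk hm => EtLocal.comp_etale k m hk (EtLocal.of_etale (P := @Flat) m hm),
          locP_of_repWith (hge A) fun _ _ _ k m hk hm => EtLocal.comp_etale k m hk
            (EtLocal.of_etale (P := @LocallyOfFinitePresentation) m hm)⟩, fun y => by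
        obtain ⟨t, rfl⟩ := surjective_ofPt ha₀s y
        obtain ⟨A, hA, htA, -⟩ := exists_isAffineOpen_mem_and_subset (X := U₀.left) (x := t) (U := ⊤) trivial
        refine ⟨⟨A, hA⟩, Points.ofPt (𝟙 _) (⟨t, htA⟩ : A.toScheme), ?_⟩
        rw [map_ofPt_id, ofPt_comp]
        rfl⟩
    refine (isLocalOnBase_isClosedImmersion (S := S) _ _ hX (fun A => IsAlgSpace.yon_obj (V A)) hg i.hom Z.property
      (fun A => pullback i.hom ((yon S).map (e A) ≫ a₀)) (fun A => pullback.snd _ _) (fun A => pullback.fst _ _)
      (fun A => isAlgSpace_of_isPullback (IsPullback.of_hasPullback _ _) Z.property (IsAlgSpace.yon_obj _) hX)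
      (fun A => IsPullback.of_hasPullback _ _)).2 fun A => ?_
    let a := (yon S).map (e A) ≫ a₀
    have sM := IsPullback.of_hasPullback i.hom a
    have hM := isAlgSpace_of_isPullback sM Z.property (IsAlgSpace.yon_obj _) hX
    have : Mono (pullback.snd i.hom a) :=
      MorphismProperty.of_isPullback (P := MorphismProperty.monomorphisms (Sp S)) sM ‹Mono i.hom›
    have : IsAffine (V A).left := A.2
    have := AlgSpPts.isLocallyNoetherian_of_chart hN (hge A)
    have : NoetherianSpace (V A).left := by
      have : IsNoetherian (V A).left := { }
      infer_instance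
    let F : Set (V A).left := {t | Points.ofPt a t = x}
    have hF : IsClosed F := hx.preimage (Points.continuous_ofPt a)
    have : T1Space F := t1Space_iff_specializes_imp_eq.2 fun ⟨t, ht⟩ ⟨t', ht'⟩ h => Subtype.ext
      (AlgSpPts.eq_of_specializes_of_ofPt_eq hX hN (hge A) t' t (ht'.trans ht.symm) (h.map continuous_subtype_val)).symm
    have : QuasiSober F := hF.isClosedEmbedding_subtypeVal.quasiSober
    have : Finite F := finite_of_noetherian_t1 F
    have hd : _root_.IsDiscrete F := isDiscrete_iff_discreteTopology.2 inferInstance
    -- the points of the base change lie in this finite discrete set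
    let s : Points (pullback i.hom a) → (V A).left :=
      fun z => Points.schemeHomeo (V A) |>.symm (Points.map (pullback.snd i.hom a) z)
    have hsF : ∀ z, s z ∈ F := fun z => by
      obtain ⟨t, ht⟩ := (Points.schemeEquiv (V A)).surjective (Points.map (pullback.snd i.hom a) z)
      have hst : s z = t := by
        show (Points.schemeHomeo (V A)).symm _ = t
        rw [← ht]
        exact (Points.schemeHomeo (V A)).symm_apply_apply t
      rw [hst]
      show Points.ofPt a t = x
      refine Eq.trans ?_ (Set.mem_singleton_iff.1 (hi.le ⟨Points.map (pullback.fst i.hom a) z, rfl⟩))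
      rw [← Points.map_comp, pullback.condition, Points.map_comp, ← ht]
      exact (map_ofPt_id a t).symm
    have : DiscreteTopology (Points (pullback i.hom a)) := DiscreteTopology.of_continuous_injective
      (f := fun z => (⟨s z, hsF z⟩ : F))
      (((Points.schemeHomeo (V A)).symm.continuous.comp (Points.continuous_map _)).subtype_mk _)
      (fun z z' h => injective_map_of_mono _ ((Points.schemeHomeo (V A)).symm.injective (congrArg Subtype.val h)))
    obtain ⟨W, ⟨eW⟩⟩ := exists_iso_yon_of_discrete hM
      (isDecent_of_isQuasiSeparatedMor hM (pullback.snd i.hom a) (repWith_iso _))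
    obtain ⟨m, hm⟩ := (yon S).map_surjective (eW.hom ≫ pullback.snd i.hom a)
    suffices IsClosedImmersion m.left by
      show RepWith @IsClosedImmersion (pullback.snd i.hom a)
      have e1 : pullback.snd i.hom a = eW.inv ≫ (yon S).map m := by rw [hm, Iso.inv_hom_id_assoc]
      rw [e1]
      exact (MorphismProperty.cancel_left_of_respectsIso (RepWith @IsClosedImmersion) eW.inv _).2
        ((repWith_yon_map_iff @IsClosedImmersion m).2 this)
    have : Mono ((yon S).map m) := by rw [hm]; infer_instance
    have : Mono m := (yon S).mono_of_mono_map this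
    have : Mono m.left := (inferInstance : Mono ((Over.forget S).map m))
    have hWZ : RepWith @Etale (eW.hom ≫ pullback.fst i.hom a) :=
      (MorphismProperty.cancel_left_of_respectsIso (RepWith @Etale) eW.hom _).2 (repWith_baseChange sM.flip (hge A))
    have : IsReduced W.left := AlgSpLimDesc.isReduced_of_etale_chart Z.property hZr hWZ
    have hr : Set.range m.left = F := by
      ext t
      constructor
      · rintro ⟨w, rfl⟩
        show Points.ofPt a (m.left w) = x
        rw [← ofPt_comp, hm, Category.assoc, ← pullback.condition, ← Category.assoc, ← Points.map_ofPt]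
        exact Set.mem_singleton_iff.1 (hi.le ⟨_, rfl⟩)
      · intro ht
        obtain ⟨z, hz⟩ := hi.ge (Set.mem_singleton x)
        obtain ⟨p, -, hp⟩ := exists_point_of_isPullback sM z (Points.ofPt (𝟙 _) t) (by
          rw [hz, map_ofPt_id]; exact (show Points.ofPt a t = x from ht).symm)
        obtain ⟨w, hw⟩ := (Points.schemeEquiv W).surjective (Points.map eW.inv p)
        refine ⟨w, (Points.schemeEquiv (V A)).injective ?_⟩
        show Points.ofPt (𝟙 _) (m.left w) = Points.ofPt (𝟙 _) t
        rw [← hp, ← ofPt_comp, Category.comp_id, hm, ← map_ofPt_id, Points.map_comp]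
        rw [show Points.ofPt (𝟙 _) w = Points.map eW.inv p from hw, ← Points.map_comp eW.inv eW.hom,
          Iso.inv_hom_id, Points.map_id]
    have hinj : Function.Injective (fun w : W.left => (⟨m.left w, hr.le ⟨w, rfl⟩⟩ : F)) :=
      fun w w' h => m.left.injective (congrArg Subtype.val h)
    have : Finite W.left := Finite.of_injective _ hinj
    have : DiscreteTopology W.left :=
      DiscreteTopology.of_continuous_injective (m.left.continuous.subtype_mk _) hinj
    have : CompactSpace W.left := Finite.compactSpace
    have : QuasiSeparatedSpace (V A).left := inferInstance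
    have : QuasiCompact m.left := quasiCompact_of_compactSpace m.left
    exact isClosedImmersion_of_mono_finite m.left (hr ▸ hF) (hr ▸ hd)
  · intro h
    have hI : RepWith @IsImmersion i.hom := ⟨h.1, fun U V g fst snd sq => by
      have : IsClosedImmersion ((Over.forget S).map snd) := h.2 g fst snd sq
      exact (inferInstance : IsImmersion ((Over.forget S).map snd))⟩
    rw [← hi]
    exact (repWith_isClosedImmersion_iff X.property hI).1 h

end Groth.Agent.AlgSpFin
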