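import Groth.Agent.AlgSpFin.DiscreteScheme
import Groth.Agent.AlgSpFin.ImmersionTop
import Groth.Agent.GeomFibre.Descent
import Groth.Agent.AlgSpPts.NoethSp
import Groth.Agent.AlgSpPts.Decent
import Groth.Agent.FEtGalois.Normal
import Groth.Prelude.Def_AlgSp4
import Groth.Prelude.Def_AlgSpDec

/-!
One-point reduced locally Noetherian spaces.
-/

set_option autoImplicit false
set_option backward.isDefEq.respectTransparency.types false

universe u

open CategoryTheory CategoryTheory.Limits AlgebraicGeometry Opposite AlgSp TopologicalSpace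

namespace Groth.Agent.AlgSpFin

open Groth.Agent.AlgSpLib

variable {S : Scheme.{u}}

/-- A nonempty scheme monomorphic over a field is that field. -/
theorem isIso_of_mono_to_field {M : Scheme.{u}} [Nonempty M] {K : Type u} [Field K]
    (c : M ⟶ Spec (CommRingCat.of K)) [Mono c] : IsIso c := by
  have : IsReduced (Spec (CommRingCat.of K)) := inferInstance
  have : Subsingleton (Spec (CommRingCat.of K)) := inferInstanceAs (Subsingleton (PrimeSpectrum K))
  have : IrreducibleSpace (Spec (CommRingCat.of K)) := inferInstance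
  have : IsIntegral (Spec (CommRingCat.of K)) := inferInstance
  have : Subsingleton M := c.injective.subsingleton
  have : CompactSpace M := Finite.compactSpace
  have : QuasiCompact c := quasiCompact_of_compactSpace c
  have : Surjective c := ⟨fun y => ⟨Classical.arbitrary M, Subsingleton.elim _ _⟩⟩
  exact Flat.isIso_of_surjective_of_mono c

/-- A space with a monomorphism into a discrete scheme is given by a scheme. -/
theorem exists_iso_yon_of_mono_discrete {X : Sp S} (hX : IsAlgSpace X) {Y : Over S} [DiscreteTopology Y.left]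
    (f : X ⟶ (yon S).obj Y) [Mono f] : ∃ M, Nonempty ((yon S).obj M ≅ X) := by
  have hd := isDecent_of_isQuasiSeparatedMor hX f (repWith_iso _)
  have : DiscreteTopology (Points X) := DiscreteTopology.of_continuous_injective
    ((Points.schemeHomeo Y).symm.continuous.comp (Points.continuous_map f))
    ((Points.schemeHomeo Y).symm.injective.comp (injective_map_of_mono f))
  exact exists_iso_yon_of_discrete hX hd

/-- The scheme of a base change of an fppf field point. -/
theorem flat_lfp_snd {Z : Space S} {V T W : Over S} {π : (yon S).obj V ⟶ Z.obj}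
    (hfp : LocP @LocallyOfFinitePresentation π) (hfl : LocP @Flat π) (hs : IsSurjectiveMor π)
    {g : (yon S).obj T ⟶ Z.obj} {c : W ⟶ V} {d : W ⟶ T} (sW : IsPullback ((yon S).map c) ((yon S).map d) π g) :
    Flat d.left ∧ LocallyOfFinitePresentation d.left ∧ Surjective d.left := by
  have h1 : LocP @Flat ((yon S).map d) :=
    locP_baseChange (IsAlgSpace.yon_obj V) Z.property (IsAlgSpace.yon_obj T) sW hfl
  have h2 : LocP @LocallyOfFinitePresentation ((yon S).map d) :=
    locP_baseChange (IsAlgSpace.yon_obj V) Z.property (IsAlgSpace.yon_obj T) sW hfp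
  refine ⟨h1 (𝟙 _) (𝟙 _) d (repWith_id _ _) (repWith_id _ _) (by simp),
    h2 (𝟙 _) (𝟙 _) d (repWith_id _ _) (repWith_id _ _) (by simp), ⟨fun t => ?_⟩⟩
  obtain ⟨v, hv⟩ := hs (Points.ofPt g t)
  obtain ⟨v', rfl⟩ := (Points.schemeEquiv V).surjective v
  obtain ⟨w, -, hw⟩ := (ofPt_eq_iff sW v' t).1 (by
    rw [← hv]
    show _ = Points.map π (Points.ofPt (𝟙 _) v')
    rw [Points.map_ofPt, Category.id_comp])
  exact ⟨w, hw⟩

/-- The residual space is a field iff the point has a monomorphic representative. -/
theorem residual_iso_field_iff (X : Space S) (x : Points X.obj) {Z : Space S} (i : Z ⟶ X) [Mono i.hom]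
    (hi : Set.range (Points.map i.hom) = {x})
    (hZ : ∃ (k : Type u) (_ : Field k) (str : Spec (CommRingCat.of k) ⟶ S)
      (p : (yon S).obj (Over.mk str) ⟶ Z.obj),
      LocP @LocallyOfFinitePresentation p ∧ LocP @Flat p ∧ IsSurjectiveMor p) :
    (∃ (k : Type u) (_ : Field k) (str : Spec (CommRingCat.of k) ⟶ S), Nonempty (Z.obj ≅ (yon S).obj (Over.mk str))) ↔
      ∃ p : FieldPt X.obj, Points.mk p = x ∧ Mono p.toHom := by
  constructor
  · rintro ⟨k, _, str, ⟨e⟩⟩
    refine ⟨ptOfHom (e.inv ≫ i.hom), ?_, by rw [ptOfHom_toHom]; exact mono_comp e.inv i.hom⟩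
    let t : (Over.mk str).left := (IsLocalRing.closedPoint k : PrimeSpectrum k)
    rw [← Points.ofPt_toHom (ptOfHom (e.inv ≫ i.hom)) t, ptOfHom_toHom]
    exact (Points.map_ofPt e.inv i.hom t).symm.trans (Set.mem_singleton_iff.1 (hi.le ⟨_, rfl⟩))
  rintro ⟨p, rfl, hm⟩
  obtain ⟨k, _, str, π, hfp, hfl, hs⟩ := hZ
  refine ⟨p.K, inferInstance, p.str, ?_⟩
  -- the point lifts to the residual space
  have sP := IsPullback.of_hasPullback i.hom p.toHom
  have hP := isAlgSpace_of_isPullback sP Z.property (IsAlgSpace.yon_obj _) X.property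
  have : Mono (pullback.snd i.hom p.toHom) :=
    MorphismProperty.of_isPullback (P := MorphismProperty.monomorphisms (Sp S)) sP ‹Mono i.hom›
  have : DiscreteTopology p.pt.left := by
    have : Subsingleton p.pt.left := inferInstanceAs (Subsingleton (PrimeSpectrum p.K))
    infer_instance
  obtain ⟨M, ⟨eM⟩⟩ : ∃ M, Nonempty ((yon S).obj M ≅ pullback i.hom p.toHom) :=
    exists_iso_yon_of_mono_discrete hP (pullback.snd i.hom p.toHom)
  obtain ⟨c, hc⟩ := (yon S).map_surjective (eM.hom ≫ pullback.snd i.hom p.toHom)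
  have : Mono ((yon S).map c) := by rw [hc]; infer_instance
  have : Mono c := (yon S).mono_of_mono_map this
  have : Mono c.left := (inferInstance : Mono ((Over.forget S).map c))
  have : Nonempty M.left := by
    obtain ⟨z, hz⟩ := hi.ge (Set.mem_singleton (Points.mk p))
    obtain ⟨q, -, -⟩ := exists_point_of_isPullback sP z (Points.ofPt (𝟙 _)
      (IsLocalRing.closedPoint p.K : PrimeSpectrum _)) (by
        rw [Points.map_ofPt, Category.id_comp, Points.ofPt_toHom]; exact hz)
    obtain ⟨m, hm'⟩ := exists_ofScheme (Points.map eM.inv q)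
    exact ⟨m⟩
  let cK : M.left ⟶ Spec (CommRingCat.of p.K) := c.left
  have : Mono cK := ‹Mono c.left›
  have : IsIso c.left := isIso_of_mono_to_field cK
  have : IsIso c := by
    have : IsIso ((Over.forget S).map c) := ‹IsIso c.left›
    exact isIso_of_reflects_iso c (Over.forget S)
  let l : (yon S).obj p.pt ⟶ Z.obj := (yon S).map (inv c) ≫ eM.hom ≫ pullback.fst i.hom p.toHom
  have hl : l ≫ i.hom = p.toHom := by
    simp only [l, Category.assoc, pullback.condition]
    rw [← reassoc_of% hc, ← Functor.map_comp_assoc, IsIso.inv_hom_id, CategoryTheory.Functor.map_id, Category.id_comp]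
  have : Mono l := mono_of_mono_fac hl
  -- the covering field point factors through it
  obtain ⟨P, a, b, sQ⟩ := exists_isPullback (Z.property.representable_from_yon π) l
  have : Mono ((yon S).map a) :=
    MorphismProperty.of_isPullback (P := MorphismProperty.monomorphisms (Sp S)) sQ.flip ‹Mono l›
  have : Mono a := (yon S).mono_of_mono_map this
  have : Mono a.left := (inferInstance : Mono ((Over.forget S).map a))
  have : Nonempty P.left := by
    obtain ⟨_, -, ⟨hP'⟩⟩ := flat_lfp_snd hfp hfl hs sQ
    exact ⟨(hP' (IsLocalRing.closedPoint p.K : PrimeSpectrum _)).choose⟩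
  let aK : P.left ⟶ Spec (CommRingCat.of k) := a.left
  have : Mono aK := ‹Mono a.left›
  have : IsIso a.left := isIso_of_mono_to_field aK
  have : IsIso a := by
    have : IsIso ((Over.forget S).map a) := ‹IsIso a.left›
    exact isIso_of_reflects_iso a (Over.forget S)
  have hπ : π = (yon S).map (inv a ≫ b) ≫ l := by
    rw [Functor.map_comp, Category.assoc, ← sQ.w, ← Category.assoc, ← Functor.map_comp, IsIso.inv_hom_id,
      CategoryTheory.Functor.map_id, Category.id_comp]
  have : IsIso l := isIso_of_mono_of_local_lifts l fun T g => by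
    obtain ⟨W, w₁, w₂, sW⟩ := exists_isPullback (Z.property.representable_from_yon π) g
    obtain ⟨h1, h2, h3⟩ := flat_lfp_snd hfp hfl hs sW
    exact ⟨W, w₂, (yon S).map w₁ ≫ (yon S).map (inv a ≫ b), h1, h2, h3, by rw [Category.assoc, ← hπ, sW.w]⟩
  exact ⟨(asIso l).symm⟩

/-- Reduced locally Noetherian one-point spaces have fppf covers by fields, and conversely. -/
theorem reduced_noeth_singleton_iff (Z : Space S) :
    (IsReducedSp Z.obj ∧ IsLocNoethSp Z.obj ∧ Nonempty (Points Z.obj) ∧ Subsingleton (Points Z.obj)) ↔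
      ∃ (k : Type u) (_ : Field k) (str : Spec (CommRingCat.of k) ⟶ S) (p : (yon S).obj (Over.mk str) ⟶ Z.obj),
        LocP @LocallyOfFinitePresentation p ∧ LocP @Flat p ∧ IsSurjectiveMor p := by
  constructor
  · rintro ⟨hred, hN, ⟨z⟩, _⟩
    obtain ⟨U, a, ha, has, hU⟩ := hred
    obtain ⟨u, -⟩ := surjective_ofPt has z
    have : IsReduced U.left := hU
    have := AlgSpPts.isLocallyNoetherian_of_chart hN ha
    obtain ⟨A, hA, huA, -⟩ := exists_isAffineOpen_mem_and_subset (X := U.left) (U := ⊤) (x := u) trivial
    have hno : ∀ v w : U.left, v ⤳ w → v = w := fun v w h =>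
      (AlgSpPts.eq_of_specializes_of_ofPt_eq Z.property hN ha w v (Subsingleton.elim _ _) h).symm
    have hd : topologicalKrullDim A.toScheme ≤ 0 := Order.krullDim_nonpos_iff_forall_isMax.2 fun C D hCD => by
      obtain ⟨c, hc⟩ := QuasiSober.sober C.isIrreducible' C.isClosed'
      obtain ⟨d, hd⟩ := QuasiSober.sober D.isIrreducible' D.isClosed'
      have hcd : d ⤳ c := hd.specializes (hCD (hc.mem))
      have e : d = c := A.ι.isOpenEmbedding.injective (hno _ _ (hcd.map A.ι.continuous))
      subst e
      show D.carrier ⊆ C.carrier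
      rw [← hd.def, ← hc.def]
    have : IsLocallyNoetherian A.toScheme := isLocallyNoetherian_of_isOpenImmersion A.ι
    have : IsLocallyArtinian A.toScheme := IsLocallyArtinian.of_topologicalKrullDim_le_zero hd
    have : DiscreteTopology A.toScheme := inferInstance
    let O : U.left.Opens := A.ι ''ᵁ ⟨{⟨u, huA⟩}, isOpen_discrete _⟩
    have hsub : Subsingleton O.toScheme := ⟨fun ⟨p, hp⟩ ⟨q, hq⟩ => Subtype.ext (by
      obtain ⟨p', (rfl : p' = _), rfl⟩ := hp
      obtain ⟨q', (rfl : q' = _), rfl⟩ := hq
      rfl)⟩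
    have : Nonempty O.toScheme := ⟨⟨u, ⟨⟨u, huA⟩, rfl, rfl⟩⟩⟩
    have : IsReduced O.toScheme := isReduced_of_isOpenImmersion O.ι
    have : IrreducibleSpace O.toScheme :=
      { isPreirreducible_univ := Set.subsingleton_univ.isPreirreducible, toNonempty := ‹_› }
    have : IsIntegral O.toScheme := isIntegral_of_irreducibleSpace_of_isReduced _
    let := (isField_of_isIntegral_of_subsingleton O.toScheme).toField
    let str : Spec (CommRingCat.of Γ(O.toScheme, ⊤)) ⟶ S := O.toScheme.isoSpec.inv ≫ O.ι ≫ U.hom
    let ι : Over.mk str ⟶ U := Over.homMk (O.toScheme.isoSpec.inv ≫ O.ι) (by simp [str])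
    have hι : RepWith @Etale ((yon S).map ι ≫ a) :=
      repWith_yon_comp (P := @Etale) ι (inferInstanceAs (Etale (O.toScheme.isoSpec.inv ≫ O.ι))) ha
    refine ⟨Γ(O.toScheme, ⊤), inferInstance, str, (yon S).map ι ≫ a, ?_, ?_, fun y => ?_⟩
    · exact locP_of_repWith hι fun A B C k m hk hm => by
        have : Etale k := hk
        have : Etale m := hm
        exact (inferInstance : LocallyOfFinitePresentation (k ≫ m))
    · exact locP_of_repWith hι fun A B C k m hk hm => by
        have : Etale k := hk
        have : Etale m := hm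
        exact (inferInstance : Flat (k ≫ m))
    · exact ⟨Points.ofPt (𝟙 _) (IsLocalRing.closedPoint Γ(O.toScheme, ⊤) : PrimeSpectrum _), Subsingleton.elim _ _⟩
  rintro ⟨k, _, str, π, hfp, hfl, hs⟩
  have : Subsingleton (Points ((yon S).obj (Over.mk str))) := by
    have : Subsingleton (Over.mk str).left := inferInstanceAs (Subsingleton (PrimeSpectrum k))
    exact (Points.schemeEquiv (Over.mk str)).symm.injective.subsingleton
  obtain ⟨U, a, ha, has⟩ := Z.property.atlas
  obtain ⟨W, c, d, sW⟩ := exists_isPullback (Z.property.representable_from_yon π) a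
  obtain ⟨h1, h2, h3⟩ := flat_lfp_snd hfp hfl hs sW
  have : Etale c.left := prop_snd sW.flip ha
  have : IsReduced (Over.mk str).left := inferInstanceAs (IsReduced (Spec (CommRingCat.of k)))
  have : IsLocallyNoetherian (Over.mk str).left := inferInstanceAs (IsLocallyNoetherian (Spec (CommRingCat.of k)))
  have : IsReduced W.left := FEtGalois.isReduced_of_etale c.left
  have : IsLocallyNoetherian W.left := LocallyOfFiniteType.isLocallyNoetherian c.left
  refine ⟨⟨U, a, ha, has, GeomFibre.isReduced_of_flat_surjective d.left⟩,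
    ⟨U, a, ha, has, AlgStLib.isLocallyNoetherian_of_fppf d.left⟩,
    ⟨Points.map π (Points.ofPt (𝟙 _) (IsLocalRing.closedPoint k : PrimeSpectrum k))⟩, hs.subsingleton⟩

end Groth.Agent.AlgSpFin
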