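import Groth.Agent.AlgSpFin.ResidualPoint

/-!
Uniqueness of residual spaces.
-/

set_option autoImplicit false
set_option backward.isDefEq.respectTransparency.types false

universe u

open CategoryTheory CategoryTheory.Limits AlgebraicGeometry Opposite AlgSp TopologicalSpace

namespace Groth.Agent.AlgSpFin

open Groth.Agent.AlgSpLib

variable {S : Scheme.{u}}

/-- A monomorphism hitting the point of a space with an fppf cover by a field is an isomorphism. -/
theorem isIso_of_mono_to_fieldCovered {Z : Space S} {P : Sp S} (hP : IsAlgSpace P) (q : P ⟶ Z.obj) [Mono q]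
    (hq : Function.Surjective (Points.map q))
    (hZ : ∃ (k : Type u) (_ : Field k) (str : Spec (CommRingCat.of k) ⟶ S)
      (p : (yon S).obj (Over.mk str) ⟶ Z.obj),
      LocP @LocallyOfFinitePresentation p ∧ LocP @Flat p ∧ IsSurjectiveMor p) :
    IsIso q := by
  obtain ⟨k, _, str, π, hfp, hfl, hs⟩ := hZ
  have sQ := IsPullback.of_hasPullback q π
  have hQ := isAlgSpace_of_isPullback sQ hP (IsAlgSpace.yon_obj _) Z.property
  have : Mono (pullback.snd q π) :=
    MorphismProperty.of_isPullback (P := MorphismProperty.monomorphisms (Sp S)) sQ ‹Mono q›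
  have : DiscreteTopology (Over.mk str).left := by
    have : Subsingleton (Over.mk str).left := inferInstanceAs (Subsingleton (PrimeSpectrum k))
    infer_instance
  obtain ⟨M, ⟨eM⟩⟩ : ∃ M, Nonempty ((yon S).obj M ≅ pullback q π) :=
    exists_iso_yon_of_mono_discrete hQ (pullback.snd q π)
  obtain ⟨c, hc⟩ := (yon S).map_surjective (eM.hom ≫ pullback.snd q π)
  have : Mono ((yon S).map c) := by rw [hc]; infer_instance
  have : Mono c := (yon S).mono_of_mono_map this
  have : Mono c.left := (inferInstance : Mono ((Over.forget S).map c))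
  have : Nonempty M.left := by
    let t : (Over.mk str).left := (IsLocalRing.closedPoint k : PrimeSpectrum k)
    obtain ⟨z, hz⟩ := hq (Points.map π (Points.ofPt (𝟙 _) t))
    obtain ⟨w, -, -⟩ := exists_point_of_isPullback sQ z _ hz
    obtain ⟨m, -⟩ := exists_ofScheme (Points.map eM.inv w)
    exact ⟨m⟩
  let cK : M.left ⟶ Spec (CommRingCat.of k) := c.left
  have : Mono cK := ‹Mono c.left›
  have : IsIso c.left := isIso_of_mono_to_field cK
  have : IsIso c := by
    have : IsIso ((Over.forget S).map c) := ‹IsIso c.left›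
    exact isIso_of_reflects_iso c (Over.forget S)
  refine isIso_of_mono_of_local_lifts q fun T g => ?_
  obtain ⟨W, w₁, w₂, sW⟩ := exists_isPullback (Z.property.representable_from_yon π) g
  obtain ⟨h1, h2, h3⟩ := flat_lfp_snd hfp hfl hs sW
  refine ⟨W, w₂, (yon S).map (w₁ ≫ inv c) ≫ eM.hom ≫ pullback.fst q π, h1, h2, h3, ?_⟩
  rw [Category.assoc, Category.assoc, pullback.condition, Functor.map_comp, Category.assoc, ← reassoc_of% hc,
    ← Functor.map_comp_assoc (yon S) (inv c) c, IsIso.inv_hom_id, CategoryTheory.Functor.map_id, Category.id_comp,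
    sW.w]

/-- Residual spaces of a point are unique. -/
theorem exists_iso_residual (X : Space S) (x : Points X.obj) {Z Z' : Space S} (i : Z ⟶ X) (i' : Z' ⟶ X)
    [Mono i.hom] [Mono i'.hom]
    (hi : Set.range (Points.map i.hom) = {x}) (hi' : Set.range (Points.map i'.hom) = {x})
    (hZ : ∃ (k : Type u) (_ : Field k) (str : Spec (CommRingCat.of k) ⟶ S) (p : (yon S).obj (Over.mk str) ⟶ Z.obj),
      LocP @LocallyOfFinitePresentation p ∧ LocP @Flat p ∧ IsSurjectiveMor p)
    (hZ' : ∃ (k : Type u) (_ : Field k) (str : Spec (CommRingCat.of k) ⟶ S)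
      (p : (yon S).obj (Over.mk str) ⟶ Z'.obj),
      LocP @LocallyOfFinitePresentation p ∧ LocP @Flat p ∧ IsSurjectiveMor p) :
    ∃ e : Z' ≅ Z, e.hom ≫ i = i' := by
  have sP := IsPullback.of_hasPullback i.hom i'.hom
  have hP := isAlgSpace_of_isPullback sP Z.property Z'.property X.property
  have : Mono (pullback.fst i.hom i'.hom) :=
    MorphismProperty.of_isPullback (P := MorphismProperty.monomorphisms (Sp S)) sP.flip ‹Mono i'.hom›
  have : Mono (pullback.snd i.hom i'.hom) :=
    MorphismProperty.of_isPullback (P := MorphismProperty.monomorphisms (Sp S)) sP ‹Mono i.hom›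
  have hx : ∀ z z', Points.map i.hom z = Points.map i'.hom z' := fun z z' => by
    rw [Set.mem_singleton_iff.1 (hi.le ⟨z, rfl⟩), Set.mem_singleton_iff.1 (hi'.le ⟨z', rfl⟩)]
  obtain ⟨z₀, -⟩ := hi.ge (Set.mem_singleton x)
  obtain ⟨z₀', -⟩ := hi'.ge (Set.mem_singleton x)
  have : IsIso (pullback.fst i.hom i'.hom) := isIso_of_mono_to_fieldCovered hP _ (fun z => by
    obtain ⟨w, hw, -⟩ := exists_point_of_isPullback sP z z₀' (hx _ _)
    exact ⟨w, hw⟩) hZ
  have : IsIso (pullback.snd i.hom i'.hom) := isIso_of_mono_to_fieldCovered hP _ (fun z => by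
    obtain ⟨w, -, hw⟩ := exists_point_of_isPullback sP z₀ z (hx _ _)
    exact ⟨w, hw⟩) hZ'
  refine ⟨InducedCategory.isoMk ((asIso (pullback.snd i.hom i'.hom)).symm ≪≫ asIso (pullback.fst i.hom i'.hom)), ?_⟩
  apply InducedCategory.hom_ext
  show ((asIso (pullback.snd i.hom i'.hom)).inv ≫ pullback.fst i.hom i'.hom) ≫ i.hom = i'.hom
  rw [Category.assoc, pullback.condition, asIso_inv, IsIso.inv_hom_id_assoc]

end Groth.Agent.AlgSpFin
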