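import Groth.Agent.AlgSpFin.FinitePiece
import Groth.Agent.AlgSpFin.ImmersionTop
import Groth.Agent.AlgSpFin.KernelGrpd
import Groth.Agent.AlgSpFin.QsDecent
import Groth.Agent.AlgSpFin.OpenSubspace
import Groth.Agent.AlgSpFin.DecentPoint
import Groth.Agent.AlgStLib.SpDiagProps
import Groth.Agent.GrpdBasic.NormOpen
import Groth.Agent.S9885
import Groth.Prelude.Def_AlgSpMor5

/-!
The schematic locus below a finite locally free surjection.
-/

set_option autoImplicit false
set_option backward.isDefEq.respectTransparency.types false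

universe u

open CategoryTheory CategoryTheory.Limits AlgebraicGeometry Opposite AlgSp

namespace Groth.Agent.AlgSpFin

open Groth.Agent.AlgSpLib

variable {S : Scheme.{u}}

/-- An open piece equal to a preimage is a base change, for any base. -/
theorem isPullback_of_range_mono {X Y Y' : Sp S} {f : X ⟶ Y} {M : Over S} {φ : (yon S).obj M ⟶ X}
    {m : (yon S).obj M ⟶ Y'} {b : Y' ⟶ Y} [Mono b] (hφ : RepWith @IsOpenImmersion φ) (w : φ ≫ f = m ≫ b)
    (hrange : ∀ x, Points.map f x ∈ Set.range (Points.map b) → x ∈ Set.range (Points.map φ)) :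
    IsPullback φ m f b := by
  have sP := IsPullback.of_hasPullback b f
  let e := sP.lift m φ w.symm
  have he : e ≫ pullback.snd b f = φ := sP.lift_snd _ _ _
  have : Mono φ := mono_of_repWith hφ fun _ _ k hk => by
    have : IsOpenImmersion k := hk
    infer_instance
  have : Mono (pullback.snd b f) :=
    MorphismProperty.pullback_snd (P := MorphismProperty.monomorphisms (Sp S)) _ _ ‹Mono b›
  have : Mono (e ≫ pullback.snd b f) := by rw [he]; infer_instance
  have : Mono e := mono_of_mono e (pullback.snd b f)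
  have : IsIso e := isIso_of_mono_of_lifts e fun T g => by
    obtain ⟨l, hl⟩ := exists_factor_of_range hφ (g ≫ pullback.snd b f) fun t => hrange _ ⟨
      Points.map (pullback.fst b f) (Points.ofPt g t), by
        rw [Points.map_ofPt, Points.map_ofPt, Points.map_ofPt, Category.assoc, Category.assoc, pullback.condition]⟩
    exact ⟨l, by rw [← cancel_mono (pullback.snd b f), Category.assoc, he, hl]⟩
  exact (sP.of_iso (asIso e).symm (Iso.refl _) (Iso.refl _) (Iso.refl _)
    (by simp [e]) (by simp [e]) (by simp) (by simp)).flip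

/-- Over an open set whose preimage lies in an affine open piece, the morphism restricts to that piece. -/
theorem exists_restricted_chart {X Y : Space S} (f : X ⟶ Y) (hf : IsFinLocFreeMor f.hom)
    (hs : RepWith @Surjective f.hom) {U : Over S} {a : (yon S).obj U ⟶ X.obj} (ha : RepWith @IsOpenImmersion a)
    (W : Set (Points Y.obj)) (hW : IsOpen W) (O : U.left.Opens)
    (hO : ∀ u : U.left, u ∈ O ↔ Points.ofPt (a ≫ f.hom) u ∈ W)
    (hsub : ∀ x, Points.map f.hom x ∈ W → x ∈ Set.range (Points.ofPt a)) :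
    ∃ (Y' : Space S) (j : Y' ⟶ Y) (α : (yon S).obj (Over.mk (O.ι ≫ U.hom)) ⟶ Y'.obj),
      RepWith @IsOpenImmersion j.hom ∧ Set.range (Points.map j.hom) = W ∧ RepWith finLocFree α ∧
        RepWith @Surjective α ∧ α ≫ j.hom = (yon S).map (Over.homMk O.ι rfl : Over.mk (O.ι ≫ U.hom) ⟶ U) ≫ a ≫ f.hom := by
  obtain ⟨Y', j, hj, hr⟩ := exists_open_subspace Y W hW
  have : Mono j.hom := mono_of_repWith hj fun _ _ k hk => by
    have : IsOpenImmersion k := hk
    infer_instance
  let jO : Over.mk (O.ι ≫ U.hom) ⟶ U := Over.homMk O.ι rfl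
  have hpt : ∀ t : O.toScheme, Points.ofPt ((yon S).map jO ≫ a ≫ f.hom) t ∈ W := fun t => by
    rw [ofPt_comp]; exact (hO t.1).1 t.2
  obtain ⟨α, hα⟩ := exists_factor_of_range hj ((yon S).map jO ≫ a ≫ f.hom) fun t => hr.ge (hpt t)
  have hjO : RepWith @IsOpenImmersion ((yon S).map jO ≫ a) :=
    repWith_comp ((repWith_yon_map_iff @IsOpenImmersion jO).2 (inferInstanceAs (IsOpenImmersion O.ι))) ha
  have sq : IsPullback ((yon S).map jO ≫ a) α f.hom j.hom :=
    isPullback_of_range_mono hjO (by rw [Category.assoc, hα]) fun x hx => by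
      rw [hr] at hx
      obtain ⟨u, rfl⟩ := hsub x hx
      rw [range_map_yon]
      exact ⟨⟨u, (hO u).2 (by rwa [← Points.map_ofPt])⟩, ofPt_comp jO a _⟩
  exact ⟨Y', j, α, hj, hr, repWith_baseChange sq hf, repWith_baseChange sq hs, hα⟩

/-- The schematic locus below a finite locally free surjection. -/
theorem mem_schematicLocus_iff {X Y : Space S} (f : X ⟶ Y) (hf : IsFinLocFreeMor f.hom)
    (hs : RepWith @Surjective f.hom) (y : Points Y.obj) :
    (∃ (Y' : Space S) (j : Y' ⟶ Y), RepWith @IsOpenImmersion j.hom ∧ Y'.obj.obj.IsRepresentable ∧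
        y ∈ Set.range (Points.map j.hom)) ↔
      ∃ (U : Over S) (a : (yon S).obj U ⟶ X.obj), IsAffine U.left ∧ RepWith @IsOpenImmersion a ∧
        Points.map f.hom ⁻¹' {y} ⊆ Set.range (Points.ofPt a) := by
  constructor
  · rintro ⟨Y', j, hj, hrep, y', rfl⟩
    obtain ⟨N, ⟨eN⟩⟩ := hrep.has_representation
    let e := isoOfRepresentableBy eN
    obtain ⟨n, hn⟩ := exists_ofScheme (Points.map e.inv y')
    obtain ⟨B, hB, hnB, -⟩ := exists_isAffineOpen_mem_and_subset (X := N.left) (U := ⊤) (x := n) trivial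
    let V : Over S := Over.mk (B.ι ≫ N.hom)
    let jB : V ⟶ N := Over.homMk B.ι rfl
    let b : (yon S).obj V ⟶ Y.obj := (yon S).map jB ≫ e.hom ≫ j.hom
    have hb : RepWith @IsOpenImmersion b :=
      repWith_comp ((repWith_yon_map_iff @IsOpenImmersion jB).2 (inferInstanceAs (IsOpenImmersion B.ι)))
        (repWith_comp (repWith_iso e.hom) hj)
    have hy : Points.ofPt b (⟨n, hnB⟩ : B.toScheme) = Points.map j.hom y' := by
      show Points.ofPt ((yon S).map jB ≫ e.hom ≫ j.hom) _ = _
      rw [ofPt_comp]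
      show Points.ofPt (e.hom ≫ j.hom) n = _
      rw [← Category.id_comp (e.hom ≫ j.hom), ← Points.map_ofPt, hn, ← Points.map_comp, e.inv_hom_id_assoc]
    obtain ⟨Wf, w, fst, sW⟩ := hf.1 b
    have hw : finLocFree w.left := hf.2 b fst w sW
    have : IsFinite w.left := hw.1
    have : IsAffine V.left := hB
    refine ⟨Wf, fst, isAffine_of_isAffineHom w.left, repWith_baseChange sW.flip hb, fun x (hx : _ = _) => ?_⟩
    obtain ⟨z, hz, -⟩ := exists_point_of_isPullback sW x (Points.ofPt (𝟙 _) (⟨n, hnB⟩ : B.toScheme))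
      (by rw [hx, Points.map_ofPt, Category.id_comp, hy])
    obtain ⟨t, rfl⟩ := exists_ofScheme z
    exact ⟨t, by rw [← hz, Points.map_ofPt, Category.id_comp]⟩
  · rintro ⟨U, a, hU, ha, hsub⟩
    have hae : RepWith @Etale a := repWith_mono (fun _ _ k hk => by
      have : IsOpenImmersion k := hk
      infer_instance) ha
    -- the open set of points with fibre inside the piece
    have hclosed : IsClosed (Points.map f.hom '' (Set.range (Points.ofPt a))ᶜ) :=
      AlgStLib.isClosedMor_of_repWith Y.property (repWith_mono (fun _ _ k hk => by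
        have : IsFinite k := hk.1
        infer_instance) hf) _ (isOpenMap_ofPt_of_etale hae).isOpen_range.isClosed_compl
    let W₀ : Set (Points Y.obj) := (Points.map f.hom '' (Set.range (Points.ofPt a))ᶜ)ᶜ
    have hW₀ : ∀ x, Points.map f.hom x ∈ W₀ → x ∈ Set.range (Points.ofPt a) :=
      fun x hx => by_contra fun h => hx ⟨x, h, rfl⟩
    let O : U.left.Opens := ⟨Points.ofPt (a ≫ f.hom) ⁻¹' W₀,
      hclosed.isOpen_compl.preimage (Points.continuous_ofPt _)⟩
    obtain ⟨Y₀, j₀, α₀, hj₀, hr₀, hα₀, hα₀s, hw₀⟩ :=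
      exists_restricted_chart f hf hs ha W₀ hclosed.isOpen_compl O (fun _ => Iff.rfl) hW₀
    obtain ⟨y₀, hy₀⟩ := hr₀.ge (show y ∈ W₀ by
      rintro ⟨x, hx, hxy⟩
      exact hx (hsub hxy))
    obtain ⟨u₀, hu₀⟩ := surjective_ofPt hα₀s y₀
    obtain ⟨R, s, t, sR⟩ := exists_isPullback hα₀.1 α₀
    have hsl : finLocFree s.left := prop_snd sR.flip hα₀
    have : IsFinite s.left := hsl.1
    have : Flat s.left := hsl.2.1
    have : LocallyOfFinitePresentation s.left := hsl.2.2
    have := hU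
    have horb := (s.left.finite_preimage_singleton u₀).image fun r => (t.left r).1
    obtain ⟨g, hgle, hgT⟩ := GrpdBasic.exists_basicOpen_subset_of_finite O horb.toFinset fun z hz => by
      obtain ⟨r, -, rfl⟩ := horb.mem_toFinset.1 hz
      exact (t.left r).2
    have hD : IsAffineOpen (O.ι ⁻¹ᵁ U.left.basicOpen g) :=
      ((isAffineOpen_top U.left).basicOpen g).preimage_of_isOpenImmersion O.ι
        (by rwa [Scheme.Opens.opensRange_ι])
    obtain ⟨W₁, hW₁, huW, hinv⟩ := exists_saturated_affine_open α₀ s t sR u₀ _ hD fun r hr =>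
      hgT _ (horb.mem_toFinset.2 ⟨r, hr, rfl⟩)
    -- the image of that open
    have hα₀o : IsOpenMap (Points.ofPt α₀) := isOpenMap_ofPt (repWith_mono (fun _ _ k hk => by
      have : Flat k := hk.2.1
      have : LocallyOfFinitePresentation k := hk.2.2
      infer_instance) hα₀)
    have hjm : Mono j₀.hom := mono_of_repWith hj₀ fun _ _ k hk => by
      have : IsOpenImmersion k := hk
      infer_instance
    let W₂ : Set (Points Y₀.obj) := Points.ofPt α₀ '' (W₁ : Set (Over.mk (O.ι ≫ U.hom)).left)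
    have hsat : ∀ z : (Over.mk (O.ι ≫ U.hom)).left, z ∈ W₁ ↔ Points.ofPt α₀ z ∈ W₂ := fun z => by
      refine ⟨fun h => ⟨z, h, rfl⟩, fun ⟨z', hz', e⟩ => ?_⟩
      obtain ⟨r, hr₁, hr₂⟩ := (ofPt_eq_iff sR z' z).1 e
      have : r ∈ s.left ⁻¹ᵁ W₁ := by show s.left r ∈ W₁; rwa [hr₁]
      rw [hinv] at this
      rw [← hr₂]
      exact this
    let Z : Over S := Over.mk (O.ι ≫ U.hom)
    have hid : RepWith @IsOpenImmersion (𝟙 ((yon S).obj Z)) := repWith_id _ Z
    let Z₀ : Space S := ⟨(yon S).obj Z, IsAlgSpace.yon_obj Z⟩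
    obtain ⟨Y₂, j₂, α₂, hj₂, hr₂, hα₂, hα₂s, hw₂⟩ := exists_restricted_chart (X := Z₀) (Y := Y₀)
      (ObjectProperty.homMk α₀) hα₀ hα₀s (U := Z) hid W₂ (hα₀o _ W₁.2) W₁
      (fun z => by rw [hsat z]; show _ ↔ Points.ofPt (𝟙 _ ≫ α₀) z ∈ W₂; rw [Category.id_comp])
      fun x _ => (exists_ofScheme x).imp fun _ => id
    -- the quotient
    obtain ⟨R₂, s₂, t₂, sR₂⟩ := exists_isPullback hα₂.1 α₂
    have hsl₂ : finLocFree s₂.left := prop_snd sR₂.flip hα₂
    have : IsFinite s₂.left := hsl₂.1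
    have : Flat s₂.left := hsl₂.2.1
    have : LocallyOfFinitePresentation s₂.left := hsl₂.2.2
    have : IsAffine (Over.mk (W₁.ι ≫ Z.hom)).left := hW₁
    obtain ⟨C, hC, str, q, φ, -, hφ, -, hφm, -⟩ := exists_affine_quotient α₂ s₂ t₂ sR₂
    have : Sheaf.IsLocallySurjective α₂ := S9885.result S _ _ α₂
      (repWith_mono (fun _ _ k hk => hk.2.1) hα₂) (repWith_mono (fun _ _ k hk => hk.2.2) hα₂) hα₂s
    have : Epi α₂ := inferInstance
    have : Epi ((yon S).map q ≫ φ) := hφ ▸ inferInstance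
    have : Epi φ := epi_of_epi ((yon S).map q) φ
    have : IsIso φ := isIso_of_mono_of_epi φ
    refine ⟨Y₂, j₂ ≫ j₀, repWith_comp hj₂ hj₀, isRepresentable_of_iso (asIso φ),
      Points.ofPt α₂ ⟨u₀, huW⟩, ?_⟩
    show Points.map (j₂.hom ≫ j₀.hom) _ = _
    rw [Points.map_comp, Points.map_ofPt, hw₂, ofPt_comp, ← hy₀, ← hu₀]
    show Points.map j₀.hom (Points.ofPt (𝟙 _ ≫ α₀) u₀) = _
    rw [Category.id_comp]

end Groth.Agent.AlgSpFin
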