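import Groth.Agent.AlgSpFin.OpenGlue
import Groth.Agent.AlgSpFin.SchemePiece
import Groth.Agent.AlgSpFin.CodimZero
import Groth.Agent.AlgSpFin.FinitePieceCover
import Groth.Agent.AlgSpPts.Qc

/-!
Points of codimension zero lie in open subschemes.
-/

set_option autoImplicit false
set_option backward.isDefEq.respectTransparency.types false

universe u

open CategoryTheory CategoryTheory.Limits AlgebraicGeometry Opposite AlgSp

namespace Groth.Agent.AlgSpFin

open Groth.Agent.AlgSpLib

variable {S : Scheme.{u}}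

/-- A point lies in an open subscheme. -/
def InOpenScheme (X : Sp S) (x : Points X) : Prop :=
  ∃ (M : Over S) (φ : (yon S).obj M ⟶ X), RepWith @IsOpenImmersion φ ∧ x ∈ Set.range (Points.ofPt φ)

/-- Charts over an affine piece of the base meet in quasi-compact schemes in a quasi-separated space. -/
theorem compactSpace_pullback_of_affineBase {X : Sp S} (hX : IsQuasiSeparatedSp X) {T : Over S} [Mono T.hom]
    [IsAffine T.left] {U V W : Over S} (fa : U ⟶ T) (fb : V ⟶ T) {a : (yon S).obj U ⟶ X} {b : (yon S).obj V ⟶ X}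
    {fst : W ⟶ U} {snd : W ⟶ V} (sq : IsPullback ((yon S).map fst) ((yon S).map snd) a b) [IsAffine U.left]
    [CompactSpace V.left] : CompactSpace W.left := by
  have sT := IsPullback.of_hasPullback fa fb
  have : QuasiCompact fa.left := inferInstance
  have : QuasiCompact (pullback.snd fa fb).left :=
    MorphismProperty.of_isPullback (P := @QuasiCompact) (left_isPullback sT) inferInstance
  have : CompactSpace (pullback fa fb).left := QuasiCompact.compactSpace_of_compactSpace (pullback.snd fa fb).left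
  have sY := yon_isPullback sT
  let m : (yon S).obj (pullback fa fb) ⟶ X ⨯ X :=
    Limits.prod.lift ((yon S).map (pullback.fst fa fb) ≫ a) ((yon S).map (pullback.snd fa fb) ≫ b)
  have hfab : fst ≫ fa = snd ≫ fb :=
    Over.OverMorphism.ext ((cancel_mono T.hom).1 ((Over.w (fst ≫ fa)).trans (Over.w (snd ≫ fb)).symm))
  obtain ⟨l, hl₁, hl₂⟩ := exists_lift sY ((yon S).map fst) snd
    (by rw [← Functor.map_comp, hfab, Functor.map_comp])
  have sD : IsPullback ((yon S).map fst ≫ a) ((yon S).map l) (Limits.diag X) m := by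
    have w : ((yon S).map fst ≫ a) ≫ Limits.diag X = (yon S).map l ≫ m := by
      apply Limits.prod.hom_ext
      · simp only [Category.assoc, Limits.prod.lift_fst, Category.comp_id, m]
        rw [← Category.assoc ((yon S).map l), hl₁]
      · simp only [Category.assoc, Limits.prod.lift_snd, Category.comp_id, m]
        rw [← Category.assoc ((yon S).map l), ← Functor.map_comp, hl₂, sq.w]
    have key : ∀ c : PullbackCone (Limits.diag X) m,
        (c.snd ≫ (yon S).map (pullback.fst fa fb)) ≫ a = c.fst ∧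
          (c.snd ≫ (yon S).map (pullback.snd fa fb)) ≫ b = c.fst := fun c => by
      have h₁ := congrArg (· ≫ Limits.prod.fst) c.condition
      have h₂ := congrArg (· ≫ Limits.prod.snd) c.condition
      simp only [Category.assoc, Limits.prod.lift_fst, Limits.prod.lift_snd, Category.comp_id, m] at h₁ h₂
      exact ⟨(Category.assoc _ _ _).trans h₁.symm, (Category.assoc _ _ _).trans h₂.symm⟩
    refine IsPullback.of_isLimit' ⟨w⟩ (PullbackCone.IsLimit.mk w
      (fun c => sq.lift (c.snd ≫ (yon S).map (pullback.fst fa fb)) (c.snd ≫ (yon S).map (pullback.snd fa fb))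
        ((key c).1.trans (key c).2.symm))
      (fun c => by rw [sq.lift_fst_assoc]; exact (key c).1) (fun c => ?_) (fun c k _ hk => ?_))
    · apply sY.hom_ext
      · rw [Category.assoc, hl₁, sq.lift_fst]
      · rw [Category.assoc, ← Functor.map_comp, hl₂, sq.lift_snd]
    · apply sq.hom_ext
      · rw [sq.lift_fst, ← hk, Category.assoc, hl₁]
      · rw [sq.lift_snd, ← hk, Category.assoc, ← Functor.map_comp, hl₂]
  have : QuasiCompact l.left := hX.2 _ _ l sD
  exact QuasiCompact.compactSpace_of_compactSpace l.left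

/-- A maximal point of an affine chart with quasi-compact fibre square lies in an open subscheme. -/
theorem inOpenScheme_of_compact {X : Sp S} (hX : IsAlgSpace X) {U : Over S} {a : (yon S).obj U ⟶ X}
    (ha : RepWith @Etale a) [IsAffine U.left] {R : Over S} {s t : R ⟶ U}
    (sR : IsPullback ((yon S).map s) ((yon S).map t) a a) [CompactSpace R.left] (u : U.left)
    (hu : ∀ v : U.left, v ⤳ u → v = u) : InOpenScheme X (Points.ofPt a u) := by
  have : Etale t.left := prop_snd sR ha
  have := isSeparated_snd_of_affine sR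
  have : QuasiCompact t.left := inferInstance
  have : LocallyQuasiFinite t.left := locallyQuasiFinite_of_formallyUnramified t.left
  obtain ⟨V, hV, huV, hVfin⟩ := (GenericFinite.finite_preimage_iff t.left u
    (GenericFinite.mem_components_of_forall hu)).1 (t.left.finite_preimage_singleton u)
  obtain ⟨M, φ, -, hm, he, hmem, -⟩ := exists_affine_piece_of_finite hX ha sR V hV hVfin u huV
  exact ⟨M, φ, repWith_isOpenImmersion_of_etale_mono (IsAlgSpace.yon_obj M) hX φ
    ((locP_iff_repWith hX he.1).2 he), hmem⟩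

/-- An open immersion carries open subschemes to open subschemes. -/
theorem inOpenScheme_map {X' X : Sp S} {j : X' ⟶ X} (hj : RepWith @IsOpenImmersion j) {y : Points X'}
    (h : InOpenScheme X' y) : InOpenScheme X (Points.map j y) := by
  obtain ⟨M, φ, hφ, p, rfl⟩ := h
  exact ⟨M, φ ≫ j, repWith_comp hφ hj, p, (Points.map_ofPt _ _ _).symm⟩

/-- Points of codimension zero of a quasi-separated space lie in open subschemes. -/
theorem inOpenScheme_of_isQuasiSeparatedSp {X : Sp S} (hX : IsAlgSpace X) (hqs : IsQuasiSeparatedSp X)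
    {x : Points X} (hx : HasAt (fun U u => ringKrullDim ↥(U.presheaf.stalk u) = 0) X x) : InOpenScheme X x := by
  obtain ⟨U₀, a₀, ha₀, ha₀s⟩ := hX.atlas
  obtain ⟨u₀, rfl⟩ := surjective_ofPt ha₀s x
  obtain ⟨T, hT, huT, -⟩ := exists_isAffineOpen_mem_and_subset (X := S) (U := ⊤) (x := U₀.hom u₀) trivial
  obtain ⟨B, hB, huB, hBT⟩ := exists_isAffineOpen_mem_and_subset (X := U₀.left) (U := U₀.hom ⁻¹ᵁ T) (x := u₀) huT
  let U : Over S := Over.mk (B.ι ≫ U₀.hom)
  let ι₀ : U ⟶ U₀ := Over.homMk B.ι rfl
  let a : (yon S).obj U ⟶ X := (yon S).map ι₀ ≫ a₀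
  have ha : RepWith @Etale a := repWith_yon_comp (P := @Etale) ι₀ (inferInstanceAs (Etale B.ι)) ha₀
  have : IsAffine U.left := hB
  have : IsAffine (Over.mk T.ι).left := hT
  have : Mono (Over.mk T.ι).hom := inferInstanceAs (Mono T.ι)
  have hr : Set.range U.hom ⊆ Set.range T.ι := by
    rintro _ ⟨z, rfl⟩
    rw [Scheme.Opens.range_ι]
    exact hBT z.2
  let f : U ⟶ Over.mk T.ι := Over.homMk (IsOpenImmersion.lift T.ι U.hom hr) (IsOpenImmersion.lift_fac _ _ _)
  obtain ⟨R, s, t, sR⟩ := exists_isPullback ha.1 a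
  have : CompactSpace R.left := compactSpace_pullback_of_affineBase hqs f f sR
  have e : Points.ofPt a (⟨u₀, huB⟩ : B.toScheme) = Points.ofPt a₀ u₀ := ofPt_comp ι₀ a₀ _
  rw [← e] at hx ⊢
  exact inOpenScheme_of_compact hX ha sR _ ((hasAt_dim_zero_iff ha _).1 hx)

/-- Points of codimension zero lie in open subschemes if some finite etale cover is quasi-separated. -/
theorem inOpenScheme_of_finite_cover {X : Sp S} (hX : IsAlgSpace X) {U₀ : Over S} {a₀ : (yon S).obj U₀ ⟶ X}
    (hf : RepWith @IsFinite a₀) (he : RepWith @Etale a₀) (hs : RepWith @Surjective a₀)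
    [QuasiSeparatedSpace U₀.left] {x : Points X}
    (hx : HasAt (fun U u => ringKrullDim ↥(U.presheaf.stalk u) = 0) X x) : InOpenScheme X x := by
  obtain ⟨u₀, rfl⟩ := surjective_ofPt hs x
  obtain ⟨B, hB, huB, -⟩ := exists_isAffineOpen_mem_and_subset (X := U₀.left) (U := ⊤) (x := u₀) trivial
  let U : Over S := Over.mk (B.ι ≫ U₀.hom)
  let ι₀ : U ⟶ U₀ := Over.homMk B.ι rfl
  let a : (yon S).obj U ⟶ X := (yon S).map ι₀ ≫ a₀
  have ha : RepWith @Etale a := repWith_yon_comp (P := @Etale) ι₀ (inferInstanceAs (Etale B.ι)) he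
  have : IsAffine U.left := hB
  obtain ⟨R, s, t, sR⟩ := exists_isPullback ha.1 a
  obtain ⟨R₁, s₁, t₁, sR₁⟩ := exists_isPullback he.1 a
  have : IsFinite t₁.left := prop_snd sR₁ hf
  have : IsAffine R₁.left := isAffine_of_isAffineHom t₁.left
  obtain ⟨l, hl₁, hl₂⟩ := exists_lift sR₁ ((yon S).map (s ≫ ι₀)) t
    (by rw [Functor.map_comp, Category.assoc]; exact sR.w)
  have sl : IsPullback s l ι₀ s₁ := isPullback_of_yon (IsPullback.of_bot
    (by rw [← Functor.map_comp, hl₂]; exact sR) (by rw [hl₁, Functor.map_comp]) sR₁)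
  have : QuasiCompact ι₀.left := quasiCompact_of_compactSpace ι₀.left
  have : QuasiCompact l.left := MorphismProperty.of_isPullback (P := @QuasiCompact) (left_isPullback sl) inferInstance
  have : CompactSpace R.left := QuasiCompact.compactSpace_of_compactSpace l.left
  have e : Points.ofPt a (⟨u₀, huB⟩ : B.toScheme) = Points.ofPt a₀ u₀ := ofPt_comp ι₀ a₀ _
  rw [← e] at hx ⊢
  exact inOpenScheme_of_compact hX ha sR _ ((hasAt_dim_zero_iff ha _).1 hx)

/-- An open subspace inherits points of codimension zero. -/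
theorem hasAt_dim_zero_map_iff {X' X : Sp S} (hX' : IsAlgSpace X') {j : X' ⟶ X} (hj : RepWith @IsOpenImmersion j)
    (y : Points X') : HasAt (fun U u => ringKrullDim ↥(U.presheaf.stalk u) = 0) X (Points.map j y) ↔
      HasAt (fun U u => ringKrullDim ↥(U.presheaf.stalk u) = 0) X' y := by
  obtain ⟨U, a, ha, has⟩ := hX'.atlas
  obtain ⟨u, rfl⟩ := surjective_ofPt has y
  have hje : RepWith @Etale j := repWith_mono (fun _ _ k hk => by
    have : IsOpenImmersion k := hk
    infer_instance) hj
  rw [Points.map_ofPt, hasAt_dim_zero_iff (repWith_comp ha hje), hasAt_dim_zero_iff ha]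

/-- Every nonempty open contains a point of codimension zero. -/
theorem exists_codimZero_mem {X : Sp S} (hX : IsAlgSpace X) {O : Set (Points X)} (hO : IsOpen O) (hne : O.Nonempty) :
    ∃ x ∈ O, HasAt (fun U u => ringKrullDim ↥(U.presheaf.stalk u) = 0) X x := by
  obtain ⟨U, a, ha, has⟩ := hX.atlas
  obtain ⟨x, hx⟩ := hne
  obtain ⟨u, rfl⟩ := surjective_ofPt has x
  obtain ⟨η, hη, hmax⟩ := exists_mem_forall_eq (hO.preimage (Points.continuous_ofPt a)) ⟨u, hx⟩
  exact ⟨_, hη, (hasAt_dim_zero_iff ha η).2 hmax⟩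

/-- If points of codimension zero lie in open subschemes, a dense open subscheme contains all of them. -/
theorem exists_open_scheme_codimZero {X : Sp S} (hX : IsAlgSpace X)
    (h : ∀ x, HasAt (fun U u => ringKrullDim ↥(U.presheaf.stalk u) = 0) X x → InOpenScheme X x) :
    ∃ (M : Over S) (Φ : (yon S).obj M ⟶ X), RepWith @IsOpenImmersion Φ ∧ Dense (Set.range (Points.map Φ)) ∧
      ∀ x, HasAt (fun U u => ringKrullDim ↥(U.presheaf.stalk u) = 0) X x → x ∈ Set.range (Points.map Φ) := by
  obtain ⟨U₀, a₀, -, ha₀s⟩ := hX.atlas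
  have : Small.{u} (Points X) := small_of_surjective (surjective_ofPt ha₀s)
  let Z : Set (Points X) := {x | HasAt (fun U u => ringKrullDim ↥(U.presheaf.stalk u) = 0) X x}
  let pc : Shrink.{u} Z ≃ Z := (equivShrink Z).symm
  choose C φ hφ hmem using fun i => h (pc i).1 (pc i).2
  obtain ⟨M, Φ, hΦ, hr⟩ := exists_scheme_union hX C φ hφ
  have hall : ∀ x ∈ Z, x ∈ Set.range (Points.map Φ) := fun x hx => by
    rw [range_map_yon, hr]
    obtain ⟨i, hi⟩ := pc.surjective ⟨x, hx⟩
    exact Set.mem_iUnion.2 ⟨i, by have := hmem i; rwa [hi] at this⟩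
  refine ⟨M, Φ, hΦ, dense_iff_inter_open.2 fun O hO hne => ?_, hall⟩
  obtain ⟨x, hxO, hx⟩ := exists_codimZero_mem hX hO hne
  exact ⟨x, hxO, hall x hx⟩

/-- A space has a largest open subscheme. -/
theorem exists_largest_open_scheme {X : Sp S} (hX : IsAlgSpace X) :
    ∃ (M : Over S) (Φ : (yon S).obj M ⟶ X), RepWith @IsOpenImmersion Φ ∧
      ∀ x, InOpenScheme X x → x ∈ Set.range (Points.map Φ) := by
  obtain ⟨U₀, a₀, -, ha₀s⟩ := hX.atlas
  have : Small.{u} (Points X) := small_of_surjective (surjective_ofPt ha₀s)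
  let Z : Set (Points X) := {x | InOpenScheme X x}
  let pc : Shrink.{u} Z ≃ Z := (equivShrink Z).symm
  choose C φ hφ hmem using fun i => (pc i).2
  obtain ⟨M, Φ, hΦ, hr⟩ := exists_scheme_union hX C φ hφ
  refine ⟨M, Φ, hΦ, fun x hx => ?_⟩
  rw [range_map_yon, hr]
  obtain ⟨i, hi⟩ := pc.surjective ⟨x, hx⟩
  exact Set.mem_iUnion.2 ⟨i, by have := hmem i; rwa [hi] at this⟩

end Groth.Agent.AlgSpFin
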