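import Groth.Agent.AlgSpLib.DiagMor
import Groth.Prelude.Def_AlgSp2
import Mathlib.AlgebraicGeometry.Morphisms.ClosedImmersion

/-!
Intersections of affines in separated algebraic spaces.
-/

set_option autoImplicit false
set_option backward.isDefEq.respectTransparency.types false

universe u

open CategoryTheory CategoryTheory.Limits AlgebraicGeometry Opposite AlgSp

namespace Groth.Agent.AlgSpFin

open Groth.Agent.AlgSpLib

theorem isPullback_diag_prod_map {C : Type*} [Category C] [HasBinaryProducts C] {A B P X : C} {a : A ⟶ X} {b : B ⟶ X}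
    {p : P ⟶ A} {q : P ⟶ B} (sq : IsPullback p q a b) {T : C} (t₁ : T ⟶ A) (t₂ : T ⟶ B) (l : P ⟶ T)
    (h₁ : l ≫ t₁ = p) (h₂ : l ≫ t₂ = q) (hT : ∀ {Z : C} (f g : Z ⟶ T), f ≫ t₁ = g ≫ t₁ → f ≫ t₂ = g ≫ t₂ → f = g) :
    IsPullback (p ≫ a) l (Limits.diag X) (prod.lift (t₁ ≫ a) (t₂ ≫ b)) := by
  have w : (p ≫ a) ≫ Limits.diag X = l ≫ prod.lift (t₁ ≫ a) (t₂ ≫ b) := by
    apply Limits.prod.hom_ext
    · simp only [Category.assoc, prod.lift_fst, Category.comp_id, reassoc_of% h₁]
    · simp only [Category.assoc, prod.lift_snd, Category.comp_id, reassoc_of% h₂, sq.w]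
  refine IsPullback.of_isLimit' ⟨w⟩ (PullbackCone.IsLimit.mk w
    (fun s => sq.lift (s.snd ≫ t₁) (s.snd ≫ t₂) ?_) (fun s => ?_) (fun s => hT _ _ ?_ ?_) fun s m _ hm => ?_)
  · have c₁ := congrArg (· ≫ prod.fst) s.condition
    have c₂ := congrArg (· ≫ prod.snd) s.condition
    simp only [Category.assoc, prod.lift_fst, prod.lift_snd, Category.comp_id] at c₁ c₂
    rw [Category.assoc, Category.assoc, ← c₁, ← c₂]
  · have c₁ := congrArg (· ≫ prod.fst) s.condition
    simp only [Category.assoc, prod.lift_fst, Category.comp_id] at c₁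
    rw [sq.lift_fst_assoc, Category.assoc, ← c₁]
  · rw [Category.assoc, h₁, sq.lift_fst]
  · rw [Category.assoc, h₂, sq.lift_snd]
  · apply sq.hom_ext
    · rw [sq.lift_fst, ← h₁, ← Category.assoc, hm]
    · rw [sq.lift_snd, ← h₂, ← Category.assoc, hm]

set_option maxHeartbeats 1000000 in
theorem affine_of_closedImmersion_prod {U V P : Scheme.{u}} [IsAffine U] [IsAffine V] (f : P ⟶ U) (g : P ⟶ V)
    [IsClosedImmersion (pullback.lift f g (terminal.hom_ext (f ≫ terminal.from U) (g ≫ terminal.from V)))] :
    IsAffine P ∧ Function.Surjective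
      (Algebra.TensorProduct.productMap f.appTop.hom.toIntAlgHom g.appTop.hom.toIntAlgHom) := by
  let l := pullback.lift f g (terminal.hom_ext (f ≫ terminal.from U) (g ≫ terminal.from V))
  have : IsAffine P := isAffine_of_isAffineHom l
  refine ⟨this, ?_⟩
  let _ : Algebra (ULift.{u} ℤ) Γ(U, ⊤) := ((Int.castRingHom _).comp ULift.ringEquiv.toRingHom).toAlgebra
  let _ : Algebra (ULift.{u} ℤ) Γ(V, ⊤) := ((Int.castRingHom _).comp ULift.ringEquiv.toRingHom).toAlgebra
  let m : pullback (terminal.from U) (terminal.from V) ⟶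
      pullback (Spec.map (CommRingCat.ofHom (algebraMap (ULift.{u} ℤ) Γ(U, ⊤))))
        (Spec.map (CommRingCat.ofHom (algebraMap (ULift.{u} ℤ) Γ(V, ⊤)))) :=
    pullback.map _ _ _ _ U.isoSpec.hom V.isoSpec.hom (specULiftZIsTerminal.from _) (specULiftZIsTerminal.hom_ext _ _)
      (specULiftZIsTerminal.hom_ext _ _)
  have : IsIso (specULiftZIsTerminal.from (⊤_ Scheme.{u})) :=
    (IsTerminal.uniqueUpToIso terminalIsTerminal specULiftZIsTerminal).isIso_hom
  have : IsIso m := pullback.map_isIso ..
  let e := pullbackSpecIso (ULift.{u} ℤ) Γ(U, ⊤) Γ(V, ⊤)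
  obtain ⟨θ, hθ⟩ := Spec.map_surjective (P.isoSpec.inv ≫ l ≫ m ≫ e.hom)
  have : IsClosedImmersion (Spec.map θ) := by rw [hθ]; infer_instance
  have hs : Function.Surjective θ.hom := fun z => by
    obtain ⟨w, hw⟩ := (IsClosedImmersion.isAffine_surjective_of_isAffine (Spec.map θ)).2
      ((Scheme.ΓSpecIso _).inv z)
    refine ⟨(Scheme.ΓSpecIso _).hom w, ?_⟩
    have h₃ := ConcreteCategory.congr_hom (Scheme.ΓSpecIso_naturality θ) w
    refine h₃.symm.trans ?_
    show (Scheme.ΓSpecIso _).hom ((Spec.map θ).appTop w) = z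
    rw [hw]
    exact ConcreteCategory.congr_hom (Scheme.ΓSpecIso _).inv_hom_id z
  have hA : θ.hom.comp Algebra.TensorProduct.includeLeftRingHom = f.appTop.hom := by
    refine congrArg CommRingCat.Hom.hom (Spec.map_injective (?_ :
      Spec.map (CommRingCat.ofHom Algebra.TensorProduct.includeLeftRingHom ≫ θ) = Spec.map f.appTop))
    rw [Spec.map_comp, hθ, Category.assoc, Category.assoc, Category.assoc, pullbackSpecIso_hom_fst,
      pullback.lift_fst, pullback.lift_fst_assoc, ← Scheme.isoSpec_hom_naturality, Iso.inv_hom_id_assoc]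
  have hB : θ.hom.comp (Algebra.TensorProduct.includeRight (R := ULift.{u} ℤ) (A := Γ(U, ⊤))).toRingHom =
      g.appTop.hom := by
    refine congrArg CommRingCat.Hom.hom (Spec.map_injective (?_ :
      Spec.map (CommRingCat.ofHom (Algebra.TensorProduct.includeRight (R := ULift.{u} ℤ) (A := Γ(U, ⊤))).toRingHom ≫ θ) =
        Spec.map g.appTop))
    rw [Spec.map_comp, hθ, Category.assoc, Category.assoc, Category.assoc]
    erw [pullbackSpecIso_hom_snd]
    rw [
      pullback.lift_snd, pullback.lift_snd_assoc, ← Scheme.isoSpec_hom_naturality, Iso.inv_hom_id_assoc]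
  intro y
  obtain ⟨x, rfl⟩ := hs y
  induction x using TensorProduct.induction_on with
  | zero => exact ⟨0, by simp⟩
  | tmul a b =>
    refine ⟨a ⊗ₜ b, ?_⟩
    rw [Algebra.TensorProduct.productMap_apply_tmul]
    show f.appTop.hom a * g.appTop.hom b = _
    rw [← hA, ← hB]
    simp [← map_mul]
  | add x y hx hy =>
    obtain ⟨x', hx⟩ := hx
    obtain ⟨y', hy⟩ := hy
    exact ⟨x' + y', by rw [map_add, hx, hy, map_add]⟩

theorem affine_pullback_of_separated {S : Scheme.{u}} [S.IsSeparated] (X : Space S) (hX : IsSeparatedSp X.obj)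
    {U V P : Over S} (a : (yon S).obj U ⟶ X.obj) (b : (yon S).obj V ⟶ X.obj) (fst : P ⟶ U) (snd : P ⟶ V)
    [IsAffine U.left] [IsAffine V.left] (h : IsPullback ((yon S).map fst) ((yon S).map snd) a b) :
    IsAffine P.left ∧ Function.Surjective
      (Algebra.TensorProduct.productMap fst.left.appTop.hom.toIntAlgHom snd.left.appTop.hom.toIntAlgHom) := by
  let T : Over S := Over.mk (pullback.fst U.hom V.hom ≫ U.hom)
  let t₁ : T ⟶ U := Over.homMk (pullback.fst U.hom V.hom) rfl
  let t₂ : T ⟶ V := Over.homMk (pullback.snd U.hom V.hom) pullback.condition.symm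
  let l : P ⟶ T := Over.homMk (pullback.lift fst.left snd.left ((Over.w fst).trans (Over.w snd).symm)) (by
    show pullback.lift _ _ _ ≫ pullback.fst _ _ ≫ U.hom = P.hom
    rw [pullback.lift_fst_assoc, Over.w fst])
  have h₁ : l ≫ t₁ = fst := Over.OverMorphism.ext (pullback.lift_fst _ _ _)
  have h₂ : l ≫ t₂ = snd := Over.OverMorphism.ext (pullback.lift_snd _ _ _)
  have sq := isPullback_diag_prod_map h ((yon S).map t₁) ((yon S).map t₂) ((yon S).map l)
    (by rw [← Functor.map_comp, h₁]) (by rw [← Functor.map_comp, h₂]) (fun f g e₁ e₂ =>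
      hom_ext_yon fun Y y => by
        obtain ⟨f', hf'⟩ := (yon S).map_surjective (y ≫ f)
        obtain ⟨g', hg'⟩ := (yon S).map_surjective (y ≫ g)
        rw [← hf', ← hg']
        congr 1
        refine Over.OverMorphism.ext (pullback.hom_ext ?_ ?_)
        · exact congrArg (fun z => z.left) ((yon S).map_injective (by
            rw [Functor.map_comp, Functor.map_comp, hf', hg', Category.assoc, Category.assoc, e₁]) : f' ≫ t₁ = g' ≫ t₁)
        · exact congrArg (fun z => z.left) ((yon S).map_injective (by
            rw [Functor.map_comp, Functor.map_comp, hf', hg', Category.assoc, Category.assoc, e₂]) : f' ≫ t₂ = g' ≫ t₂))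
  have : IsClosedImmersion l.left := hX.2 _ _ l sq
  have e : pullback.lift fst.left snd.left (terminal.hom_ext (fst.left ≫ terminal.from U.left) (snd.left ≫ terminal.from V.left)) =
      l.left ≫ pullback.map U.hom V.hom (terminal.from U.left) (terminal.from V.left) (𝟙 _) (𝟙 _) (terminal.from S)
        (terminal.hom_ext _ _) (terminal.hom_ext _ _) := by
    apply pullback.hom_ext
    · exact (pullback.lift_fst _ _ _).trans (((Category.assoc _ _ _).trans ((congrArg (fun z => l.left ≫ z)
        ((pullback.lift_fst _ _ _).trans (Category.comp_id _))).trans (pullback.lift_fst _ _ _))).symm)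
    · exact (pullback.lift_snd _ _ _).trans (((Category.assoc _ _ _).trans ((congrArg (fun z => l.left ≫ z)
        ((pullback.lift_snd _ _ _).trans (Category.comp_id _))).trans (pullback.lift_snd _ _ _))).symm)
  have : IsClosedImmersion (pullback.map U.hom V.hom (terminal.from U.left) (terminal.from V.left) (𝟙 _) (𝟙 _)
      (terminal.from S) (terminal.hom_ext _ _) (terminal.hom_ext _ _)) := by
    have hm : IsClosedImmersion (pullback.mapDesc U.hom V.hom (terminal.from S)) := inferInstance
    let c := pullback.congrHom (terminal.hom_ext (U.hom ≫ terminal.from S) (terminal.from U.left))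
      (terminal.hom_ext (V.hom ≫ terminal.from S) (terminal.from V.left))
    have ec : pullback.map U.hom V.hom (terminal.from U.left) (terminal.from V.left) (𝟙 _) (𝟙 _)
        (terminal.from S) (terminal.hom_ext _ _) (terminal.hom_ext _ _) =
        pullback.mapDesc U.hom V.hom (terminal.from S) ≫ c.hom := by
      apply pullback.hom_ext
      · refine ((pullback.lift_fst _ _ _).trans (Category.comp_id _)).trans (Eq.symm ?_)
        refine (Category.assoc _ _ _).trans ((congrArg (fun z => pullback.mapDesc U.hom V.hom (terminal.from S) ≫ z)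
          ((pullback.lift_fst _ _ _).trans (Category.comp_id _))).trans ?_)
        exact (pullback.lift_fst _ _ _).trans (Category.comp_id _)
      · refine ((pullback.lift_snd _ _ _).trans (Category.comp_id _)).trans (Eq.symm ?_)
        refine (Category.assoc _ _ _).trans ((congrArg (fun z => pullback.mapDesc U.hom V.hom (terminal.from S) ≫ z)
          ((pullback.lift_snd _ _ _).trans (Category.comp_id _))).trans ?_)
        exact (pullback.lift_snd _ _ _).trans (Category.comp_id _)
    rw [ec]
    infer_instance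
  have : IsClosedImmersion (pullback.lift fst.left snd.left
      (terminal.hom_ext (fst.left ≫ terminal.from U.left) (snd.left ≫ terminal.from V.left))) := e ▸ inferInstance
  exact affine_of_closedImmersion_prod fst.left snd.left

end Groth.Agent.AlgSpFin
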