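import Groth.Agent.AlgSpFin.SepAffine

/-!
Separatedness from intersections of affines.
-/

set_option autoImplicit false
set_option backward.isDefEq.respectTransparency.types false

universe u

open CategoryTheory CategoryTheory.Limits AlgebraicGeometry Opposite AlgSp

namespace Groth.Agent.AlgSpFin

open Groth.Agent.AlgSpLib

theorem closedImmersion_prod_of_surjective {U V P : Scheme.{u}} [IsAffine U] [IsAffine V] [IsAffine P] (f : P ⟶ U)
    (g : P ⟶ V) (hs : Function.Surjective
      (Algebra.TensorProduct.productMap f.appTop.hom.toIntAlgHom g.appTop.hom.toIntAlgHom)) :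
    IsClosedImmersion (pullback.lift f g (terminal.hom_ext (f ≫ terminal.from U) (g ≫ terminal.from V))) := by
  let l := pullback.lift f g (terminal.hom_ext (f ≫ terminal.from U) (g ≫ terminal.from V))
  have : IsIso (specULiftZIsTerminal.from (⊤_ Scheme.{u})) :=
    (IsTerminal.uniqueUpToIso terminalIsTerminal specULiftZIsTerminal).isIso_hom
  have : IsAffine (⊤_ Scheme.{u}) := IsAffine.of_isIso (specULiftZIsTerminal.from _)
  refine IsClosedImmersion.of_surjective_of_isAffine l fun y => ?_
  obtain ⟨x, rfl⟩ := hs y
  induction x using TensorProduct.induction_on with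
  | zero => exact ⟨0, by simp⟩
  | tmul a b =>
    refine ⟨(pullback.fst (terminal.from U) (terminal.from V)).appTop.hom a *
      (pullback.snd (terminal.from U) (terminal.from V)).appTop.hom b, ?_⟩
    rw [map_mul, Algebra.TensorProduct.productMap_apply_tmul]
    have ef := congrArg (fun z => z.appTop.hom a) (pullback.lift_fst f g (terminal.hom_ext (f ≫ terminal.from U) (g ≫ terminal.from V)))
    have eg := congrArg (fun z => z.appTop.hom b) (pullback.lift_snd f g (terminal.hom_ext (f ≫ terminal.from U) (g ≫ terminal.from V)))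
    exact congrArg₂ (· * ·) ef eg
  | add x y hx hy =>
    obtain ⟨x', hx⟩ := hx
    obtain ⟨y', hy⟩ := hy
    exact ⟨x' + y', by rw [map_add, map_add]; exact congrArg₂ (· + ·) hx hy⟩

variable {S : Scheme.{u}}

noncomputable abbrev prodOver (U V : Over S) : Over S := Over.mk (pullback.fst U.hom V.hom ≫ U.hom)

noncomputable abbrev prodFst (U V : Over S) : prodOver U V ⟶ U := Over.homMk (pullback.fst U.hom V.hom) rfl

noncomputable abbrev prodSnd (U V : Over S) : prodOver U V ⟶ V :=
  Over.homMk (pullback.snd U.hom V.hom) pullback.condition.symm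

noncomputable abbrev prodLift {U V P : Over S} (fst : P ⟶ U) (snd : P ⟶ V) : P ⟶ prodOver U V :=
  Over.homMk (pullback.lift fst.left snd.left ((Over.w fst).trans (Over.w snd).symm)) (by
    show pullback.lift _ _ _ ≫ pullback.fst _ _ ≫ U.hom = P.hom
    rw [pullback.lift_fst_assoc, Over.w fst])

theorem isPullback_diag_prodLift {X : Sp S} {U V P : Over S} {a : (yon S).obj U ⟶ X} {b : (yon S).obj V ⟶ X}
    {fst : P ⟶ U} {snd : P ⟶ V} (h : IsPullback ((yon S).map fst) ((yon S).map snd) a b) :
    IsPullback ((yon S).map fst ≫ a) ((yon S).map (prodLift fst snd)) (Limits.diag X)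
      (prod.lift ((yon S).map (prodFst U V) ≫ a) ((yon S).map (prodSnd U V) ≫ b)) := by
  refine isPullback_diag_prod_map h _ _ _ ?_ ?_ fun f g e₁ e₂ => hom_ext_yon fun Y y => ?_
  · rw [← Functor.map_comp]; exact congrArg _ (Over.OverMorphism.ext (pullback.lift_fst _ _ _))
  · rw [← Functor.map_comp]; exact congrArg _ (Over.OverMorphism.ext (pullback.lift_snd _ _ _))
  · obtain ⟨f', hf'⟩ := (yon S).map_surjective (y ≫ f)
    obtain ⟨g', hg'⟩ := (yon S).map_surjective (y ≫ g)
    rw [← hf', ← hg']
    congr 1
    refine Over.OverMorphism.ext (pullback.hom_ext ?_ ?_)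
    · exact congrArg (fun z => z.left) ((yon S).map_injective (by
        rw [Functor.map_comp, Functor.map_comp, hf', hg', Category.assoc, Category.assoc, e₁]) :
          f' ≫ prodFst U V = g' ≫ prodFst U V)
    · exact congrArg (fun z => z.left) ((yon S).map_injective (by
        rw [Functor.map_comp, Functor.map_comp, hf', hg', Category.assoc, Category.assoc, e₂]) :
          f' ≫ prodSnd U V = g' ≫ prodSnd U V)

theorem closedImmersion_prodLift_of_affine (X : Space S)
    (h : ∀ (U V P : Over S) (a : (yon S).obj U ⟶ X.obj) (b : (yon S).obj V ⟶ X.obj)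
      (fst : P ⟶ U) (snd : P ⟶ V), IsAffine U.left → IsAffine V.left →
      IsPullback ((yon S).map fst) ((yon S).map snd) a b →
        IsAffine P.left ∧ Function.Surjective
          (Algebra.TensorProduct.productMap fst.left.appTop.hom.toIntAlgHom snd.left.appTop.hom.toIntAlgHom))
    {U V W : Over S} {a : (yon S).obj U ⟶ X.obj} {b : (yon S).obj V ⟶ X.obj} {fst : W ⟶ U} {snd : W ⟶ V}
    (sq : IsPullback ((yon S).map fst) ((yon S).map snd) a b) : IsClosedImmersion (prodLift fst snd).left := by
  refine IsZariskiLocalAtTarget.of_openCover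
    (Scheme.Pullback.openCoverOfLeftRight U.left.affineCover V.left.affineCover U.hom V.hom) fun ⟨i, j⟩ => ?_
  let Ui : Over S := Over.mk (U.left.affineCover.f i ≫ U.hom)
  let Vj : Over S := Over.mk (V.left.affineCover.f j ≫ V.hom)
  let u : Ui ⟶ U := Over.homMk (U.left.affineCover.f i) rfl
  let v : Vj ⟶ V := Over.homMk (V.left.affineCover.f j) rfl
  obtain ⟨P, p, q, sP⟩ := exists_isPullback (X.property.representable_from_yon ((yon S).map u ≫ a)) ((yon S).map v ≫ b)
  obtain ⟨hP, hs⟩ := h Ui Vj P _ _ p q (inferInstanceAs (IsAffine (U.left.affineCover.X i)))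
    (inferInstanceAs (IsAffine (V.left.affineCover.X j))) sP
  have : IsAffine Ui.left := inferInstanceAs (IsAffine (U.left.affineCover.X i))
  have : IsAffine Vj.left := inferInstanceAs (IsAffine (V.left.affineCover.X j))
  have := closedImmersion_prod_of_surjective p.left q.left hs
  let d : pullback Ui.hom Vj.hom ⟶ pullback (terminal.from Ui.left) (terminal.from Vj.left) :=
    pullback.lift (pullback.fst _ _) (pullback.snd _ _) (terminal.hom_ext _ _)
  have hd : (prodLift p q).left ≫ d = pullback.lift p.left q.left (terminal.hom_ext _ _) := by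
    apply pullback.hom_ext
    · exact (Category.assoc _ _ _).trans ((congrArg (fun z => (prodLift p q).left ≫ z) (pullback.lift_fst _ _ _)).trans
        ((pullback.lift_fst _ _ _).trans (pullback.lift_fst _ _ _).symm))
    · exact (Category.assoc _ _ _).trans ((congrArg (fun z => (prodLift p q).left ≫ z) (pullback.lift_snd _ _ _)).trans
        ((pullback.lift_snd _ _ _).trans (pullback.lift_snd _ _ _).symm))
  have : IsClosedImmersion ((prodLift p q).left ≫ d) := hd ▸ this
  have : Mono d := ⟨fun f g e => pullback.hom_ext
    (by simpa only [d, Category.assoc, pullback.lift_fst] using congrArg (fun z => z ≫ pullback.fst _ _) e)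
    (by simpa only [d, Category.assoc, pullback.lift_snd] using congrArg (fun z => z ≫ pullback.snd _ _) e)⟩
  have hl : IsClosedImmersion (prodLift p q).left := IsClosedImmersion.of_comp (prodLift p q).left d
  let m : prodOver Ui Vj ⟶ prodOver U V := prodLift (prodFst Ui Vj ≫ u) (prodSnd Ui Vj ≫ v)
  have hm : m.left = (Scheme.Pullback.openCoverOfLeftRight U.left.affineCover V.left.affineCover U.hom V.hom).f (i, j) := by
    apply pullback.hom_ext <;> simp [m, u, v, Ui, Vj] <;> rfl
  have big := isPullback_diag_prodLift sP
  have hbig : prod.lift ((yon S).map (prodFst Ui Vj) ≫ (yon S).map u ≫ a) ((yon S).map (prodSnd Ui Vj) ≫ (yon S).map v ≫ b) =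
      (yon S).map m ≫ prod.lift ((yon S).map (prodFst U V) ≫ a) ((yon S).map (prodSnd U V) ≫ b) := by
    have em₁ : m ≫ prodFst U V = prodFst Ui Vj ≫ u := Over.OverMorphism.ext (pullback.lift_fst _ _ _)
    have em₂ : m ≫ prodSnd U V = prodSnd Ui Vj ≫ v := Over.OverMorphism.ext (pullback.lift_snd _ _ _)
    apply Limits.prod.hom_ext
    · simp only [Category.assoc, prod.lift_fst]
      rw [← Category.assoc, ← Functor.map_comp, ← Category.assoc ((yon S).map m), ← Functor.map_comp, em₁]
    · simp only [Category.assoc, prod.lift_snd]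
      rw [← Category.assoc, ← Functor.map_comp, ← Category.assoc ((yon S).map m), ← Functor.map_comp, em₂]
  rw [hbig] at big
  have main := isPullback_diag_prodLift sq
  obtain ⟨Z, z₁, z₂, sZ⟩ : ∃ (Z : Over S) (z₁ : Z ⟶ W) (z₂ : Z ⟶ prodOver Ui Vj),
      IsPullback z₁ z₂ (prodLift fst snd) m := ⟨_, _, _, IsPullback.of_hasPullback _ _⟩
  have comp := (yon_isPullback sZ).paste_horiz main
  obtain ⟨e, he⟩ := (yon S).map_surjective (comp.isoIsPullback _ _ big).hom
  have : IsIso e := by
    have : IsIso ((yon S).map e) := he ▸ inferInstance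
    exact isIso_of_reflects_iso e (yon S)
  have ez : e ≫ prodLift p q = z₂ := (yon S).map_injective (by
    rw [Functor.map_comp, he, IsPullback.isoIsPullback_hom_snd])
  have : IsIso e.left := inferInstanceAs (IsIso ((Over.forget S).map e))
  have hz : IsClosedImmersion z₂.left := by
    rw [← ez, Over.comp_left]
    infer_instance
  have sL := (left_isPullback sZ)
  rw [hm] at sL
  exact (MorphismProperty.arrow_mk_iso_iff @IsClosedImmersion
    (Arrow.isoMk sL.isoPullback (Iso.refl _) ((IsPullback.isoPullback_hom_snd _).trans (Category.comp_id _).symm))).1 hz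

theorem isSeparatedSp_of_affine_pullbacks (X : Space S)
    (h : ∀ (U V P : Over S) (a : (yon S).obj U ⟶ X.obj) (b : (yon S).obj V ⟶ X.obj)
      (fst : P ⟶ U) (snd : P ⟶ V), IsAffine U.left → IsAffine V.left →
      IsPullback ((yon S).map fst) ((yon S).map snd) a b →
        IsAffine P.left ∧ Function.Surjective
          (Algebra.TensorProduct.productMap fst.left.appTop.hom.toIntAlgHom snd.left.appTop.hom.toIntAlgHom)) :
    IsSeparatedSp X.obj := by
  refine repWith_diag_of_pairwise X.obj @IsClosedImmersion (fun U V a b => ?_) (fun U V W a b fst snd sq => ?_)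
  · exact exists_isPullback (X.property.representable_from_yon a) b
  · have := closedImmersion_prodLift_of_affine X h sq
    let c : prodOver U V ⟶ U ⨯ V := prod.lift (prodFst U V) (prodSnd U V)
    let c' : U ⨯ V ⟶ prodOver U V := prodLift prod.fst prod.snd
    have : IsIso c := ⟨c', Over.OverMorphism.ext (by
        apply pullback.hom_ext
        · exact (Category.assoc _ _ _).trans ((congrArg (fun z => c.left ≫ z) (pullback.lift_fst _ _ _)).trans
            ((congrArg (fun z => z.left) (prod.lift_fst (prodFst U V) (prodSnd U V))).trans (Category.id_comp _).symm))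
        · exact (Category.assoc _ _ _).trans ((congrArg (fun z => c.left ≫ z) (pullback.lift_snd _ _ _)).trans
            ((congrArg (fun z => z.left) (prod.lift_snd (prodFst U V) (prodSnd U V))).trans (Category.id_comp _).symm))), by
      apply Limits.prod.hom_ext
      · rw [Category.assoc, prod.lift_fst, Category.id_comp]; exact Over.OverMorphism.ext (pullback.lift_fst _ _ _)
      · rw [Category.assoc, prod.lift_snd, Category.id_comp]; exact Over.OverMorphism.ext (pullback.lift_snd _ _ _)⟩
    have e : prod.lift fst snd = prodLift fst snd ≫ c := by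
      apply Limits.prod.hom_ext
      · rw [prod.lift_fst, Category.assoc, prod.lift_fst]; exact Over.OverMorphism.ext (pullback.lift_fst _ _ _).symm
      · rw [prod.lift_snd, Category.assoc, prod.lift_snd]; exact Over.OverMorphism.ext (pullback.lift_snd _ _ _).symm
    rw [e, Over.comp_left]
    have : IsIso c.left := inferInstanceAs (IsIso ((Over.forget S).map c))
    infer_instance

end Groth.Agent.AlgSpFin
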