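import Groth.Agent.AlgSpLib.Points
import Groth.Agent.AlgSpLib.LocP
import Groth.Agent.S1535
import Groth.Agent.SmoothDense.SepPoint

/-!
Algebraic spaces smooth over a field.
-/

set_option autoImplicit false
set_option backward.isDefEq.respectTransparency.types false

universe u

open CategoryTheory CategoryTheory.Limits AlgebraicGeometry Opposite AlgSp

namespace Groth.Agent.AlgSpFin

open Groth.Agent.AlgSpLib

variable (k : Type u) [Field k] (X : Space (Spec (CommRingCat.of k)))
  (p : X.obj ⟶ (yon (Spec (CommRingCat.of k))).obj (Over.mk (𝟙 _))) (hp : LocP @Smooth p)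

include hp

theorem smooth_chart {U : Over (Spec (CommRingCat.of k))} (a : (yon (Spec (CommRingCat.of k))).obj U ⟶ X.obj)
    (ha : RepWith @Etale a) : Smooth U.hom := by
  let h : U ⟶ Over.mk (𝟙 (Spec (CommRingCat.of k))) := (yon _).preimage (a ≫ p)
  have e : h.left = U.hom := (Category.comp_id _).symm.trans (Over.w h)
  have hs : Smooth h.left := hp a (𝟙 _) h ha (repWith_id _ _) (by rw [Category.comp_id]; exact ((yon _).map_preimage _).symm)
  rwa [e] at hs

theorem etaleLocally_regular :
    EtaleLocally (fun U => IsLocallyNoetherian U ∧ ∀ u : ↥U, IsRegularLocalRing ↥(U.presheaf.stalk u)) X.obj := by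
  obtain ⟨U, a, ha, has⟩ := X.property.atlas
  have := smooth_chart k X p hp a ha
  let inst : U.left.Over (Spec (CommRingCat.of k)) := ⟨U.hom⟩
  have : Smooth (U.left ↘ Spec (CommRingCat.of k)) := this
  exact ⟨U, a, ha, has, LocallyOfFiniteType.isLocallyNoetherian U.hom, fun u => S1535.result k U.left u⟩

theorem dense_separable_points :
    Dense {x : Points X.obj | ∃ (k' : Type u) (_ : Field k') (_ : Algebra k k'),
      Module.Finite k k' ∧ Algebra.IsSeparable k k' ∧
        ∃ v : X.obj.obj.obj (Opposite.op (Over.mk (Spec.map (CommRingCat.ofHom (algebraMap k k'))))),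
          Points.mk ⟨k', Spec.map (CommRingCat.ofHom (algebraMap k k')), v⟩ = x} := by
  obtain ⟨U, a, ha, has⟩ := X.property.atlas
  have := smooth_chart k X p hp a ha
  refine dense_iff_inter_open.2 fun O hO hne => ?_
  obtain ⟨x, hxO⟩ := hne
  obtain ⟨u₀, rfl⟩ := surjective_ofPt has x
  obtain ⟨u, huO, -, φ, hφ, hfs⟩ := SmoothDense.exists_separable_closedPoint U.hom
    (hO.preimage (Points.continuous_ofPt a)) ⟨u₀, hxO⟩
  let _ := φ.toAlgebra
  have hm : U.left.fromSpecResidueField u ≫ U.hom =
      Spec.map (CommRingCat.ofHom (algebraMap k (U.left.residueField u))) := hφ.symm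
  refine ⟨_, huO, U.left.residueField u, inferInstance, φ.toAlgebra, hfs.1, hfs.2,
    a.hom.app _ (ULift.up (Over.homMk (U.left.fromSpecResidueField u) hm)), ?_⟩
  have e := congrArg (Points.map a) (Points.ofScheme_apply_eq_mk U (U.left.fromSpecResidueField u) hm)
  refine e.symm.trans ((congrArg (fun t => Points.map a (Points.ofScheme U t))
    (Scheme.fromSpecResidueField_apply u _)).trans ?_)
  show Points.map a (Points.ofPt (𝟙 _) u) = Points.ofPt a u
  rw [Points.map_ofPt, Category.id_comp]

end Groth.Agent.AlgSpFin
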