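import Groth.Agent.AlgSpFin.FiniteSplit
import Groth.Agent.AlgSpFin.ResidualPoint
import Groth.Agent.AlgSpFin.FiniteNbhd

/-!
Splitting off quasi-finite parts of separated morphisms of algebraic spaces.
-/

set_option autoImplicit false
set_option backward.isDefEq.respectTransparency.types false

universe u

open CategoryTheory CategoryTheory.Limits AlgebraicGeometry Opposite AlgSp TopologicalSpace

namespace Groth.Agent.AlgSpFin

open Groth.Agent.AlgSpLib

variable {S : Scheme.{u}}

/-- Finitely many points of the base change of a morphism to a chart of a decent space lie over a given pair. -/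
theorem finite_points_over_pair_of_isDecent {X Y : Space S} (f : X ⟶ Y) (hd : IsDecent Y.obj) {V : Over S}
    (b : (yon S).obj V ⟶ Y.obj) (hb : RepWith @Etale b) (v : V.left) (x : Points X.obj)
    (hxv : Points.map f.hom x = Points.ofPt b v) :
    {p : Points (pullback f.hom b) | Points.map (pullback.fst f.hom b) p = x ∧
      Points.map (pullback.snd f.hom b) p = Points.ofPt (𝟙 _) v}.Finite := by
  obtain ⟨q, hq, hm, -⟩ := hd (Points.ofPt b v)
  let T : Over S := Over.mk (V.left.fromSpecResidueField v ≫ V.hom)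
  let c : T ⟶ V := Over.homMk (V.left.fromSpecResidueField v) rfl
  let t : T.left := (IsLocalRing.closedPoint (V.left.residueField v) : PrimeSpectrum _)
  let s : q.pt.left := (IsLocalRing.closedPoint q.K : PrimeSpectrum q.K)
  have : Subsingleton T.left := inferInstanceAs (Subsingleton (PrimeSpectrum (V.left.residueField v)))
  have hct : c.left t = v := Scheme.fromSpecResidueField_apply v _
  -- the point of the chart lies over the monomorphic point
  obtain ⟨W, w₁, w₂, sW⟩ := exists_isPullback (Y.property.representable_from_yon q.toHom) ((yon S).map c ≫ b)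
  have : Mono ((yon S).map w₂) := MorphismProperty.of_isPullback (P := MorphismProperty.monomorphisms (Sp S)) sW hm
  have : Mono w₂ := (yon S).mono_of_mono_map this
  have : Mono w₂.left := (inferInstance : Mono ((Over.forget S).map w₂))
  have : Nonempty W.left := by
    obtain ⟨w, -⟩ := (ofPt_eq_iff sW s t).1 (by rw [ofPt_comp, hct, Points.ofPt_toHom, hq])
    exact ⟨w⟩
  let w₂K : W.left ⟶ Spec (V.left.residueField v) := w₂.left
  have : Mono w₂K := ‹Mono w₂.left›
  have : IsIso w₂.left := isIso_of_mono_to_field (K := V.left.residueField v) w₂K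
  have : IsIso w₂ := by
    have : IsIso ((Over.forget S).map w₂) := ‹IsIso w₂.left›
    exact isIso_of_reflects_iso w₂ (Over.forget S)
  let d : T ⟶ q.pt := inv w₂ ≫ w₁
  have hd' : (yon S).map d ≫ q.toHom = (yon S).map c ≫ b := by
    rw [Functor.map_comp, Category.assoc, sW.w, ← Functor.map_comp_assoc, IsIso.inv_hom_id,
      CategoryTheory.Functor.map_id, Category.id_comp]
  -- the residue extension is finite
  obtain ⟨Vk, k₁, k₂, sV⟩ := exists_isPullback hb.1 q.toHom
  have : Etale k₂.left := prop_snd sV hb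
  obtain ⟨l, hl₁, hl₂⟩ := exists_lift sV ((yon S).map c) d hd'.symm
  let k₂K : Vk.left ⟶ Spec (CommRingCat.of q.K) := k₂.left
  have : Etale k₂K := ‹Etale k₂.left›
  have : DiscreteTopology Vk.left := discreteTopology_of_etale_field (K := q.K) k₂K
  have : AlgebraicGeometry.IsReduced q.pt.left :=
    inferInstanceAs (AlgebraicGeometry.IsReduced (Spec (CommRingCat.of q.K)))
  have : AlgebraicGeometry.IsReduced Vk.left := isReduced_scheme_of_etale k₂.left
  have hlc : l.left ≫ k₁.left = c.left :=
    congrArg CommaMorphism.left ((yon S).map_injective (by rw [Functor.map_comp]; exact hl₁) : l ≫ k₁ = c)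
  have : Mono (l.left ≫ k₁.left) := by
    rw [hlc]
    exact (inferInstance : Mono (V.left.fromSpecResidueField v))
  have : Mono l.left := mono_of_mono l.left k₁.left
  let O : Vk.left.Opens := ⟨{l.left t}, isOpen_discrete _⟩
  let l' : T.left ⟶ O.toScheme := IsOpenImmersion.lift O.ι l.left (by
    rintro _ ⟨y, rfl⟩
    rw [Scheme.Opens.range_ι, Subsingleton.elim y t]
    exact rfl)
  have hl' : l' ≫ O.ι = l.left := IsOpenImmersion.lift_fac _ _ _
  have : Mono (l' ≫ O.ι) := by rw [hl']; infer_instance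
  have : Mono l' := mono_of_mono l' O.ι
  have : DiscreteTopology O.toScheme := O.ι.isOpenEmbedding.toIsEmbedding.discreteTopology
  have : AlgebraicGeometry.IsReduced O.toScheme := isReduced_of_isOpenImmersion O.ι
  have : CompactSpace T.left := inferInstanceAs (CompactSpace (PrimeSpectrum (V.left.residueField v)))
  have : Finite O.toScheme := Set.finite_singleton (l.left t) |>.to_subtype
  have : IsLocallyNoetherian q.pt.left := inferInstanceAs (IsLocallyNoetherian (Spec (CommRingCat.of q.K)))
  have : IsLocallyNoetherian Vk.left := LocallyOfFiniteType.isLocallyNoetherian k₂.left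
  have : IsLocallyNoetherian O.toScheme := isLocallyNoetherian_of_isOpenImmersion O.ι
  have : QuasiCompact l' := quasiCompact_of_compactSpace l'
  have : Surjective l' := ⟨fun y => ⟨t, O.ι.isOpenEmbedding.injective (by
    rw [← Scheme.Hom.comp_apply, hl']
    exact (y.2 : y.1 = l.left t).symm)⟩⟩
  have : Flat l' := flat_of_discrete_reduced l'
  have : IsIso l' := Flat.isIso_of_surjective_of_mono l'
  have : IsOpenImmersion l.left := hl' ▸ inferInstance
  have hde : Etale d.left := by
    rw [← hl₂, Over.comp_left]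
    infer_instance
  let dK : T.left ⟶ Spec (CommRingCat.of q.K) := d.left
  have : Etale dK := hde
  have : LocallyQuasiFinite dK := locallyQuasiFinite_of_formallyUnramified dK
  have : QuasiCompact dK := quasiCompact_of_compactSpace dK
  have : IsFinite d.left := IsFinite.of_locallyQuasiFinite dK
  -- the fibre over the pair
  have sX := IsPullback.of_hasPullback f.hom q.toHom
  have hXk := isAlgSpace_of_isPullback sX X.property (IsAlgSpace.yon_obj _) Y.property
  have sP := IsPullback.of_hasPullback f.hom b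
  have sC := IsPullback.of_hasPullback (pullback.snd f.hom b) ((yon S).map c)
  let r := sX.lift (pullback.fst (pullback.snd f.hom b) ((yon S).map c) ≫ pullback.fst f.hom b)
    (pullback.snd (pullback.snd f.hom b) ((yon S).map c) ≫ (yon S).map d)
    (by rw [Category.assoc, Category.assoc, sP.w, ← Category.assoc, sC.w, Category.assoc, hd'])
  have sr : IsPullback r (pullback.snd (pullback.snd f.hom b) ((yon S).map c)) (pullback.snd f.hom q.toHom)
      ((yon S).map d) :=
    IsPullback.of_right (by rw [sX.lift_fst, hd']; exact sC.paste_horiz sP) (sX.lift_snd _ _ _) sX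
  have hr : IsFiniteMor r := (isFiniteMor_iff_repWith r).2
    (repWith_baseChange sr.flip ((repWith_yon_map_iff @IsFinite d).2 ‹_›))
  have hz : {z | Points.map (pullback.fst f.hom q.toHom) z = x}.Subsingleton := by
    have : Mono (pullback.fst f.hom q.toHom) :=
      MorphismProperty.of_isPullback (P := MorphismProperty.monomorphisms (Sp S)) sX.flip hm
    exact fun z hz z' hz' => injective_map_of_mono _ (hz.trans hz'.symm)
  have hfin : {y | Points.map r y ∈ {z | Points.map (pullback.fst f.hom q.toHom) z = x}}.Finite :=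
    (hz.finite.biUnion fun z _ => finite_fibre_of_isFiniteMor hXk hr z).subset fun y hy =>
      Set.mem_biUnion (x := Points.map r y) hy rfl
  refine (hfin.image (Points.map (pullback.fst (pullback.snd f.hom b) ((yon S).map c)))).subset ?_
  rintro p ⟨hp₁, hp₂⟩
  obtain ⟨y, hy₁, -⟩ := exists_point_of_isPullback sC p (Points.ofPt (𝟙 _) t) (by
    rw [hp₂, Points.map_ofPt, Category.id_comp, ← Category.comp_id ((yon S).map c), ofPt_comp, hct])
  refine ⟨y, ?_, hy₁⟩
  show Points.map (pullback.fst f.hom q.toHom) (Points.map r y) = x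
  rw [← Points.map_comp, sX.lift_fst, Points.map_comp, hy₁, hp₁]

variable {X Y : Space S} (f : X ⟶ Y) (hf₁ : LocP @LocallyOfFiniteType f.hom) (hf₂ : IsSeparatedMor f.hom)

include hf₁ hf₂

/-- Splitting off a finite piece with prescribed finitely many quasi-finite points over a chart point. -/
theorem exists_split_chart {V : Over S} (b : (yon S).obj V ⟶ Y.obj) (hb : RepWith @Etale b) (v : V.left)
    (pset : Set (Points (pullback f.hom b))) (hfin : pset.Finite)
    (hover : ∀ p ∈ pset, Points.map (pullback.snd f.hom b) p = Points.ofPt (𝟙 _) v)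
    (hq : ∀ p ∈ pset, HasAtMor (nearBy (@LocallyQuasiFinite ⊓ @LocallyOfFiniteType)) f.hom
      (Points.map (pullback.fst f.hom b) p)) :
    ∃ (U : Space S) (a : U ⟶ Y) (u : Points U.obj), IsEtaleMor a.hom ∧ Points.map a.hom u = Points.ofPt b v ∧
      ∀ (P : Space S) (prX : P ⟶ X) (prU : P ⟶ U), IsPullback prX.hom prU.hom f.hom a.hom →
        ∃ (M : Space S) (jV : M ⟶ P), RepWith @IsOpenImmersion jV.hom ∧ RepWith @IsClosedImmersion jV.hom ∧
          IsFiniteMor (jV ≫ prU).hom ∧
          (∀ m, Points.map (jV ≫ prU).hom m = u →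
            Points.map (jV ≫ prX).hom m ∈ Points.map (pullback.fst f.hom b) '' pset) ∧
          (∀ w : Points P.obj, w ∉ Set.range (Points.map jV.hom) → Points.map prU.hom w = u →
            ∃ p, p ∉ pset ∧ Points.map (pullback.snd f.hom b) p = Points.ofPt (𝟙 _) v ∧
              Points.map (pullback.fst f.hom b) p = Points.map prX.hom w) ∧
          ∀ p ∈ pset, ∃ m, Points.map (jV ≫ prU).hom m = u ∧
            Points.map (jV ≫ prX).hom m = Points.map (pullback.fst f.hom b) p := by
  have sP := IsPullback.of_hasPullback f.hom b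
  let P₁ : Space S := ⟨pullback f.hom b,
    isAlgSpace_of_isPullback sP X.property (IsAlgSpace.yon_obj V) Y.property⟩
  let π : P₁ ⟶ ⟨(yon S).obj V, IsAlgSpace.yon_obj V⟩ := ObjectProperty.homMk (pullback.snd f.hom b)
  obtain ⟨V', e, v', M, m, φ, he, -, hev, hm, hφo, hφc, hφm, hpts⟩ :=
    exists_finite_split P₁.property (pullback.snd f.hom b)
      (locP_baseChange X.property Y.property (IsAlgSpace.yon_obj V) sP hf₁) (repWith_diagonal_baseChange sP hf₂)
      v pset hfin hover fun p hp => hasAtMor_baseChange _ f π sP p (hq p hp)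
  let U : Space S := ⟨(yon S).obj V', IsAlgSpace.yon_obj V'⟩
  let a : U ⟶ Y := ObjectProperty.homMk ((yon S).map e ≫ b)
  refine ⟨U, a, Points.ofPt (𝟙 _) v', fun {_} χ hχ => repWith_comp hχ (repWith_yon_comp e he hb),
    by rw [Points.map_ofPt, Category.id_comp]; exact (ofPt_comp e b v').trans (congrArg _ hev),
    fun P prX prU sq => ?_⟩
  have sQ := IsPullback.of_hasPullback (pullback.snd f.hom b) ((yon S).map e)
  let i := (sQ.paste_horiz sP).isoIsPullback _ _ sq
  have hi₁ : i.hom ≫ prX.hom = pullback.fst _ _ ≫ pullback.fst f.hom b :=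
    (sQ.paste_horiz sP).isoIsPullback_hom_fst _ _ sq
  have hi₂ : i.hom ≫ prU.hom = pullback.snd _ _ := (sQ.paste_horiz sP).isoIsPullback_hom_snd _ _ sq
  let M' : Space S := ⟨(yon S).obj M, IsAlgSpace.yon_obj M⟩
  let jV : M' ⟶ P := ObjectProperty.homMk (φ ≫ i.hom)
  have hjU : (jV ≫ prU).hom = (yon S).map m := by
    show (φ ≫ i.hom) ≫ prU.hom = _
    rw [Category.assoc, hi₂, hφm]
  have hjX : ∀ y, Points.map (jV ≫ prX).hom y =
      Points.map (pullback.fst f.hom b) (Points.map (pullback.fst _ ((yon S).map e)) (Points.map φ y)) := fun y => by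
    show Points.map ((φ ≫ i.hom) ≫ prX.hom) y = _
    rw [Category.assoc, hi₁, Points.map_comp, Points.map_comp]
  have hev' : Points.map ((yon S).map e) (Points.ofPt (𝟙 ((yon S).obj V')) v') = Points.ofPt (𝟙 _) v := by
    rw [Points.map_ofPt, Category.id_comp, ← Category.comp_id ((yon S).map e), ofPt_comp, hev]
  refine ⟨M', jV, (MorphismProperty.cancel_right_of_respectsIso (RepWith @IsOpenImmersion) φ i.hom).2 hφo,
    (MorphismProperty.cancel_right_of_respectsIso (RepWith @IsClosedImmersion) φ i.hom).2 hφc,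
    by rw [hjU]; exact isFiniteMor_yon m, fun y hy => ?_, fun w hw hwu => ?_, fun p hp => ?_⟩
  · rw [hjU] at hy
    rw [hjX]
    exact ⟨_, (hpts _ (by rw [← Points.map_comp, hφm, hy])).1 ⟨y, rfl⟩, rfl⟩
  · obtain ⟨w₀, rfl⟩ : ∃ w₀, Points.map i.hom w₀ = w :=
      ⟨Points.map i.inv w, by rw [← Points.map_comp, Iso.inv_hom_id, Points.map_id]⟩
    rw [← Points.map_comp, hi₂] at hwu
    refine ⟨Points.map (pullback.fst _ ((yon S).map e)) w₀, fun h => hw ?_, ?_, ?_⟩
    · obtain ⟨y, hy⟩ := (hpts w₀ hwu).2 h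
      exact ⟨y, by rw [← hy]; exact Points.map_comp φ i.hom y⟩
    · rw [← Points.map_comp, sQ.w, Points.map_comp, hwu, hev']
    · rw [← Points.map_comp i.hom, hi₁, Points.map_comp]
  · obtain ⟨w₀, hw₁, hw₂⟩ := exists_point_of_isPullback sQ p (Points.ofPt (𝟙 _) v')
      (by rw [hover p hp, hev'])
    obtain ⟨y, rfl⟩ := (hpts w₀ hw₂).2 (by rw [hw₁]; exact hp)
    exact ⟨y, by rw [hjU, ← hφm, Points.map_comp, hw₂], by rw [hjX, hw₁]⟩

/-- A separated morphism splits off a finite part through a quasi-finite point. -/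
theorem exists_split_one (x : Points X.obj)
    (hx : HasAtMor (nearBy (@LocallyQuasiFinite ⊓ @LocallyOfFiniteType)) f.hom x) :
    ∃ (U : Space S) (a : U ⟶ Y) (u : Points U.obj), IsEtaleMor a.hom ∧
      Points.map a.hom u = Points.map f.hom x ∧
      ∀ (P : Space S) (prX : P ⟶ X) (prU : P ⟶ U), IsPullback prX.hom prU.hom f.hom a.hom →
        ∃ (V : Space S) (jV : V ⟶ P), RepWith @IsOpenImmersion jV.hom ∧ RepWith @IsClosedImmersion jV.hom ∧
          IsFiniteMor (jV ≫ prU).hom ∧
          ∃ v : Points V.obj, Points.map (jV ≫ prX).hom v = x ∧ Points.map (jV ≫ prU).hom v = u := by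
  obtain ⟨V, b, hb, hbs⟩ := Y.property.atlas
  obtain ⟨v, hv⟩ := surjective_ofPt hbs (Points.map f.hom x)
  obtain ⟨p, hp₁, hp₂⟩ := exists_point_of_isPullback (IsPullback.of_hasPullback f.hom b) x
    (Points.ofPt (𝟙 _) v) (by rw [Points.map_ofPt, Category.id_comp, hv])
  obtain ⟨U, a, u, ha, hu, H⟩ := exists_split_chart f hf₁ hf₂ b hb v {p} (Set.finite_singleton p)
    (fun p' hp' => by rw [Set.mem_singleton_iff.1 hp', hp₂]) (fun p' hp' => by rw [Set.mem_singleton_iff.1 hp', hp₁]; exact hx)
  refine ⟨U, a, u, ha, hu.trans hv, fun P prX prU sq => ?_⟩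
  obtain ⟨M, jV, h₁, h₂, h₃, -, -, h₄⟩ := H P prX prU sq
  obtain ⟨m, hm₁, hm₂⟩ := h₄ p rfl
  exact ⟨M, jV, h₁, h₂, h₃, m, hm₂.trans hp₁, hm₁⟩

/-- A separated morphism splits off a finite part at finitely many quasi-finite points of a fibre. -/
theorem exists_split_finset (y : Points Y.obj) (xs : Finset (Points X.obj))
    (hxs : ∀ x ∈ xs, Points.map f.hom x = y)
    (hq : ∀ x ∈ xs, HasAtMor (nearBy (@LocallyQuasiFinite ⊓ @LocallyOfFiniteType)) f.hom x)
    (hcase : IsQuasiCompactMor f.hom ∨ IsDecent Y.obj) :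
    ∃ (U : Space S) (a : U ⟶ Y) (u : Points U.obj), IsEtaleMor a.hom ∧ Points.map a.hom u = y ∧
      ∀ (P : Space S) (prX : P ⟶ X) (prU : P ⟶ U), IsPullback prX.hom prU.hom f.hom a.hom →
        ∃ (V : Space S) (jV : V ⟶ P), RepWith @IsOpenImmersion jV.hom ∧ RepWith @IsClosedImmersion jV.hom ∧
          IsFiniteMor (jV ≫ prU).hom ∧
          (∀ v : Points V.obj, Points.map (jV ≫ prU).hom v = u → Points.map (jV ≫ prX).hom v ∈ xs) ∧
          ∀ w : Points P.obj, w ∉ Set.range (Points.map jV.hom) → Points.map prU.hom w = u →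
            Points.map prX.hom w ∉ xs := by
  obtain ⟨V, b, hb, hbs⟩ := Y.property.atlas
  obtain ⟨v, rfl⟩ := surjective_ofPt hbs y
  have sP := IsPullback.of_hasPullback f.hom b
  let pset : Set (Points (pullback f.hom b)) := {p | Points.map (pullback.fst f.hom b) p ∈ xs ∧
    Points.map (pullback.snd f.hom b) p = Points.ofPt (𝟙 _) v}
  have hfin : pset.Finite := by
    refine (xs.finite_toSet.biUnion fun x hx =>
      (show {p | Points.map (pullback.fst f.hom b) p = x ∧
        Points.map (pullback.snd f.hom b) p = Points.ofPt (𝟙 _) v}.Finite from ?_)).subset fun p hp =>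
      Set.mem_biUnion (x := Points.map (pullback.fst f.hom b) p) hp.1 ⟨rfl, hp.2⟩
    rcases hcase with hqc | hd
    · exact finite_points_over_quasiFinite f (Z := ⟨(yon S).obj V, IsAlgSpace.yon_obj V⟩)
        (W := ⟨pullback f.hom b, isAlgSpace_of_isPullback sP X.property (IsAlgSpace.yon_obj V) Y.property⟩)
        (ObjectProperty.homMk b) (ObjectProperty.homMk (pullback.fst f.hom b))
        (ObjectProperty.homMk (pullback.snd f.hom b)) sP x _ ⟨hf₁, hqc⟩ (hq x hx)
    · exact finite_points_over_pair_of_isDecent f hd b hb v x (hxs x hx)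
  obtain ⟨U, a, u, ha, hu, H⟩ := exists_split_chart f hf₁ hf₂ b hb v pset hfin (fun p hp => hp.2)
    (fun p hp => hq _ hp.1)
  refine ⟨U, a, u, ha, hu, fun P prX prU sq => ?_⟩
  obtain ⟨M, jV, h₁, h₂, h₃, h₄, h₅, -⟩ := H P prX prU sq
  refine ⟨M, jV, h₁, h₂, h₃, fun m hm => ?_, fun w hw hwu hwx => ?_⟩
  · obtain ⟨p, hp, hpm⟩ := h₄ m hm
    exact hpm ▸ hp.1
  · obtain ⟨p, hp, hp₁, hp₂⟩ := h₅ w hw hwu
    exact hp ⟨hp₂ ▸ hwx, hp₁⟩

end Groth.Agent.AlgSpFin
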