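import Groth.Agent.AlgSpFin.QuasiFiniteLocus
import Groth.Agent.S9697

/-!
The unramified locus of a morphism of algebraic spaces.
-/

set_option autoImplicit false
set_option backward.isDefEq.respectTransparency.types false

universe u

open CategoryTheory CategoryTheory.Limits AlgebraicGeometry Opposite AlgSp TopologicalSpace

namespace Groth.Agent.AlgSpFin

open Groth.Agent.AlgSpLib

variable {S : Scheme.{u}}

/-- A property at a point descends along base change when it does so for schemes. -/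
theorem hasAtMor_nearBy_of_baseChange (P : MorphismProperty Scheme.{u}) [EtLocal P]
    (hP : ∀ {U V U' V' : Scheme.{u}} {g' : U' ⟶ U} {h' : U' ⟶ V'} {h : U ⟶ V} {g : V' ⟶ V},
      IsPullback g' h' h g → LocallyOfFiniteType h → ∀ u' : U', nearBy P U' V' h' u' → nearBy P U V h (g' u'))
    {X Y Y' X' : Space S} (f : X ⟶ Y) (hf : LocP @LocallyOfFiniteType f.hom)
    {g : Y'.obj ⟶ Y.obj} {fst : X'.obj ⟶ X.obj} (f' : X' ⟶ Y') (sq : IsPullback fst f'.hom f.hom g)
    (x' : Points X'.obj) (hx : HasAtMor (nearBy P) f'.hom x') :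
    HasAtMor (nearBy P) f.hom (Points.map fst x') := by
  obtain ⟨U, V, a, b, h, ha, has, hb, -, w⟩ := exists_chart X.property Y.property f.hom
  have hh : LocallyOfFiniteType h.left := hf a b h ha hb w
  obtain ⟨u, hu⟩ := surjective_ofPt has (Points.map fst x')
  rw [← hu]
  have sP := IsPullback.of_hasPullback b g
  obtain ⟨V₂, e, he, hes⟩ := (isAlgSpace_of_isPullback sP (IsAlgSpace.yon_obj V) Y'.property Y.property).atlas
  obtain ⟨c, hc⟩ := (yon S).map_surjective (e ≫ pullback.fst b g)
  have sQ := IsPullback.of_hasPullback a fst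
  let m : pullback a fst ⟶ pullback b g :=
    sP.lift (pullback.fst a fst ≫ (yon S).map h) (pullback.snd a fst ≫ f'.hom)
      (by rw [Category.assoc, ← w, Category.assoc, ← sq.w, reassoc_of% sQ.w])
  have sm : IsPullback (pullback.fst a fst) m ((yon S).map h) (pullback.fst b g) :=
    IsPullback.of_bot (h₁₁ := pullback.fst a fst) (v₁₁ := m) (v₂₁ := pullback.snd b g)
      (by rw [sP.lift_snd, ← w]; exact sQ.paste_vert sq) (sP.lift_fst _ _ _).symm sP
  have sU := IsPullback.of_hasPullback h c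
  let e₂ : (yon S).obj (pullback h c) ⟶ pullback a fst :=
    sm.lift ((yon S).map (pullback.fst h c)) ((yon S).map (pullback.snd h c) ≫ e)
      (by rw [Category.assoc, ← hc, (yon_isPullback sU).w])
  have se : IsPullback e₂ ((yon S).map (pullback.snd h c)) m e :=
    IsPullback.of_right (by rw [sm.lift_fst, ← hc]; exact yon_isPullback sU) (sm.lift_snd _ _ _) sm
  have he₂ : RepWith @Etale e₂ := repWith_baseChange se.flip he
  have he₂s : RepWith @Surjective e₂ := repWith_baseChange se.flip hes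
  obtain ⟨q, hq₁, hq₂⟩ := exists_point_of_isPullback sQ (Points.ofPt (𝟙 _) u) x'
    (by rw [Points.map_ofPt, Category.id_comp]; exact hu)
  obtain ⟨z, rfl⟩ := surjective_ofPt he₂s q
  have hb₂ : RepWith @Etale (e ≫ pullback.snd b g) := repWith_comp he (repWith_baseChange sP hb)
  have ha₂ : RepWith @Etale (e₂ ≫ pullback.snd a fst) := repWith_comp he₂ (repWith_baseChange sQ ha)
  have w₂ : (e₂ ≫ pullback.snd a fst) ≫ f'.hom = (yon S).map (pullback.snd h c) ≫ e ≫ pullback.snd b g := by
    rw [Category.assoc, ← reassoc_of% se.w]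
    congr 1
    exact (sP.lift_snd _ _ _).symm
  rw [Points.map_ofPt] at hq₁ hq₂
  rw [← hq₂] at hx
  obtain ⟨O, hzO, hOq⟩ := exists_open_of_hasAtMor _ ha₂ hb₂ w₂ z hx
  have : LocallyOfFiniteType (pullback.snd h c).left :=
    MorphismProperty.of_isPullback (P := @LocallyOfFiniteType) (left_isPullback sU) hh
  have hzu : (pullback.fst h c).left z = u := (Points.schemeEquiv U).injective (by
    show Points.ofPt (𝟙 _) ((pullback.fst h c).left z) = Points.ofPt (𝟙 _) u
    rw [← ofPt_comp, Category.comp_id, ← hq₁, sm.lift_fst])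
  exact ⟨U, V, a, b, h, u, ha, hb, w, rfl, hzu ▸ hP (left_isPullback sU) hh z ⟨O, hzO, hOq⟩⟩

/-- The points near which a property holds form an open set. -/
theorem isOpen_setOf_hasAtMor_nearBy (P : MorphismProperty Scheme.{u}) [EtLocal P] {X Y : Space S} (f : X ⟶ Y) :
    IsOpen {x : Points X.obj | HasAtMor (nearBy P) f.hom x} := by
  refine isOpen_iff_forall_mem_open.2 fun x hx => ?_
  obtain ⟨U, V, a, b, h, u, ha, hb, w, rfl, W, hu, hW⟩ := hx
  refine ⟨Points.ofPt a '' (W : Set U.left), ?_, isOpenMap_ofPt_of_etale ha _ W.2, u, hu, rfl⟩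
  rintro _ ⟨v, hv, rfl⟩
  exact ⟨U, V, a, b, h, v, ha, hb, w, rfl, W, hv, hW⟩

/-- Being unramified near a point is detected after base change. -/
theorem unramified_nearBy_of_baseChange {U V U' V' : Scheme.{u}} {g' : U' ⟶ U} {h' : U' ⟶ V'} {h : U ⟶ V}
    {g : V' ⟶ V} (sq : IsPullback g' h' h g) (hh : LocallyOfFiniteType h) (u' : U')
    (hu : nearBy (@LocallyOfFiniteType ⊓ @FormallyUnramified) U' V' h' u') :
    nearBy (@LocallyOfFiniteType ⊓ @FormallyUnramified) U V h (g' u') := by
  obtain ⟨W, huW, -, hW⟩ := hu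
  let e : pullback h g ≅ U' := sq.isoPullback.symm
  let W' : (pullback h g).Opens := e.hom ⁻¹ᵁ W
  have hx : sq.isoPullback.hom u' ∈ W' := by
    show e.hom (sq.isoPullback.hom u') ∈ W
    rw [← Scheme.Hom.comp_apply]
    simpa [e] using huW
  obtain ⟨O, hO, hu'⟩ := (S9697.result h g (sq.isoPullback.hom u')).1 ⟨W', hx, by
    have : W'.ι ≫ pullback.snd h g = (e.hom ∣_ W) ≫ W.ι ≫ h' := by
      rw [morphismRestrict_ι_assoc]
      simp [e, W']
    rw [this]
    exact MorphismProperty.comp_mem @FormallyUnramified _ _ inferInstance hW⟩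
  refine ⟨O, ?_, inferInstance, hu'⟩
  rw [← sq.isoPullback_hom_fst, Scheme.Hom.comp_apply]
  exact hO

/-- The unramified locus over a base is open and commutes with base change. -/
theorem unramified_locus_baseChange {X Y Z Z' Y' X' : Space S} (f : X ⟶ Y) (p : X ⟶ Z) (q : Y ⟶ Z)
    (comm : f ≫ q = p) (hp : LocP @LocallyOfFiniteType p.hom) (g : Z' ⟶ Z) (a : Y' ⟶ Y) (q' : Y' ⟶ Z')
    (_sq1 : IsPullback a.hom q'.hom q.hom g.hom) (b : X' ⟶ X) (f' : X' ⟶ Y')
    (sq2 : IsPullback b.hom f'.hom f.hom a.hom) :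
    IsOpen {x : Points X.obj | HasAtMor (nearBy (@LocallyOfFiniteType ⊓ @FormallyUnramified)) f.hom x} ∧
    {x' : Points X'.obj | HasAtMor (nearBy (@LocallyOfFiniteType ⊓ @FormallyUnramified)) f'.hom x'} =
      Points.map b.hom ⁻¹' {x : Points X.obj |
        HasAtMor (nearBy (@LocallyOfFiniteType ⊓ @FormallyUnramified)) f.hom x} := by
  refine ⟨isOpen_setOf_hasAtMor_nearBy _ f, ?_⟩
  have hf : LocP @LocallyOfFiniteType f.hom := by
    subst comm
    exact locP_of_comp (Q := @LocallyOfFiniteType) (R := ⊤) X.property Y.property Z.property hp (locP_top _)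
      fun _ _ _ k m hk _ => by
        have : LocallyOfFiniteType (k ≫ m) := hk
        exact locallyOfFiniteType_of_comp k m
  ext x'
  exact ⟨hasAtMor_nearBy_of_baseChange _ unramified_nearBy_of_baseChange f hf f' sq2 x',
    hasAtMor_baseChange _ f f' sq2 x'⟩

end Groth.Agent.AlgSpFin
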