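import Groth.Agent.AlgSpLib.RepGlue
import Groth.Agent.AlgSpLib.AffineRep
import Groth.Agent.AlgSpLib.ImmersionDescent
import Groth.Agent.AlgSpFin.Basic
import Groth.Prelude.Def_AlgSpMor5

/-!
Zariski locality on the base of integral, finite and finite locally free morphisms.
-/

set_option autoImplicit false
set_option backward.isDefEq.respectTransparency.types false

universe u

open CategoryTheory CategoryTheory.Limits AlgebraicGeometry AlgSp

namespace Groth.Agent.AlgSpFin

open Groth.Agent.AlgSpLib

variable {S : Scheme.{u}}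

/-- A Zariski covering is an fpqc covering. -/
theorem isFpqcCover_of_isZarCover {ι : Type u} {Y : Sp S} {Yi : ι → Sp S} {g : ∀ i, Yi i ⟶ Y}
    (hY : IsAlgSpace Y) (hYi : ∀ i, IsAlgSpace (Yi i)) (hg : IsZarCover Yi g) : IsFpqcCover Yi g :=
  isFpqcCover_of_isFppfCover S hY hYi ⟨fun i => ⟨locP_of_repWith (repWith_mono (fun _ _ k hk => by
      have : IsOpenImmersion k := hk
      exact (inferInstance : Flat k)) (hg.1 i)) fun _ _ _ k m hk hm => EtLocal.comp_etale k m hk hm,
    locP_of_repWith (repWith_mono (fun _ _ k hk => by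
      have : IsOpenImmersion k := hk
      exact (inferInstance : LocallyOfFinitePresentation k)) (hg.1 i)) fun _ _ _ k m hk hm =>
        EtLocal.comp_etale k m hk hm⟩, hg.2⟩

/-- Integrality, finiteness and finite local freeness are Zariski local on the base. -/
theorem integral_finite_finLocFree_of_cover {X Y : Space S} (f : X ⟶ Y) {ι : Type u}
    (Yi : ι → Space S) (j : ∀ i, Yi i ⟶ Y) (hj : IsZarCover (fun i => (Yi i).obj) (fun i => (j i).hom))
    (Xi : ι → Sp S) (p : ∀ i, Xi i ⟶ X.obj) (q : ∀ i, Xi i ⟶ (Yi i).obj)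
    (sq : ∀ i, IsPullback (p i) (q i) f.hom (j i).hom) :
    ((∀ i, IsIntegralMor (q i)) → IsIntegralMor f.hom) ∧
    ((∀ i, IsFiniteMor (q i)) → IsFiniteMor f.hom) ∧
    ((∀ i, IsFinLocFreeMor (q i)) → IsFinLocFreeMor f.hom) := by
  have hc := isFpqcCover_of_isZarCover Y.property (fun i => (Yi i).property) hj
  have hXi := fun i => isAlgSpace_of_isPullback (sq i) X.property (Yi i).property Y.property
  have := Groth.Agent.FpqcDescent.isIntegralHom_descendsAlong.{u}
  have := Groth.Agent.FpqcDescent.isFinite_descendsAlong.{u}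
  refine ⟨?_, ?_, ?_⟩
  · exact (isLocalOnBase_affRep (P := @IsIntegralHom) _ _ Y.property (fun i => (Yi i).property) hc f.hom X.property
      Xi q p hXi sq).2
  · intro h
    rw [isFiniteMor_iff_repWith]
    exact (isLocalOnBase_repWith_of_le_affine (P := @IsFinite) (fun _ _ k hk => by
      have : IsFinite k := hk
      infer_instance) _ _ Y.property (fun i => (Yi i).property) hc f.hom X.property Xi q p hXi sq).2
        fun i => (isFiniteMor_iff_repWith _).1 (h i)
  · exact (isLocalOnBase_isFinLocFreeMor _ _ Y.property (fun i => (Yi i).property) hc f.hom X.property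
      Xi q p hXi sq).2

end Groth.Agent.AlgSpFin
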