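import Groth.Agent.AlgSpFin.Misc4
import Groth.Agent.AlgSpPts.EtConstr
import Groth.Prelude.Def_AlgSpCov

/-!
Zariski locally quasi-separated spaces.
-/

set_option autoImplicit false
set_option backward.isDefEq.respectTransparency.types false

universe u

open CategoryTheory CategoryTheory.Limits AlgebraicGeometry Opposite AlgSp TopologicalSpace

namespace Groth.Agent.AlgSpFin

open Groth.Agent.AlgSpLib

variable {S : Scheme.{u}}

/-- A space with a quasi-compact surjection from an affine scheme is quasi-separated. -/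
theorem isQuasiSeparatedSp_of_qc_affine {X : Sp S} (hX : IsAlgSpace X) {U : Over S} (hU : IsAffine U.left)
    (π : (yon S).obj U ⟶ X) (hπ : RepWith @QuasiCompact π) (hπs : RepWith @Surjective π) :
    IsQuasiSeparatedSp X := by
  refine isQuasiSeparatedSp_of_compact hX fun A B P a b fst snd hA hB sq => ?_
  obtain ⟨WA, r₁, r₂, sA⟩ := exists_isPullback (hX.representable_from_yon π) a
  obtain ⟨WB, t₁, t₂, sB⟩ := exists_isPullback (hX.representable_from_yon π) b
  have : QuasiCompact r₂.left := prop_snd sA hπ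
  have : QuasiCompact t₂.left := prop_snd sB hπ
  have : CompactSpace WA.left := QuasiCompact.compactSpace_of_compactSpace r₂.left
  have : CompactSpace WB.left := QuasiCompact.compactSpace_of_compactSpace t₂.left
  obtain ⟨Q, q₁, q₂, sQ⟩ : ∃ (Q : Over S) (q₁ : Q ⟶ WA) (q₂ : Q ⟶ WB), IsPullback q₁ q₂ r₁ t₁ :=
    ⟨_, _, _, IsPullback.of_hasPullback r₁ t₁⟩
  have : CompactSpace Q.left := by
    have : QuasiCompact t₁.left := quasiCompact_of_compactSpace t₁.left
    have : QuasiCompact q₁.left :=
      MorphismProperty.of_isPullback (P := @QuasiCompact) (left_isPullback sQ).flip ‹QuasiCompact t₁.left›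
    exact QuasiCompact.compactSpace_of_compactSpace q₁.left
  obtain ⟨F, e₁, e₂, sF⟩ := exists_isPullback (hX.representable_from_yon π) ((yon S).map fst ≫ a)
  have : Surjective e₂.left := prop_snd sF hπs
  obtain ⟨ra, hra₁, hra₂⟩ := exists_lift sA ((yon S).map e₁) (e₂ ≫ fst) (by
    rw [Functor.map_comp, Category.assoc, sF.w])
  obtain ⟨rb, hrb₁, hrb₂⟩ := exists_lift sB ((yon S).map e₁) (e₂ ≫ snd) (by
    rw [Functor.map_comp, Category.assoc, ← sq.w, sF.w])
  have hr : ra ≫ r₁ = rb ≫ t₁ := (yon S).map_injective (by rw [Functor.map_comp, hra₁, Functor.map_comp, hrb₁])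
  obtain ⟨m, hm₁, hm₂⟩ := exists_lift sq ((yon S).map (q₁ ≫ r₂)) (q₂ ≫ t₂) (by
    rw [Functor.map_comp, Functor.map_comp, Category.assoc, Category.assoc, ← sA.w, ← sB.w,
      ← Functor.map_comp_assoc, ← Functor.map_comp_assoc, sQ.w])
  have hkm : sQ.lift ra rb hr ≫ m = e₂ := by
    refine (yon S).map_injective (sq.hom_ext ?_ ?_)
    · rw [Functor.map_comp, Category.assoc, hm₁, ← Functor.map_comp, ← Functor.map_comp,
        sQ.lift_fst_assoc, hra₂]
    · rw [← Functor.map_comp, ← Functor.map_comp, Category.assoc, hm₂, sQ.lift_snd_assoc, hrb₂]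
  have hsurj : Function.Surjective m.left := fun z => by
    obtain ⟨w, hw⟩ := ‹Surjective e₂.left›.1 z
    exact ⟨(sQ.lift ra rb hr).left w, by rw [← Scheme.Hom.comp_apply, ← Over.comp_left, hkm, hw]⟩
  exact hsurj.compactSpace m.left.continuous

/-- A pullback square over the source of a monomorphism stays one after composing. -/
theorem isPullback_comp_mono {C : Type*} [Category C] {P A B X Y : C} {p : P ⟶ A} {q : P ⟶ B} {a : A ⟶ X}
    {b : B ⟶ X} (sq : IsPullback p q a b) (j : X ⟶ Y) [Mono j] : IsPullback p q (a ≫ j) (b ≫ j) := by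
  refine IsPullback.of_isLimit' ⟨by rw [sq.w_assoc]⟩ (PullbackCone.IsLimit.mk _
    (fun s => sq.lift s.fst s.snd (by rw [← cancel_mono j, Category.assoc, Category.assoc]; exact s.condition))
    (fun s => sq.lift_fst _ _ _) (fun s => sq.lift_snd _ _ _)
    fun s m h₁ h₂ => sq.hom_ext (by rw [sq.lift_fst]; exact h₁) (by rw [sq.lift_snd]; exact h₂))

/-- An affine etale chart of an open subspace of a quasi-separated space, over an affine open of the base, is
quasi-compact. -/
theorem repWith_qc_affine_chart {X X' : Sp S} (hX' : IsAlgSpace X') (hqs : IsQuasiSeparatedSp X) (j : X' ⟶ X)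
    [Mono j] {U : Over S} (hU : IsAffine U.left) (π : (yon S).obj U ⟶ X') (hπs : RepWith @Surjective π)
    {B : S.Opens} (hB : IsAffineOpen B) (hUB : ∀ u : U.left, U.hom u ∈ B) : RepWith @QuasiCompact π := by
  refine repWith_of_exists fun V g => ?_
  obtain ⟨W, p, q, sq⟩ := exists_isPullback (hX'.representable_from_yon π) g
  refine ⟨W, (yon S).map p, q, sq, ?_⟩
  have h₁ : RepWith @QuasiCompact (Limits.prod.lift ((yon S).map p) ((yon S).map q)) :=
    repWith_baseChange (AlgSpPts.isPullback_diag_of_isPullback (isPullback_comp_mono sq j)) hqs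
  have e : Limits.prod.lift ((yon S).map p) ((yon S).map q) =
      (yon S).map (Limits.prod.lift p q) ≫ prodComparison (yon S) U V := by
    apply Limits.prod.hom_ext <;>
      simp only [Category.assoc, prodComparison_fst, prodComparison_snd, ← Functor.map_comp, Limits.prod.lift_fst,
        Limits.prod.lift_snd]
  rw [e] at h₁
  have h₂ : QuasiCompact (Limits.prod.lift p q).left :=
    (repWith_yon_map_iff @QuasiCompact _).1
      ((MorphismProperty.cancel_right_of_respectsIso (RepWith @QuasiCompact) _ (prodComparison (yon S) U V)).1 h₁)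
  have hV : Set.range V.hom ⊆ Set.range B.ι := by
    rintro _ ⟨v, rfl⟩
    obtain ⟨w, rfl⟩ := (prop_snd sq hπs : Surjective q.left).1 v
    rw [Scheme.Opens.range_ι, ← Scheme.Hom.comp_apply, Over.w q, ← Over.w p]
    exact hUB (p.left w)
  have hU' : Set.range U.hom ⊆ Set.range B.ι := by
    rw [Scheme.Opens.range_ι]
    rintro _ ⟨u, rfl⟩
    exact hUB u
  let l := IsOpenImmersion.lift B.ι U.hom hU'
  let m := IsOpenImmersion.lift B.ι V.hom hV
  have hl : l ≫ B.ι = U.hom := IsOpenImmersion.lift_fac _ _ _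
  have hm : m ≫ B.ι = V.hom := IsOpenImmersion.lift_fac _ _ _
  have sUV := isPullback_comp_mono (IsPullback.of_hasPullback l m) B.ι
  rw [hl, hm] at sUV
  have : IsAffine B.toScheme := hB
  have : QuasiCompact l := inferInstance
  have : QuasiCompact (pullback.snd U.hom V.hom) := by
    rw [← sUV.isoPullback_inv_snd]
    infer_instance
  have hq : q.left = (Limits.prod.lift p q).left ≫ (CategoryTheory.Over.prodLeftIsoPullback U V).hom ≫
      pullback.snd U.hom V.hom := by
    rw [CategoryTheory.Over.prodLeftIsoPullback_hom_snd, ← Over.comp_left, Limits.prod.lift_snd]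
  show QuasiCompact q.left
  rw [hq]
  infer_instance

/-- Zariski locally quasi-separated spaces are those Zariski locally covered quasi-compactly by affines. -/
theorem zariski_locally_qs_iff (X : Space S) :
    (∃ (ι : Type u) (Xi : ι → Space S) (j : ∀ i, Xi i ⟶ X),
        IsZarCover (fun i => (Xi i).obj) (fun i => (j i).hom) ∧ ∀ i, IsQuasiSeparatedSp (Xi i).obj) ↔
      (∃ (ι : Type u) (Xi : ι → Space S) (j : ∀ i, Xi i ⟶ X),
        IsZarCover (fun i => (Xi i).obj) (fun i => (j i).hom) ∧
          ∀ i, ∃ (U : Over S) (p : (yon S).obj U ⟶ (Xi i).obj), IsAffine U.left ∧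
            RepWith @QuasiCompact p ∧ RepWith @Etale p ∧ RepWith @Surjective p) := by
  constructor
  · rintro ⟨ι, Xi, j, ⟨hj, hcov⟩, hqs⟩
    choose κ Yk jk hjk hk using fun i => exists_affine_zariski_cover (Xi i)
    refine ⟨(i : ι) × κ i, fun s => Yk s.1 s.2, fun s => jk s.1 s.2 ≫ j s.1, ⟨fun s => ?_, fun x => ?_⟩,
      fun s => ?_⟩
    · exact repWith_comp ((hjk s.1).1 s.2) (hj s.1)
    · obtain ⟨i, y, rfl⟩ := hcov x
      obtain ⟨k, z, rfl⟩ := (hjk i).2 y
      exact ⟨⟨i, k⟩, z, Points.map_comp _ _ _⟩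
    · obtain ⟨U, p, hU, hp, hps, B, hB, hUB⟩ := hk s.1 s.2
      have : Mono (jk s.1 s.2).hom := mono_of_repWith ((hjk s.1).1 s.2) fun _ _ k hk => by
        have : IsOpenImmersion k := hk
        infer_instance
      exact ⟨U, p, hU, repWith_qc_affine_chart (Yk s.1 s.2).property (hqs s.1) (jk s.1 s.2).hom hU p hps hB hUB,
        hp, hps⟩
  · rintro ⟨ι, Xi, j, hj, h⟩
    refine ⟨ι, Xi, j, hj, fun i => ?_⟩
    obtain ⟨U, p, hU, hp, -, hps⟩ := h i
    exact isQuasiSeparatedSp_of_qc_affine (Xi i).property hU p hp hps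

end Groth.Agent.AlgSpFin
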